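import Mathlib

/-!
Simplicity criteria for transitive groups (used for the Mathieu groups).
-/

set_option autoImplicit false

namespace Cfsg.Agent.Golay.SimpleCrit

open MulAction

variable {G : Type*} [Group G] {α : Type*} [MulAction G α]

/-- In a faithful quasiprimitive action a nontrivial normal subgroup has order divisible by the
degree. -/
theorem card_dvd_card_normal [Nonempty α] [FaithfulSMul G α] [IsQuasiPreprimitive G α]
    (N : Subgroup G) [N.Normal] (hN : N ≠ ⊥) : Nat.card α ∣ Nat.card N := by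
  have hfix : fixedPoints N α ≠ Set.univ := by
    intro h
    refine hN (eq_bot_iff.2 fun n hn => ?_)
    rw [Subgroup.mem_bot]
    refine FaithfulSMul.eq_of_smul_eq_smul (α := α) fun x => ?_
    rw [one_smul]
    exact (h.symm ▸ Set.mem_univ x : x ∈ fixedPoints N α) ⟨n, hn⟩
  haveI : IsPretransitive N α := IsQuasiPreprimitive.isPretransitive_of_normal hfix
  obtain ⟨a⟩ := ‹Nonempty α›
  rw [← index_stabilizer_of_transitive N a]
  exact Subgroup.index_dvd_card _

/-- A group generated by elements of order `p`, of order divisible by `p` only once, in which `p`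
divides the order of every nontrivial normal subgroup, is simple. -/
theorem isSimpleGroup_of_prime_generated [Finite G] [Nontrivial G] (p : ℕ) [hp : Fact p.Prime]
    (hp1 : p ∣ Nat.card G) (hp2 : ¬ p ^ 2 ∣ Nat.card G) (S : Set G) (hS : ∀ s ∈ S, orderOf s = p)
    (hgen : Subgroup.closure S = ⊤) (hN : ∀ N : Subgroup G, N.Normal → N ≠ ⊥ → p ∣ Nat.card N) :
    IsSimpleGroup G := by
  refine ⟨fun N hNn => ?_⟩
  by_cases hbot : N = ⊥
  · exact Or.inl hbot
  right
  have hf : (Nat.card G).factorization p = 1 := by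
    have h0 := Nat.card_pos (α := G)
    have h1 := (hp.out.pow_dvd_iff_le_factorization h0.ne' (k := 1)).1 (by simpa using hp1)
    have h2 : ¬ (2 ≤ (Nat.card G).factorization p) := fun h =>
      hp2 ((hp.out.pow_dvd_iff_le_factorization h0.ne').2 h)
    omega
  obtain ⟨y, hy⟩ := exists_prime_orderOf_dvd_card' p (hN N hNn hbot)
  have hcard : ∀ s : G, orderOf s = p →
      Nat.card (Subgroup.zpowers s) = p ^ (Nat.card G).factorization p := fun s hs => by
    rw [Nat.card_zpowers, hs, hf, pow_one]
  have hyG : orderOf (y : G) = p := by rw [Subgroup.orderOf_coe, hy]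
  rw [eq_top_iff, ← hgen, Subgroup.closure_le]
  intro s hs
  obtain ⟨g, hg⟩ := MulAction.exists_smul_eq G
    (Sylow.ofCard _ (hcard (y : G) hyG)) (Sylow.ofCard _ (hcard s (hS s hs)))
  have hmem : s ∈ g • (Sylow.ofCard _ (hcard (y : G) hyG)) := by
    rw [hg]; exact Subgroup.mem_zpowers s
  rw [Sylow.smul_def] at hmem
  obtain ⟨x, hx, rfl⟩ := hmem
  have hxN : x ∈ N := (Subgroup.zpowers_le.2 y.2) hx
  exact hNn.conj_mem x hxN g

/-- A doubly transitive group with simple point stabiliser whose degree has two different prime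
divisors is simple. -/
theorem isSimpleGroup_of_stabilizer [Finite G] [Nontrivial G] [Finite α] [FaithfulSMul G α]
    (h2 : IsMultiplyPretransitive G α 2) (a : α) (hH : IsSimpleGroup (stabilizer G a))
    (p q : ℕ) [hp : Fact p.Prime] [hq : Fact q.Prime] (hpq : p ≠ q)
    (hpd : p ∣ Nat.card α) (hqd : q ∣ Nat.card α) : IsSimpleGroup G := by
  haveI : IsPreprimitive G α := isPreprimitive_of_is_two_pretransitive h2
  haveI : Nonempty α := ⟨a⟩
  refine ⟨fun N hNn => ?_⟩
  by_cases hbot : N = ⊥
  · exact Or.inl hbot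
  right
  have hfix : fixedPoints N α ≠ Set.univ := by
    intro h
    refine hbot (eq_bot_iff.2 fun n hn => ?_)
    rw [Subgroup.mem_bot]
    refine FaithfulSMul.eq_of_smul_eq_smul (α := α) fun x => ?_
    rw [one_smul]
    exact (h.symm ▸ Set.mem_univ x : x ∈ fixedPoints N α) ⟨n, hn⟩
  haveI htr : IsPretransitive N α := IsQuasiPreprimitive.isPretransitive_of_normal hfix
  rcases hH.eq_bot_or_eq_top_of_normal (N.subgroupOf (stabilizer G a)) inferInstance with h | h
  · exfalso
    have hreg : ∀ x ∈ N, ∀ y ∈ N, x • a = y • a → x = y := by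
      intro x hx y hy hxy
      have hmem : y⁻¹ * x ∈ stabilizer G a := by
        rw [mem_stabilizer_iff, mul_smul, hxy, inv_smul_smul]
      have : (⟨_, hmem⟩ : stabilizer G a) ∈ N.subgroupOf (stabilizer G a) :=
        N.mul_mem (N.inv_mem hy) hx
      rw [h, Subgroup.mem_bot] at this
      have := congrArg Subtype.val this
      exact (inv_mul_eq_one.1 this).symm
    have hcardN : Nat.card α ∣ Nat.card N := card_dvd_card_normal N hbot
    obtain ⟨x, hx⟩ := exists_prime_orderOf_dvd_card' p (hpd.trans hcardN)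
    obtain ⟨y, hy⟩ := exists_prime_orderOf_dvd_card' q (hqd.trans hcardN)
    have hne : ∀ (z : N) (r : ℕ), r.Prime → orderOf z = r → (z : G) • a ≠ a := by
      intro z r hr hz hza
      have : (z : G) = 1 := hreg z z.2 1 N.one_mem (by rw [hza, one_smul])
      rw [show z = 1 from Subtype.ext this, orderOf_one] at hz
      exact hr.ne_one hz.symm
    rw [is_two_pretransitive_iff] at h2
    obtain ⟨g, hga, hgx⟩ := h2 (Ne.symm (hne x p hp.out hx)) (Ne.symm (hne y q hq.out hy))
    have hg' : g⁻¹ • a = a := by rw [inv_smul_eq_iff, hga]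
    have hc : g * (x : G) * g⁻¹ = (y : G) :=
      hreg _ (hNn.conj_mem _ x.2 g) _ y.2 (by rw [mul_smul, mul_smul, hg', hgx])
    have ho : orderOf (g * (x : G) * g⁻¹) = orderOf (x : G) :=
      orderOf_injective (MulAut.conj g).toMonoidHom (MulEquiv.injective _) (x : G)
    rw [hc, Subgroup.orderOf_coe, Subgroup.orderOf_coe, hx, hy] at ho
    exact hpq ho.symm
  · rw [Subgroup.subgroupOf_eq_top] at h
    rw [eq_top_iff]
    intro g _
    obtain ⟨⟨n, hn⟩, hna⟩ := exists_smul_eq N a (g • a)
    have hmem : n⁻¹ * g ∈ stabilizer G a := by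
      rw [mem_stabilizer_iff, mul_smul, inv_smul_eq_iff]
      exact hna.symm
    simpa using N.mul_mem hn (h hmem)

end Cfsg.Agent.Golay.SimpleCrit
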