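import Cfsg.Agent.Lib.Golay.SmallData
import Cfsg.Agent.Lib.Golay.SimpleCrit

/-!
M23, M22, M12, M11 inside `M24`: orders, transitivity, simplicity; simplicity of M24.
-/

set_option autoImplicit false
set_option maxRecDepth 10000

namespace Cfsg.Agent.Golay.Small

open Cfsg Cfsg.Agent.Golay.Basic Cfsg.Agent.Golay.Design Cfsg.Agent.Golay.Perm Cfsg.Agent.Golay.M24
  Cfsg.Agent.Golay.Trans Cfsg.Agent.Golay.Cert Cfsg.Agent.Golay.SmallData Cfsg.Agent.Golay.SimpleCrit Cfsg.Agent.Golay.M24Data
open scoped Pointwise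

/-! ### Transitivity on tuples from a chain -/

/-- Every level moves its base point to every point of `S` not fixed so far. -/
def chainFull (S : ℕ) : List ℕ → List (ℕ × ℕ × List (List ℕ)) → Bool
  | _, [] => true
  | pre, (b, T, _) :: rest =>
    S.testBit b && !pre.contains b &&
    ((List.range 24).all fun t => T.testBit t == (S.testBit t && !pre.contains t)) &&
    chainFull S (b :: pre) rest

theorem exists_tuple {X : List ℕ} (hX : X.all tabOK = true) {S : ℕ}
    (hinv : ∀ g ∈ tabGroup X, ∀ p ∈ maskSet S, g p ∈ maskSet S) :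
    ∀ {pre : List ℕ} {L : List (ℕ × ℕ × List (List ℕ))}, (∀ x ∈ pre, x < 24) →
    chainOK X pre L = true → chainFull S pre L = true → ∀ (ts : List GolayPt),
    ts.length ≤ L.length → ts.Nodup → (∀ t ∈ ts, t ∈ maskSet S ∧ ix t ∉ pre) →
    ∃ g ∈ tabGroup X, (∀ x ∈ pre, g (pt x) = pt x) ∧
      (L.take ts.length).map (fun l => g (pt l.1)) = ts
  | pre, L, _, _, _, [], _, _, _ =>
    ⟨1, Subgroup.one_mem _, fun _ _ => rfl, by simp⟩
  | pre, [], _, _, _, t :: ts, hlen, _, _ => absurd hlen (by simp)
  | pre, (b, T, ws) :: rest, hpre, hok, hfull, t :: ts, hlen, hnd, hts => by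
    have hok' := hok
    simp only [chainOK, Bool.and_eq_true, decide_eq_true_eq] at hok
    obtain ⟨⟨⟨hb, -⟩, -⟩, hrest⟩ := hok
    simp only [chainFull, Bool.and_eq_true, List.all_eq_true, List.mem_range, beq_iff_eq] at hfull
    obtain ⟨⟨⟨hbS, -⟩, hT⟩, hfullrest⟩ := hfull
    obtain ⟨htS, htpre⟩ := hts t List.mem_cons_self
    have htT : t ∈ maskSet T := by
      rw [mem_maskSet, hT _ (ix_lt t), mem_maskSet.1 htS, Bool.true_and, Bool.not_eq_true',
        List.contains_eq_mem, decide_eq_false_iff_not]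
      exact htpre
    obtain ⟨g₁, hg₁, hfix, hgb⟩ := chain_trans hX hpre hok' htT
    have hpre' : ∀ x ∈ b :: pre, x < 24 := by
      intro x hx
      rcases List.mem_cons.1 hx with rfl | hx
      · exact hb
      · exact hpre x hx
    rw [List.nodup_cons] at hnd
    obtain ⟨g₂, hg₂, hfix₂, hmap⟩ := exists_tuple hX hinv hpre' hrest hfullrest (ts.map ⇑g₁⁻¹)
      (by simpa using hlen) (hnd.2.map (Equiv.injective _)) (by
        intro u hu
        obtain ⟨v, hv, rfl⟩ := List.mem_map.1 hu
        obtain ⟨hvS, hvpre⟩ := hts v (List.mem_cons_of_mem _ hv)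
        refine ⟨hinv _ (Subgroup.inv_mem _ hg₁) v hvS, fun hmem => ?_⟩
        rcases List.mem_cons.1 hmem with h | h
        · have h' := congrArg pt h
          rw [pt_ix, Equiv.Perm.inv_eq_iff_eq, hgb] at h'
          exact hnd.1 (h' ▸ hv)
        · have h' := hfix _ h
          rw [pt_ix] at h'
          have h'' : g₁ (g₁⁻¹ v) = v := g₁.apply_symm_apply v
          rw [h''] at h'
          rw [← h'] at h
          exact hvpre h)
    refine ⟨g₁ * g₂, Subgroup.mul_mem _ hg₁ hg₂, fun x hx => ?_, ?_⟩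
    · rw [Equiv.Perm.mul_apply, hfix₂ x (List.mem_cons_of_mem _ hx), hfix x hx]
    · rw [List.length_cons, List.take_succ_cons, List.map_cons, Equiv.Perm.mul_apply,
        hfix₂ b List.mem_cons_self, hgb]
      congr 1
      have := congrArg (List.map ⇑g₁) hmap
      rw [List.length_map, List.map_map, List.map_map] at this
      simpa [Function.comp_def] using this

/-! ### The groups -/

/-- The dodecad used for M12. -/
abbrev d0 : Finset GolayPt := maskSet baseDodecad

/-- M23: the fixer of the point `0`. -/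
def M23K : Subgroup (Equiv.Perm GolayPt) := fixers M24 [pt 0]
/-- M22: the fixer of the points `0`, `1`. -/
def M22K : Subgroup (Equiv.Perm GolayPt) := fixers M24 [pt 0, pt 1]
/-- M12: the stabiliser of a dodecad. -/
def M12K : Subgroup (Equiv.Perm GolayPt) := M24 ⊓ MulAction.stabilizer (Equiv.Perm GolayPt) d0
/-- M11: the fixer of the point `0` in M12. -/
def M11K : Subgroup (Equiv.Perm GolayPt) := fixers M12K [pt 0]

theorem mem_M12K {g : Equiv.Perm GolayPt} : g ∈ M12K ↔ g ∈ M24 ∧ g • d0 = d0 := Iff.rfl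

theorem m23Tabs_ok : m23Tabs.all tabOK = true := by decide +kernel
theorem m22Tabs_ok : m22Tabs.all tabOK = true := by decide +kernel
theorem m12Tabs_ok : m12Tabs.all tabOK = true := by decide +kernel
theorem m11Tabs_ok : m11Tabs.all tabOK = true := by decide +kernel
theorem m23Chain_ok : chainOK m23Tabs [] m23Chain = true := by decide +kernel
theorem m22Chain_ok : chainOK m22Tabs [] m22Chain = true := by decide +kernel
theorem m12Chain_ok : chainOK m12Tabs [] m12Chain = true := by decide +kernel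
theorem m11Chain_ok : chainOK m11Tabs [] m11Chain = true := by decide +kernel
theorem m11Outer_ok : chainOK m11Tabs [] m11Outer = true := by decide +kernel

theorem tabPerm_fix {X : List ℕ} (hX : X.all tabOK = true) {i : ℕ} (hi : i < 24)
    (h : X.all (fun x => tabAt x i == i) = true) {x : ℕ} (hx : x ∈ X) :
    tabPerm x (pt i) = pt i := by
  apply ix_injective
  rw [isTab_tabPerm (List.all_eq_true.1 hX x hx), ix_pt hi]
  simpa using List.all_eq_true.1 h x hx

theorem tabPerm_stab {X : List ℕ} (hX : X.all tabOK = true)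
    (h : X.all (fun x => imgTab x baseDodecad == baseDodecad) = true) {x : ℕ} (hx : x ∈ X) :
    tabPerm x ∈ M12K := by
  refine ⟨tabPerm_mem (List.all_eq_true.1 hX x hx), ?_⟩
  show tabPerm x • d0 = d0
  apply mask_injective
  rw [← imgTab_mask (isTab_tabPerm (List.all_eq_true.1 hX x hx)), mask_maskSet (by decide +kernel)]
  simpa using List.all_eq_true.1 h x hx

theorem card_M23K : Nat.card M23K = 10200960 := card_fixers (by simp) (by simp)

theorem card_M22K : Nat.card M22K = 443520 := card_fixers (by decide) (by simp)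

theorem card_M12K : Nat.card M12K = 95040 := by
  rw [← card_stabilizer_dodecad baseDodecad_mem]
  exact (card_of_mem_iff (fun g => by
    show (g : Equiv.Perm GolayPt) • d0 = d0 ↔ (g : Equiv.Perm GolayPt) ∈ M24 ∧ _
    exact (and_iff_right g.2).symm) inf_le_left).symm

theorem m23_eq : tabGroup m23Tabs = M23K :=
  tabGroup_eq m23Tabs_ok m23Chain_ok (fun x hx =>
    ⟨tabPerm_mem (List.all_eq_true.1 m23Tabs_ok x hx), fun p hp => by
      obtain rfl := List.mem_singleton.1 hp
      exact tabPerm_fix m23Tabs_ok (by norm_num) (by decide +kernel) hx⟩)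
    (by rw [card_M23K]; decide +kernel)

theorem m22_eq : tabGroup m22Tabs = M22K :=
  tabGroup_eq m22Tabs_ok m22Chain_ok (fun x hx =>
    ⟨tabPerm_mem (List.all_eq_true.1 m22Tabs_ok x hx), fun p hp => by
      simp only [List.mem_cons, List.not_mem_nil, or_false] at hp
      rcases hp with rfl | rfl <;>
        exact tabPerm_fix m22Tabs_ok (by norm_num) (by decide +kernel) hx⟩)
    (by rw [card_M22K]; decide +kernel)

theorem m12_eq : tabGroup m12Tabs = M12K :=
  tabGroup_eq m12Tabs_ok m12Chain_ok (fun x hx => tabPerm_stab m12Tabs_ok (by decide +kernel) hx)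
    (by rw [card_M12K]; decide +kernel)

theorem M12K_maps {g : Equiv.Perm GolayPt} (hg : g ∈ M12K) {p : GolayPt} (hp : p ∈ d0) :
    g p ∈ d0 := by
  have := (mem_smul_iff g d0 p).2 hp
  rwa [(mem_M12K.1 hg).2] at this

theorem M12K_maps_compl {g : Equiv.Perm GolayPt} (hg : g ∈ M12K) {p : GolayPt} (hp : p ∉ d0) :
    g p ∉ d0 := by
  intro h
  rw [← (mem_M12K.1 hg).2, mem_smul_iff] at h
  exact hp h

theorem pt0_mem_d0 : pt 0 ∈ d0 := by decide +kernel

theorem M12K_exists_tuple (ts : List GolayPt) (hlen : ts.length ≤ 5) (hnd : ts.Nodup)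
    (hts : ∀ t ∈ ts, t ∈ d0) :
    ∃ g ∈ M12K, (([0, 1, 2, 3, 4] : List ℕ).take ts.length).map (fun b => g (pt b)) = ts := by
  obtain ⟨g, hg, -, h⟩ := exists_tuple m12Tabs_ok (S := baseDodecad)
    (fun g hg p hp => M12K_maps (m12_eq ▸ hg) hp) (pre := []) (L := m12Chain) (by simp)
    m12Chain_ok (by decide +kernel) ts (by simpa [m12Chain] using hlen) hnd
    (fun t ht => ⟨hts t ht, by simp⟩)
  refine ⟨g, m12_eq ▸ hg, ?_⟩
  have e : ([0, 1, 2, 3, 4] : List ℕ) = m12Chain.map (fun l => l.1) := by decide +kernel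
  rw [e, ← List.map_take, List.map_map]
  exact h

theorem card_M11K : Nat.card M11K = 7920 := by
  have h := card_fixers_step M12K [] (pt 0) d0
    (fun g hg => M12K_maps hg.1 pt0_mem_d0)
    (fun t ht => by
      obtain ⟨g, hg, e⟩ := M12K_exists_tuple [t] (by simp) (by simp) (by simpa using ht)
      exact ⟨g, ⟨hg, by simp⟩, by simpa using e⟩)
  rw [fixers_nil, card_M12K, show d0.card = 12 from baseDodecad_mem.2,
    show pt 0 :: ([] : List GolayPt) = [pt 0] from rfl, ← M11K] at h
  omega

theorem m11_eq : tabGroup m11Tabs = M11K :=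
  tabGroup_eq m11Tabs_ok m11Chain_ok (fun x hx =>
    ⟨tabPerm_stab m11Tabs_ok (by decide +kernel) hx, fun p hp => by
      obtain rfl := List.mem_singleton.1 hp
      exact tabPerm_fix m11Tabs_ok (by norm_num) (by decide +kernel) hx⟩)
    (by rw [card_M11K]; decide +kernel)

/-! ### Simplicity -/

/-- The action of a subgroup on an invariant set of points. -/
def invSub (K : Subgroup (Equiv.Perm GolayPt)) (S : Finset GolayPt)
    (h : ∀ g ∈ K, ∀ p ∈ S, g p ∈ S) : SubMulAction K GolayPt where
  carrier := S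
  smul_mem' g {p} hp := h g.1 g.2 p hp

theorem invSub_two_pretransitive {X : List ℕ} (hX : X.all tabOK = true) {S : ℕ}
    {L : List (ℕ × ℕ × List (List ℕ))} (hlen : 2 ≤ L.length) (hok : chainOK X [] L = true)
    (hfull : chainFull S [] L = true) {K : Subgroup (Equiv.Perm GolayPt)} (hK : tabGroup X = K)
    (hinv : ∀ g ∈ K, ∀ p ∈ maskSet S, g p ∈ maskSet S) :
    MulAction.IsMultiplyPretransitive K (invSub K (maskSet S) hinv) 2 := by
  rw [MulAction.is_two_pretransitive_iff]
  rintro ⟨a, ha⟩ ⟨b, hb⟩ ⟨c, hc⟩ ⟨d, hd⟩ hab hcd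
  have hab' : a ≠ b := fun e => hab (Subtype.ext e)
  have hcd' : c ≠ d := fun e => hcd (Subtype.ext e)
  have hinv' : ∀ g ∈ tabGroup X, ∀ p ∈ maskSet S, g p ∈ maskSet S := hK ▸ hinv
  obtain ⟨g, hg, -, hgm⟩ := exists_tuple hX hinv' (pre := []) (by simp) hok hfull [a, b]
    (by simpa using hlen) (by simp [hab'])
    (fun t ht => ⟨by rcases List.mem_cons.1 ht with rfl | ht
                     · exact ha
                     · obtain rfl := List.mem_singleton.1 ht; exact hb, by simp⟩)
  obtain ⟨k, hk, -, hkm⟩ := exists_tuple hX hinv' (pre := []) (by simp) hok hfull [c, d]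
    (by simpa using hlen) (by simp [hcd'])
    (fun t ht => ⟨by rcases List.mem_cons.1 ht with rfl | ht
                     · exact hc
                     · obtain rfl := List.mem_singleton.1 ht; exact hd, by simp⟩)
  match L, hlen with
  | l₁ :: l₂ :: rest, _ =>
    simp only [List.length_cons, List.length_nil, List.take_succ_cons, List.take_zero,
      List.map_cons, List.map_nil, List.cons.injEq, and_true] at hgm hkm
    refine ⟨⟨k * g⁻¹, hK ▸ Subgroup.mul_mem _ hk (Subgroup.inv_mem _ hg)⟩, Subtype.ext ?_,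
      Subtype.ext ?_⟩
    · show k (g⁻¹ a) = c
      rw [← hgm.1, show g⁻¹ (g (pt l₁.1)) = pt l₁.1 from g.symm_apply_apply _, hkm.1]
    · show k (g⁻¹ b) = d
      rw [← hgm.2, show g⁻¹ (g (pt l₂.1)) = pt l₂.1 from g.symm_apply_apply _, hkm.2]

theorem invSub_faithful {K : Subgroup (Equiv.Perm GolayPt)} {S : Finset GolayPt}
    (hinv : ∀ g ∈ K, ∀ p ∈ S, g p ∈ S) :
    (∀ g ∈ K, (∀ q ∈ S, g q = q) → g = 1) → FaithfulSMul K (invSub K S hinv) := fun h => by
  refine ⟨fun {g₁ g₂} e => Subtype.ext ?_⟩
  have := h (g₂.1⁻¹ * g₁.1) (K.mul_mem (K.inv_mem g₂.2) g₁.2) fun q hq => by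
    have e' : g₁.1 q = g₂.1 q := congrArg Subtype.val (e ⟨q, hq⟩)
    rw [Equiv.Perm.mul_apply, e']
    exact g₂.1.symm_apply_apply q
  exact (inv_mul_eq_one.1 this).symm

/-- Each table has order `p`. -/
def ordersOK (X : List ℕ) (p : ℕ) : Bool :=
  ((List.range X.length).all fun k => (List.range 24).all fun i =>
    runT X (List.replicate p k) i == i) && !X.contains idTab

theorem evalT_replicate (X : List ℕ) (k : ℕ) : ∀ n, evalT X (List.replicate n k) =
    tabPerm (genTab X k) ^ n
  | 0 => (pow_zero _).symm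
  | n + 1 => by
    rw [List.replicate_succ, evalT, evalT_replicate X k n, pow_succ']

theorem simple_of_tabs {X : List ℕ} (hX : X.all tabOK = true) {p : ℕ} [hp : Fact p.Prime]
    (ho : ordersOK X p = true) (hidle : X.all (fun x => x < 2 ^ 120) = true)
    {K : Subgroup (Equiv.Perm GolayPt)} (hK : tabGroup X = K)
    (h1 : p ∣ Nat.card K) (h2 : ¬ p ^ 2 ∣ Nat.card K)
    (hN : ∀ N : Subgroup K, N.Normal → N ≠ ⊥ → p ∣ Nat.card N) : IsSimpleGroup K := by
  haveI : Nontrivial K := Finite.one_lt_card_iff_nontrivial.1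
    (lt_of_lt_of_le hp.out.one_lt (Nat.le_of_dvd Nat.card_pos h1))
  simp only [ordersOK, Bool.and_eq_true, List.all_eq_true, List.mem_range, beq_iff_eq,
    Bool.not_eq_true', List.contains_eq_mem, decide_eq_false_iff_not] at ho
  refine isSimpleGroup_of_prime_generated p h1 h2 {g : K | ∃ x ∈ X, g.1 = tabPerm x} ?_ ?_ hN
  · rintro g ⟨x, hx, hgx⟩
    rw [← Subgroup.orderOf_coe, hgx]
    obtain ⟨k, hk, rfl⟩ := List.getElem_of_mem hx
    refine orderOf_eq_prime ?_ ?_
    · have := evalT_replicate X k p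
      rw [genTab, List.getD_eq_getElem _ _ hk] at this
      rw [← this]
      refine Equiv.ext fun q => ix_injective ?_
      rw [ix_evalT hX, ho.1 k hk _ (ix_lt q)]
      rfl
    · intro h
      have hok := List.all_eq_true.1 hX _ hx
      have ht := isTab_tabPerm hok
      rw [h] at ht
      have hall : ∀ i < 24, tabAt X[k] i = i := fun i hi => by
        have := ht (pt i); rw [Equiv.Perm.one_apply, ix_pt hi] at this; exact this.symm
      refine ho.2 ?_
      have : X[k] = idTab := by
        have hlt : X[k] < 2 ^ 120 := by simpa using List.all_eq_true.1 hidle _ hx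
        apply Nat.eq_of_testBit_eq
        intro j
        rcases Nat.lt_or_ge j 120 with hj | hj
        · have e := hall (j / 5) (by omega)
          have e' : tabAt idTab (j / 5) = j / 5 := by
            have : ∀ i < 24, tabAt idTab i = i := by decide +kernel
            exact this _ (by omega)
          have hb := congrArg (fun v => Nat.testBit v (j % 5)) (e.trans e'.symm)
          simp only [tabAt, show (32 : ℕ) = 2 ^ 5 from rfl, Nat.testBit_mod_two_pow,
            Nat.testBit_shiftRight, show j % 5 < 5 from Nat.mod_lt _ (by norm_num), decide_true,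
            Bool.true_and] at hb
          rwa [show 5 * (j / 5) + j % 5 = j by omega] at hb
        · rw [Nat.testBit_lt_two_pow (lt_of_lt_of_le hlt (Nat.pow_le_pow_right (by norm_num) hj)),
            Nat.testBit_lt_two_pow (lt_of_lt_of_le (by decide +kernel : idTab < 2 ^ 120)
              (Nat.pow_le_pow_right (by norm_num) hj))]
      exact this ▸ hx
  · rw [eq_top_iff]
    rintro ⟨g, hg⟩ -
    have hmem : g ∈ (Subgroup.closure {g : K | ∃ x ∈ X, g.1 = tabPerm x}).map K.subtype := by
      rw [MonoidHom.map_closure]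
      have : tabGroup X ≤ Subgroup.closure (K.subtype '' {g : K | ∃ x ∈ X, g.1 = tabPerm x}) := by
        refine tabGroup_le_of fun x hx => Subgroup.subset_closure ⟨⟨tabPerm x, ?_⟩, ⟨x, hx, rfl⟩, rfl⟩
        rw [← hK]; exact Subgroup.subset_closure ⟨x, hx, rfl⟩
      exact this (hK ▸ hg)
    obtain ⟨y, hy, he⟩ := hmem
    rwa [show y = (⟨g, hg⟩ : K) from Subtype.ext he] at hy

theorem maskSet_23 : maskSet 16777214 = Finset.univ \ {pt 0} := by decide +kernel
theorem maskSet_22 : maskSet 16777212 = Finset.univ \ {pt 0, pt 1} := by decide +kernel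

theorem M23K_inv (g : Equiv.Perm GolayPt) (hg : g ∈ M23K) (p : GolayPt)
    (hp : p ∈ maskSet 16777214) : g p ∈ maskSet 16777214 := by
  rw [maskSet_23] at hp ⊢
  simp only [Finset.mem_sdiff, Finset.mem_univ, true_and, Finset.mem_singleton] at hp ⊢
  intro h
  exact hp (g.injective (h.trans (hg.2 _ List.mem_cons_self).symm))

theorem M22K_inv (g : Equiv.Perm GolayPt) (hg : g ∈ M22K) (p : GolayPt)
    (hp : p ∈ maskSet 16777212) : g p ∈ maskSet 16777212 := by
  rw [maskSet_22] at hp ⊢
  simp only [Finset.mem_sdiff, Finset.mem_univ, true_and, Finset.mem_insert, Finset.mem_singleton,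
    not_or] at hp ⊢
  have h0 := hg.2 (pt 0) List.mem_cons_self
  have h1 := hg.2 (pt 1) (List.mem_cons_of_mem _ List.mem_cons_self)
  exact ⟨fun h => hp.1 (g.injective (h.trans h0.symm)), fun h => hp.2 (g.injective (h.trans h1.symm))⟩

theorem card_invSub (K : Subgroup (Equiv.Perm GolayPt)) (S : Finset GolayPt)
    (hinv : ∀ g ∈ K, ∀ p ∈ S, g p ∈ S) : Nat.card (invSub K S hinv) = S.card := by
  show Nat.card ↥(S : Set GolayPt) = _
  simp [Nat.card_coe_set_eq]

theorem five_fix_d0 {g : Equiv.Perm GolayPt} (hg : g ∈ M12K) (h : ∀ b ∈ basePre 5, g b = b) :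
    g = 1 := by
  classical
  let F := fixers M24 (basePre 5)
  have hcard : Nat.card F = 48 := card_fixers_basePre 5 (by norm_num)
  have hmem : ∀ c ∈ dodecadCert, maskSet c.1 ∈ MulAction.orbit F d0 := by
    intro c hc
    have hok := List.all_eq_true.1 dodecadCert_ok c hc
    simp only [beq_iff_eq] at hok
    have hfix : (dodecadCert.all fun c => [0, 1, 2, 3, 4].all fun b =>
        runWord (trans5.getD c.2.1 [] ++ trans6.getD c.2.2 []) b == b) = true := by decide +kernel
    refine ⟨⟨evalWord (trans5.getD c.2.1 [] ++ trans6.getD c.2.2 []), evalWord_mem _, fun x hx => ?_⟩, ?_⟩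
    · have hx' : ∀ x ∈ basePre 5, ix x ∈ ([0, 1, 2, 3, 4] : List ℕ) := by decide +kernel
      apply ix_injective
      rw [ix_evalWord]
      simpa using List.all_eq_true.1 (List.all_eq_true.1 hfix c hc) (ix x) (hx' x hx)
    · show evalWord (trans5.getD c.2.1 [] ++ trans6.getD c.2.2 []) • d0 = maskSet c.1
      rw [← hok, ← maskSet_mask (evalWord (trans5.getD c.2.1 [] ++ trans6.getD c.2.2 []) • d0),
        ← wordImage_mask, mask_maskSet (by decide +kernel)]
  have horb : 48 ≤ (MulAction.orbit F d0).ncard := by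
    let T : Finset (Finset GolayPt) := (dodecadCert.map fun c => maskSet c.1).toFinset
    have hT : T.card = 48 := by
      rw [List.toFinset_card_of_nodup]
      · decide +kernel
      · refine List.Nodup.of_map mask ?_
        rw [List.map_map]
        decide +kernel
    rw [← hT, ← Set.ncard_coe_finset]
    refine Set.ncard_le_ncard (fun s hs => ?_) (Set.toFinite _)
    simp only [T, Finset.mem_coe, List.mem_toFinset, List.mem_map] at hs
    obtain ⟨c, hc, rfl⟩ := hs
    exact hmem c hc
  have hst := Subgroup.index_mul_card (MulAction.stabilizer F d0)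
  rw [MulAction.index_stabilizer, hcard] at hst
  have hone : Nat.card (MulAction.stabilizer F d0) = 1 := by
    have hpos := Nat.card_pos (α := MulAction.stabilizer F d0)
    nlinarith
  haveI := (Nat.card_eq_one_iff_unique.1 hone).1
  have hgd : (⟨g, hg.1, h⟩ : F) ∈ MulAction.stabilizer F d0 := (mem_M12K.1 hg).2
  exact congrArg (fun x => x.1.1) (Subsingleton.elim (⟨_, hgd⟩ : MulAction.stabilizer F d0) 1)

theorem isSimple_M23K : IsSimpleGroup M23K := by
  haveI : Fact (Nat.Prime 23) := ⟨by norm_num⟩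
  refine simple_of_tabs m23Tabs_ok (p := 23) (by decide +kernel) (by decide +kernel) m23_eq
    (by rw [card_M23K]; decide) (by rw [card_M23K]; decide) fun N _ hN => ?_
  have h2 := invSub_two_pretransitive m23Tabs_ok (S := 16777214) (L := m23Chain.take 2) (by decide +kernel)
    (by decide +kernel) (by decide +kernel) m23_eq M23K_inv
  haveI := MulAction.isPreprimitive_of_is_two_pretransitive h2
  haveI := invSub_faithful M23K_inv fun g hg hq => Equiv.ext fun x => by
    by_cases hx : x ∈ maskSet 16777214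
    · exact hq x hx
    · have : x = pt 0 := by revert hx; revert x; decide +kernel
      rw [this]; exact hg.2 _ List.mem_cons_self
  haveI : Nonempty (invSub M23K (maskSet 16777214) M23K_inv) :=
    ⟨⟨pt 1, show pt 1 ∈ maskSet 16777214 by decide +kernel⟩⟩
  have hd := card_dvd_card_normal (α := invSub M23K (maskSet 16777214) M23K_inv) N hN
  rwa [card_invSub, show (maskSet 16777214).card = 23 by decide +kernel] at hd

theorem isSimple_M22K : IsSimpleGroup M22K := by
  haveI : Fact (Nat.Prime 11) := ⟨by norm_num⟩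
  refine simple_of_tabs m22Tabs_ok (p := 11) (by decide +kernel) (by decide +kernel) m22_eq
    (by rw [card_M22K]; decide) (by rw [card_M22K]; decide) fun N _ hN => ?_
  have h2 := invSub_two_pretransitive m22Tabs_ok (S := 16777212) (L := m22Chain.take 2) (by decide +kernel)
    (by decide +kernel) (by decide +kernel) m22_eq M22K_inv
  haveI := MulAction.isPreprimitive_of_is_two_pretransitive h2
  haveI := invSub_faithful M22K_inv fun g hg hq => Equiv.ext fun x => by
    by_cases hx : x ∈ maskSet 16777212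
    · exact hq x hx
    · have : x = pt 0 ∨ x = pt 1 := by revert hx; revert x; decide +kernel
      rcases this with rfl | rfl
      · exact hg.2 _ List.mem_cons_self
      · exact hg.2 _ (List.mem_cons_of_mem _ List.mem_cons_self)
  haveI : Nonempty (invSub M22K (maskSet 16777212) M22K_inv) :=
    ⟨⟨pt 2, show pt 2 ∈ maskSet 16777212 by decide +kernel⟩⟩
  have hd := card_dvd_card_normal (α := invSub M22K (maskSet 16777212) M22K_inv) N hN
  rw [card_invSub, show (maskSet 16777212).card = 22 by decide +kernel] at hd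
  exact (show 11 ∣ 22 by norm_num).trans hd

theorem M11K_inv (g : Equiv.Perm GolayPt) (hg : g ∈ M11K) (p : GolayPt)
    (hp : p ∈ maskSet (baseDodecad ^^^ 1)) : g p ∈ maskSet (baseDodecad ^^^ 1) := by
  have e : maskSet (baseDodecad ^^^ 1) = d0 \ {pt 0} := by decide +kernel
  rw [e] at hp ⊢
  simp only [Finset.mem_sdiff, Finset.mem_singleton] at hp ⊢
  exact ⟨M12K_maps hg.1 hp.1,
    fun h => hp.2 (g.injective (h.trans (hg.2 _ List.mem_cons_self).symm))⟩

theorem isSimple_M11K : IsSimpleGroup M11K := by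
  haveI : Fact (Nat.Prime 11) := ⟨by norm_num⟩
  refine simple_of_tabs m11Tabs_ok (p := 11) (by decide +kernel) (by decide +kernel) m11_eq
    (by rw [card_M11K]; decide) (by rw [card_M11K]; decide) fun N _ hN => ?_
  have h2 := invSub_two_pretransitive m11Tabs_ok (S := baseDodecad ^^^ 1) (L := m11Chain)
    (by decide +kernel) m11Chain_ok (by decide +kernel) m11_eq M11K_inv
  haveI := MulAction.isPreprimitive_of_is_two_pretransitive h2
  haveI := invSub_faithful M11K_inv fun g hg hq => five_fix_d0 hg.1 fun b hb => by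
    have hb' : ∀ b ∈ basePre 5, b = pt 0 ∨ b ∈ maskSet (baseDodecad ^^^ 1) := by decide +kernel
    rcases hb' b hb with rfl | hb
    · exact hg.2 _ List.mem_cons_self
    · exact hq b hb
  haveI : Nonempty (invSub M11K (maskSet (baseDodecad ^^^ 1)) M11K_inv) :=
    ⟨⟨pt 1, show pt 1 ∈ maskSet (baseDodecad ^^^ 1) by decide +kernel⟩⟩
  have hd := card_dvd_card_normal (α := invSub M11K (maskSet (baseDodecad ^^^ 1)) M11K_inv) N hN
  rwa [card_invSub, show (maskSet (baseDodecad ^^^ 1)).card = 11 by decide +kernel] at hd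

theorem M12K_inv : ∀ g ∈ M12K, ∀ p ∈ d0, g p ∈ d0 := fun _ hg _ hp => M12K_maps hg hp

theorem isSimple_M12K : IsSimpleGroup M12K := by
  haveI : Fact (Nat.Prime 2) := ⟨Nat.prime_two⟩
  haveI : Fact (Nat.Prime 3) := ⟨Nat.prime_three⟩
  haveI : Nontrivial M12K := Finite.one_lt_card_iff_nontrivial.1 (by rw [card_M12K]; norm_num)
  have h2 := invSub_two_pretransitive m12Tabs_ok (S := baseDodecad) (L := m12Chain)
    (by decide +kernel) m12Chain_ok (by decide +kernel) m12_eq M12K_inv
  haveI := invSub_faithful M12K_inv fun g hg hq => five_fix_d0 hg fun b hb => hq b (by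
    revert hb; revert b; decide +kernel)
  let e : MulAction.stabilizer M12K (⟨pt 0, pt0_mem_d0⟩ : invSub M12K d0 M12K_inv) ≃* M11K :=
    { toFun := fun g => ⟨g.1.1, g.1.2, fun x hx => by
        obtain rfl := List.mem_singleton.1 hx
        exact congrArg Subtype.val g.2⟩
      invFun := fun g => ⟨⟨g.1, g.2.1⟩, Subtype.ext (g.2.2 _ List.mem_cons_self)⟩
      left_inv := fun _ => rfl
      right_inv := fun _ => rfl
      map_mul' := fun _ _ => rfl }
  have hc : Nat.card (invSub M12K d0 M12K_inv) = 12 := by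
    rw [card_invSub]; exact baseDodecad_mem.2
  exact isSimpleGroup_of_stabilizer h2 (⟨pt 0, pt0_mem_d0⟩ : invSub M12K d0 M12K_inv)
    (e.isSimpleGroup_congr.2 isSimple_M11K) 2 3 (by norm_num) (by rw [hc]; norm_num)
    (by rw [hc]; norm_num)

theorem isSimple_M24 : IsSimpleGroup M24 := by
  haveI : Fact (Nat.Prime 2) := ⟨Nat.prime_two⟩
  haveI : Fact (Nat.Prime 3) := ⟨Nat.prime_three⟩
  haveI : Nontrivial M24 := Finite.one_lt_card_iff_nontrivial.1 (by rw [card_M24]; norm_num)
  have h5 := isMultiplyPretransitive_five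
  have h2 : MulAction.IsMultiplyPretransitive M24 GolayPt 2 :=
    MulAction.isMultiplyPretransitive_of_le (n := 5) (by norm_num)
      (by simp [Nat.card_eq_fintype_card]) 
  haveI : FaithfulSMul M24 GolayPt := ⟨fun {g₁ g₂} h => Subtype.ext (Equiv.ext h)⟩
  let e : MulAction.stabilizer M24 (pt 0) ≃* M23K :=
    { toFun := fun g => ⟨g.1.1, g.1.2, fun x hx => by
        obtain rfl := List.mem_singleton.1 hx
        exact g.2⟩
      invFun := fun g => ⟨⟨g.1, g.2.1⟩, g.2.2 _ List.mem_cons_self⟩
      left_inv := fun _ => rfl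
      right_inv := fun _ => rfl
      map_mul' := fun _ _ => rfl }
  have hc : Nat.card GolayPt = 24 := by simp [Nat.card_eq_fintype_card]
  exact isSimpleGroup_of_stabilizer h2 (pt 0) (e.isSimpleGroup_congr.2 isSimple_M23K) 2 3
    (by norm_num) (by rw [hc]; norm_num) (by rw [hc]; norm_num)

/-- Subgroups of `M24` matching a subgroup of permutations after conjugation by `a ∈ M24`. -/
def equivOfConj {a : Equiv.Perm GolayPt} (ha : a ∈ M24) {H : Subgroup M24}
    {K : Subgroup (Equiv.Perm GolayPt)} (hK : K ≤ M24)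
    (h : ∀ g : M24, g ∈ H ↔ a * (g : Equiv.Perm GolayPt) * a⁻¹ ∈ K) : H ≃* K where
  toFun g := ⟨a * g.1.1 * a⁻¹, (h g.1).1 g.2⟩
  invFun k := ⟨⟨a⁻¹ * k.1 * a, M24.mul_mem (M24.mul_mem (M24.inv_mem ha) (hK k.2)) ha⟩,
    (h _).2 (by simpa [mul_assoc] using k.2)⟩
  left_inv g := by apply Subtype.ext; apply Subtype.ext; simp [mul_assoc]
  right_inv k := by apply Subtype.ext; simp [mul_assoc]
  map_mul' g k := by apply Subtype.ext; simp [mul_assoc]

theorem exists_conj_dodecad_point {d : Finset GolayPt} (hd : d ∈ dodecads) {p : GolayPt}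
    (hp : p ∈ d) : ∃ a ∈ M24, a • d = d0 ∧ a p = pt 0 := by
  obtain ⟨b, hb, hbd⟩ := exists_smul_dodecad hd
  have hbp : b⁻¹ p ∈ d0 := by
    rw [← hbd] at hp
    rwa [← (show b (b⁻¹ p) = p from b.apply_symm_apply p), mem_smul_iff] at hp
  obtain ⟨k, hk, e⟩ := M12K_exists_tuple [b⁻¹ p] (by simp) (by simp) (by simpa using hbp)
  refine ⟨k⁻¹ * b⁻¹, M24.mul_mem (M24.inv_mem (mem_M12K.1 hk).1) (M24.inv_mem hb), ?_, ?_⟩
  · rw [mul_smul, ← hbd, inv_smul_smul, inv_smul_eq_iff, (mem_M12K.1 hk).2]
  · rw [Equiv.Perm.mul_apply, Equiv.Perm.inv_eq_iff_eq]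
    simpa using e.symm

theorem conj_mem_M12K {a : Equiv.Perm GolayPt} (ha : a ∈ M24) {d : Finset GolayPt}
    (had : a • d = d0) (g : M24) :
    a * (g : Equiv.Perm GolayPt) * a⁻¹ ∈ M12K ↔ g • d = d := by
  rw [mem_M12K, coe_smul_finset, ← had]
  refine ⟨fun h => ?_, fun h => ⟨M24.mul_mem (M24.mul_mem ha g.2) (M24.inv_mem ha), ?_⟩⟩
  · simpa [mul_smul] using h.2
  · simp [mul_smul, h]

theorem mem_M11K_conj {a : Equiv.Perm GolayPt} (ha : a ∈ M24) {d : Finset GolayPt}
    (had : a • d = d0) {p : GolayPt} (hap : a p = pt 0) (g : M24) :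
    g ∈ MulAction.stabilizer M24 d ⊓ MulAction.stabilizer M24 p ↔
      a * (g : Equiv.Perm GolayPt) * a⁻¹ ∈ M11K := by
  show (g • d = d ∧ (g : Equiv.Perm GolayPt) p = p) ↔ _ ∈ M12K ∧ _
  rw [conj_mem_M12K ha had]
  constructor
  · rintro ⟨h1, h2⟩
    refine ⟨h1, fun x hx => ?_⟩
    obtain rfl := List.mem_singleton.1 hx
    rw [← hap]
    simp [h2]
  · rintro ⟨h1, h2⟩
    have := h2 _ List.mem_cons_self
    rw [← hap] at this
    exact ⟨h1, by simpa using this⟩

theorem M11K_le : M11K ≤ M24 := fun _ h => h.1.1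

theorem M12K_le : M12K ≤ M24 := fun _ h => h.1

end Cfsg.Agent.Golay.Small
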