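import Cfsg.Prelude.Def_Sporadic_a

/-!
Isomorphisms of set systems: reflexivity, symmetry, transitivity, and the transfer of the
automorphism group together with its action on points.
-/

set_option autoImplicit false

namespace Cfsg.Agent.Golay.DesignIso

open Cfsg
open scoped Pointwise

variable {α β γ : Type*} [DecidableEq α] [DecidableEq β] [DecidableEq γ]

theorem refl (B : Set (Finset α)) : SetSystemIso B B :=
  ⟨Equiv.refl α, by simp⟩

theorem symm {B : Set (Finset α)} {B' : Set (Finset β)} (h : SetSystemIso B B') :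
    SetSystemIso B' B := by
  obtain ⟨e, he⟩ := h
  refine ⟨e.symm, ?_⟩
  rw [← he, Set.image_image]
  simp [Finset.image_image]

theorem trans {B : Set (Finset α)} {B' : Set (Finset β)} {B'' : Set (Finset γ)}
    (h : SetSystemIso B B') (h' : SetSystemIso B' B'') : SetSystemIso B B'' := by
  obtain ⟨e, he⟩ := h
  obtain ⟨e', he'⟩ := h'
  refine ⟨e.trans e', ?_⟩
  rw [← he', ← he, Set.image_image]
  simp [Finset.image_image]

theorem of_mem_iff (e : α ≃ β) {B : Set (Finset α)} {B' : Set (Finset β)}
    (h : ∀ b, b ∈ B ↔ b.image e ∈ B') : SetSystemIso B B' := by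
  refine ⟨e, Set.ext fun c => ⟨?_, fun hc => ?_⟩⟩
  · rintro ⟨b, hb, rfl⟩; exact (h b).1 hb
  · have hce : (c.image e.symm).image e = c := by simp [Finset.image_image]
    exact ⟨c.image e.symm, (h _).2 (by rwa [hce]), hce⟩

theorem mem_iff {e : α ≃ β} {B : Set (Finset α)} {B' : Set (Finset β)}
    (he : (fun b => b.image e) '' B = B') (b : Finset α) : b ∈ B ↔ b.image e ∈ B' := by
  rw [← he]
  exact ((Finset.image_injective e.injective).mem_set_image).symm

theorem isSteinerSystem {B : Set (Finset α)} {B' : Set (Finset β)} (h : SetSystemIso B B') {t k : ℕ}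
    (hB : IsSteinerSystem t k B) : IsSteinerSystem t k B' := by
  obtain ⟨e, he⟩ := h
  subst he
  refine ⟨?_, fun s hs => ?_⟩
  · rintro _ ⟨b, hb, rfl⟩
    rw [Finset.card_image_of_injective _ e.injective, hB.1 b hb]
  · obtain ⟨b, ⟨hb, hsb⟩, hu⟩ := hB.2 (s.image e.symm)
      (by rw [Finset.card_image_of_injective _ e.symm.injective, hs])
    refine ⟨b.image e, ⟨⟨b, hb, rfl⟩, fun x hx => ?_⟩, ?_⟩
    · exact Finset.mem_image.2 ⟨e.symm x, hsb (Finset.mem_image_of_mem _ hx), e.apply_symm_apply x⟩
    · rintro _ ⟨⟨c, hc, rfl⟩, hsc⟩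
      refine congrArg (fun b : Finset α => b.image e) (hu c ⟨hc, fun x hx => ?_⟩)
      obtain ⟨y, hy, rfl⟩ := Finset.mem_image.1 hx
      obtain ⟨z, hz, rfl⟩ := Finset.mem_image.1 (hsc hy)
      simpa using hz

theorem permCongr_mem_iff (e : α ≃ β) {B : Set (Finset α)} {B' : Set (Finset β)}
    (he : (fun b => b.image e) '' B = B') (g : Equiv.Perm α) :
    e.permCongrHom g ∈ setSystemAut B' ↔ g ∈ setSystemAut B := by
  have hinj : Function.Injective (fun b : Finset α => b.image e) :=
    Finset.image_injective e.injective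
  have key : e.permCongrHom g • B' = (fun b => b.image e) '' (g • B) := by
    subst he
    ext c
    simp only [Set.mem_smul_set, Set.mem_image, exists_exists_and_eq_and]
    refine exists_congr fun b => and_congr_right fun _ => ?_
    rw [show e.permCongrHom g • b.image e = (g • b).image e by
      ext y
      simp [Finset.mem_smul_finset]]
  rw [MulAction.mem_stabilizer_iff, MulAction.mem_stabilizer_iff, key, ← he]
  exact hinj.image_injective.eq_iff

/-- The automorphism groups of isomorphic set systems. -/
noncomputable def autEquiv (e : α ≃ β) {B : Set (Finset α)} {B' : Set (Finset β)}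
    (he : (fun b => b.image e) '' B = B') : setSystemAut B ≃* setSystemAut B' :=
  (e.permCongrHom.subgroupMap (setSystemAut B)).trans (MulEquiv.subgroupCongr (by
    ext g
    rw [Subgroup.mem_map]
    refine ⟨?_, fun h => ⟨e.permCongrHom.symm g, (permCongr_mem_iff e he _).1 ?_, ?_⟩⟩
    · rintro ⟨g', hg', rfl⟩
      exact (permCongr_mem_iff e he g').2 hg'
    · rwa [MulEquiv.apply_symm_apply]
    · exact e.permCongrHom.apply_symm_apply g))

theorem autEquiv_apply (e : α ≃ β) {B : Set (Finset α)} {B' : Set (Finset β)}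
    (he : (fun b => b.image e) '' B = B') (g : setSystemAut B) (a : α) :
    autEquiv e he g • e a = e (g • a) := by
  change e.permCongr (g : Equiv.Perm α) (e a) = e ((g : Equiv.Perm α) a)
  simp [Equiv.permCongr_apply]

/-- The transitivity and freeness of the action transfer. -/
theorem transfer (e : α ≃ β) {B : Set (Finset α)} {B' : Set (Finset β)}
    (he : (fun b => b.image e) '' B = B') (k : ℕ)
    (h : MulAction.IsMultiplyPretransitive (setSystemAut B') β k) :
    MulAction.IsMultiplyPretransitive (setSystemAut B) α k ∧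
      ((∀ x : Fin k ↪ β, MulAction.stabilizer (setSystemAut B') x = ⊥) →
        ∀ x : Fin k ↪ α, MulAction.stabilizer (setSystemAut B) x = ⊥) := by
  have hsm : ∀ (g : setSystemAut B) (x : Fin k ↪ α),
      autEquiv e he g • x.trans e.toEmbedding = (g • x).trans e.toEmbedding := by
    intro g x
    ext i
    exact autEquiv_apply e he g (x i)
  have hinj : ∀ x y : Fin k ↪ α, x.trans e.toEmbedding = y.trans e.toEmbedding → x = y := by
    intro x y hxy
    ext i
    exact e.injective (Function.Embedding.ext_iff.1 hxy i)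
  refine ⟨⟨fun x y => ?_⟩, fun hfree x => ?_⟩
  · obtain ⟨g', hg'⟩ := h.exists_smul_eq (x.trans e.toEmbedding) (y.trans e.toEmbedding)
    refine ⟨(autEquiv e he).symm g', hinj _ _ ?_⟩
    rw [← hsm, MulEquiv.apply_symm_apply, hg']
  · refine (Subgroup.eq_bot_iff_forall _).2 fun g hg => ?_
    have h1 : autEquiv e he g ∈ MulAction.stabilizer _ (x.trans e.toEmbedding) := by
      exact (hsm g x).trans (congrArg (fun y : Fin k ↪ α => y.trans e.toEmbedding)
        (MulAction.mem_stabilizer_iff.1 hg))
    rw [hfree, Subgroup.mem_bot] at h1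
    exact (autEquiv e he).injective (h1.trans (map_one _).symm)

end Cfsg.Agent.Golay.DesignIso
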