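import Cfsg.Agent.Lib.Golay.M24

/-!
Consequences of the order computation: conjugate subgroups, stabilisers, octads, dodecads.
-/

set_option autoImplicit false
set_option maxRecDepth 10000

namespace Cfsg.Agent.Golay.Trans

open Cfsg Cfsg.Agent.Golay.Basic Cfsg.Agent.Golay.Design Cfsg.Agent.Golay.M24Data Cfsg.Agent.Golay.Perm
  Cfsg.Agent.Golay.M24
open scoped Pointwise

/-- A dodecad through the first five base points. -/
def baseDodecad : ℕ := 165759

/-- For each dodecad through the first five base points, a pair of words reaching it. -/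
def dodecadCert : List (ℕ × ℕ × ℕ) :=
  [(165759, 0, 0),
   (340831, 1, 13),
   (499903, 2, 7),
   (575743, 2, 14),
   (678687, 1, 3),
   (1158239, 0, 5),
   (1346463, 2, 15),
   (1448063, 1, 11),
   (1667135, 1, 9),
   (2016287, 0, 11),
   (2319647, 0, 8),
   (2412863, 1, 0),
   (2507487, 2, 5),
   (2697887, 2, 9),
   (2887007, 0, 10),
   (3165759, 0, 3),
   (3707487, 1, 10),
   (3801535, 2, 8),
   (4277183, 2, 3),
   (4444255, 1, 1),
   (4482175, 0, 1),
   (4918335, 0, 9),
   (5027871, 1, 5),
   (5400735, 2, 12),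
   (5777183, 0, 12),
   (6095071, 2, 0),
   (6332895, 2, 6),
   (6435391, 1, 8),
   (6653471, 0, 13),
   (7411999, 1, 12),
   (8493631, 1, 14),
   (8587743, 2, 1),
   (8793631, 0, 4),
   (8996447, 0, 6),
   (9200031, 2, 11),
   (9446143, 2, 10),
   (9613599, 1, 6),
   (9766207, 0, 2),
   (10516575, 1, 2),
   (11052095, 0, 7),
   (11472927, 1, 15),
   (11649183, 2, 2),
   (12635423, 0, 15),
   (13111679, 1, 4),
   (13271711, 2, 4),
   (13914655, 1, 7),
   (14944447, 2, 13),
   (15860831, 0, 14)]

/-- Two subgroups corresponding under conjugation by `a` have the same order. -/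
theorem card_eq_of_conj {α : Type*} (a : Equiv.Perm α) {H K : Subgroup (Equiv.Perm α)}
    (h : ∀ g, g ∈ H ↔ a * g * a⁻¹ ∈ K) : Nat.card H = Nat.card K :=
  Nat.card_congr ((MulAut.conj a).toEquiv.subtypeEquiv fun g => by simpa using h g)

/-- A subgroup of `M24` seen inside the symmetric group. -/
theorem card_of_mem_iff {H : Subgroup M24} {K : Subgroup (Equiv.Perm GolayPt)}
    (h : ∀ g : M24, g ∈ H ↔ (g : Equiv.Perm GolayPt) ∈ K) (hK : K ≤ M24) :
    Nat.card H = Nat.card K :=
  Nat.card_congr
    { toFun := fun g => ⟨g.1.1, (h g.1).1 g.2⟩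
      invFun := fun g => ⟨⟨g.1, hK g.2⟩, (h _).2 g.2⟩
      left_inv := fun _ => rfl
      right_inv := fun _ => rfl }

theorem conj_mem_fixers {a : Equiv.Perm GolayPt} (ha : a ∈ M24) {l : List GolayPt}
    {g : Equiv.Perm GolayPt} : g ∈ fixers M24 l ↔ a * g * a⁻¹ ∈ fixers M24 (l.map a) := by
  constructor
  · rintro ⟨h1, h2⟩
    refine ⟨M24.mul_mem (M24.mul_mem ha h1) (M24.inv_mem ha), fun x hx => ?_⟩
    obtain ⟨y, hy, rfl⟩ := List.mem_map.1 hx
    simp [h2 y hy]
  · rintro ⟨h1, h2⟩
    refine ⟨?_, fun x hx => ?_⟩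
    · have := M24.mul_mem (M24.mul_mem (M24.inv_mem ha) h1) ha
      simpa [mul_assoc] using this
    · have := h2 (a x) (List.mem_map_of_mem hx)
      simpa using this

theorem card_fixers_basePre : ∀ n ≤ 7, Nat.card (fixers M24 (basePre n)) =
    [244823040, 10200960, 443520, 20160, 960, 48, 16, 1].getD n 0 := by
  intro n hn
  have e := fun k hk => card_fixers_succ genGroup_le le_rfl (k := k) hk
  have b := baseOrbit_card
  have h7 := card_fixers_seven (le_refl M24)
  have h6 : Nat.card (fixers M24 (basePre 6)) = 16 := by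
    rw [e 6 (by norm_num), h7, b 6 (by norm_num)]; norm_num
  have h5 : Nat.card (fixers M24 (basePre 5)) = 48 := by
    rw [e 5 (by norm_num), h6, b 5 (by norm_num)]; norm_num
  have h4 : Nat.card (fixers M24 (basePre 4)) = 960 := by
    rw [e 4 (by norm_num), h5, b 4 (by norm_num)]; norm_num
  have h3 : Nat.card (fixers M24 (basePre 3)) = 20160 := by
    rw [e 3 (by norm_num), h4, b 3 (by norm_num)]; norm_num
  have h2 : Nat.card (fixers M24 (basePre 2)) = 443520 := by
    rw [e 2 (by norm_num), h3, b 2 (by norm_num)]; norm_num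
  have h1 : Nat.card (fixers M24 (basePre 1)) = 10200960 := by
    rw [e 1 (by norm_num), h2, b 1 (by norm_num)]; norm_num
  have h0 : Nat.card (fixers M24 (basePre 0)) = 244823040 := by
    rw [e 0 (by norm_num), h1, b 0 (by norm_num)]; norm_num
  interval_cases n <;> assumption

/-- The fixer of any list of at most five distinct points. -/
theorem card_fixers {l : List GolayPt} (hl : l.Nodup) (h5 : l.length ≤ 5) :
    Nat.card (fixers M24 l) =
      [244823040, 10200960, 443520, 20160, 960, 48, 16, 1].getD l.length 0 := by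
  classical
  rw [← card_fixers_basePre _ (by omega)]
  obtain ⟨a, ha, hai⟩ := exists_to_base l.length h5 (fun i => l.getD i none) (by
    intro i hi j hj h
    simp only [Set.mem_Iio] at hi hj
    simp only [List.getD_eq_getElem _ _ hi, List.getD_eq_getElem _ _ hj] at h
    exact (hl.getElem_inj_iff).1 h)
  have hmem : ∀ x, x ∈ l.map a ↔ x ∈ basePre l.length := by
    intro x
    constructor
    · intro hx
      obtain ⟨y, hy, rfl⟩ := List.mem_map.1 hx
      obtain ⟨i, hi, rfl⟩ := List.mem_iff_getElem.1 hy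
      have := hai i hi
      rw [List.getD_eq_getElem _ _ hi] at this
      rw [this]
      exact base_mem_basePre hi
    · intro hx
      obtain ⟨j, hj, rfl⟩ := mem_basePre hx
      rw [← hai j hj, List.getD_eq_getElem _ _ hj]
      exact List.mem_map_of_mem (List.getElem_mem hj)
  refine card_eq_of_conj a fun g => ?_
  rw [conj_mem_fixers ha]
  simp only [mem_fixers, hmem]

/-- A set of five points can be mapped onto the first five base points. -/
theorem exists_five {s : Finset GolayPt} (hs : 5 ≤ s.card) :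
    ∃ a ∈ M24, ∀ x ∈ basePre 5, a⁻¹ x ∈ s := by
  classical
  obtain ⟨t, hts, ht⟩ := Finset.exists_subset_card_eq hs
  let e : Fin 5 ≃ t := Fintype.equivOfCardEq (by simp [ht])
  let f : Fin 5 ↪ GolayPt := e.toEmbedding.trans (Function.Embedding.subtype _)
  have hb : ∀ i j : Fin 5, base i = base j → i = j := by decide +kernel
  obtain ⟨a, ha, hai⟩ := exists_map_tuple le_rfl f ⟨fun i => base i, hb⟩
  refine ⟨a, ha, fun x hx => ?_⟩
  obtain ⟨j, hj, rfl⟩ := mem_basePre hx
  have h : a (f ⟨j, hj⟩) = base j := hai ⟨j, hj⟩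
  rw [← h, Equiv.Perm.inv_eq_iff_eq.2 rfl]
  exact hts (e ⟨j, hj⟩).2

theorem exists_smul_octad {o : Finset GolayPt} (ho : o ∈ octads) :
    ∃ a ∈ M24, a • o = maskSet baseOctad := by
  obtain ⟨a, ha, hmem⟩ := exists_five (s := o) (by rw [octad_card ho]; norm_num)
  refine ⟨a, ha, octads_eq_of_subset (s := (basePre 5).toFinset) (by decide +kernel)
    (smul_mem_octads ha ho) (mem_octads_iff.2 (by decide +kernel)) ?_ (by decide +kernel)⟩
  intro x hx
  have := (mem_smul_iff a o (a⁻¹ x)).2 (hmem x (List.mem_toFinset.1 hx))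
  simpa using this

theorem octads_transitive {o o' : Finset GolayPt} (ho : o ∈ octads) (ho' : o' ∈ octads) :
    ∃ g ∈ M24, g • o = o' := by
  obtain ⟨a, ha, ha'⟩ := exists_smul_octad ho
  obtain ⟨b, hb, hb'⟩ := exists_smul_octad ho'
  exact ⟨b⁻¹ * a, M24.mul_mem (M24.inv_mem hb) ha, by rw [mul_smul, ha', ← hb', inv_smul_smul]⟩

/-- The sixteen elements fixing six points of the base octad. -/
theorem eq_trans6 {g : Equiv.Perm GolayPt} (hg : g ∈ fixers M24 (basePre 6)) :
    ∃ w ∈ trans6, g = evalWord w := by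
  have h := levelOK_all 6 (by norm_num)
  simp only [levelOK, Bool.and_eq_true, List.all_eq_true, List.mem_range, Bool.or_eq_true,
    Bool.not_eq_eq_eq_not, Bool.not_true, decide_eq_false_iff_not, List.any_eq_true, beq_iff_eq] at h
  obtain ⟨h1, h2⟩ := h
  rcases h2 (ix (g (base 6))) (ix_lt _) with hn | ⟨w, hw, hwt⟩
  · rw [pt_ix] at hn; exact absurd (orbit_bound (by norm_num) hg) hn
  refine ⟨w, hw, ?_⟩
  have hwfix : ∀ x ∈ basePre 6, evalWord w x = x := by
    intro x hx
    obtain ⟨j, hj, rfl⟩ := mem_basePre hx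
    have hlen : j < baseIx.length := by simp [baseIx]; omega
    have hmem : baseIx.getD j 0 ∈ baseIx.take 6 := by
      rw [List.getD_eq_getElem _ _ hlen]
      exact List.mem_take_iff_getElem.2 ⟨j, by simp; omega, rfl⟩
    rw [base, evalWord_pt w (baseIx_lt j), h1 w hw _ hmem]
  have hw6 : evalWord w (base 6) = g (base 6) := by
    rw [base, evalWord_pt w (baseIx_lt 6), hwt, pt_ix]; rfl
  have h7 : (evalWord w)⁻¹ * g ∈ fixers M24 (basePre 7) := by
    refine ⟨M24.mul_mem (M24.inv_mem (evalWord_mem w)) hg.1, fun x hx => ?_⟩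
    rw [Equiv.Perm.mul_apply, Equiv.Perm.inv_eq_iff_eq]
    rcases List.mem_cons.1 hx with rfl | hx
    · exact hw6.symm
    · rw [hg.2 x hx, hwfix x hx]
  rw [fixers_seven, Subgroup.mem_bot, inv_mul_eq_one] at h7
  exact h7.symm

theorem trans6_check :
    (trans6.all fun w => (List.range 24).all fun i =>
      (!baseOctad.testBit i || runWord w i == i) && (runWord w (runWord w i) == i)) = true := by
  decide +kernel

theorem fix_octad_of_fixers6 {g : Equiv.Perm GolayPt} (hg : g ∈ fixers M24 (basePre 6)) :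
    (∀ x ∈ maskSet baseOctad, g x = x) ∧ g * g = 1 := by
  obtain ⟨w, hw, rfl⟩ := eq_trans6 hg
  have h := trans6_check
  simp only [List.all_eq_true, List.mem_range, Bool.and_eq_true, Bool.or_eq_true,
    Bool.not_eq_eq_eq_not, Bool.not_true, beq_iff_eq] at h
  refine ⟨fun x hx => ?_, Equiv.ext fun x => ?_⟩
  · rcases (h w hw (ix x) (ix_lt x)).1 with h' | h'
    · rw [mem_maskSet.1 hx] at h'; cases h'
    · apply ix_injective; rw [ix_evalWord, h']
  · apply ix_injective
    rw [Equiv.Perm.mul_apply, ix_evalWord, ix_evalWord, (h w hw (ix x) (ix_lt x)).2]; rfl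

/-- The image of a mask under a word. -/
def wordImage (w : List ℕ) (m : ℕ) : ℕ :=
  Nat.ofBits fun j : Fin 24 => (List.range 24).any fun i => m.testBit i && runWord w i == j.1

theorem wordImage_mask (w : List ℕ) (s : Finset GolayPt) :
    wordImage w (mask s) = mask (evalWord w • s) := by
  apply Nat.eq_of_testBit_eq
  intro j
  rcases Nat.lt_or_ge j 24 with hj | hj
  · have hr : (mask (evalWord w • s)).testBit j = decide (pt j ∈ evalWord w • s) := by
      rw [mask, Nat.testBit_ofBits_lt _ _ hj]
    rw [wordImage, Nat.testBit_ofBits_lt _ _ hj, hr, Bool.eq_iff_iff, smul_finset_def]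
    simp only [List.any_eq_true, List.mem_range, Bool.and_eq_true, beq_iff_eq, decide_eq_true_eq,
      Finset.mem_image]
    constructor
    · rintro ⟨i, hi, h1, h2⟩
      refine ⟨pt i, ?_, ?_⟩
      · rw [← ix_pt hi, testBit_mask] at h1; simpa using h1
      · rw [evalWord_pt w hi, h2]
    · rintro ⟨p, hp, h⟩
      exact ⟨ix p, ix_lt p, by simpa using hp, by rw [← ix_evalWord, h, ix_pt hj]⟩
  · rw [wordImage, Nat.testBit_ofBits_ge _ _ hj, testBit_mask_ge _ hj]

theorem dodecadCert_ok :
    (dodecadCert.all fun c =>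
      wordImage (trans5.getD c.2.1 [] ++ trans6.getD c.2.2 []) baseDodecad == c.1) = true := by
  decide +kernel

theorem dodecadCert_complete :
    ((codeList.filter fun m => pc m == 12 && m &&& 31 == 31).all fun m =>
      dodecadCert.any fun c => c.1 == m) = true := by
  decide +kernel

theorem exists_smul_dodecad {d : Finset GolayPt} (hd : d ∈ dodecads) :
    ∃ a ∈ M24, a • maskSet baseDodecad = d := by
  obtain ⟨a, ha, hmem⟩ := exists_five (s := d) (by rw [hd.2]; norm_num)
  have hd' := mem_dodecads_iff.1 (smul_mem_dodecads ha hd)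
  rw [card_eq_pc] at hd'
  have hsub : mask (a • d) &&& 31 = 31 := by
    rw [show (31 : ℕ) = mask (basePre 5).toFinset by decide +kernel, Nat.and_comm, ← subset_iff_mask]
    intro x hx
    have := (mem_smul_iff a d (a⁻¹ x)).2 (hmem x (List.mem_toFinset.1 hx))
    simpa using this
  have hmemL : mask (a • d) ∈ codeList.filter fun m => pc m == 12 && m &&& 31 == 31 := by
    simp [List.mem_filter, mem_codeList hd'.1, hd'.2, hsub]
  have hcomp := List.all_eq_true.1 dodecadCert_complete _ hmemL
  simp only [List.any_eq_true, beq_iff_eq] at hcomp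
  obtain ⟨c, hc, hc'⟩ := hcomp
  have hok := List.all_eq_true.1 dodecadCert_ok c hc
  simp only [beq_iff_eq] at hok
  refine ⟨a⁻¹ * evalWord (trans5.getD c.2.1 [] ++ trans6.getD c.2.2 []),
    M24.mul_mem (M24.inv_mem ha) (evalWord_mem _), ?_⟩
  rw [mul_smul, inv_smul_eq_iff]
  apply mask_injective
  rw [← wordImage_mask, mask_maskSet (by decide +kernel), hok, hc']

theorem dodecads_transitive {d d' : Finset GolayPt} (hd : d ∈ dodecads) (hd' : d' ∈ dodecads) :
    ∃ g ∈ M24, g • d = d' := by
  obtain ⟨a, ha, rfl⟩ := exists_smul_dodecad hd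
  obtain ⟨b, hb, rfl⟩ := exists_smul_dodecad hd'
  exact ⟨b * a⁻¹, M24.mul_mem hb (M24.inv_mem ha), by rw [mul_smul, inv_smul_smul]⟩

theorem baseDodecad_mem : maskSet baseDodecad ∈ dodecads :=
  mem_dodecads_iff.2 (by decide +kernel)

theorem card_stabilizer_point (p : GolayPt) :
    Nat.card (MulAction.stabilizer M24 p) = 10200960 := by
  rw [card_of_mem_iff (K := fixers M24 [p]) (fun g => by
      show g • p = p ↔ _
      simp [mem_fixers, g.2]
      rfl) (fixers_le _ _), card_fixers (by simp) (by simp)]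
  rfl

theorem card_stabilizer_two {p q : GolayPt} (h : p ≠ q) :
    Nat.card ↥(MulAction.stabilizer M24 p ⊓ MulAction.stabilizer M24 q) = 443520 := by
  rw [card_of_mem_iff (K := fixers M24 [p, q]) (fun g => by
      rw [Subgroup.mem_inf]
      show (g • p = p ∧ g • q = q) ↔ _
      simp [mem_fixers, g.2]
      rfl) (fixers_le _ _), card_fixers (by simp [h]) (by simp)]
  rfl

theorem card_stabilizer_dodecad {d : Finset GolayPt} (hd : d ∈ dodecads) :
    Nat.card (MulAction.stabilizer M24 d) = 95040 := by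
  have horb : MulAction.orbit M24 d = dodecads := by
    ext e
    constructor
    · rintro ⟨g, rfl⟩; exact smul_mem_dodecads g.2 hd
    · intro he
      obtain ⟨g, hg, rfl⟩ := dodecads_transitive hd he
      exact ⟨⟨g, hg⟩, rfl⟩
  have h := Subgroup.index_mul_card (MulAction.stabilizer M24 d)
  rw [MulAction.index_stabilizer, horb, dodecads_ncard, card_M24] at h
  omega

end Cfsg.Agent.Golay.Trans
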