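import Cfsg.Agent.Lib.Golay.CodeUnique
import Cfsg.Agent.Lib.Golay.DesignIso
import Cfsg.Agent.Lib.Golay.Trans
import Cfsg.Agent.S0369

/-! Uniqueness of the Steiner system S(5, 8, 24). -/

set_option autoImplicit false

namespace Cfsg.Agent.Golay.SteinerCode

open Cfsg Cfsg.Agent.Golay.Basic Cfsg.Agent.ThreeTransp

/-- No non-empty set of at most seven points meets every block evenly. -/
theorem exists_odd_inter {α : Type*} [Fintype α] [DecidableEq α] {B : Finset (Finset α)}
    (hB : IsSteinerSystem 5 8 (B : Set (Finset α))) (hα : Fintype.card α = 24) (Y : Finset α)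
    (h1 : 1 ≤ Y.card) (h7 : Y.card ≤ 7) : ∃ b ∈ B, ¬ Even (b ∩ Y).card := by
  by_contra hcon
  push Not at hcon
  have h0 : ∀ j, ¬ Even j → {b ∈ B | (b ∩ Y).card = j}.card = 0 := by
    intro j hj
    rw [Finset.card_eq_zero, Finset.filter_eq_empty_iff]
    intro b hb e
    exact hj (e ▸ hcon b hb)
  have m := fun k hk => ThreeTransp.Steiner.moment hB hα Y k hk
  have m1 := m 1 (by omega)
  have m2 := m 2 (by omega)
  have m3 := m 3 (by omega)
  have m4 := m 4 (by omega)
  have m5 := m 5 (by omega)
  have o1 := h0 1 (by decide)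
  have o3 := h0 3 (by decide)
  have o5 := h0 5 (by decide)
  have o7 := h0 7 (by decide)
  generalize Y.card = y at *
  interval_cases y <;>
    simp [Finset.sum_range_succ, o1, o3, o5, o7, Nat.choose, ThreeTransp.Steiner.lam]
      at m1 m2 m3 m4 m5 <;>
    omega

/-- The code of a block system. -/
def blockCode (B : Set (Finset (Fin 24))) : Submodule (ZMod 2) CodeCover.W :=
  Submodule.span (ZMod 2) (CodeCover.word '' B)

theorem inter_even {α : Type*} [Fintype α] [DecidableEq α] {B : Set (Finset α)}
    (hB : IsSteinerSystem 5 8 B) (hα : Fintype.card α = 24) {b c : Finset α} (hb : b ∈ B)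
    (hc : c ∈ B) : Even (b ∩ c).card := by
  have h := Steiner.inter_num_ne_zero hB (by norm_num) hα Steiner.interNums_5824 hb hc
  unfold Steiner.n5824 at h
  split at h <;> simp_all [Nat.even_iff]

theorem hyp {B : Set (Finset (Fin 24))} (hB : IsSteinerSystem 5 8 B) :
    CodeCover.Hyp (blockCode B) := by
  classical
  have horth : blockCode B ≤ Perp.perp (blockCode B) := by
    refine Submodule.span_le.2 ?_
    rintro _ ⟨b, hb, rfl⟩
    rw [SetLike.mem_coe, Perp.mem_perp]
    intro w hw
    induction hw using Submodule.span_induction with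
    | mem x hx =>
      obtain ⟨c, hc, rfl⟩ := hx
      rw [CodeCover.sum_word_mul, ZMod.natCast_eq_zero_iff_even]
      exact inter_even hB (Fintype.card_fin 24) hb hc
    | zero => simp
    | add x y _ _ hx hy => simp [mul_add, Finset.sum_add_distrib, hx, hy]
    | smul a x _ hx => simp [mul_left_comm _ a, ← Finset.mul_sum, hx]
  refine Perp.hyp_of_perp (fun v hv => Perp.mem_perp.1 (horth hv)) fun w hw hne => ?_
  rw [CodeCover.norm_eq]
  by_contra hlt
  have hBf : IsSteinerSystem 5 8 (((Set.toFinite B).toFinset : Set (Finset (Fin 24)))) := by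
    rwa [Set.Finite.coe_toFinset]
  have hpos : (CodeCover.supp w).card ≠ 0 := by
    intro e
    rw [Finset.card_eq_zero] at e
    exact hne (by rw [← CodeCover.word_supp w, e]; funext i; simp [CodeCover.word])
  obtain ⟨b, hb, hodd⟩ := exists_odd_inter hBf (by simp) (CodeCover.supp w) (by omega) (by omega)
  rw [Set.Finite.mem_toFinset] at hb
  have := Perp.mem_perp.1 hw _ (Submodule.subset_span ⟨b, hb, rfl⟩)
  rw [← CodeCover.word_supp w, CodeCover.sum_word_mul, ZMod.natCast_eq_zero_iff_even,
    Finset.inter_comm] at this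
  exact hodd this

theorem octs_eq {B : Set (Finset (Fin 24))} (hB : IsSteinerSystem 5 8 B) :
    CodeCover.octs (blockCode B) = B := by
  have hsub : B ⊆ CodeCover.octs (blockCode B) := fun b hb =>
    CodeCover.mem_octs.2 ⟨Submodule.subset_span ⟨b, hb, rfl⟩, hB.1 b hb⟩
  refine (Set.Subset.antisymm hsub fun o ho => ?_).symm
  have ho8 := (CodeCover.mem_octs.1 ho).2
  obtain ⟨T, hTo, hT⟩ := Finset.exists_subset_card_eq (show 5 ≤ o.card by omega)
  obtain ⟨b, ⟨hb, hTb⟩, -⟩ := hB.2 T hT
  rw [((CodeCover.steiner (hyp hB)).2 T hT).unique ⟨ho, hTo⟩ ⟨hsub hb, hTb⟩]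
  exact hb

theorem octs_iso {C : Submodule (ZMod 2) CodeCover.W} (h : CodeCover.Hyp C) :
    SetSystemIso (CodeCover.octs C) octads := by
  obtain ⟨e, he⟩ := CodeUnique.exists_equiv h
  refine DesignIso.of_mem_iff e fun b => ?_
  rw [CodeCover.mem_octs, mem_octads_iff, Finset.card_image_of_injective _ e.injective,
    ← mem_supports_iff]
  refine and_congr_left fun _ => ?_
  have key : (fun i => word (b.image e) (e i)) = CodeCover.word b := by
    funext i; simp [word, CodeCover.word]
  constructor
  · intro hb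
    exact ⟨word (b.image e), (he _).2 (by rw [key]; exact hb), support₂_word _⟩
  · rintro ⟨w, hw, hws⟩
    have := (he w).1 hw
    rw [← word_support₂ w, hws, key] at this
    exact this

/-- Every S(5, 8, 24) is isomorphic to the octads. -/
theorem iso_octads {α : Type*} [Fintype α] [DecidableEq α] (hα : Fintype.card α = 24)
    {B : Set (Finset α)} (hB : IsSteinerSystem 5 8 B) : SetSystemIso B octads := by
  let ψ : α ≃ Fin 24 := Fintype.equivFinOfCardEq hα
  have h1 : SetSystemIso B ((fun b => b.image ψ) '' B) := ⟨ψ, rfl⟩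
  refine DesignIso.trans h1 ?_
  have hB' := DesignIso.isSteinerSystem h1 hB
  rw [← octs_eq hB']
  exact octs_iso (hyp hB')

theorem aut {α : Type*} [Fintype α] [DecidableEq α] (hα : Fintype.card α = 24)
    {B : Set (Finset α)} (hB : IsSteinerSystem 5 8 B) :
    Nonempty (setSystemAut B ≃* M24) ∧ MulAction.IsMultiplyPretransitive (setSystemAut B) α 5 := by
  obtain ⟨e, he⟩ := iso_octads hα hB
  have h24 := S0369.result
  refine ⟨⟨(DesignIso.autEquiv e he).trans (MulEquiv.subgroupCongr h24.symm)⟩,
    (DesignIso.transfer e he 5 ?_).1⟩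
  exact h24 ▸ M24.isMultiplyPretransitive_five

end Cfsg.Agent.Golay.SteinerCode
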