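import Cfsg.Agent.Lib.Golay.Parity
import Cfsg.Agent.Lib.Golay.SteinerCode

/-!
An S(4, 7, 23) extends to the octad system: `exists_embedding`; its automorphism group is the
stabiliser of a point in M24: `exists_autEquiv`.
-/

set_option autoImplicit false

namespace Cfsg.Agent.Golay.Derived23

open Cfsg Cfsg.Agent.Golay.Basic Cfsg.Agent.ThreeTransp
open scoped Pointwise

variable {α : Type*} [Fintype α] [DecidableEq α]

omit [Fintype α] in
theorem card_insertNone_inter (b : Finset α) (U : Finset (Option α)) :
    (Finset.insertNone b ∩ U).card =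
      (b ∩ Finset.eraseNone U).card + if none ∈ U then 1 else 0 := by
  have e : Finset.eraseNone (Finset.insertNone b ∩ U) = b ∩ Finset.eraseNone U := by
    ext x; simp
  have hc : (b ∩ Finset.eraseNone U).card = ((Finset.insertNone b ∩ U).erase none).card := by
    rw [← e, ← Finset.card_image_of_injective _ (Option.some_injective α),
      Finset.image_some_eraseNone]
  split_ifs with h
  · have h1 : none ∈ Finset.insertNone b ∩ U := by simp [h]
    rw [hc, Finset.card_erase_add_one h1]
  · have h1 : none ∉ Finset.insertNone b ∩ U := by simp [h]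
    rw [hc, Finset.erase_eq_of_notMem h1, add_zero]

theorem card_eraseNone_add (U : Finset (Option α)) :
    U.card = (Finset.eraseNone U).card + if none ∈ U then 1 else 0 := by
  have h := card_insertNone_inter (Finset.univ : Finset α) U
  have hu : Finset.insertNone (Finset.univ : Finset α) = Finset.univ := by
    ext x; cases x <;> simp
  rwa [hu, Finset.univ_inter, Finset.univ_inter] at h

theorem exists_equiv_fin (hα : Fintype.card α = 23) {B : Set (Finset α)}
    (hB : IsSteinerSystem 4 7 B) :
    ∃ (C : Submodule (ZMod 2) CodeCover.W) (ψ : Option α ≃ Fin 24), CodeCover.Hyp C ∧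
      ∀ b : Finset α, b ∈ B ↔ (Finset.insertNone b).image ψ ∈ CodeCover.octs C := by
  classical
  let ψ : Option α ≃ Fin 24 :=
    Fintype.equivFinOfCardEq (by rw [Fintype.card_option, hα])
  let ext' : Finset α → Finset (Fin 24) := fun b => (Finset.insertNone b).image ψ
  let C : Submodule (ZMod 2) CodeCover.W := Submodule.span (ZMod 2) (CodeCover.word '' (ext' '' B))
  have hcard : ∀ b (U : Finset (Fin 24)), (ext' b ∩ U).card =
      (b ∩ Finset.eraseNone (U.image ψ.symm)).card + if none ∈ U.image ψ.symm then 1 else 0 := by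
    intro b U
    rw [← card_insertNone_inter]
    have e : ext' b ∩ U = (Finset.insertNone b ∩ U.image ψ.symm).image ψ := by
      rw [Finset.image_inter _ _ ψ.injective, Finset.image_image]; simp [ext']
    rw [e, Finset.card_image_of_injective _ ψ.injective]
  have hgen : ∀ b ∈ B, ∀ c ∈ B, Even (ext' b ∩ ext' c).card := by
    intro b hb c hc
    have h := Steiner.inter_num_ne_zero hB (by norm_num) hα Steiner.interNums_4723 hb hc
    have e : (ext' b ∩ ext' c).card = (b ∩ c).card + 1 := by
      rw [hcard]
      have : (ext' c).image ψ.symm = Finset.insertNone c := by simp [ext', Finset.image_image]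
      simp [this]
    rw [e]
    generalize (b ∩ c).card = m at h ⊢
    unfold Steiner.n4723 at h
    split at h <;> simp_all [Nat.even_iff]
  have horth : C ≤ Perp.perp C := by
    refine Submodule.span_le.2 ?_
    rintro _ ⟨_, ⟨b, hb, rfl⟩, rfl⟩
    rw [SetLike.mem_coe, Perp.mem_perp]
    intro w hw
    induction hw using Submodule.span_induction with
    | mem x hx =>
      obtain ⟨_, ⟨c, hc, rfl⟩, rfl⟩ := hx
      rw [CodeCover.sum_word_mul, ZMod.natCast_eq_zero_iff_even]
      exact hgen b hb c hc
    | zero => simp
    | add x y _ _ hx hy => simp [mul_add, Finset.sum_add_distrib, hx, hy]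
    | smul a x _ hx => simp [mul_left_comm _ a, ← Finset.mul_sum, hx]
  have hC : CodeCover.Hyp C := by
    refine Perp.hyp_of_perp (fun v hv => Perp.mem_perp.1 (horth hv)) fun w hw hne => ?_
    set U := (CodeCover.supp w).image ψ.symm with hU
    have hUc : U.card = (CodeCover.supp w).card := Finset.card_image_of_injective _ ψ.symm.injective
    rw [CodeCover.norm_eq, ← hUc, card_eraseNone_add]
    refine Parity.weight_4723 hB hα _ _ (by split_ifs <;> omega) ?_ fun b hb => ?_
    · rw [← card_eraseNone_add, hUc]
      rcases Nat.eq_zero_or_pos (CodeCover.supp w).card with e | e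
      · rw [Finset.card_eq_zero] at e
        exact absurd (by rw [← CodeCover.word_supp w, e]; funext i; simp [CodeCover.word]) hne
      · exact e
    · have := Perp.mem_perp.1 hw _ (Submodule.subset_span ⟨_, ⟨b, hb, rfl⟩, rfl⟩)
      rw [← CodeCover.word_supp w, CodeCover.sum_word_mul, ZMod.natCast_eq_zero_iff_even,
        Finset.inter_comm, hcard] at this
      exact this
  have hext8 : ∀ b ∈ B, ext' b ∈ CodeCover.octs C := fun b hb =>
    CodeCover.mem_octs.2 ⟨Submodule.subset_span ⟨_, ⟨b, hb, rfl⟩, rfl⟩, by
      rw [Finset.card_image_of_injective _ ψ.injective, Finset.card_insertNone, hB.1 b hb]⟩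
  refine ⟨C, ψ, hC, fun b => ⟨hext8 b, fun ho => ?_⟩⟩
  have hb7 : b.card = 7 := by
    have := (CodeCover.mem_octs.1 ho).2
    rw [Finset.card_image_of_injective _ ψ.injective, Finset.card_insertNone] at this
    omega
  obtain ⟨T, hTb, hT⟩ := Finset.exists_subset_card_eq (show 4 ≤ b.card by omega)
  obtain ⟨c, hc, hTc⟩ := Steiner.exists_block hB hT
  have heq := ((CodeCover.steiner hC).2 (ext' T) (by
      rw [Finset.card_image_of_injective _ ψ.injective, Finset.card_insertNone, hT])).unique
    ⟨ho, Finset.image_subset_image (Finset.insertNone.monotone hTb)⟩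
    ⟨hext8 c hc, Finset.image_subset_image (Finset.insertNone.monotone hTc)⟩
  rw [Finset.insertNone.injective (Finset.image_injective ψ.injective heq)]
  exact hc

/-- Every S(4, 7, 23) consists of the octads through `pt 0`, that point removed. -/
theorem exists_embedding (hα : Fintype.card α = 23) {B : Set (Finset α)}
    (hB : IsSteinerSystem 4 7 B) :
    ∃ e : Option α ≃ GolayPt, e none = pt 0 ∧
      ∀ b : Finset α, b ∈ B ↔ (Finset.insertNone b).image e ∈ octads := by
  obtain ⟨C, ψ, hC, hiff⟩ := exists_equiv_fin hα hB
  obtain ⟨e₁, he₁⟩ := SteinerCode.octs_iso hC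
  let e₂ : Option α ≃ GolayPt := ψ.trans e₁
  obtain ⟨g, hg, hgp⟩ := M24.exists_map_tuple (n := 1) (by norm_num)
    ⟨fun _ => e₂ none, fun i j _ => Subsingleton.elim i j⟩
    ⟨fun _ => pt 0, fun i j _ => Subsingleton.elim i j⟩
  refine ⟨e₂.trans g, hgp 0, fun b => ?_⟩
  rw [hiff, DesignIso.mem_iff he₁, Finset.image_image]
  have e : (Finset.insertNone b).image (e₂.trans g) = g • (Finset.insertNone b).image e₂ := by
    rw [M24.smul_finset_def, Finset.image_image]; rfl
  rw [e]
  refine ⟨fun h => M24.smul_mem_octads hg h, fun h => ?_⟩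
  have := M24.smul_mem_octads (M24.inv_mem hg) h
  rwa [inv_smul_smul] at this

theorem iso {β : Type*} [Fintype β] [DecidableEq β] (hα : Fintype.card α = 23)
    (hβ : Fintype.card β = 23) {B : Set (Finset α)} {B' : Set (Finset β)}
    (hB : IsSteinerSystem 4 7 B) (hB' : IsSteinerSystem 4 7 B') : SetSystemIso B B' := by
  obtain ⟨e, he, heB⟩ := exists_embedding hα hB
  obtain ⟨e', he', heB'⟩ := exists_embedding hβ hB'
  let E : Option α ≃ Option β := e.trans e'.symm
  have hE : E none = none := by
    simp only [E, Equiv.trans_apply]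
    rw [he, ← he', e'.symm_apply_apply]
  refine DesignIso.of_mem_iff (Equiv.removeNone E) fun b => ?_
  rw [heB, heB']
  have key : ∀ x : Option α, e' (Option.map (Equiv.removeNone E) x) = e x := by
    intro x
    cases x with
    | none => simp [he, he']
    | some a =>
      have h2 : some (Equiv.removeNone E a) = E (some a) := Equiv.removeNone_some E
        (Option.ne_none_iff_exists'.1 fun h => by
          have := E.injective (h.trans hE.symm); simp at this)
      rw [Option.map_some, h2]; simp [E]
  have : (Finset.insertNone (b.image (Equiv.removeNone E))).image e' =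
      (Finset.insertNone b).image e := by
    rw [show Finset.insertNone (b.image (Equiv.removeNone E)) =
      (Finset.insertNone b).image (Option.map (Equiv.removeNone E)) by
        ext x; cases x <;> simp]
    rw [Finset.image_image]
    exact Finset.image_congr fun x _ => key x
  rw [this]

/-! ### Automorphisms -/

/-- Twelve octads through `pt 0` spanning the code. -/
def genOctads : List ℕ :=
  [9347075, 1302533, 11100169, 6053905, 3719203, 6447171, 14254209, 11731203, 6857221, 7767041, 7145475, 13062145]

theorem genOctads_octads : ∀ m ∈ genOctads, m.testBit (ix (pt 0)) = true ∧ m < 2 ^ 24 ∧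
    isCode m = true ∧ pc m = 8 := by decide +kernel

theorem basis_eq_gen : basisMasks =
    ([2048, 2049, 2050, 2052, 2056, 17, 33, 2112, 129, 258, 2560, 1025] : List ℕ).map
      (enc genOctads) := by decide +kernel

theorem mem_M24_of_derived {σ : Equiv.Perm GolayPt}
    (h : ∀ o ∈ octads, pt 0 ∈ o → σ • o ∈ octads) : σ ∈ M24 := by
  refine M24.mem_M24_of_basis fun b hb => ?_
  rw [basis_eq_gen] at hb
  obtain ⟨a, -, rfl⟩ := List.mem_map.1 hb
  refine M24.smul_enc_mem σ _ (fun m hm => ?_) a
  obtain ⟨h0, -, hc, h8⟩ := genOctads_octads m hm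
  have hlt : m < 2 ^ 24 := (genOctads_octads m hm).2.1
  have ho : maskSet m ∈ octads :=
    mem_octads_iff.2 ⟨by rwa [mask_maskSet hlt], by rw [card_maskSet]; exact h8⟩
  exact (h _ ho (mem_maskSet.2 h0)).1

theorem exists_autEquiv (hα : Fintype.card α = 23) {B : Set (Finset α)}
    (hB : IsSteinerSystem 4 7 B) :
    ∃ (Φ : setSystemAut B ≃* Perm.fixers M24 [pt 0]) (e : Option α ≃ GolayPt), e none = pt 0 ∧
      ∀ (g : setSystemAut B) (a : α), (Φ g : Equiv.Perm GolayPt) (e (some a)) = e (some (g • a)) := by
  classical
  obtain ⟨e, he, heB⟩ := exists_embedding hα hB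
  let lift : Equiv.Perm α →* Equiv.Perm GolayPt :=
    { toFun := fun g => e.permCongr (Equiv.optionCongr g)
      map_one' := by ext x; cases h : e.symm x <;> simp [Equiv.permCongr_apply, h] <;>
        simp [← h]
      map_mul' := fun g g' => by
        ext x; cases h : e.symm x <;> simp [Equiv.permCongr_apply, h] }
  have hlift : ∀ (g : Equiv.Perm α) (b : Finset α),
      lift g • (Finset.insertNone b).image e = (Finset.insertNone (g • b)).image e := by
    intro g b
    rw [M24.smul_finset_def, Finset.image_image,
      show g • b = b.image g from rfl,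
      show Finset.insertNone (b.image g) = (Finset.insertNone b).image (Option.map g) by
        ext x; cases x <;> simp,
      Finset.image_image]
    refine Finset.image_congr fun x _ => ?_
    simp [lift, Equiv.permCongr_apply]
  have hoct : ∀ o ∈ octads, pt 0 ∈ o → ∃ b ∈ B, (Finset.insertNone b).image e = o := by
    intro o ho h0
    refine ⟨Finset.eraseNone (o.image e.symm), ?_, ?_⟩
    · rw [heB]
      convert ho using 1
      rw [Finset.insertNone_eraseNone, Finset.insert_eq_self.2, Finset.image_image]
      · simp
      · exact Finset.mem_image.2 ⟨pt 0, h0, by rw [← he, e.symm_apply_apply]⟩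
    · rw [Finset.insertNone_eraseNone, Finset.insert_eq_self.2, Finset.image_image]
      · simp
      · exact Finset.mem_image.2 ⟨pt 0, h0, by rw [← he, e.symm_apply_apply]⟩
  have hfix : ∀ g : Equiv.Perm α, lift g (pt 0) = pt 0 := fun g => by
    simp [lift, Equiv.permCongr_apply, ← he]
  have hmem : ∀ g : Equiv.Perm α, g ∈ setSystemAut B → lift g ∈ Perm.fixers M24 [pt 0] := by
    intro g hg
    refine ⟨mem_M24_of_derived fun o ho h0 => ?_, by simp [hfix]⟩
    obtain ⟨b, hb, rfl⟩ := hoct o ho h0
    rw [hlift, ← heB]
    have hg' : g • B = B := hg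
    rw [← hg']; exact Set.smul_mem_smul_set hb
  let Φ₀ : setSystemAut B →* Perm.fixers M24 [pt 0] :=
    (lift.comp (setSystemAut B).subtype).codRestrict _ fun g => hmem g g.2
  have hinj : Function.Injective Φ₀ := by
    intro g g' h
    apply Subtype.ext
    ext a
    have := congrArg (fun f : Perm.fixers M24 [pt 0] => (f : Equiv.Perm GolayPt) (e (some a))) h
    change e.permCongr (Equiv.optionCongr (g : Equiv.Perm α)) (e (some a)) =
      e.permCongr (Equiv.optionCongr (g' : Equiv.Perm α)) (e (some a)) at this
    simpa [Equiv.permCongr_apply] using this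
  have hsurj : Function.Surjective Φ₀ := by
    rintro ⟨s, hs⟩
    obtain ⟨hsM, hs0⟩ := Perm.mem_fixers.1 hs
    let G : Option α ≃ Option α := e.symm.permCongr s
    have hG : G none = none := by
      simp [G, Equiv.permCongr_apply, he, hs0 (pt 0) (by simp)]
      rw [← he, e.symm_apply_apply]
    have hopt : Equiv.optionCongr (Equiv.removeNone G) = G := by
      refine Equiv.ext fun x => ?_
      cases x with
      | none => simp [hG]
      | some a =>
        rw [Equiv.optionCongr_apply, Option.map_some]
        exact Equiv.removeNone_some G (Option.ne_none_iff_exists'.1 fun h => by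
          have := G.injective (h.trans hG.symm); simp at this)
    have hl : lift (Equiv.removeNone G) = s := by
      show e.permCongr (Equiv.optionCongr (Equiv.removeNone G)) = s
      rw [hopt]; ext x; simp [G, Equiv.permCongr_apply]
    refine ⟨⟨Equiv.removeNone G, ?_⟩, Subtype.ext hl⟩
    show (Equiv.removeNone G : Equiv.Perm α) • B = B
    refine Set.eq_of_subset_of_ncard_le ?_ (by rw [Set.ncard_smul_set]) (Set.toFinite _)
    rintro _ ⟨b, hb, rfl⟩
    show (Equiv.removeNone G : Equiv.Perm α) • b ∈ B
    rw [heB, ← hlift, hl]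
    exact M24.smul_mem_octads hsM ((heB b).1 hb)
  refine ⟨MulEquiv.ofBijective Φ₀ ⟨hinj, hsurj⟩, e, he, fun g a => ?_⟩
  change e.permCongr (Equiv.optionCongr (g : Equiv.Perm α)) (e (some a)) =
    e (some ((g : Equiv.Perm α) a))
  simp [Equiv.permCongr_apply]

theorem four_pretransitive (hα : Fintype.card α = 23) {B : Set (Finset α)}
    (hB : IsSteinerSystem 4 7 B) :
    MulAction.IsMultiplyPretransitive (setSystemAut B) α 4 := by
  obtain ⟨Φ, e, he, hΦ⟩ := exists_autEquiv hα hB
  refine ⟨fun x y => ?_⟩
  let five : (Fin 4 ↪ α) → (Fin 5 ↪ GolayPt) := fun z =>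
    ⟨Fin.cons (e none) (fun i => e (some (z i))), Fin.cons_injective_iff.2
      ⟨by rintro ⟨i, hi⟩; exact Option.some_ne_none _ (e.injective hi),
        fun i j h => z.injective (Option.some_injective _ (e.injective h))⟩⟩
  obtain ⟨g, hg, hgx⟩ := M24.exists_map_tuple (n := 5) le_rfl (five x) (five y)
  have h0 : g (pt 0) = pt 0 := by
    have := hgx 0
    simpa [five, he] using this
  refine ⟨Φ.symm ⟨g, Perm.mem_fixers.2 ⟨hg, by simp [h0]⟩⟩, ?_⟩
  ext i
  have h1 := hgx i.succ
  simp only [five, Function.Embedding.coeFn_mk, Fin.cons_succ] at h1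
  have h2 := hΦ (Φ.symm ⟨g, Perm.mem_fixers.2 ⟨hg, by simp [h0]⟩⟩) (x i)
  rw [MulEquiv.apply_symm_apply] at h2
  exact Option.some_injective _ (e.injective (h2.symm.trans h1))

end Cfsg.Agent.Golay.Derived23
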