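import Cfsg.Agent.Lib.Golay.Trans
import Cfsg.Agent.Lib.Golay.Derived23
import Cfsg.Prelude.Def_Spor_Mathieu
import Cfsg.Prelude.Def_KGroupFacts

/-!
Every automorphism of the Mathieu groups of degree 24 and 23 is inner: the subgroups of index 24,
resp. 23, are the point stabilisers, so an automorphism is conjugation by a permutation normalising
the group, and such a permutation preserves the octads.
-/

set_option autoImplicit false

namespace Cfsg.Agent.Golay.AutBig

open Cfsg Cfsg.Agent.Golay.Basic Cfsg.Agent.Golay.Design Cfsg.Agent.Golay.M24Data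
  Cfsg.Agent.Golay.Perm Cfsg.Agent.Golay.M24 Cfsg.Agent.Golay.Trans
open scoped Pointwise

local notation "pG" => Equiv.Perm GolayPt

theorem M23_eq : Spor.M23 = fixers M24 [none] := by
  ext g
  simp [Spor.M23, mem_fixers, Equiv.Perm.smul_def]

/-! ### Moving points -/

theorem exists_map_injOn {x y : List GolayPt} (hx : x.Nodup) (hy : y.Nodup)
    (hl : x.length = y.length) (h5 : x.length ≤ 5) :
    ∃ g ∈ M24, ∀ (i : ℕ) (h : i < x.length), g x[i] = y[i]'(hl ▸ h) := by
  obtain ⟨g, hg, he⟩ := exists_map_tuple (n := x.length) h5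
    ⟨fun i => x[i], fun i j h => Fin.ext (hx.getElem_inj_iff.1 h)⟩
    ⟨fun i => y[i.1]'(hl ▸ i.2), fun i j h => Fin.ext (hy.getElem_inj_iff.1 h)⟩
  exact ⟨g, hg, fun i h => he ⟨i, h⟩⟩

theorem exists_image {a : GolayPt} {T T' : Finset GolayPt} (hT : a ∉ T) (hT' : a ∉ T')
    (hc : T.card = T'.card) (h4 : T.card ≤ 4) :
    ∃ g ∈ fixers M24 [a], g • T = T' := by
  obtain ⟨g, hg, he⟩ := exists_map_injOn (x := a :: T.toList) (y := a :: T'.toList)
    (List.nodup_cons.2 ⟨by simpa using hT, T.nodup_toList⟩)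
    (List.nodup_cons.2 ⟨by simpa using hT', T'.nodup_toList⟩) (by simp [hc]) (by simp; omega)
  refine ⟨g, ⟨hg, by simpa using he 0 (by simp)⟩, ?_⟩
  refine Finset.eq_of_subset_of_card_le ?_ (by rw [Finset.card_smul_finset, hc])
  intro z hz
  obtain ⟨w, hw, rfl⟩ := Finset.mem_smul_finset.1 hz
  obtain ⟨i, hi, rfl⟩ := List.getElem_of_mem (Finset.mem_toList.2 hw)
  have := he (i + 1) (by simpa using hi)
  simp only [List.getElem_cons_succ] at this
  rw [Equiv.Perm.smul_def, this]
  exact Finset.mem_toList.1 (List.getElem_mem _)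

theorem exists_image24 {T T' : Finset GolayPt} (hc : T.card = T'.card) (h5 : T.card ≤ 5) :
    ∃ g ∈ M24, g • T = T' := by
  obtain ⟨g, hg, he⟩ := exists_map_injOn (x := T.toList) (y := T'.toList)
    T.nodup_toList T'.nodup_toList (by simp [hc]) (by simpa using h5)
  refine ⟨g, hg, Finset.eq_of_subset_of_card_le ?_ (by rw [Finset.card_smul_finset, hc])⟩
  intro z hz
  obtain ⟨w, hw, rfl⟩ := Finset.mem_smul_finset.1 hz
  obtain ⟨i, hi, rfl⟩ := List.getElem_of_mem (Finset.mem_toList.2 hw)
  rw [Equiv.Perm.smul_def, he i hi]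
  exact Finset.mem_toList.1 (List.getElem_mem _)

/-! ### The counting lemma -/

/-- A set invariant under a subgroup of a `t`-homogeneous group. -/
theorem invariant_set {G H : Subgroup pG} (U : Finset GolayPt) (hU : ∀ g ∈ G, g • U = U) (t : ℕ)
    (ht : ∀ T T' : Finset GolayPt, T ⊆ U → T' ⊆ U → T.card = t → T'.card = t → ∃ g ∈ G, g • T = T')
    (hHG : H ≤ G) (S : Finset GolayPt) (hS : S ⊆ U) (hinv : ∀ g ∈ H, g • S = S) :
    ∃ b, b ∣ H.relIndex G ∧ U.card.choose t ∣ b * S.card.choose t := by
  classical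
  let O : Finset (Finset GolayPt) := (Set.toFinite (MulAction.orbit G S)).toFinset
  have hO : ∀ B, B ∈ O ↔ B ∈ MulAction.orbit G S := fun B => Set.Finite.mem_toFinset _
  refine ⟨O.card, ?_, ?_⟩
  · have e : O.card = (MulAction.stabilizer G S).index := by
      rw [MulAction.index_stabilizer, Set.ncard_eq_toFinset_card _ (Set.toFinite _)]
    rw [e, Subgroup.relIndex]
    exact Subgroup.index_dvd_of_le fun x hx => hinv x.1 hx
  have hsub : ∀ B ∈ O, B ⊆ U ∧ B.card = S.card := by
    intro B hB
    obtain ⟨g, rfl⟩ := (hO B).1 hB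
    refine ⟨?_, Finset.card_smul_finset _ _⟩
    show (g : pG) • S ⊆ U
    rw [← hU g g.2]
    exact Finset.smul_finset_subset_smul_finset hS
  rcases (U.powersetCard t).eq_empty_or_nonempty with hemp | ⟨T₀, hT₀⟩
  · have h0 : U.card.choose t = 0 := by rw [← Finset.card_powersetCard, hemp, Finset.card_empty]
    have hlt : U.card < t := Nat.choose_eq_zero_iff.1 h0
    rw [h0, Nat.choose_eq_zero_of_lt (lt_of_le_of_lt (Finset.card_le_card hS) hlt), mul_zero]
  have hconst : ∀ T ∈ U.powersetCard t,
      (O.filter fun B => T ⊆ B).card = (O.filter fun B => T₀ ⊆ B).card := by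
    intro T hT
    rw [Finset.mem_powersetCard] at hT hT₀
    obtain ⟨g, hg, rfl⟩ := ht T₀ T hT₀.1 hT.1 hT₀.2 hT.2
    refine (Finset.card_bij' (fun B _ => g • B) (fun B _ => g⁻¹ • B) ?_ ?_
      (fun B _ => inv_smul_smul g B) (fun B _ => smul_inv_smul g B)).symm
    · intro B hB
      simp only [Finset.mem_filter, hO] at hB ⊢
      refine ⟨?_, Finset.smul_finset_subset_smul_finset hB.2⟩
      obtain ⟨⟨k, hk⟩, rfl⟩ := hB.1
      exact ⟨⟨g * k, G.mul_mem hg hk⟩, mul_smul g k S⟩
    · intro B hB
      simp only [Finset.mem_filter, hO] at hB ⊢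
      refine ⟨?_, ?_⟩
      · obtain ⟨⟨k, hk⟩, rfl⟩ := hB.1
        exact ⟨⟨g⁻¹ * k, G.mul_mem (G.inv_mem hg) hk⟩, mul_smul g⁻¹ k S⟩
      · simpa using Finset.smul_finset_subset_smul_finset (a := g⁻¹) hB.2
  have hdc := Finset.sum_card_bipartiteAbove_eq_sum_card_bipartiteBelow
    (fun (T B : Finset GolayPt) => T ⊆ B) (s := U.powersetCard t) (t := O)
  simp only [Finset.bipartiteAbove, Finset.bipartiteBelow] at hdc
  rw [Finset.sum_congr rfl hconst, Finset.sum_const, smul_eq_mul, Finset.card_powersetCard] at hdc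
  have hB : ∀ B ∈ O, ((U.powersetCard t).filter fun T => T ⊆ B).card = S.card.choose t := by
    intro B hB
    rw [← (hsub B hB).2, ← Finset.card_powersetCard]
    congr 1
    ext T
    simp only [Finset.mem_filter, Finset.mem_powersetCard]
    exact ⟨fun h => ⟨h.2, h.1.2⟩, fun h => ⟨⟨h.1.trans (hsub B hB).1, h.2⟩, h.1⟩⟩
  rw [Finset.sum_congr rfl hB, Finset.sum_const, smul_eq_mul] at hdc
  exact Dvd.intro _ hdc

theorem exists_orbit_set {H : Subgroup pG} (p : GolayPt) :
    ∃ S : Finset GolayPt, p ∈ S ∧ (∀ g ∈ H, g • S = S) ∧ (∀ x ∈ S, ∃ g ∈ H, g p = x) := by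
  classical
  refine ⟨Finset.univ.filter fun x => ∃ g ∈ H, g p = x,
    by simpa using ⟨1, H.one_mem, rfl⟩, fun g hg => ?_, fun x hx => (Finset.mem_filter.1 hx).2⟩
  refine Finset.eq_of_subset_of_card_le ?_ (by rw [Finset.card_smul_finset])
  intro z hz
  obtain ⟨w, hw, rfl⟩ := Finset.mem_smul_finset.1 hz
  obtain ⟨k, hk, rfl⟩ := (Finset.mem_filter.1 hw).2
  exact Finset.mem_filter.2 ⟨Finset.mem_univ _, g * k, H.mul_mem hg hk, rfl⟩

theorem card_M23 (a : GolayPt) : Nat.card (fixers M24 [a]) = 10200960 :=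
  card_fixers (List.nodup_singleton a) (by simp)

theorem card_two {a b : GolayPt} (h : a ≠ b) : Nat.card (fixers M24 [a, b]) = 443520 :=
  card_fixers (by simp [h]) (by simp)

/-! ### No subgroup of order 425040 in the stabiliser of a point -/

theorem totient_eleven : Nat.totient 11 = 10 := by decide

theorem no_order_aux {β : Type} [Fintype β] [DecidableEq β] (hβ : Fintype.card β = 23)
    (K : Subgroup (Equiv.Perm β)) (hK : Nat.card K = 425040)
    (hcyc : ∀ x ∈ K, orderOf x = 11 → x.cycleType = Multiset.replicate 2 11) : False := by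
  haveI : Fact (Nat.Prime 11) := ⟨by norm_num⟩
  obtain ⟨P⟩ : Nonempty (Sylow 11 K) := inferInstance
  have hP : Nat.card (P : Subgroup K) = 11 := by
    rw [P.card_eq_multiplicity, hK,
      show (425040 : ℕ).factorization 11 = 1 from ?_, pow_one]
    rw [Nat.factorization_def _ (by norm_num : Nat.Prime 11),
      show (425040 : ℕ) = 11 * 38640 by norm_num, padicValNat.mul (by norm_num) (by norm_num),
      padicValNat.self (by norm_num), padicValNat.eq_zero_of_not_dvd (by norm_num)]
  haveI : IsCyclic (P : Subgroup K) := isCyclic_of_prime_card hP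
  obtain ⟨⟨x, hxP⟩, hx⟩ := IsCyclic.exists_ofOrder_eq_natCard (α := (P : Subgroup K))
  rw [hP, Subgroup.orderOf_mk] at hx
  have hx' : orderOf (x : Equiv.Perm β) = 11 := by rw [Subgroup.orderOf_coe, hx]
  have hC : Nat.card (Subgroup.centralizer ({(x : Equiv.Perm β)} : Set (Equiv.Perm β))) = 242 := by
    have ht := hcyc x x.2 hx'
    rw [Equiv.Perm.nat_card_centralizer, ht, hβ]
    simp [Nat.factorial]
  let C : Subgroup K := Subgroup.centralizer ((P : Subgroup K) : Set K)
  have hCdvd : Nat.card C ∣ 242 := by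
    have hle : C.map K.subtype ≤ Subgroup.centralizer ({(x : Equiv.Perm β)} : Set (Equiv.Perm β)) := by
      rintro _ ⟨c, hc, rfl⟩
      rw [Subgroup.mem_centralizer_singleton_iff]
      exact congrArg Subtype.val (hc x hxP).symm
    have h := Subgroup.card_dvd_of_le hle
    rwa [hC, Subgroup.card_map_of_injective K.subtype_injective] at h
  let N : Subgroup K := Subgroup.normalizer ((P : Subgroup K) : Set K)
  let f := Subgroup.normalizerMonoidHom (P : Subgroup K)
  have hker : Nat.card f.ker = Nat.card C := by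
    rw [Subgroup.normalizerMonoidHom_ker]
    exact Nat.card_congr (Subgroup.subgroupOfEquivOfLe (Subgroup.centralizer_le_normalizer _)).toEquiv
  have hrange : Nat.card f.range ∣ 10 := by
    have := Subgroup.card_subgroup_dvd_card f.range
    rwa [IsCyclic.card_mulAut, hP, totient_eleven] at this
  have hN : Nat.card N = Nat.card f.ker * Nat.card f.range := by
    rw [← f.ker.card_mul_index, Subgroup.index_ker]
  have hdvd : Nat.card N ∣ 220 := by
    have h1 : Nat.card N ∣ 2420 := by
      rw [hN, hker]; exact (mul_dvd_mul hCdvd hrange)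
    have h2 : Nat.card N ∣ 425040 := hK ▸ Subgroup.card_subgroup_dvd_card N
    exact (show Nat.gcd 2420 425040 = 220 by norm_num) ▸ Nat.dvd_gcd h1 h2
  have hmod : Nat.card (Sylow 11 K) % 11 = 1 := card_sylow_modEq_one 11 K
  have hcard : Nat.card N * Nat.card (Sylow 11 K) = 425040 := by
    rw [Sylow.card_eq_index_normalizer P]
    exact N.card_mul_index.trans hK
  have key : ∀ n ∈ Nat.divisors 220, (425040 / n) % 11 ≠ 1 := by decide
  apply key _ (Nat.mem_divisors.2 ⟨hdvd, by norm_num⟩)
  rwa [← hcard, Nat.mul_div_cancel_left _ Nat.card_pos]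

theorem no_order (a : GolayPt) (H : Subgroup pG) (hH : H ≤ fixers M24 [a]) :
    Nat.card H ≠ 425040 := by
  classical
  intro hc
  let p : GolayPt → Prop := fun x => x ≠ a
  have hp : ∀ g ∈ H, ∀ x, p (g x) ↔ p x := fun g hg x => by
    have e : g a = a := (hH hg).2 a List.mem_cons_self
    exact not_congr ⟨fun h => g.injective (h.trans e.symm), fun h => by rw [h, e]⟩
  let r : H →* Equiv.Perm {x // p x} :=
    { toFun := fun g => Equiv.Perm.subtypePerm (g : pG) (hp g g.2)
      map_one' := Equiv.ext fun _ => rfl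
      map_mul' := fun _ _ => Equiv.ext fun _ => rfl }
  have hr : Function.Injective r := by
    intro g h e
    apply Subtype.ext
    apply Equiv.ext
    intro x
    rcases eq_or_ne x a with rfl | hxa
    · rw [(hH g.2).2 x List.mem_cons_self, (hH h.2).2 x List.mem_cons_self]
    · exact congrArg Subtype.val (Equiv.congr_fun e ⟨x, hxa⟩)
  have hcard : Fintype.card {x // p x} = 23 := by
    rw [Fintype.card_subtype_compl, Fintype.card_subtype_eq]
    decide
  refine no_order_aux hcard r.range ?_ ?_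
  · rw [← hc]; exact Nat.card_congr (MonoidHom.ofInjective hr).toEquiv.symm
  rintro _ ⟨g, rfl⟩ ho
  obtain ⟨k, hk⟩ := Equiv.Perm.cycleType_prime_order (ho ▸ (by norm_num : Nat.Prime 11))
  rw [ho] at hk
  have hsum : (r g).cycleType.sum = (k + 1) * 11 := by rw [hk, Multiset.sum_replicate, smul_eq_mul]
  have hle : (r g).support.card ≤ 23 := (r g).support.card_le_univ.trans_eq hcard
  rw [← Equiv.Perm.sum_cycleType, hsum] at hle
  rcases Nat.lt_or_ge k 1 with hk0 | hk1
  · exfalso
    obtain rfl : k = 0 := by omega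
    have hfix : 5 ≤ ((r g).supportᶜ).card := by
      rw [Finset.card_compl, hcard, ← Equiv.Perm.sum_cycleType, hsum]; norm_num
    obtain ⟨t, hts, ht⟩ := Finset.exists_subset_card_eq hfix
    let l := (t.map ⟨Subtype.val, Subtype.val_injective⟩).toList
    have hl : l.Nodup := Finset.nodup_toList _
    have hlen : l.length = 5 := by simp [l, ht]
    have hg5 : (g : pG) ∈ fixers M24 l := by
      refine ⟨(hH g.2).1, fun x hx => ?_⟩
      obtain ⟨y, hy, rfl⟩ := Finset.mem_map.1 (Finset.mem_toList.1 hx)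
      have := Finset.mem_compl.1 (hts hy)
      rw [Equiv.Perm.notMem_support] at this
      exact congrArg Subtype.val this
    have hd := Subgroup.orderOf_dvd_natCard _ hg5
    rw [card_fixers hl hlen.le, hlen, Subgroup.orderOf_coe,
      ← orderOf_injective r hr g, ho] at hd
    norm_num at hd
  · rw [hk, show k + 1 = 2 by omega]

/-! ### Subgroups of small index fix a point -/

theorem exists_fixed24 (H : Subgroup pG) (hH : H ≤ M24) (hc : Nat.card H = 10200960) :
    ∃ a, H ≤ fixers M24 [a] := by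
  classical
  have hidx : H.relIndex M24 = 24 := by
    have := Subgroup.card_mul_index (H.subgroupOf M24)
    rw [Nat.card_congr (Subgroup.subgroupOfEquivOfLe hH).toEquiv, hc, card_M24] at this
    simp only [Subgroup.relIndex]; omega
  by_contra hno
  push Not at hno
  obtain ⟨S, hpS, hinv, horb⟩ := exists_orbit_set (H := H) (none : GolayPt)
  obtain ⟨b, hb, hdiv⟩ := invariant_set Finset.univ
    (fun g _ => Finset.smul_finset_univ) (min S.card 5)
    (fun T T' _ _ h1 h2 => exists_image24 (h1.trans h2.symm) (by omega)) hH S (Finset.subset_univ _) hinv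
  rw [hidx] at hb
  have key : ∀ k ≤ 24, ∀ b ∈ Nat.divisors 24,
      (24 : ℕ).choose (min k 5) ∣ b * k.choose (min k 5) → k ≤ 1 ∨ 23 ≤ k := by
    decide +kernel
  have hk24 : S.card ≤ 24 := le_trans (Finset.card_le_univ S) (le_of_eq (by decide))
  have hpos : 0 < S.card := Finset.card_pos.2 ⟨_, hpS⟩
  rw [show (Finset.univ : Finset GolayPt).card = 24 by decide] at hdiv
  rcases key _ hk24 b (Nat.mem_divisors.2 ⟨hb, by norm_num⟩) hdiv with hk | hk
  · obtain ⟨x, rfl⟩ := Finset.card_eq_one.1 (le_antisymm hk hpos)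
    obtain rfl := Finset.mem_singleton.1 hpS
    refine hno none fun g hg => ⟨hH hg, fun y hy => ?_⟩
    obtain rfl := List.mem_singleton.1 hy
    have := hinv g hg
    rw [Finset.smul_finset_singleton, Finset.singleton_inj] at this
    exact this
  have horbit : MulAction.orbit H (none : GolayPt) = (S : Set GolayPt) := by
    ext x
    constructor
    · rintro ⟨g, rfl⟩
      show (g : pG) none ∈ S
      rw [← hinv g g.2]
      exact (mem_smul_iff _ _ _).2 hpS
    · intro hx
      obtain ⟨g, hg, rfl⟩ := horb x hx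
      exact ⟨⟨g, hg⟩, rfl⟩
  rcases Nat.eq_or_lt_of_le hk with hk | hk
  · obtain ⟨x, hx⟩ := Finset.card_eq_one.1 (show (Sᶜ).card = 1 by
      rw [Finset.card_compl, ← hk]; decide)
    refine hno x fun g hg => ⟨hH hg, fun y hy => ?_⟩
    obtain rfl := List.mem_singleton.1 hy
    by_contra hne
    have h1 : g y ∈ S := by
      by_contra h2
      exact hne (Finset.mem_singleton.1 (hx ▸ Finset.mem_compl.2 h2))
    rw [← hinv g hg, mem_smul_iff] at h1
    exact Finset.mem_compl.1 (hx ▸ Finset.mem_singleton_self y) h1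
  refine no_order none ((MulAction.stabilizer H (none : GolayPt)).map H.subtype) ?_ ?_
  · rintro _ ⟨g, hg, rfl⟩
    exact ⟨hH g.2, fun y hy => by obtain rfl := List.mem_singleton.1 hy; exact hg⟩
  · rw [Subgroup.card_map_of_injective H.subtype_injective]
    have := Subgroup.index_mul_card (MulAction.stabilizer H (none : GolayPt))
    rw [MulAction.index_stabilizer, horbit, Set.ncard_coe_finset, hc,
      show S.card = 24 by omega] at this
    omega

theorem exists_fixed23 (a : GolayPt) (H : Subgroup pG) (hH : H ≤ fixers M24 [a])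
    (hc : Nat.card H = 443520) : ∃ b, b ≠ a ∧ H ≤ fixers M24 [a, b] := by
  classical
  have hidx : H.relIndex (fixers M24 [a]) = 23 := by
    have := Subgroup.card_mul_index (H.subgroupOf (fixers M24 [a]))
    rw [Nat.card_congr (Subgroup.subgroupOfEquivOfLe hH).toEquiv, hc, card_M23] at this
    simp only [Subgroup.relIndex]; omega
  obtain ⟨c, hca⟩ := exists_ne a
  by_contra hno
  push Not at hno
  obtain ⟨S, hpS, hinv, horb⟩ := exists_orbit_set (H := H) c
  have hfix : ∀ g ∈ fixers M24 [a], g a = a := fun g hg => hg.2 a List.mem_cons_self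
  have hSa : a ∉ S := fun h => by
    obtain ⟨g, hg, e⟩ := horb a h
    exact hca (g.injective (e.trans (hfix g (hH hg)).symm))
  have hU : ∀ g ∈ fixers M24 [a], g • ({a}ᶜ : Finset GolayPt) = {a}ᶜ := by
    intro g hg
    refine Finset.eq_of_subset_of_card_le ?_ (by rw [Finset.card_smul_finset])
    intro z hz
    obtain ⟨w, hw, rfl⟩ := Finset.mem_smul_finset.1 hz
    simp only [Finset.mem_compl, Finset.mem_singleton] at hw ⊢
    exact fun h => hw (g.injective (h.trans (hfix g hg).symm))
  have hsub : ∀ {T : Finset GolayPt}, T ⊆ ({a}ᶜ : Finset GolayPt) → a ∉ T := fun h ha => by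
    simpa using h ha
  obtain ⟨b, hb, hdiv⟩ := invariant_set ({a}ᶜ : Finset GolayPt) hU (min S.card 4)
    (fun T T' hT hT' h1 h2 => exists_image (hsub hT) (hsub hT') (h1.trans h2.symm) (by omega))
    hH S (fun z hz => by simpa using fun (h : z = a) => hSa (h ▸ hz)) hinv
  rw [hidx] at hb
  have h23 : ({a}ᶜ : Finset GolayPt).card = 23 := by
    rw [Finset.card_compl, Finset.card_singleton]; decide
  have key : ∀ k ≤ 23, ∀ b ∈ Nat.divisors 23,
      (23 : ℕ).choose (min k 4) ∣ b * k.choose (min k 4) → k ≤ 1 ∨ 22 ≤ k := by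
    decide +kernel
  have hk23 : S.card ≤ 23 := h23 ▸ Finset.card_le_card (fun z hz => by
    simpa using fun (h : z = a) => hSa (h ▸ hz))
  have hpos : 0 < S.card := Finset.card_pos.2 ⟨_, hpS⟩
  rw [h23] at hdiv
  have horbit : MulAction.orbit H c = (S : Set GolayPt) := by
    ext x
    constructor
    · rintro ⟨g, rfl⟩
      show (g : pG) c ∈ S
      rw [← hinv g g.2]
      exact (mem_smul_iff _ _ _).2 hpS
    · intro hx
      obtain ⟨g, hg, rfl⟩ := horb x hx
      exact ⟨⟨g, hg⟩, rfl⟩
  have hSdvd : S.card ∣ 443520 := by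
    have := Subgroup.index_mul_card (MulAction.stabilizer H c)
    rw [MulAction.index_stabilizer, horbit, Set.ncard_coe_finset, hc] at this
    exact Dvd.intro _ this
  have mem2 : ∀ {d : GolayPt}, (∀ g ∈ H, g d = d) → H ≤ fixers M24 [a, d] := by
    intro d hd g hg
    refine ⟨(hH hg).1, fun y hy => ?_⟩
    rcases List.mem_cons.1 hy with rfl | hy
    · exact hfix g (hH hg)
    · obtain rfl := List.mem_singleton.1 hy; exact hd g hg
  rcases key _ hk23 b (Nat.mem_divisors.2 ⟨hb, by norm_num⟩) hdiv with hk | hk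
  · obtain ⟨x, rfl⟩ := Finset.card_eq_one.1 (le_antisymm hk hpos)
    obtain rfl := Finset.mem_singleton.1 hpS
    refine hno c hca (mem2 fun g hg => ?_)
    have := hinv g hg
    rw [Finset.smul_finset_singleton, Finset.singleton_inj] at this
    exact this
  have hk22 : S.card = 22 := by
    rcases Nat.lt_or_ge S.card 23 with h | h
    · omega
    · rw [show S.card = 23 by omega] at hSdvd; norm_num at hSdvd
  obtain ⟨x, hx⟩ := Finset.card_eq_one.1 (show ((insert a S)ᶜ).card = 1 by
    rw [Finset.card_compl, Finset.card_insert_of_notMem hSa, hk22]; decide)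
  have hxS : x ∉ insert a S := Finset.mem_compl.1 (hx ▸ Finset.mem_singleton_self x)
  refine hno x (fun h => hxS (h ▸ Finset.mem_insert_self _ _)) (mem2 fun g hg => ?_)
  by_contra hne
  have h1 : g x ∈ insert a S := by
    by_contra h2
    exact hne (Finset.mem_singleton.1 (hx ▸ Finset.mem_compl.2 h2))
  rcases Finset.mem_insert.1 h1 with h1 | h1
  · exact hxS (Finset.mem_insert.2 (Or.inl (g.injective (h1.trans (hfix g (hH hg)).symm))))
  · rw [← hinv g hg, mem_smul_iff] at h1
    exact hxS (Finset.mem_insert_of_mem h1)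

/-! ### Automorphisms are conjugations by permutations -/

theorem exists_perm {G : Subgroup pG}
    (hinj : ∀ a b : GolayPt, MulAction.stabilizer G a = MulAction.stabilizer G b → a = b)
    (himg : ∀ (φ : G ≃* G) (a : GolayPt),
      ∃ b : GolayPt, (MulAction.stabilizer G a).map φ.toMonoidHom = MulAction.stabilizer G b)
    (φ : G ≃* G) : ∃ σ : pG, ∀ g : G, σ * g * σ⁻¹ = (φ g : pG) := by
  choose s hs using himg φ
  have hsinj : Function.Injective s := fun a b h => hinj a b <|
    Subgroup.map_injective (f := φ.toMonoidHom) φ.injective (by rw [hs, hs, h])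
  let σ : pG := Equiv.ofBijective s (Finite.injective_iff_bijective.1 hsinj)
  have heq : ∀ (g : G) (a : GolayPt), σ ((g : pG) a) = (φ g : pG) (σ a) := by
    intro g a
    show s (g • a) = φ g • s a
    apply hinj
    rw [← hs, MulAction.stabilizer_smul_eq_stabilizer_map_conj,
      MulAction.stabilizer_smul_eq_stabilizer_map_conj, ← hs, Subgroup.map_map, Subgroup.map_map]
    congr 1
    ext h
    simp
  refine ⟨σ, fun g => Equiv.ext fun x => ?_⟩
  rw [Equiv.Perm.mul_apply, Equiv.Perm.mul_apply, heq, Equiv.Perm.coe_inv, Equiv.apply_symm_apply]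

theorem map_stab_card {G : Subgroup pG} (φ : G ≃* G) (a : GolayPt) :
    Nat.card (((MulAction.stabilizer G a).map φ.toMonoidHom).map G.subtype) =
      Nat.card ((MulAction.stabilizer G a).map G.subtype) := by
  rw [Subgroup.card_map_of_injective G.subtype_injective,
    Subgroup.card_map_of_injective φ.injective,
    Subgroup.card_map_of_injective G.subtype_injective]

/-! ### Normalising permutations preserve the octads -/

theorem base_octad {τ : pG} (hfix : ∀ x ∈ basePre 5, τ x = x)
    (hn : ∀ g ∈ fixers M24 (basePre 5), τ * g * τ⁻¹ ∈ fixers M24 (basePre 5)) :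
    τ • maskSet baseOctad = maskSet baseOctad := by
  classical
  have heq : (fixers M24 (basePre 5)).map (MulAut.conj τ).toMonoidHom = fixers M24 (basePre 5) := by
    refine Subgroup.eq_of_le_of_card_ge ?_
      (Subgroup.card_map_of_injective (MulAut.conj τ).injective).ge
    rintro _ ⟨g, hg, rfl⟩
    exact hn g hg
  refine Finset.eq_of_subset_of_card_le ?_ (by rw [Finset.card_smul_finset])
  intro z hz
  obtain ⟨x, hx, rfl⟩ := Finset.mem_smul_finset.1 hz
  by_contra hout
  have hx5 : x ∈ baseOrbit 5 := by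
    refine Finset.mem_sdiff.2 ⟨hx, fun h => hout ?_⟩
    rw [Equiv.Perm.smul_def, hfix x (List.mem_toFinset.1 h)]; exact hx
  have hsub : baseOrbit 6 ⊆ (baseOrbit 5).image τ := by
    intro t ht
    obtain ⟨g₁, hg₁, e₁⟩ := trans_exists (by norm_num : 6 < 7) (Finset.mem_compl.2 hout :
      τ • x ∈ baseOrbit 6)
    obtain ⟨g₂, hg₂, e₂⟩ := trans_exists (by norm_num : 6 < 7) ht
    have h5 : ∀ {g : pG}, g ∈ fixers genGroup (basePre 6) → g ∈ fixers M24 (basePre 5) :=
      fun h => ⟨genGroup_le h.1, fun y hy => h.2 y (List.mem_cons_of_mem _ hy)⟩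
    have hgm : g₂ * g₁⁻¹ ∈ fixers M24 (basePre 5) :=
      Subgroup.mul_mem _ (h5 hg₂) (Subgroup.inv_mem _ (h5 hg₁))
    rw [← heq] at hgm
    obtain ⟨k, hk, hk'⟩ := hgm
    refine Finset.mem_image.2 ⟨k x, ?_, ?_⟩
    · refine Finset.mem_sdiff.2 ⟨?_, fun h => ?_⟩
      · rw [← baseOctad_fixed hk, mem_smul_iff]; exact hx
      · have := hk.2 _ (List.mem_toFinset.1 h)
        rw [k.injective this] at h
        exact (Finset.mem_sdiff.1 hx5).2 h
    · have hxx : (g₂ * g₁⁻¹) (τ • x) = t := by
        rw [← e₁, Equiv.Perm.mul_apply, Equiv.Perm.inv_eq_iff_eq.2 rfl, e₂]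
      rw [← hk', ] at hxx
      simpa [MulAut.conj_apply] using hxx
  have h := (Finset.card_le_card hsub).trans Finset.card_image_le
  rw [baseOrbit_card 6 (by norm_num), baseOrbit_card 5 (by norm_num)] at h
  norm_num at h

theorem smul_octad {σ : pG} {a : GolayPt} (ha : σ a = a)
    (hn : ∀ g ∈ fixers M24 [a], σ * g * σ⁻¹ ∈ fixers M24 [a]) {o : Finset GolayPt}
    (ho : o ∈ octads) (hao : a ∈ o) : σ • o ∈ octads := by
  classical
  obtain ⟨t, hat, hto, ht⟩ := Finset.exists_subsuperset_card_eq (s := {a}) (t := o) (n := 5)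
    (by simpa using hao) (by simp) (by rw [octad_card ho]; norm_num)
  obtain ⟨a₀, ha₀, hmem⟩ := exists_five (s := t) ht.ge
  have hbp : (basePre 5).toFinset.card = 5 := by decide +kernel
  have hall : ∀ y ∈ t, a₀ y ∈ basePre 5 := by
    have e : (basePre 5).toFinset.image a₀.symm = t := Finset.eq_of_subset_of_card_le
      (fun z hz => by
        obtain ⟨w, hw, rfl⟩ := Finset.mem_image.1 hz
        exact hmem w (List.mem_toFinset.1 hw))
      (by rw [Finset.card_image_of_injective _ a₀.symm.injective, hbp, ht])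
    intro y hy
    rw [← e] at hy
    obtain ⟨w, hw, rfl⟩ := Finset.mem_image.1 hy
    simpa using List.mem_toFinset.1 hw
  obtain ⟨h, hh, he⟩ := exists_map_injOn (x := t.toList.map σ) (y := t.toList)
    (List.Nodup.map σ.injective t.nodup_toList) t.nodup_toList (by simp) (by simp [ht])
  have hτ : ∀ y ∈ t, (h * σ) y = y := by
    intro y hy
    obtain ⟨i, hi, rfl⟩ := List.getElem_of_mem (Finset.mem_toList.2 hy)
    have := he i (by simpa using hi)
    simpa using this
  have hat' : a ∈ t := hat (Finset.mem_singleton_self a)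
  have hha : h a = a := by
    have := hτ a hat'
    rwa [Equiv.Perm.mul_apply, ha] at this
  have hconj : ∀ g ∈ fixers M24 [a], (h * σ) * g * (h * σ)⁻¹ ∈ fixers M24 [a] := by
    intro g hg
    have hm : h ∈ fixers M24 [a] := ⟨hh, by simpa using hha⟩
    have := Subgroup.mul_mem _ (Subgroup.mul_mem _ hm (hn g hg)) (Subgroup.inv_mem _ hm)
    convert this using 1
    group
  have key : (a₀ * (h * σ) * a₀⁻¹) • maskSet baseOctad = maskSet baseOctad := by
    refine base_octad (fun x hx => ?_) (fun g hg => ?_)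
    · show a₀ ((h * σ) (a₀⁻¹ x)) = x
      rw [hτ _ (hmem x hx)]; simp
    · have hk : a₀⁻¹ * g * a₀ ∈ fixers M24 [a] := by
        refine ⟨M24.mul_mem (M24.mul_mem (M24.inv_mem ha₀) hg.1) ha₀, fun y hy => ?_⟩
        obtain rfl := List.mem_singleton.1 hy
        rw [Equiv.Perm.mul_apply, Equiv.Perm.mul_apply, hg.2 _ (hall y hat')]; simp
      have hk' := hconj _ hk
      refine ⟨?_, fun x hx => ?_⟩
      · have := M24.mul_mem (M24.mul_mem ha₀ hk'.1) (M24.inv_mem ha₀)
        convert this using 1
        group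
      · have h1 : (h * σ) (a₀⁻¹ x) = a₀⁻¹ x := hτ _ (hmem x hx)
        have h2 : (a₀ * (h * σ) * a₀⁻¹) x = x := by
          show a₀ ((h * σ) (a₀⁻¹ x)) = x
          rw [h1]; simp
        have h3 : (a₀ * (h * σ) * a₀⁻¹)⁻¹ x = x := Equiv.Perm.inv_eq_iff_eq.2 h2.symm
        rw [Equiv.Perm.mul_apply, Equiv.Perm.mul_apply, h3, hg.2 x hx, h2]
  have hbase : a₀ • o = maskSet baseOctad :=
    octads_eq_of_subset (s := (basePre 5).toFinset) (by decide +kernel) (smul_mem_octads ha₀ ho)
      (mem_octads_iff.2 (by decide +kernel))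
      (fun x hx => by
        have := (mem_smul_iff a₀ o (a₀⁻¹ x)).2 (hto (hmem x (List.mem_toFinset.1 hx)))
        simpa using this)
      (by decide +kernel)
  rw [← hbase, ← mul_smul, inv_mul_cancel_right, mul_smul, smul_left_cancel_iff, mul_smul] at key
  rw [eq_inv_smul_iff.2 key]
  exact smul_mem_octads (M24.inv_mem hh) ho

theorem mem_M24_of_normalize {σ : pG} (a : GolayPt) (ha : σ a = a)
    (hn : ∀ g ∈ fixers M24 [a], σ * g * σ⁻¹ ∈ fixers M24 [a]) : σ ∈ M24 := by
  obtain ⟨h, hh, he⟩ := exists_map_injOn (x := [a]) (y := [pt 0]) (by simp) (by simp) rfl (by simp)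
  have hha : h a = pt 0 := he 0 (by simp)
  suffices h * σ * h⁻¹ ∈ M24 by
    have := M24.mul_mem (M24.mul_mem (M24.inv_mem hh) this) hh
    simpa [mul_assoc] using this
  refine Derived23.mem_M24_of_derived fun o ho h0 => ?_
  rw [mul_smul, mul_smul]
  refine smul_mem_octads hh (smul_octad ha hn (smul_mem_octads (M24.inv_mem hh) ho) ?_)
  rw [← hha] at h0
  have := (mem_smul_iff h⁻¹ o (h a)).2 h0
  simpa using this

/-! ### The outer automorphism groups -/

theorem card_stab_M24 (a : GolayPt) :
    (MulAction.stabilizer M24 a).map M24.subtype = fixers M24 [a] := by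
  ext g
  constructor
  · rintro ⟨⟨x, hx⟩, hb, rfl⟩
    exact ⟨hx, fun y hy => by obtain rfl := List.mem_singleton.1 hy; exact hb⟩
  · intro hg
    exact ⟨⟨g, hg.1⟩, hg.2 a List.mem_cons_self, rfl⟩

theorem exists_third : ∀ u v : GolayPt, ∃ c : GolayPt, c ≠ none ∧ c ≠ u ∧ c ≠ v := by
  decide +kernel

theorem aut_M24 (φ : M24 ≃* M24) : φ ∈ Inn M24 := by
  have hinj : ∀ a b : GolayPt,
      MulAction.stabilizer M24 a = MulAction.stabilizer M24 b → a = b := by
    intro a b hab
    by_contra hne
    obtain ⟨c, -, hca, hcb⟩ := exists_third a b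
    obtain ⟨g, hg, he⟩ := exists_map_injOn (x := [a, b]) (y := [a, c]) (by simp [hne])
      (by simp [Ne.symm hca]) rfl (by simp)
    have hga : (⟨g, hg⟩ : M24) ∈ MulAction.stabilizer M24 a := he 0 (by simp)
    rw [hab] at hga
    exact hcb ((he 1 (by simp)).symm.trans hga)
  have himg : ∀ (ψ : M24 ≃* M24) (a : GolayPt), ∃ b : GolayPt,
      (MulAction.stabilizer M24 a).map ψ.toMonoidHom = MulAction.stabilizer M24 b := by
    intro ψ a
    have hle : ((MulAction.stabilizer M24 a).map ψ.toMonoidHom).map M24.subtype ≤ M24 :=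
      Subgroup.map_subtype_le _
    have hc := (map_stab_card ψ a).trans (by rw [card_stab_M24, card_M23])
    obtain ⟨b, hb⟩ := exists_fixed24 _ hle hc
    refine ⟨b, Subgroup.map_injective M24.subtype_injective ?_⟩
    rw [card_stab_M24]
    exact Subgroup.eq_of_le_of_card_ge hb (by rw [hc, card_M23])
  obtain ⟨σ, hσ⟩ := exists_perm hinj himg φ
  obtain ⟨h, hh, he⟩ := exists_map_injOn (x := [σ none]) (y := [none]) (by simp) (by simp) rfl
    (by simp)
  have h0 : (h * σ) none = none := he 0 (by simp)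
  have hm : h * σ ∈ M24 := by
    refine mem_M24_of_normalize none h0 fun g hg => ⟨?_, fun y hy => ?_⟩
    · have := M24.mul_mem (M24.mul_mem hh (φ ⟨g, hg.1⟩).2) (M24.inv_mem hh)
      rw [← hσ] at this
      convert this using 1
      group
    · obtain rfl := List.mem_singleton.1 hy
      rw [Equiv.Perm.mul_apply, Equiv.Perm.mul_apply, Equiv.Perm.inv_eq_iff_eq.2 h0.symm,
        hg.2 none List.mem_cons_self, h0]
  have hσm : σ ∈ M24 := by simpa [← mul_assoc] using M24.mul_mem (M24.inv_mem hh) hm
  exact ⟨⟨σ, hσm⟩, MulEquiv.ext fun g => Subtype.ext (hσ g)⟩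

theorem stab_M23 (a : GolayPt) :
    (MulAction.stabilizer Spor.M23 a).map Spor.M23.subtype = fixers M24 [none, a] := by
  ext g
  constructor
  · rintro ⟨⟨x, hx⟩, hb, rfl⟩
    rw [M23_eq] at hx
    refine ⟨hx.1, fun y hy => ?_⟩
    rcases List.mem_cons.1 hy with rfl | hy
    · exact hx.2 _ List.mem_cons_self
    · obtain rfl := List.mem_singleton.1 hy; exact hb
  · intro hg
    refine ⟨⟨g, ?_⟩, hg.2 a (by simp), rfl⟩
    rw [M23_eq]
    exact ⟨hg.1, fun y hy => hg.2 y (by simp [List.mem_singleton.1 hy])⟩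

theorem mem_M23_none (g : Spor.M23) : (g : pG) none = none := by
  exact ((SetLike.ext_iff.1 M23_eq (g : pG)).1 g.2).2 none List.mem_cons_self

theorem stab_none : MulAction.stabilizer Spor.M23 (none : GolayPt) = ⊤ :=
  eq_top_iff.2 fun g _ => mem_M23_none g

theorem aut_M23 (φ : Spor.M23 ≃* Spor.M23) : φ ∈ Inn Spor.M23 := by
  have hinj : ∀ a b : GolayPt,
      MulAction.stabilizer Spor.M23 a = MulAction.stabilizer Spor.M23 b → a = b := by
    intro a b hab
    by_contra hne
    have key : ∀ {u v : GolayPt}, u ≠ v → v ≠ none →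
        MulAction.stabilizer Spor.M23 u = MulAction.stabilizer Spor.M23 v → False := by
      intro u v huv hv huv'
      obtain ⟨c, hc0, hcu, hcv⟩ := exists_third u v
      by_cases hu : u = none
      · subst hu
        obtain ⟨g, hg, he⟩ := exists_map_injOn (x := [none, v]) (y := [none, c])
          (by simp [Ne.symm hv]) (by simp [Ne.symm hc0]) rfl (by simp)
        have hgm : g ∈ Spor.M23 := by rw [M23_eq]; exact ⟨hg, by simpa using he 0 (by simp)⟩
        have hga : (⟨g, hgm⟩ : Spor.M23) ∈ MulAction.stabilizer Spor.M23 (none : GolayPt) :=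
          he 0 (by simp)
        rw [huv'] at hga
        exact hcv ((he 1 (by simp)).symm.trans hga)
      · obtain ⟨g, hg, he⟩ := exists_map_injOn (x := [none, u, v]) (y := [none, u, c])
          (by simp [Ne.symm hu, Ne.symm hv, huv]) (by simp [Ne.symm hu, Ne.symm hc0, Ne.symm hcu]) rfl
          (by simp)
        have hgm : g ∈ Spor.M23 := by rw [M23_eq]; exact ⟨hg, by simpa using he 0 (by simp)⟩
        have hga : (⟨g, hgm⟩ : Spor.M23) ∈ MulAction.stabilizer Spor.M23 u := he 1 (by simp)
        rw [huv'] at hga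
        exact hcv ((he 2 (by simp)).symm.trans hga)
    by_cases hb : b = none
    · exact key (Ne.symm hne) (fun h => hne (h.trans hb.symm)) hab.symm
    · exact key hne hb hab
  have himg : ∀ (ψ : Spor.M23 ≃* Spor.M23) (a : GolayPt), ∃ b : GolayPt,
      (MulAction.stabilizer Spor.M23 a).map ψ.toMonoidHom = MulAction.stabilizer Spor.M23 b := by
    intro ψ a
    by_cases ha : a = none
    · subst ha
      exact ⟨none, by rw [stab_none, Subgroup.map_top_of_surjective _ ψ.surjective]⟩
    have hle : ((MulAction.stabilizer Spor.M23 a).map ψ.toMonoidHom).map Spor.M23.subtype ≤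
        fixers M24 [none] := M23_eq ▸ Subgroup.map_subtype_le _
    have hc := (map_stab_card ψ a).trans (by rw [stab_M23, card_two (Ne.symm ha)])
    obtain ⟨b, hb0, hb⟩ := exists_fixed23 none _ hle hc
    refine ⟨b, Subgroup.map_injective Spor.M23.subtype_injective ?_⟩
    rw [stab_M23]
    exact Subgroup.eq_of_le_of_card_ge hb (by rw [hc, card_two (Ne.symm hb0)])
  obtain ⟨σ, hσ⟩ := exists_perm hinj himg φ
  have h0 : σ none = none := by
    by_contra hne
    have hfix : ∀ g : Spor.M23, g ∈ MulAction.stabilizer Spor.M23 (σ none) := by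
      intro g
      obtain ⟨k, rfl⟩ := φ.surjective g
      show (φ k : pG) (σ none) = σ none
      rw [← hσ, Equiv.Perm.mul_apply, Equiv.Perm.mul_apply, Equiv.Perm.inv_eq_iff_eq.2 rfl,
        mem_M23_none]
    exact hne (hinj _ _ ((eq_top_iff.2 fun g _ => hfix g).trans stab_none.symm))
  have hm : σ ∈ M24 := by
    refine mem_M24_of_normalize none h0 fun g hg => ?_
    rw [← M23_eq] at hg ⊢
    have := (φ ⟨g, hg⟩).2
    rwa [← hσ] at this
  have hm3 : σ ∈ Spor.M23 := by rw [M23_eq]; exact ⟨hm, by simpa using h0⟩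
  exact ⟨⟨σ, hm3⟩, MulEquiv.ext fun g => Subtype.ext (hσ g)⟩

end Cfsg.Agent.Golay.AutBig
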