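import Cfsg.Agent.Lib.Golay.Orbit

/-!
The stabiliser of an octad: kernel of order 16 on its eight points, image the alternating group.
-/

set_option autoImplicit false

namespace Cfsg.Agent.Golay.OctadStab

open Cfsg Cfsg.Agent.Golay.Basic Cfsg.Agent.Golay.Design Cfsg.Agent.Golay.Perm Cfsg.Agent.Golay.M24
  Cfsg.Agent.Golay.Trans Cfsg.Agent.Golay.Orbit
open scoped Pointwise

/-- The stabiliser of a set, as permutations. -/
abbrev OK (o : Finset GolayPt) : Subgroup (Equiv.Perm GolayPt) :=
  Cfsg.M24 ⊓ MulAction.stabilizer (Equiv.Perm GolayPt) o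

/-- The pointwise stabiliser of a set, as permutations. -/
abbrev FK (o : Finset GolayPt) : Subgroup (Equiv.Perm GolayPt) :=
  Cfsg.M24 ⊓ fixingSubgroup (Equiv.Perm GolayPt) (o : Set GolayPt)

theorem mem_FK {o : Finset GolayPt} {g : Equiv.Perm GolayPt} :
    g ∈ FK o ↔ g ∈ Cfsg.M24 ∧ ∀ x ∈ o, g x = x := by
  simp [Subgroup.mem_inf, mem_fixingSubgroup_iff]

theorem FK_le_OK (o : Finset GolayPt) : FK o ≤ OK o := fun g hg => by
  rw [mem_FK] at hg
  refine ⟨hg.1, Finset.eq_of_subset_of_card_le (fun y hy => ?_) (by rw [Finset.card_smul_finset])⟩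
  obtain ⟨x, hx, rfl⟩ := Finset.mem_smul_finset.1 hy
  rwa [show g • x = g x from rfl, hg.2 x hx]

theorem card_OK {o : Finset GolayPt} (ho : o ∈ octads) : Nat.card (OK o) = 322560 := by
  have horb : MulAction.orbit Cfsg.M24 o = octads := by
    ext e
    constructor
    · rintro ⟨g, rfl⟩; exact smul_mem_octads g.2 ho
    · intro he
      obtain ⟨g, hg, rfl⟩ := octads_transitive ho he
      exact ⟨⟨g, hg⟩, rfl⟩
  have h := Subgroup.index_mul_card (MulAction.stabilizer Cfsg.M24 o)
  rw [MulAction.index_stabilizer, horb, octads_ncard, card_M24,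
    card_of_mem_iff (K := OK o) (fun g => ⟨fun h => ⟨g.2, h⟩, fun h => h.2⟩) inf_le_left] at h
  omega

theorem FK_o0_eq : FK o0 = fixers Cfsg.M24 (basePre 6) := by
  ext g
  rw [mem_FK, mem_fixers]
  refine ⟨fun h => ⟨h.1, fun x hx => h.2 x ?_⟩, fun h => ⟨h.1, (fix_octad_of_fixers6 h).1⟩⟩
  have hall : ∀ x, x ∈ basePre 6 → x ∈ o0 := by decide +kernel
  exact hall x hx

theorem mem_FK_conj {a : Equiv.Perm GolayPt} (ha : a ∈ Cfsg.M24) {o : Finset GolayPt}
    (g : Equiv.Perm GolayPt) : g ∈ FK o ↔ a * g * a⁻¹ ∈ FK (a • o) := by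
  simp only [mem_FK, smul_finset_def, Finset.forall_mem_image, Equiv.Perm.mul_apply,
    show ∀ x, a⁻¹ (a x) = x from a.symm_apply_apply, a.injective.eq_iff]
  exact and_congr_left fun _ => ⟨fun h => Cfsg.M24.mul_mem (Cfsg.M24.mul_mem ha h) (Cfsg.M24.inv_mem ha),
    fun h => by
      have := Cfsg.M24.mul_mem (Cfsg.M24.mul_mem (Cfsg.M24.inv_mem ha) h) ha
      simpa [mul_assoc] using this⟩

theorem card_FK {o : Finset GolayPt} (ho : o ∈ octads) : Nat.card (FK o) = 16 := by
  obtain ⟨a, ha, (hao : a • o = o0)⟩ := exists_smul_octad ho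
  rw [card_eq_of_conj a (K := FK o0) (fun g => by rw [← hao]; exact mem_FK_conj ha g), FK_o0_eq,
    card_fixers_basePre 6 (by norm_num)]
  rfl

theorem fix_eq_one {o : Finset GolayPt} (ho : o ∈ octads) {p : GolayPt} (hp : p ∉ o)
    {g : Equiv.Perm GolayPt} (hg : g ∈ FK o) (hgp : g p = p) : g = 1 := by
  obtain ⟨a, ha, hao, hap⟩ := normal_octad_notMem ho hp
  have h := (mem_FK_conj ha g).1 hg
  rw [hao, FK_o0_eq] at h
  have h7 : a * g * a⁻¹ ∈ fixers Cfsg.M24 (basePre 7) := by
    refine ⟨h.1, fun x hx => ?_⟩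
    rcases List.mem_cons.1 hx with rfl | hx
    · have hb : base 6 = pt 5 := by decide +kernel
      rw [hb, ← hap]
      simp [hgp]
    · exact h.2 x hx
  rw [fixers_seven, Subgroup.mem_bot, mul_inv_eq_one] at h7
  exact mul_left_cancel (h7.trans (mul_one a).symm)

/-- Restriction to the set. -/
def rho (o : Finset GolayPt) : OK o →* Equiv.Perm ↥o where
  toFun g := (g : Equiv.Perm GolayPt).subtypePerm fun x => by
    have h : (g : Equiv.Perm GolayPt) • o = o := g.2.2
    have hh := mem_smul_iff (g : Equiv.Perm GolayPt) o x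
    simpa only [h] using hh
  map_one' := by ext; rfl
  map_mul' g h := by ext; rfl

theorem card_ker_rho {o : Finset GolayPt} (ho : o ∈ octads) : Nat.card (rho o).ker = 16 := by
  rw [← card_FK ho]
  refine Nat.card_congr
    { toFun := fun g => ⟨g.1.1, mem_FK.2 ⟨g.1.2.1, fun x hx => by
        have := congrArg (fun e : Equiv.Perm ↥o => ((e ⟨x, hx⟩ : ↥o) : GolayPt)) (MonoidHom.mem_ker.1 g.2)
        exact this⟩⟩
      invFun := fun g => ⟨⟨g.1, FK_le_OK o g.2⟩, MonoidHom.mem_ker.2 (Equiv.ext fun x =>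
        Subtype.ext ((mem_FK.1 g.2).2 x.1 x.2))⟩
      left_inv := fun _ => rfl
      right_inv := fun _ => rfl }

theorem range_rho {o : Finset GolayPt} (ho : o ∈ octads) : (rho o).range = alternatingGroup ↥o := by
  have h := Subgroup.card_eq_card_quotient_mul_card_subgroup (rho o).ker
  rw [card_OK ho, card_ker_rho ho,
    Nat.card_congr (QuotientGroup.quotientKerEquivRange (rho o)).toEquiv] at h
  have hc : Nat.card (Equiv.Perm ↥o) = 40320 := by
    rw [Nat.card_perm, Nat.card_eq_fintype_card, Fintype.card_coe, octad_card ho]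
    decide +kernel
  refine Equiv.Perm.eq_alternatingGroup_of_index_eq_two ?_
  have h2 := Subgroup.index_mul_card (rho o).range
  rw [hc] at h2
  have h3 : Nat.card (rho o).range = 20160 := by omega
  rw [h3] at h2
  omega

theorem stab_point_equiv {o : Finset GolayPt} (ho : o ∈ octads) {p : GolayPt} (hp : p ∉ o) :
    Nonempty (↥(OK o ⊓ MulAction.stabilizer (Equiv.Perm GolayPt) p) ≃* alternatingGroup (Fin 8)) ∧
      Nat.card ↥(OK o ⊓ MulAction.stabilizer (Equiv.Perm GolayPt) p) = 20160 := by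
  let S := OK o ⊓ MulAction.stabilizer (Equiv.Perm GolayPt) p
  let f : S →* Equiv.Perm ↥o := (rho o).comp (Subgroup.inclusion inf_le_left)
  have hinj : Function.Injective f := by
    rw [injective_iff_map_eq_one]
    intro g hg
    refine Subtype.ext (fix_eq_one ho hp (mem_FK.2 ⟨g.2.1.1, fun x hx => ?_⟩) g.2.2)
    exact congrArg (fun e : Equiv.Perm ↥o => ((e ⟨x, hx⟩ : ↥o) : GolayPt)) hg
  have hcard : Nat.card S = 20160 := by
    have h := Subgroup.index_mul_card ((S).subgroupOf (OK o))
    have e1 : Nat.card ((S).subgroupOf (OK o)) = Nat.card S :=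
      Nat.card_congr (Subgroup.subgroupOfEquivOfLe inf_le_left).toEquiv
    have e2 : (S.subgroupOf (OK o)) = MulAction.stabilizer (OK o) p := by
      ext g; simp [S, Subgroup.mem_subgroupOf]; rfl
    have horb : MulAction.orbit (OK o) p = ↑oᶜ := by
      ext x
      rw [Finset.mem_coe, Finset.mem_compl]
      constructor
      · rintro ⟨g, rfl⟩ hx
        have hg : (g : Equiv.Perm GolayPt) • o = o := g.2.2
        have hh := mem_smul_iff (g : Equiv.Perm GolayPt) o p
        simp only [hg] at hh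
        exact hp (hh.1 hx)
      · intro hx
        obtain ⟨a, ha, hao, hap⟩ := normal_octad_notMem ho hp
        obtain ⟨b, hb, hbo, hbx⟩ := normal_octad_notMem ho hx
        refine ⟨⟨b⁻¹ * a, Cfsg.M24.mul_mem (Cfsg.M24.inv_mem hb) ha, ?_⟩, ?_⟩
        · show (b⁻¹ * a) • o = o
          rw [mul_smul, hao, ← hbo, inv_smul_smul]
        · show (b⁻¹ * a) p = x
          rw [Equiv.Perm.mul_apply, hap, Equiv.Perm.inv_eq_iff_eq, hbx]
    rw [e1] at h
    rw [e2, MulAction.index_stabilizer, horb, Set.ncard_coe_finset, Finset.card_compl,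
      octad_card ho, show Fintype.card GolayPt = 24 by decide, card_OK ho] at h
    omega
  have hrange : f.range = alternatingGroup ↥o := by
    refine Subgroup.eq_of_le_of_card_ge (fun e he => ?_) ?_
    · obtain ⟨g, rfl⟩ := he
      rw [← range_rho ho]
      exact ⟨_, rfl⟩
    · have hA : Nat.card (alternatingGroup ↥o) = 20160 := by
        haveI : Nontrivial ↥o := Fintype.one_lt_card_iff_nontrivial.1 (by
          rw [Fintype.card_coe, octad_card ho]; norm_num)
        rw [nat_card_alternatingGroup, Nat.card_eq_fintype_card, Fintype.card_coe, octad_card ho]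
        decide +kernel
      rw [hA, ← hcard, Nat.card_congr (MonoidHom.ofInjective hinj).toEquiv]
  refine ⟨⟨((MonoidHom.ofInjective hinj).trans (MulEquiv.subgroupCongr hrange)).trans ?_⟩, hcard⟩
  exact (Fintype.equivOfCardEq (by rw [Fintype.card_coe, octad_card ho, Fintype.card_fin]) :
    ↥o ≃ Fin 8).altCongrHom

end Cfsg.Agent.Golay.OctadStab
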