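import Cfsg.Agent.Lib.Golay.Sextet

/-!
Cosets of the length-24 code, low-weight representatives.
-/

set_option autoImplicit false
set_option maxRecDepth 10000

namespace Cfsg.Agent.Golay.Coset

open Cfsg Cfsg.Agent.Golay.Basic Cfsg.Agent.Golay.Design Cfsg.Agent.Golay.Steiner
  Cfsg.Agent.Golay.Sextet Finset

/-- The high half of a mask's canonical coset representative. -/
def residue (m : ℕ) : ℕ := (m ^^^ enc basisMasks m) >>> 12

/-- All masks with at most `k` bits among the low `n`. -/
def lowWeight : ℕ → ℕ → List ℕ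
  | 0, _ => [0]
  | n + 1, 0 => lowWeight n 0
  | n + 1, k + 1 => lowWeight n (k + 1) ++ (lowWeight n k).map fun x => x ||| 1 <<< n

/-- The residues of the masks of weight at most four, as a bit set. -/
def residueSet : ℕ := (lowWeight 24 4).foldl (fun acc m => acc ||| 1 <<< residue m) 0

theorem residueSet_full : residueSet = 2 ^ 4096 - 1 := by decide +kernel

theorem testBit_foldl : ∀ (L : List ℕ) (f : ℕ → ℕ) (acc j : ℕ),
    (L.foldl (fun a m => a ||| 1 <<< f m) acc).testBit j = true →
    acc.testBit j = true ∨ ∃ m ∈ L, f m = j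
  | [], _, _, _, h => Or.inl h
  | m :: L, f, acc, j, h => by
    rcases testBit_foldl L f _ j (by simpa using h) with h | ⟨m', hm', e⟩
    · rw [Nat.testBit_or, Bool.or_eq_true, Nat.one_shiftLeft, Nat.testBit_two_pow,
        decide_eq_true_eq] at h
      rcases h with h | h
      · exact Or.inl h
      · exact Or.inr ⟨m, List.mem_cons_self, h⟩
    · exact Or.inr ⟨m', List.mem_cons_of_mem _ hm', e⟩

theorem lowWeight_spec : ∀ n ≤ 24, ∀ k, ∀ m ∈ lowWeight n k, m < 2 ^ n ∧ (maskSet m).card ≤ k
  | 0, _, k, m, hm => by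
    rw [List.mem_singleton.1 (by simpa [lowWeight] using hm : m ∈ [0])]
    exact ⟨by norm_num, by rw [show maskSet 0 = ∅ by decide, card_empty]; exact Nat.zero_le _⟩
  | n + 1, hn, 0, m, hm => by
    obtain ⟨h1, h2⟩ := lowWeight_spec n (by omega) 0 m (by simpa [lowWeight] using hm)
    exact ⟨h1.trans_le (Nat.pow_le_pow_right (by norm_num) (by omega)), h2⟩
  | n + 1, hn, k + 1, m, hm => by
    simp only [lowWeight, List.mem_append, List.mem_map] at hm
    rcases hm with hm | ⟨x, hx, rfl⟩
    · obtain ⟨h1, h2⟩ := lowWeight_spec n (by omega) (k + 1) m hm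
      exact ⟨h1.trans_le (Nat.pow_le_pow_right (by norm_num) (by omega)), h2⟩
    · obtain ⟨h1, h2⟩ := lowWeight_spec n (by omega) k x hx
      refine ⟨Nat.or_lt_two_pow (h1.trans_le (Nat.pow_le_pow_right (by norm_num) (by omega))) (by
        rw [Nat.one_shiftLeft]; exact Nat.pow_lt_pow_right (by norm_num) (by omega)), ?_⟩
      have hsub : maskSet (x ||| 1 <<< n) ⊆ insert (pt n) (maskSet x) := by
        intro p hp
        rw [mem_maskSet, Nat.testBit_or, Bool.or_eq_true, Nat.one_shiftLeft, Nat.testBit_two_pow,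
          decide_eq_true_eq] at hp
        rcases hp with h | h
        · exact mem_insert_of_mem (mem_maskSet.2 h)
        · exact mem_insert.2 (Or.inl (by rw [h, pt_ix]))
      exact (card_le_card hsub).trans ((card_insert_le _ _).trans (by omega))

theorem enc_idem (m : ℕ) : enc basisMasks (enc basisMasks m) = enc basisMasks m :=
  mem_spanList_fix (M := basisMasks) (by decide) _ (enc_mem_spanList _ m)

/-- Every word is congruent to one of weight at most four. -/
theorem exists_low (s : Finset GolayPt) :
    ∃ t : Finset GolayPt, t.card ≤ 4 ∧ isCode (mask s ^^^ mask t) = true := by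
  have hres : residue (mask s) < 4096 := by
    have he : ∀ m, enc basisMasks m < 2 ^ 24 := fun m => by
      have : isCode (enc basisMasks m) = true := by simp [isCode, enc_idem]
      exact of_decide_eq_true (forall_code (P := fun x => decide (x < 2 ^ 24)) (by decide +kernel) this)
    rw [residue, Nat.shiftRight_eq_div_pow]
    exact Nat.div_lt_of_lt_mul (Nat.xor_lt_two_pow (mask_lt s) (he _))
  have h : residueSet.testBit (residue (mask s)) = true := by
    rw [residueSet_full, Nat.testBit_two_pow_sub_one]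
    simpa using hres
  rcases testBit_foldl _ _ _ _ h with h | ⟨m, hm, hmr⟩
  · simp at h
  obtain ⟨hlt, hcard⟩ := lowWeight_spec 24 le_rfl 4 m hm
  refine ⟨maskSet m, hcard, ?_⟩
  rw [mask_maskSet hlt]
  have hlow : ∀ x, (x ^^^ enc basisMasks x) % 2 ^ 12 = 0 := by
    intro x
    rw [Nat.xor_mod_two_pow]
    have : ∀ a < 4096, enc basisMasks a % 4096 = a := by
      intro a ha
      have hs : ((List.range 4096).all fun a => enc basisMasks a % 4096 == a) = true := by decide +kernel
      simpa using List.all_eq_true.1 hs a (List.mem_range.2 ha)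
    have h' := this (x % 4096) (Nat.mod_lt _ (by norm_num))
    rw [show 4096 = 2 ^ basisMasks.length by rfl, enc_mod] at h'
    rw [show (2 : ℕ) ^ 12 = 2 ^ basisMasks.length by rfl, h', Nat.xor_self]
  have heq : mask s ^^^ enc basisMasks (mask s) = m ^^^ enc basisMasks m := by
    have e1 := Nat.div_add_mod (mask s ^^^ enc basisMasks (mask s)) (2 ^ 12)
    have e2 := Nat.div_add_mod (m ^^^ enc basisMasks m) (2 ^ 12)
    rw [hlow, ← Nat.shiftRight_eq_div_pow, ← residue] at e1 e2
    rw [hmr] at e2
    omega
  simp only [isCode, beq_iff_eq, enc_xor]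
  have h2 : mask s ^^^ (enc basisMasks (mask s) ^^^ enc basisMasks m) = m := by
    rw [← Nat.xor_assoc, heq, Nat.xor_assoc, Nat.xor_self, Nat.xor_zero]
  conv_rhs => rw [← h2]
  rw [← Nat.xor_assoc, Nat.xor_self, Nat.zero_xor]

theorem eq_or_union_octad {s t : Finset GolayPt} (hs : s.card ≤ 4) (ht : t.card ≤ 4)
    (h : symmDiff s t ∈ supports (golayCode : Set (GolayPt → ZMod 2))) :
    s = t ∨ (s.card = 4 ∧ t.card = 4 ∧ Disjoint s t ∧ s ∪ t ∈ octads) := by
  have hw := weights_supports h
  have he := card_symmDiff_eq s t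
  by_cases h0 : (symmDiff s t).card = 0
  · exact Or.inl (symmDiff_eq_bot.1 (card_eq_zero.1 h0))
  have hd : Disjoint s t := disjoint_iff_inter_eq_empty.2 (card_eq_zero.1 (by omega))
  refine Or.inr ⟨by omega, by omega, hd, ?_⟩
  rw [← sup_eq_union, ← hd.symmDiff_eq_sup]
  exact mem_octads_iff.2 ⟨mem_supports_iff.1 h, by omega⟩

theorem sub_mem_iff (w v : GolayPt → ZMod 2) :
    w - v ∈ golayCode ↔ isCode (mask (support₂ w) ^^^ mask (support₂ v)) = true := by
  have h : w - v = w + v := by
    funext p
    have : ∀ a b : ZMod 2, a - b = a + b := by decide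
    exact this _ _
  rw [h, mem_code_iff, support₂_add, mask_symmDiff]

theorem low_pair {s t u : Finset GolayPt} (ht : t.card ≤ 4) (hu : u.card ≤ 4)
    (h1 : isCode (mask s ^^^ mask t) = true) (h2 : isCode (mask s ^^^ mask u) = true) :
    t = u ∨ (t.card = 4 ∧ u.card = 4 ∧ Disjoint t u ∧ t ∪ u ∈ octads) := by
  refine eq_or_union_octad ht hu (mem_supports_iff.2 ?_)
  rw [mask_symmDiff]
  have := isCode_xor h1 h2
  rwa [Nat.xor_assoc, Nat.xor_left_comm (mask t) (mask s), ← Nat.xor_assoc (mask s) (mask s),
    Nat.xor_self, Nat.zero_xor] at this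

/-- The low-weight words of a coset: one short word, or the sextet of tetrads. -/
theorem low_set (s : Finset GolayPt) :
    (∃ t, t.card ≤ 3 ∧ {u : Finset GolayPt | u.card ≤ 4 ∧ isCode (mask s ^^^ mask u) = true} = {t}) ∨
    ∃ t, t.card = 4 ∧ {u : Finset GolayPt | u.card ≤ 4 ∧ isCode (mask s ^^^ mask u) = true} =
      (sextetOf t : Set (Finset GolayPt)) := by
  obtain ⟨t, ht, htc⟩ := exists_low s
  rcases Nat.lt_or_ge t.card 4 with h | h
  · refine Or.inl ⟨t, by omega, Set.eq_singleton_iff_unique_mem.2 ⟨⟨ht, htc⟩, fun u hu => ?_⟩⟩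
    rcases low_pair hu.1 ht hu.2 htc with e | ⟨-, h4, -, -⟩
    · exact e
    · omega
  · refine Or.inr ⟨t, by omega, Set.ext fun u => ⟨fun hu => ?_, fun hu => ?_⟩⟩
    · rw [mem_coe, mem_sextetOf]
      rcases low_pair ht hu.1 htc hu.2 with e | ⟨-, -, hd, ho⟩
      · exact Or.inl e.symm
      · exact Or.inr ⟨t ∪ u, ho, subset_union_left, union_sdiff_cancel_left hd⟩
    · rw [mem_coe] at hu
      refine ⟨((sextetOf_mem (by omega)).2.1 u hu).le, ?_⟩
      rcases mem_sextetOf.1 hu with rfl | ⟨o, ho, hto, rfl⟩
      · exact htc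
      · have hsd : o \ t = symmDiff o t := by
          rw [symmDiff_def, sdiff_eq_empty_iff_subset.2 hto, sup_eq_union, union_empty]
        rw [hsd, mask_symmDiff, Nat.xor_left_comm]
        exact isCode_xor (mem_octads_iff.1 ho).1 htc

/-- The puncturing map. -/
def puncture (w : GolayPt → ZMod 2) : ZMod 23 → ZMod 2 := fun x => w (some x)

theorem hammingNorm_puncture (w : GolayPt → ZMod 2) :
    hammingNorm (puncture w) = ((support₂ w).erase none).card := by
  rw [hammingNorm]
  apply card_bij (fun x _ => some x)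
  · intro x hx
    have hx' : w (some x) ≠ 0 := (Finset.mem_filter.1 hx).2
    exact mem_erase.2 ⟨by simp, by simp [support₂, hx']⟩
  · intro a _ b _ h
    simpa using h
  · intro p hp
    obtain ⟨hne, hmem⟩ := mem_erase.1 hp
    obtain ⟨x, rfl⟩ := Option.ne_none_iff_exists'.1 hne
    have hm : w (some x) ≠ 0 := mem_support₂.1 hmem
    exact ⟨x, Finset.mem_filter.2 ⟨mem_univ _, hm⟩, rfl⟩

theorem puncture_injOn : Set.InjOn puncture (golayCode : Set (GolayPt → ZMod 2)) := by
  intro v hv w hw h
  have hd : v - w ∈ golayCode := sub_mem hv hw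
  have hsub : support₂ (v - w) ⊆ {none} := by
    intro p hp
    rcases p with _ | x
    · simp
    · simp only [support₂, mem_filter, Pi.sub_apply] at hp
      have := congrFun h x
      simp only [puncture] at this
      rw [this, sub_self] at hp
      exact absurd rfl hp.2
  have h1 := card_le_card hsub
  rw [card_singleton] at h1
  have hw' := weights_supports (s := support₂ (v - w)) ⟨_, hd, rfl⟩
  have h0 : (support₂ (v - w)).card = 0 := by omega
  have := word_support₂ (v - w)
  rw [card_eq_zero.1 h0] at this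
  have hz : word (∅ : Finset GolayPt) = 0 := funext fun p => by simp [word]
  rw [hz] at this
  exact sub_eq_zero.1 this.symm

end Cfsg.Agent.Golay.Coset
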