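import Mathlib

/-!
Search trees for orbits of point, octad and dodecad stabilisers of `M24`.  Produced outside Lean;
re-checked where they are used.
-/

set_option autoImplicit false
set_option maxRecDepth 10000

namespace Cfsg.Agent.Golay.OrbitData

/-- Generators for `octPt`. -/
def octPtTabs : List ℕ :=
  [962345288781984720483039055591911488,
   928911089417022522371351935564623936]

/-- Search trees for `octPt`. -/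
def octPtCert : List (ℕ × List (ℕ × ℕ)) :=
  [(5279, []),
   (15777, [(0, 0), (0, 0), (0, 0), (0, 0), (0, 0), (0, 0), (0, 1), (2, 1), (0, 1), (3, 1), (0, 0), (3, 1), (0, 0), (0, 0), (0, 1), (3, 1), (0, 0), (0, 0), (0, 0), (0, 1), (4, 1), (0, 1), (0, 0), (0, 0), (7, 1), (0, 0), (0, 0), (0, 0), (0, 0), (1, 1), (0, 0), (3, 1), (0, 0), (1, 1), (4, 1), (0, 1), (4, 1), (0, 0), (0, 0), (0, 1), (0, 0), (0, 0), (0, 1), (2, 1), (0, 1), (3, 1), (0, 0), (0, 0), (0, 0), (2, 1), (0, 1), (3, 1), (4, 1), (0, 0), (0, 1), (0, 0), (0, 0), (1, 1), (4, 1), (0, 0), (0, 0), (1, 1), (2, 1), (0, 1), (0, 0), (0, 0), (7, 1), (0, 0), (0, 0), (0, 0), (0, 0), (0, 1), (4, 1), (0, 0), (0, 1), (4, 1), (0, 0), (1, 1), (0, 0), (6, 1), (0, 0), (0, 0), (0, 0), (0, 0), (0, 0), (0, 0), (1, 1), (4, 1), (0, 0), (1, 1), (0, 1), (0, 1), (5, 1),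 (0, 0), (0, 0), (0, 0), (0, 0), (2, 1), (0, 0), (4, 1), (0, 0), (0, 0), (0, 0), (0, 0), (1, 1), (3, 1), (0, 0), (0, 0), (4, 1), (0, 0), (1, 1), (0, 1), (0, 0), (7, 1), (0, 0), (0, 1), (0, 1), (0, 0), (0, 0), (5, 1), (0, 0), (0, 0), (0, 0), (1, 1), (0, 0), (0, 0), (4, 1), (0, 0), (0, 1), (2, 1), (3, 1), (0, 0), (0, 0), (1, 1), (0, 1), (3, 1), (0, 0), (1, 1), (0, 0)]),
   (52005, [(0, 0), (0, 0), (0, 0), (0, 0), (0, 0), (0, 0), (0, 1), (2, 1), (0, 1), (3, 1), (0, 0), (0, 0), (1, 1), (2, 1), (0, 0), (1, 1), (4, 1), (0, 0), (0, 1), (0, 0), (3, 1), (3, 1), (0, 0), (0, 0), (0, 0), (0, 0), (2, 1), (0, 1), (0, 0), (4, 1), (0, 0), (0, 1), (0, 0), (3, 1), (0, 0), (0, 1), (2, 1), (4, 1), (0, 0), (0, 0), (1, 1), (0, 0), (1, 1), (3, 1), (0, 0), (0, 0), (0, 0), (7, 1), (0, 0), (0, 0), (0, 0), (0, 0), (0, 0), (2, 1),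 (0, 0), (3, 1), (0, 0), (0, 0), (0, 1), (5, 1), (0, 0), (0, 0), (0, 1), (2, 1), (0, 0), (3, 1), (0, 0), (0, 1), (2, 1), (0, 1), (5, 1), (0, 0), (0, 0), (0, 0), (0, 1), (2, 1), (0, 0), (3, 1), (0, 1), (3, 1), (0, 0), (1, 1), (5, 1), (0, 0), (0, 1), (0, 0), (0, 1), (0, 0), (0, 0), (4, 1), (0, 1), (4, 1), (0, 0), (0, 1), (0, 0), (0, 0), (2, 1), (0, 1), (0, 0), (0, 0), (6, 1), (0, 0), (0, 0), (0, 1), (0, 1), (0, 0), (4, 1), (2, 1), (0, 1), (0, 1), (0, 0)])]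

/-- Generators for `octOff`. -/
def octOffTabs : List ℕ :=
  [688451668877753573380347852748763266,
   928911089417022522371351935564623936]

/-- Search trees for `octOff`. -/
def octOffCert : List (ℕ × List (ℕ × ℕ)) :=
  [(5279, []),
   (31554, [(0, 0), (0, 0), (0, 0), (0, 1), (0, 0), (0, 0), (0, 1), (0, 0), (0, 1), (0, 1), (3, 1), (0, 0), (1, 1), (4, 1), (0, 1), (0, 1), (0, 0), (5, 1), (0, 0), (0, 0), (0, 0), (1, 1), (2, 1), (0, 0), (0, 0), (1, 1), (0, 0), (3, 1), (0, 0), (0, 1), (2, 1), (4, 1), (0, 0), (0, 0), (0, 1), (0, 1), (0, 0), (4, 1), (0, 1), (0, 1), (8, 1), (0, 0), (0, 0), (0, 0), (0, 1), (0, 0), (1, 1), (0, 0), (0, 1), (5, 1), (0, 0), (0, 0), (4, 1), (0, 0), (0, 1), (0, 0), (1, 1), (0, 1), (4, 1), (0, 0), (0, 0), (0, 1), (3, 1), (0, 1), (0, 0), (0, 1), (0, 1), (8, 1), (0, 0), (0, 0), (0, 0),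 (1, 1), (0, 0), (0, 1), (0, 1), (3, 1), (0, 0), (4, 1), (0, 0), (0, 0), (1, 1), (0, 0), (0, 1), (2, 1), (0, 0), (1, 1), (0, 1), (7, 1), (0, 0), (0, 0), (0, 1), (0, 1), (0, 1), (0, 0), (5, 1), (0, 0), (1, 1), (3, 1), (0, 0), (0, 0), (0, 1), (2, 1), (0, 0), (3, 1), (0, 0), (0, 1), (2, 1), (0, 0), (0, 0), (1, 1), (9, 1), (0, 0), (0, 0), (0, 0), (0, 1), (0, 0), (0, 0), (2, 1), (0, 1), (0, 0), (1, 1), (0, 1), (6, 1), (0, 0), (0, 1), (0, 0), (1, 1), (0, 0), (0, 0), (2, 1), (4, 1), (0, 1), (0, 0), (0, 1), (0, 0), (3, 1), (5, 1), (0, 0), (0, 0), (0, 0), (0, 1), (2, 1), (0, 1), (3, 1), (0, 0), (0, 0), (0, 0), (0, 1), (3, 1), (2, 1), (0, 0), (0, 1), (5, 1), (0, 0), (0, 0), (0, 0), (0, 1), (0, 1), (4, 1), (0, 1), (0, 1), (4, 1), (0, 1), (0, 0), (0, 1), (2, 1), (6, 1), (0, 0), (0, 1), (0, 0), (0, 0), (0, 1), (0, 0),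 (0, 0), (4, 1), (0, 0), (0, 0), (2, 1), (0, 0), (4, 1), (0, 1), (0, 0), (5, 1), (0, 1), (0, 0), (0, 0), (0, 0), (0, 1), (2, 1), (0, 1), (3, 1), (2, 1), (0, 0), (0, 0), (0, 0), (2, 1), (0, 0), (0, 0), (10, 1), (0, 0), (0, 0), (0, 0), (0, 1), (0, 0), (0, 0), (0, 1), (0, 0), (1, 1), (3, 1), (0, 1), (3, 1), (0, 0), (0, 1), (2, 1), (0, 1), (7, 1), (0, 0), (0, 0), (0, 0), (0, 1), (0, 0), (0, 0), (0, 0), (2, 1), (0, 0), (0, 1), (6, 1), (0, 0), (0, 0), (0, 0), (1, 1), (2, 1), (2, 1), (0, 0), (4, 1), (0, 0), (0, 0), (1, 1), (0, 0), (0, 1), (0, 1), (3, 1), (0, 1), (6, 1), (0, 0), (0, 0), (0, 0), (1, 1), (0, 1), (3, 1), (0, 0), (0, 0), (0, 1), (0, 1), (3, 1), (0, 0), (0, 1), (2, 1), (3, 1), (0, 0), (0, 0), (0, 0), (6, 1), (0, 0), (0, 0), (0, 0), (1, 1), (2, 1), (0, 1), (0, 1), (0, 0), (1, 1), (5, 1), (0, 0), (1,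 1), (0, 0), (0, 0), (0, 1), (2, 1)]),
   (36294, [(0, 0), (0, 0), (0, 0), (0, 1), (0, 0), (0, 0), (0, 1), (0, 0), (0, 1), (5, 1), (0, 0), (1, 1), (0, 1), (0, 0), (0, 1), (0, 0), (3, 1), (0, 0), (0, 1), (8, 1), (0, 0), (0, 0), (0, 0), (0, 1), (0, 1), (3, 1), (0, 0), (0, 1), (2, 1), (0, 0), (1, 1), (4, 1), (0, 0), (0, 0), (0, 0), (0, 1), (3, 1), (0, 0), (0, 1), (0, 1), (5, 1), (0, 0), (1, 1), (0, 0), (1, 1), (0, 0), (1, 1), (6, 1), (0, 0), (0, 0), (0, 0), (0, 1), (0, 1), (0, 0), (4, 1), (0, 0), (0, 0), (4, 1), (0, 1), (0, 1), (0, 1), (5, 1), (0, 0), (0, 0), (0, 0), (1, 1), (0, 1), (3, 1), (0, 0), (1, 1), (0, 1), (4, 1), (0, 0), (0, 1), (0, 0), (3, 1), (6, 1), (0, 0), (0, 0), (0, 0), (0, 1), (0, 0), (0, 0), (0, 1), (2, 1), (0, 0), (3, 1), (0, 1), (0, 0), (5, 1), (0, 0), (1, 1), (0, 1), (0, 1), (0, 1), (6,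 1), (0, 0), (0, 0), (0, 0), (1, 1), (0, 0), (3, 1), (0, 0), (0, 1), (0, 0), (1, 1), (3, 1), (0, 0), (0, 1), (5, 1), (0, 0), (0, 0), (0, 0), (0, 1), (2, 1), (0, 1), (3, 1), (0, 1), (3, 1), (0, 0), (0, 0), (1, 1), (0, 0), (1, 1), (7, 1), (0, 0), (0, 0), (0, 0), (1, 1), (2, 1), (0, 0), (0, 0), (1, 1), (0, 1), (3, 1), (0, 0), (0, 0), (2, 1), (4, 1), (0, 1), (0, 1), (0, 0), (1, 1), (0, 0), (0, 0), (9, 1), (0, 0), (0, 0), (0, 0), (0, 1), (0, 0), (0, 0), (2, 1), (0, 1), (0, 1), (0, 1), (6, 1), (0, 0), (0, 0), (0, 1), (0, 0), (3, 1), (0, 0), (1, 1), (3, 1), (0, 0), (0, 0), (0, 1), (2, 1), (0, 0), (0, 0), (8, 1), (0, 0), (0, 0), (0, 0), (0, 1), (0, 1), (0, 0), (1, 1), (4, 1), (0, 0), (0, 1), (0, 1), (5, 1), (0, 0), (0, 1), (2, 1), (0, 0), (0, 0), (2, 1), (4, 1), (0, 0), (0, 1), (0, 1), (0, 1), (0, 1), (5, 1), (0,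 0), (0, 1), (0, 1), (3, 1), (0, 0), (0, 1), (0, 0), (3, 1), (0, 0), (0, 0), (0, 0), (2, 1)]),
   (1009728, [(0, 0), (0, 0), (0, 0), (1, 1), (2, 1), (0, 0), (0, 0), (1, 1), (2, 1), (3, 1), (0, 0), (0, 1), (2, 1), (0, 1)])]

/-- Generators for `octTwo`. -/
def octTwoTabs : List ℕ :=
  [754645326779192101628801404597541920,
   276716023604626526540796075264026656,
   843072842571039269294536244506987552]

/-- Search trees for `octTwo`. -/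
def octTwoCert : List (ℕ × List (ℕ × ℕ)) :=
  [(5279, []),
   (18147, [(0, 0), (0, 0), (0, 0), (0, 2), (2, 1), (0, 0), (2, 2), (0, 1), (1, 2), (3, 1), (0, 0), (1, 1), (0, 1), (0, 0), (2, 2), (0, 0), (1, 1), (1, 2), (3, 2), (0, 1), (0, 1), (2, 2), (0, 0), (4, 2), (0, 0), (0, 0), (1, 1), (2, 1), (3, 1), (0, 0), (0, 0), (0, 2), (0, 2), (3, 2), (0, 0), (3, 1), (0, 1), (0, 2), (3, 2), (0, 0), (0, 0), (0, 0), (3, 1), (0, 0), (4, 2), (0, 0), (0, 0), (0, 0), (2, 2), (0, 2), (3, 1), (0, 0), (0, 0), (1, 1), (2, 1), (1, 2), (0, 1), (3, 2), (0, 0)]),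
   (352547, [(0, 0), (0, 0), (0, 0), (0, 1), (1, 2), (2, 1), (2, 1), (0, 1), (0, 1), (4, 1), (0, 0), (0, 0), (2, 1), (0, 0), (2, 2)])]

/-- Generators for `octInOut`. -/
def octInOutTabs : List ℕ :=
  [856022484934522320090380584149389408,
   983389474727683669534519614402337824]

/-- Search trees for `octInOut`. -/
def octInOutCert : List (ℕ × List (ℕ × ℕ)) :=
  [(5279, []),
   (39257, [(0, 0), (0, 1), (0, 0), (0, 0), (0, 0), (0, 1), (0, 0), (0, 0), (2, 1), (0, 0), (0, 0), (5, 1), (0, 0), (0, 0), (0, 0), (0, 1), (3, 1), (0, 0), (3, 1), (0, 0), (0, 1), (0, 0), (6, 1), (0, 0), (0, 0), (0, 0), (0, 1), (0, 0), (3, 1), (0, 0), (1, 1), (3, 1), (2, 1), (0, 0), (0, 0), (0, 0), (2, 1), (2, 1), (0, 0), (5, 1), (0, 0), (0, 0), (0, 0), (0, 1), (3, 1), (0, 0), (1, 1), (0, 0), (1, 1), (4, 1), (0, 0), (0, 0), (6, 1),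 (0, 0), (0, 0), (0, 0), (1, 1), (0, 0), (0, 0), (1, 1), (0, 1), (3, 1), (0, 0), (4, 1), (0, 0), (0, 0), (0, 0), (1, 1), (0, 0), (0, 0), (4, 1), (0, 1), (3, 1), (0, 0), (0, 0), (0, 0), (2, 1), (2, 1), (0, 0), (0, 0), (6, 1), (0, 0), (0, 0), (0, 0), (0, 1), (0, 1), (4, 1), (0, 0), (0, 0), (0, 0), (2, 1), (0, 1), (0, 0), (1, 1), (4, 1), (0, 0), (0, 0), (1, 1), (0, 0), (0, 1), (7, 1), (0, 0), (0, 0), (1, 1)]),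
   (175681, [(0, 1), (0, 0), (0, 0), (0, 0), (0, 1), (0, 0), (0, 0), (0, 0), (1, 1), (2, 1), (0, 1), (3, 1), (0, 0), (0, 0), (1, 1), (2, 1), (4, 1), (0, 0), (0, 0), (1, 1), (0, 0), (1, 1), (0, 1), (4, 1), (0, 0), (0, 1), (0, 0), (1, 1), (0, 0), (7, 1), (0, 0), (0, 0), (0, 0), (0, 1), (2, 1), (0, 0), (3, 1), (0, 1), (0, 0), (0, 0), (2, 1), (0, 0), (5, 1), (0, 0), (0, 0), (0, 0), (3, 1), (4, 1), (0, 0), (0, 0), (0, 0), (0, 1), (0, 0), (4, 1), (0, 0), (0, 1), (0, 1), (0, 0), (4, 1), (0, 1), (0, 0), (0, 1), (6, 1), (0, 0), (0, 0), (1, 1), (0, 1), (0, 0), (1, 1)])]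

/-- Generators for `oct`. -/
def octTabs : List ℕ :=
  [897340970886156779849301814256140679,
   736831548028455431961376082769291492]

/-- Search trees for `oct`. -/
def octCert : List (ℕ × List (ℕ × ℕ)) :=
  [(5279, []),
   (10558, [(0, 0), (0, 0), (0, 0), (0, 1), (0, 0), (0, 0), (0, 0), (0, 1), (0, 0), (0, 1), (2, 1), (0, 1), (4, 1), (0, 1), (0, 0), (0, 1), (2, 1), (0, 0), (5, 1), (0, 0), (0, 0), (0, 1), (3, 1), (0, 0), (0, 1), (2, 1), (0, 0), (0, 0), (1, 1), (6, 1), (0, 0), (0, 0), (0, 0), (0, 1), (2, 1), (0, 0), (1, 1), (3, 1), (0, 0), (0, 1), (0, 1), (3, 1), (3, 1), (0, 0), (0, 0), (0, 0), (1, 1), (2, 1), (0, 0), (3, 1), (0, 0), (0, 0), (1, 1), (2, 1), (0, 0), (7, 1), (0, 0), (0, 0), (0, 0), (1, 1), (0, 0), (1, 1), (0, 0), (0, 0), (2, 1), (0, 1), (0, 1), (6, 1), (0, 0), (0, 1), (2, 1), (0, 1), (0,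 0), (0, 1), (6, 1), (0, 0), (0, 0), (0, 0), (0, 1), (3, 1), (0, 0), (0, 0), (0, 0), (2, 1), (0, 0), (0, 0), (0, 1), (3, 1), (3, 1), (0, 0), (0, 1), (2, 1), (4, 1), (0, 0), (0, 0), (0, 1), (0, 0), (0, 0), (1, 1), (4, 1), (0, 0), (1, 1), (0, 1), (4, 1), (0, 0), (0, 0), (0, 1), (3, 1), (0, 0), (0, 0), (0, 0), (1, 1), (9, 1), (0, 0), (0, 0), (0, 0), (0, 1), (0, 1), (0, 1), (0, 1), (5, 1), (0, 0), (0, 0), (0, 1), (2, 1), (0, 0), (0, 0), (4, 1), (0, 0), (1, 1), (0, 0), (0, 0), (2, 1), (5, 1), (0, 0), (0, 1), (0, 0), (0, 0), (0, 1), (5, 1), (0, 0), (0, 0), (0, 1), (3, 1), (0, 0), (0, 1), (0, 0), (3, 1), (0, 0), (1, 1), (0, 1), (7, 1), (0, 0), (0, 0), (0, 1), (0, 0), (0, 0), (1, 1), (0, 0), (1, 1), (3, 1), (0, 0), (0, 0), (1, 1), (0, 1), (3, 1), (4, 1), (0, 0), (0, 0), (0, 1), (0, 0), (1, 1), (4, 1), (0, 0), (0,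 0), (0, 1), (0, 0), (1, 1), (7, 1), (0, 1), (0, 0), (0, 1), (7, 1), (0, 0), (0, 0), (0, 0), (0, 1), (0, 1), (0, 1), (0, 1), (0, 0), (0, 0), (2, 1), (6, 1), (0, 0), (0, 0), (0, 0), (0, 1), (2, 1), (2, 1), (0, 0), (0, 0), (4, 1), (0, 1), (0, 1), (5, 1), (0, 0), (0, 0), (0, 0), (1, 1), (0, 0), (0, 1), (4, 1), (0, 0), (0, 1), (0, 1), (3, 1), (0, 1), (0, 1), (0, 1), (6, 1), (0, 1), (0, 1), (0, 1), (0, 1), (0, 1), (8, 1), (0, 0), (0, 0), (0, 0), (0, 1), (0, 1), (0, 0), (0, 0), (2, 1), (4, 1), (0, 0), (0, 0), (0, 0), (2, 1), (0, 0), (0, 1), (6, 1), (0, 0), (0, 0), (0, 0), (0, 1), (0, 0), (1, 1), (3, 1), (0, 0), (0, 0), (2, 1), (3, 1), (0, 0), (1, 1), (3, 1), (0, 0), (0, 1), (0, 1), (3, 1), (4, 1), (0, 1), (0, 0), (0, 0), (0, 0), (1, 1), (0, 1), (3, 1), (0, 0), (0, 1), (2, 1), (0, 0), (1, 1), (4, 1), (0, 0), (0,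 0), (0, 1), (3, 1)]),
   (31554, [(0, 0), (0, 0), (0, 0), (0, 1), (0, 0), (0, 0), (0, 0), (0, 1), (0, 0), (0, 0), (2, 1), (0, 0), (4, 1), (0, 0), (0, 0), (0, 1), (2, 1), (2, 1), (0, 0), (0, 1), (0, 1), (3, 1), (0, 0), (5, 1), (0, 0), (0, 0), (0, 0), (1, 1), (0, 1), (3, 1), (0, 0), (0, 0), (2, 1), (0, 0), (1, 1), (6, 1), (0, 0), (0, 0), (0, 0), (0, 1), (3, 1), (0, 0), (0, 0), (0, 1), (2, 1), (4, 1), (0, 0), (0, 1), (0, 0), (1, 1), (3, 1), (0, 0), (0, 0), (1, 1), (0, 1), (0, 1), (4, 1), (0, 1), (7, 1), (0, 0), (0, 0), (0, 0), (0, 1), (2, 1), (0, 0), (0, 0), (0, 0), (0, 1), (3, 1), (2, 1), (3, 1), (0, 0), (0, 0), (0, 1), (3, 1), (0, 0), (0, 0), (0, 0), (2, 1), (0, 1), (0, 1), (4, 1), (0, 0), (0, 0), (0, 1), (0, 1), (4, 1), (0, 0), (0, 1), (2, 1), (0, 1), (7, 1), (0, 0), (0, 1), (0, 0), (0, 0), (0, 0), (0,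 1), (2, 1), (0, 1), (0, 1), (4, 1), (0, 0), (0, 1), (4, 1), (3, 1), (0, 0), (0, 0), (0, 0), (0, 1), (4, 1), (0, 0), (0, 0), (0, 0), (0, 1), (2, 1), (3, 1), (0, 1), (0, 0), (0, 0), (2, 1), (0, 1), (9, 1), (0, 0), (0, 0), (0, 0), (0, 1), (0, 0), (0, 0), (0, 1), (2, 1), (0, 0), (3, 1), (0, 0), (0, 0), (0, 0), (1, 1), (0, 1), (4, 1), (0, 0), (0, 1), (0, 1), (7, 1), (0, 0), (0, 0), (0, 0), (0, 1), (0, 0), (1, 1), (3, 1), (0, 0), (1, 1), (3, 1), (0, 0), (0, 0), (0, 1), (5, 1), (0, 0), (0, 0), (0, 0), (1, 1), (0, 1), (0, 0), (4, 1), (0, 0), (0, 0), (0, 1), (0, 0), (4, 1), (3, 1), (0, 0), (0, 0), (1, 1), (2, 1), (5, 1), (0, 0), (0, 0), (0, 0), (1, 1), (0, 1), (0, 0), (1, 1), (0, 0), (5, 1), (0, 0), (0, 0), (0, 0), (0, 1), (2, 1), (0, 0), (4, 1), (0, 0), (0, 1), (0, 1), (3, 1), (0, 1), (0, 1), (6, 1), (0, 0), (0,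 0), (0, 0), (0, 1), (3, 1), (0, 0), (0, 1), (0, 1), (3, 1), (0, 1), (4, 1), (0, 0), (0, 0), (0, 0), (1, 1), (0, 0), (3, 1), (0, 0), (0, 1), (4, 1), (0, 0), (0, 0), (7, 1), (0, 0), (0, 0), (0, 0), (0, 1), (0, 0), (0, 0), (0, 0), (3, 1), (0, 0), (0, 0), (5, 1), (0, 0), (0, 1), (0, 0), (0, 0), (1, 1), (2, 1), (0, 1), (4, 1), (0, 0), (0, 1), (2, 1), (4, 1), (0, 0), (0, 0), (0, 0), (2, 1), (0, 0), (0, 1), (0, 0), (3, 1), (3, 1), (0, 0), (1, 1), (0, 0), (0, 1), (0, 1), (7, 1), (0, 0), (0, 0), (0, 0), (0, 1), (0, 1), (3, 1), (0, 1), (0, 1), (4, 1), (0, 0), (0, 1), (0, 0), (0, 0), (2, 1), (3, 1), (0, 1), (0, 0), (1, 1), (5, 1), (0, 0), (0, 0), (0, 0), (0, 1), (2, 1), (0, 0), (1, 1), (3, 1), (0, 0), (1, 1), (0, 0), (0, 0), (2, 1), (0, 0), (1, 1), (5, 1), (0, 0), (0, 0), (1, 1), (0, 1), (9, 1), (0, 0), (0, 0), (0,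 0), (0, 1), (0, 0), (0, 1), (0, 0), (0, 0), (0, 1), (5, 1), (0, 0), (0, 1), (0, 1), (6, 1), (0, 0), (0, 0), (0, 0), (0, 1), (0, 0), (3, 1), (0, 0), (0, 1), (0, 0), (1, 1), (5, 1), (0, 0), (1, 1), (0, 1), (4, 1), (0, 0), (0, 0), (0, 0), (0, 1), (2, 1), (2, 1), (0, 0), (0, 1), (0, 1), (3, 1), (6, 1), (0, 0), (0, 1), (0, 0), (0, 0), (0, 0), (0, 1), (0, 0), (3, 1), (0, 1), (4, 1), (0, 0), (0, 1), (0, 0), (0, 1), (4, 1), (0, 0), (0, 1), (2, 1), (5, 1), (0, 0), (0, 0), (0, 0), (0, 1), (2, 1), (0, 0), (1, 1), (0, 1), (4, 1), (0, 0), (0, 0), (1, 1), (0, 1), (0, 0), (4, 1), (6, 1), (0, 0), (0, 0), (0, 0), (0, 1), (0, 0), (0, 0), (0, 1), (2, 1), (2, 1), (0, 0), (0, 1), (2, 1), (4, 1), (0, 0), (0, 0), (0, 0), (2, 1), (2, 1), (0, 0), (0, 0), (5, 1), (0, 0), (0, 0), (0, 0), (1, 1), (0, 0), (0, 1), (0, 0), (3, 1), (0,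 1), (0, 0), (5, 1), (0, 0), (0, 0), (0, 0), (3, 1), (0, 0), (0, 0), (2, 1), (0, 1), (5, 1), (0, 1), (0, 0), (0, 0), (1, 1), (0, 0), (7, 1), (0, 0), (0, 0), (0, 0), (0, 1), (0, 0), (5, 1), (0, 0), (0, 0), (0, 0), (0, 1), (2, 1), (0, 1), (0, 0), (1, 1), (0, 1), (5, 1), (0, 0), (0, 1), (0, 0), (5, 1), (0, 0), (0, 0), (0, 0), (0, 1), (2, 1), (3, 1)]),
   (1009728, [(0, 0), (0, 1), (0, 0), (0, 1), (0, 0), (3, 1), (0, 1), (0, 0), (0, 1), (2, 1), (5, 1), (0, 0), (0, 1), (0, 0), (0, 0), (0, 0), (2, 1), (2, 1), (3, 1), (0, 0), (0, 0), (1, 1), (0, 0), (0, 0), (2, 1), (3, 1), (0, 1), (0, 0), (1, 1)])]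

/-- Generators for `dod`. -/
def dodTabs : List ℕ :=
  [898569601041549738660602372490920038,
   690115848912901721249951400506541321]

/-- Search trees for `dod`. -/
def dodCert : List (ℕ × List (ℕ × ℕ)) :=
  [(28637, [(0, 0), (0, 0), (0, 0), (0, 0), (0, 0), (0, 1), (0, 0), (0, 0), (0, 1), (2, 1), (0, 0), (0, 1), (4, 1), (0, 0), (0, 1), (5, 1), (0, 0), (0, 0), (0, 0), (0, 1), (0, 0), (0, 0), (1, 1), (2, 1), (3, 1), (0, 0), (0, 0), (5, 1), (0, 0), (0, 1), (0, 0), (0, 0), (2, 1), (0, 1), (4, 1), (0, 0), (0, 0), (2, 1), (0, 0), (0, 0), (1, 1), (2, 1), (0, 0), (7, 1), (0, 0), (0, 0), (0, 0), (0, 1), (0, 0), (3, 1), (0, 1), (4, 1), (0, 0), (0, 0), (1, 1), (0, 0), (0, 0), (2, 1), (0, 0), (0, 1), (5, 1), (0, 0), (0, 0), (0, 1), (0, 1), (0, 0), (4, 1), (0, 1), (3, 1), (0, 0), (1, 1), (0, 0), (7, 1), (0, 0),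 (0, 0), (0, 0), (0, 0), (0, 0), (1, 1), (0, 0), (0, 1), (2, 1), (0, 1), (4, 1), (0, 0), (0, 0), (4, 1), (0, 1), (0, 0), (0, 0), (1, 1), (0, 1), (3, 1), (0, 0), (0, 0), (6, 1), (0, 0), (0, 0), (0, 0), (0, 1), (2, 1), (0, 0), (0, 0), (4, 1), (0, 0), (1, 1), (0, 0), (1, 1), (0, 0), (5, 1), (0, 0), (0, 1), (0, 0), (0, 0), (0, 1), (5, 1), (0, 0), (0, 1), (2, 1), (0, 0), (6, 1), (0, 0), (0, 0), (0, 0), (0, 0), (0, 0), (1, 1), (2, 1), (0, 0), (3, 1), (0, 0), (0, 1), (2, 1), (0, 0), (0, 0), (1, 1), (2, 1), (4, 1), (0, 0), (0, 0), (0, 0), (1, 1), (0, 0), (3, 1), (2, 1), (0, 0), (4, 1), (0, 0), (0, 0), (0, 0), (0, 1), (2, 1), (0, 0), (0, 0), (2, 1), (0, 1), (5, 1), (0, 0), (0, 0), (0, 0), (0, 0), (2, 1), (0, 0), (9, 1), (0, 0), (0, 0), (0, 0), (0, 0), (0, 0), (1, 1), (0, 0), (3, 1), (0, 0), (0, 0), (1, 1), (0, 0),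 (0, 1), (4, 1), (0, 0), (0, 0), (0, 0), (2, 1), (0, 0), (3, 1), (0, 0), (5, 1), (0, 0), (0, 0), (1, 1), (0, 0), (0, 0), (1, 1), (0, 1), (5, 1), (0, 1), (0, 0), (0, 1), (6, 1), (0, 0), (0, 0), (0, 0), (0, 0), (2, 1), (0, 0), (0, 1), (2, 1), (3, 1), (0, 0), (0, 0), (2, 1), (0, 0), (0, 1), (5, 1), (0, 0), (0, 0), (0, 0), (1, 1), (2, 1), (0, 1), (0, 0), (0, 0), (5, 1), (0, 1), (0, 0), (0, 1), (0, 1), (3, 1), (6, 1), (0, 0), (0, 0), (0, 0), (0, 0), (0, 0), (0, 1), (2, 1), (0, 0), (3, 1), (0, 0), (0, 1), (0, 0), (5, 1), (0, 0), (1, 1), (0, 1), (0, 0), (0, 0), (6, 1), (0, 0), (1, 1), (0, 1), (0, 0), (0, 1), (2, 1), (0, 0), (1, 1), (0, 0), (10, 1), (0, 0), (0, 0), (0, 0), (0, 0), (0, 1), (0, 0), (0, 0), (1, 1), (4, 1), (0, 0), (0, 0), (0, 0), (2, 1), (0, 1), (0, 0), (1, 1), (0, 1), (5, 1), (0, 0), (0, 0), (0,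 0), (0, 0), (3, 1), (0, 0), (0, 1), (2, 1), (3, 1), (0, 1), (0, 0), (6, 1), (0, 0), (0, 0), (0, 1), (0, 0), (0, 1), (0, 0), (3, 1), (0, 1), (0, 1), (5, 1), (0, 0), (0, 0), (1, 1), (0, 1), (3, 1), (0, 1), (0, 0), (5, 1), (0, 0), (0, 0), (1, 1), (0, 0), (1, 1), (0, 1), (0, 0), (0, 0), (2, 1), (5, 1), (0, 0), (1, 1), (0, 1), (0, 0), (7, 1), (0, 0), (0, 0), (0, 0), (0, 0), (0, 0), (1, 1), (0, 1), (3, 1), (0, 0), (0, 0), (1, 1), (4, 1), (0, 0), (0, 1), (0, 0), (0, 1), (2, 1), (3, 1), (0, 0), (0, 1), (5, 1), (0, 0), (1, 1), (0, 0), (0, 0), (0, 0), (2, 1), (0, 0), (1, 1), (0, 0), (7, 1), (0, 0), (0, 0), (0, 0), (0, 0), (0, 0), (0, 1), (3, 1), (0, 1), (3, 1), (0, 0), (0, 1), (0, 1), (3, 1), (0, 0), (0, 1), (2, 1), (4, 1), (0, 0), (0, 0), (0, 0), (2, 1), (0, 1), (3, 1), (0, 0), (0, 1), (2, 1), (0, 1), (0, 0), (6,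 1), (0, 0), (0, 0), (1, 1), (0, 0), (0, 0), (0, 1), (2, 1), (4, 1), (0, 1), (0, 0), (0, 1), (8, 1), (0, 0), (0, 0), (0, 0), (0, 0), (0, 0), (0, 1), (0, 0), (3, 1), (0, 0), (1, 1), (0, 1), (4, 1), (0, 1), (0, 1), (0, 1), (5, 1), (0, 0), (0, 0), (2, 1), (0, 0), (0, 1), (2, 1), (0, 0), (0, 0), (0, 1), (3, 1), (0, 1), (6, 1), (0, 0), (0, 1), (0, 0), (0, 0), (0, 0), (1, 1), (0, 0), (3, 1), (0, 0), (0, 0), (0, 1), (3, 1), (3, 1), (3, 1), (0, 0), (0, 0), (0, 1), (2, 1), (0, 0), (0, 1), (2, 1), (0, 0), (1, 1), (4, 1), (4, 1), (0, 0), (0, 0), (0, 0), (0, 1), (0, 0), (0, 1), (2, 1), (0, 0), (4, 1), (0, 0), (3, 1), (0, 0), (0, 0), (1, 1), (0, 0), (3, 1), (0, 0), (1, 1), (0, 0), (0, 0), (6, 1), (0, 0), (0, 0), (0, 0), (0, 0), (0, 0), (4, 1), (0, 0), (0, 0), (0, 0), (2, 1), (2, 1), (0, 0), (0, 0), (0, 0), (6, 1), (0,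 0), (0, 0), (0, 0), (0, 0), (1, 1), (0, 0), (3, 1), (0, 1), (3, 1), (0, 1), (0, 0), (1, 1), (0, 0)]),
   (129431, [(0, 0), (0, 0), (0, 0), (0, 0), (0, 0), (0, 1), (0, 0), (0, 0), (0, 0), (0, 0), (0, 1), (0, 1), (4, 1), (0, 0), (0, 0), (1, 1), (2, 1), (0, 1), (0, 0), (5, 1), (0, 0), (0, 0), (0, 0), (0, 0), (2, 1), (2, 1), (0, 0), (1, 1), (3, 1), (0, 0), (0, 0), (0, 1), (2, 1), (0, 0), (3, 1), (0, 0), (1, 1), (0, 1), (0, 0), (7, 1), (0, 0), (0, 0), (0, 0), (2, 1), (0, 0), (1, 1), (0, 0), (7, 1), (0, 0), (0, 0), (0, 0), (0, 0), (0, 1), (0, 1), (0, 0), (4, 1), (0, 0), (0, 0), (2, 1), (3, 1), (0, 0), (0, 0), (0, 0), (0, 0), (0, 0), (4, 1), (0, 1), (3, 1), (3, 1), (0, 0), (0, 1), (0, 0), (0, 0), (0, 0), (1, 1), (2, 1), (0, 1), (3, 1), (0, 1), (4, 1), (0, 0), (0, 1), (0, 0), (0, 1), (2, 1), (6, 1), (0, 0), (0,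 0), (0, 0), (0, 1), (0, 1), (3, 1), (0, 0), (0, 1), (2, 1), (3, 1), (0, 0), (0, 0), (0, 0), (0, 0), (3, 1), (0, 0), (1, 1), (3, 1), (0, 0), (1, 1), (0, 0), (1, 1), (5, 1), (0, 0), (0, 0), (0, 0), (0, 0), (0, 0), (2, 1), (0, 1), (4, 1), (0, 0), (0, 0), (1, 1), (0, 0), (1, 1), (3, 1), (3, 1), (0, 1), (0, 0), (7, 1), (0, 0), (0, 0), (0, 0), (0, 0), (0, 0), (0, 1), (0, 0), (0, 1), (4, 1), (0, 1), (0, 0), (0, 0), (5, 1), (0, 0), (0, 1), (0, 1), (0, 1), (0, 1), (5, 1), (0, 1), (4, 1), (0, 0), (0, 1), (0, 0), (0, 1), (2, 1), (0, 1), (0, 0), (5, 1), (0, 0), (0, 0), (0, 1), (2, 1), (0, 0), (0, 0), (4, 1), (4, 1), (0, 0), (0, 0), (0, 0), (0, 0), (0, 0), (2, 1), (2, 1), (0, 1), (0, 0), (0, 0), (2, 1), (0, 0), (5, 1), (0, 0), (0, 1), (0, 0), (1, 1), (3, 1), (0, 0), (0, 1), (2, 1), (0, 0), (0, 0), (6, 1), (0, 0), (0,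 0), (0, 1), (2, 1), (0, 1), (0, 0), (0, 0), (2, 1), (4, 1), (0, 0), (1, 1), (0, 0), (0, 0), (0, 1), (2, 1), (7, 1), (0, 0), (0, 0), (0, 0), (0, 0), (0, 0), (0, 1), (3, 1), (0, 0), (0, 1), (2, 1), (0, 1), (4, 1), (0, 0), (0, 0), (0, 0), (2, 1), (0, 0), (3, 1), (0, 0), (0, 0), (1, 1), (0, 0), (6, 1), (0, 1), (0, 0), (1, 1), (0, 0), (0, 1), (0, 1), (3, 1), (5, 1), (0, 0), (0, 0), (0, 0), (0, 0), (0, 0), (3, 1), (0, 0), (0, 0), (0, 0), (3, 1), (3, 1), (0, 1), (0, 0), (0, 0), (1, 1), (2, 1), (0, 0), (5, 1), (0, 0), (0, 0), (0, 0), (0, 0), (2, 1), (0, 1), (4, 1), (0, 0), (7, 1), (0, 0), (0, 0), (0, 0), (0, 0), (0, 0), (0, 1), (0, 1), (3, 1), (0, 0), (0, 0), (0, 0), (3, 1), (0, 1), (4, 1), (0, 0), (0, 0), (0, 1), (0, 0), (1, 1), (3, 1), (0, 1), (0, 0), (0, 1), (2, 1), (4, 1), (0, 0), (0, 1), (0, 0), (3, 1), (0,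 0), (0, 1), (2, 1), (0, 1), (6, 1), (0, 0), (0, 0), (0, 0), (0, 0), (0, 1), (2, 1), (0, 1), (3, 1), (2, 1), (0, 0), (0, 0), (0, 0), (0, 1), (2, 1), (0, 0), (0, 0), (4, 1), (0, 1), (3, 1), (0, 0), (0, 0), (2, 1), (0, 0), (0, 1), (0, 0), (7, 1), (0, 0), (0, 0), (0, 1), (0, 0), (0, 0), (2, 1), (0, 0), (1, 1), (8, 1), (0, 0), (0, 0), (0, 0), (0, 0), (0, 0), (2, 1), (0, 0), (0, 0), (1, 1), (0, 1), (5, 1), (0, 0), (0, 0), (0, 1), (2, 1), (0, 0), (3, 1), (0, 0), (0, 0), (1, 1), (2, 1), (0, 0), (0, 1), (6, 1), (0, 0), (0, 1), (0, 0), (1, 1), (0, 0), (0, 1), (5, 1), (0, 0), (0, 1), (0, 0), (3, 1), (0, 0), (0, 0), (0, 0), (3, 1), (0, 0), (1, 1), (0, 0), (7, 1), (0, 0), (0, 0), (0, 0), (0, 0), (0, 0), (1, 1), (0, 1), (3, 1), (0, 0), (0, 1), (4, 1), (0, 1), (0, 1), (0, 0), (0, 1), (6, 1), (0, 0), (0, 0), (2, 1), (3,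 1), (0, 0), (0, 0), (0, 0), (0, 1), (0, 0), (0, 0), (2, 1), (3, 1), (0, 1), (0, 0), (4, 1), (0, 0), (0, 0), (2, 1), (0, 0), (0, 0), (2, 1), (4, 1), (0, 0), (0, 1), (0, 0), (0, 1), (2, 1), (0, 1), (4, 1), (0, 0), (0, 0), (8, 1), (0, 0), (0, 0), (0, 0), (0, 0), (0, 1), (0, 1), (0, 0), (0, 1), (5, 1), (0, 0), (0, 0), (0, 0), (0, 1), (2, 1), (2, 1), (2, 1), (0, 1), (4, 1), (0, 1), (3, 1), (0, 0), (0, 0), (0, 0), (0, 0), (0, 0), (2, 1), (0, 0), (1, 1), (3, 1), (0, 0), (0, 0), (0, 0), (1, 1), (0, 1), (3, 1), (0, 1), (3, 1), (3, 1), (0, 0), (0, 0), (4, 1), (0, 0), (0, 0), (0, 0), (2, 1), (0, 0), (0, 1), (0, 0), (5, 1), (0, 0), (0, 0), (0, 1), (0, 1), (4, 1), (0, 0), (0, 0), (0, 1), (2, 1), (0, 0), (8, 1), (0, 0), (0, 0), (0, 0), (0, 0), (0, 0), (0, 1), (3, 1), (0, 0), (0, 1), (2, 1), (0, 0), (4, 1), (0, 0), (0,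 1), (0, 0), (3, 1), (0, 0), (0, 0), (0, 0), (2, 1), (2, 1), (0, 1), (5, 1), (0, 0), (0, 0), (0, 0), (1, 1), (0, 1), (3, 1), (0, 0), (0, 0), (0, 0), (3, 1), (0, 0), (1, 1), (4, 1), (0, 0), (0, 0), (0, 0), (3, 1), (0, 0), (0, 0), (1, 1), (0, 0), (1, 1), (3, 1), (0, 0), (6, 1), (0, 0), (0, 0), (0, 0), (0, 1), (0, 0), (1, 1), (3, 1), (0, 0), (3, 1), (0, 0), (0, 0), (1, 1), (0, 0), (3, 1), (0, 1), (4, 1), (0, 0), (0, 0), (0, 1), (0, 0), (0, 0), (4, 1), (0, 0), (0, 0), (0, 0), (11, 1), (0, 0), (0, 0), (0, 0), (0, 0), (0, 1), (0, 0), (0, 0), (0, 0), (0, 0), (1, 1), (0, 0), (4, 1), (0, 0), (0, 0), (0, 0), (5, 1), (0, 0), (0, 0), (0, 0), (0, 1), (2, 1), (2, 1), (0, 0), (3, 1), (0, 0), (0, 0), (0, 0), (2, 1), (0, 0), (3, 1), (5, 1), (0, 0), (0, 0), (0, 0), (0, 0), (2, 1), (0, 0), (3, 1), (0, 0), (0, 0), (0, 0),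 (0, 0), (4, 1), (0, 1), (0, 0), (5, 1), (0, 0), (0, 0), (0, 0), (0, 0), (2, 1), (0, 1), (0, 1), (4, 1), (0, 0), (0, 0), (4, 1), (0, 1), (0, 0), (0, 0), (1, 1), (0, 1), (3, 1), (0, 0), (7, 1), (0, 0), (0, 0), (0, 0), (0, 0), (0, 1), (0, 0), (0, 1), (2, 1), (4, 1), (0, 1), (0, 1), (0, 0), (1, 1), (5, 1), (0, 0), (0, 1), (2, 1), (0, 0), (0, 0), (0, 0), (3, 1), (4, 1), (0, 0), (0, 0), (0, 0), (1, 1), (0, 0), (0, 0), (1, 1), (0, 0), (5, 1), (0, 0), (0, 0), (0, 0), (0, 0), (3, 1), (4, 1), (0, 0), (0, 0), (0, 1), (0, 0), (0, 0), (0, 0), (2, 1), (5, 1), (0, 0), (0, 0), (0, 1), (8, 1), (0, 0), (0, 0), (0, 0), (0, 0), (0, 0), (0, 1), (0, 1), (3, 1), (2, 1), (0, 0), (1, 1), (0, 0), (0, 0), (5, 1), (0, 0), (0, 0), (0, 0), (0, 0), (0, 1), (2, 1), (2, 1), (2, 1), (0, 0), (0, 0), (1, 1), (2, 1), (0, 0), (0, 0), (5, 1),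 (0, 0), (1, 1), (0, 0), (0, 1), (2, 1), (0, 0), (0, 0), (2, 1), (6, 1), (0, 1), (0, 0), (0, 0), (0, 0), (2, 1), (0, 0), (3, 1), (0, 0), (0, 0), (0, 1), (0, 1), (3, 1), (2, 1), (0, 0), (0, 0), (0, 0), (2, 1), (7, 1), (0, 0), (0, 0), (0, 0), (0, 0), (0, 0), (1, 1), (0, 1), (3, 1), (0, 0), (1, 1), (0, 0), (0, 1), (2, 1), (4, 1), (0, 0), (0, 0), (0, 1), (3, 1), (3, 1), (0, 0), (0, 0), (0, 0), (0, 0), (0, 0), (2, 1), (0, 1), (0, 0), (4, 1), (0, 1), (0, 1), (4, 1), (0, 0), (0, 0), (4, 1), (0, 0), (0, 0), (2, 1), (0, 0), (1, 1), (0, 0), (0, 1), (7, 1), (0, 0), (0, 0), (0, 0), (0, 0), (1, 1), (2, 1), (2, 1), (2, 1), (0, 0), (0, 0), (0, 0), (0, 0), (1, 1), (3, 1), (0, 0), (0, 0), (2, 1), (0, 0), (4, 1), (0, 0), (0, 0), (0, 0), (1, 1), (2, 1), (0, 1), (9, 1), (0, 0), (0, 0), (0, 0), (0, 0), (0, 0), (0, 1), (0, 0),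 (0, 0), (0, 0), (3, 1), (0, 1), (4, 1), (0, 0), (0, 0), (0, 0), (2, 1), (2, 1), (3, 1), (0, 1), (0, 0), (0, 0), (0, 0), (3, 1), (0, 0), (0, 0), (0, 1), (2, 1), (2, 1), (0, 1), (6, 1), (0, 0), (0, 0), (0, 0), (0, 0), (1, 1), (0, 1), (0, 1), (4, 1), (0, 0), (0, 0), (4, 1), (0, 0), (0, 0), (0, 1), (0, 0), (3, 1), (2, 1), (0, 1), (0, 0), (5, 1), (0, 0), (0, 0), (0, 1), (2, 1), (0, 0), (0, 0), (0, 0), (3, 1), (3, 1), (0, 0), (0, 1), (0, 1), (3, 1), (0, 0), (0, 0), (2, 1), (6, 1), (0, 0), (0, 0), (0, 0), (0, 0), (0, 0), (1, 1), (0, 1), (3, 1), (0, 1), (0, 1), (5, 1), (0, 0), (0, 0), (0, 1), (0, 1), (3, 1), (0, 0), (1, 1), (0, 1), (4, 1), (0, 0), (0, 1), (0, 0), (3, 1), (0, 0), (0, 1), (2, 1), (5, 1), (0, 0), (0, 0), (0, 0), (0, 1), (0, 1), (0, 1), (4, 1), (0, 0), (1, 1), (0, 0), (1, 1), (0, 1), (5, 1), (0, 0),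 (0, 1), (4, 1), (0, 0), (0, 0), (2, 1), (0, 1), (6, 1), (0, 0), (0, 0), (0, 0), (0, 0), (0, 1), (0, 1), (0, 1), (0, 0), (5, 1), (0, 0), (0, 0), (2, 1), (0, 0), (0, 0), (1, 1), (5, 1), (0, 0), (0, 0), (0, 0), (0, 0), (2, 1), (0, 1), (3, 1), (0, 0), (0, 1), (2, 1), (0, 0), (4, 1), (0, 1), (0, 1), (5, 1), (0, 0), (0, 0), (0, 0), (0, 1), (2, 1), (0, 0), (0, 1), (4, 1), (0, 0), (0, 0), (1, 1), (0, 0), (1, 1), (3, 1), (0, 0), (1, 1), (0, 0), (5, 1), (0, 1), (0, 0), (5, 1), (0, 0), (0, 0), (0, 0), (0, 0), (0, 0), (0, 1), (0, 1), (4, 1), (2, 1), (0, 1), (0, 1), (0, 0), (5, 1), (0, 0), (0, 0), (0, 0), (2, 1), (0, 1), (3, 1), (0, 0), (0, 1), (0, 0), (0, 1), (7, 1), (0, 0), (0, 0), (0, 1), (2, 1), (0, 0), (0, 0), (0, 0), (2, 1), (0, 0), (3, 1), (0, 0), (0, 1), (2, 1), (0, 1), (11, 1), (0, 0), (0, 0), (0, 0), (0,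 0), (0, 0), (0, 1), (0, 0), (0, 1), (2, 1), (0, 1), (4, 1), (0, 0), (0, 0), (0, 0), (0, 1), (0, 1), (0, 1), (4, 1), (0, 0), (0, 1), (4, 1), (0, 0), (0, 1), (0, 1), (3, 1), (0, 0), (4, 1), (0, 0), (0, 0), (0, 0), (2, 1), (0, 0), (3, 1), (0, 1), (0, 1), (0, 0), (7, 1), (0, 0), (0, 0), (0, 0), (0, 0), (0, 1), (2, 1), (0, 1), (0, 1), (4, 1), (0, 0), (0, 0), (0, 0), (1, 1), (2, 1), (2, 1), (0, 0), (1, 1), (4, 1), (0, 0), (0, 0), (0, 1), (2, 1), (0, 0), (0, 0), (1, 1), (4, 1), (0, 0), (0, 0), (0, 0), (3, 1), (0, 0), (0, 0), (0, 1), (7, 1), (0, 0), (0, 0), (0, 0), (0, 0), (0, 1), (3, 1), (0, 1), (3, 1), (0, 1), (0, 1), (0, 1), (0, 0), (6, 1), (0, 0), (0, 0), (0, 0), (2, 1), (0, 0), (0, 0), (2, 1), (0, 1), (8, 1), (0, 0), (0, 0), (0, 1), (0, 0), (0, 0), (0, 1), (3, 1), (0, 0), (0, 0), (5, 1), (0, 0), (0, 0), (0,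 0), (0, 1), (3, 1), (0, 1), (0, 1), (0, 1), (5, 1), (0, 1), (0, 0), (0, 0), (0, 1), (2, 1), (6, 1), (0, 0), (0, 0), (0, 0), (0, 0), (0, 1), (2, 1), (0, 1), (3, 1), (0, 0), (0, 0), (0, 0), (1, 1), (0, 0), (1, 1), (3, 1), (0, 0), (0, 0), (2, 1), (0, 0), (6, 1), (2, 1), (0, 0), (1, 1), (0, 0), (0, 0), (0, 1), (3, 1), (0, 0), (0, 0), (8, 1), (0, 0), (0, 0), (0, 0), (0, 0), (0, 0), (0, 1), (0, 0), (3, 1), (0, 0), (0, 0), (0, 0), (3, 1), (0, 0), (1, 1), (4, 1), (0, 0), (0, 1), (0, 0), (1, 1), (0, 1), (4, 1), (0, 0), (0, 0), (0, 0), (1, 1), (0, 1), (3, 1), (2, 1), (0, 0), (1, 1), (0, 1), (0, 0), (7, 1), (0, 0), (0, 0), (0, 0), (0, 0), (2, 1), (0, 0), (0, 0), (0, 0), (2, 1), (0, 0), (3, 1), (3, 1), (0, 0), (0, 0), (1, 1), (0, 0), (1, 1), (5, 1), (0, 0), (0, 0), (0, 0), (2, 1), (0, 1), (0, 1), (4, 1), (0, 1), (0,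 0), (1, 1), (6, 1), (0, 0), (0, 0), (0, 0), (0, 0), (0, 0), (1, 1), (0, 0), (0, 0), (1, 1), (4, 1), (0, 1), (3, 1), (0, 0), (0, 0), (0, 0), (1, 1), (2, 1), (0, 1), (3, 1), (0, 0), (0, 0), (6, 1), (0, 0), (0, 1), (0, 1), (0, 1), (4, 1), (0, 0), (0, 0), (0, 1), (2, 1), (0, 0), (0, 0), (2, 1), (3, 1), (0, 0), (0, 0), (2, 1), (0, 0), (7, 1), (0, 0), (0, 0), (0, 0), (0, 0), (0, 0), (0, 1), (2, 1), (0, 0), (0, 1), (4, 1), (0, 0), (1, 1), (0, 1), (0, 1), (0, 1), (6, 1), (0, 0), (0, 1), (2, 1), (0, 0), (0, 0), (6, 1), (0, 0), (0, 0), (0, 0), (0, 0), (0, 0), (0, 1), (2, 1), (2, 1), (2, 1), (0, 0), (1, 1), (0, 0), (0, 1), (5, 1), (0, 1), (3, 1), (0, 0), (0, 1), (0, 0), (0, 1), (0, 1), (0, 0), (4, 1), (3, 1), (0, 0), (7, 1), (0, 0), (0, 0), (0, 0), (0, 0), (0, 0), (0, 1), (0, 0), (0, 0), (0, 0), (2, 1), (2, 1), (0,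 0), (4, 1), (0, 0), (0, 0), (0, 0), (1, 1), (2, 1), (0, 1), (0, 1), (4, 1), (0, 0), (0, 1), (0, 1), (0, 1), (4, 1), (4, 1), (0, 0), (0, 0), (0, 0), (0, 0), (1, 1), (0, 1), (4, 1), (0, 0), (0, 0), (0, 1), (3, 1), (0, 1), (0, 0), (5, 1), (0, 0), (0, 1), (0, 0), (3, 1), (0, 0), (0, 0), (1, 1), (0, 0), (3, 1), (0, 0), (0, 1), (0, 0), (3, 1), (6, 1), (0, 0), (0, 0), (0, 0), (0, 0), (0, 0), (0, 1), (2, 1), (0, 0), (1, 1), (3, 1), (0, 0), (1, 1), (3, 1), (0, 0), (1, 1), (0, 0), (1, 1), (0, 1), (5, 1), (0, 0), (0, 0), (0, 1), (2, 1), (0, 0), (0, 1), (0, 1), (5, 1), (3, 1), (0, 0), (0, 0), (0, 0), (0, 0), (0, 1), (3, 1), (0, 1), (3, 1), (0, 0), (0, 1), (0, 0), (3, 1), (0, 0), (0, 1), (2, 1), (0, 0), (1, 1), (0, 0), (9, 1), (0, 0), (0, 0), (0, 0), (0, 0), (0, 0), (2, 1), (0, 0), (0, 1), (4, 1), (0, 0), (0, 0), (0,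 0), (2, 1), (0, 0), (3, 1), (0, 1), (0, 0), (5, 1), (0, 0), (0, 1), (0, 0), (1, 1), (0, 1), (4, 1), (0, 0), (0, 0), (0, 1), (0, 0), (0, 1), (4, 1), (0, 0), (1, 1), (0, 0), (1, 1), (4, 1), (4, 1), (0, 0), (0, 0), (0, 0), (0, 0), (0, 0), (3, 1), (0, 0), (0, 0), (2, 1), (0, 1), (0, 0), (5, 1), (0, 0), (0, 1), (0, 0), (3, 1), (0, 0), (0, 0), (5, 1), (0, 0), (0, 0), (0, 0), (2, 1), (0, 0), (0, 0), (0, 0), (3, 1), (0, 0), (1, 1), (0, 0), (5, 1), (0, 0), (0, 0), (0, 0), (3, 1), (0, 0), (0, 0), (0, 1), (9, 1), (0, 0), (0, 0), (0, 0), (0, 0), (0, 0), (0, 1), (0, 0), (0, 1), (2, 1), (3, 1), (2, 1), (0, 0), (0, 0), (0, 0), (0, 1), (2, 1), (3, 1), (0, 0), (0, 1), (5, 1), (2, 1), (0, 0), (0, 0), (0, 0), (0, 0), (0, 0), (2, 1), (0, 1), (0, 1), (5, 1), (2, 1), (0, 0), (0, 0), (0, 1), (0, 1), (3, 1), (2, 1), (0, 0), (0,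 0), (0, 1), (0, 0), (3, 1), (0, 0), (0, 1), (0, 0), (9, 1), (0, 0), (0, 0), (0, 0), (0, 0), (0, 0), (1, 1), (0, 1), (0, 0), (4, 1), (0, 0), (1, 1), (0, 1), (4, 1), (2, 1), (0, 0), (0, 0), (0, 0), (0, 1), (2, 1), (2, 1), (0, 0), (0, 0), (0, 1), (0, 0), (6, 1), (0, 0), (0, 0), (0, 0), (3, 1), (0, 0), (1, 1), (0, 0), (1, 1), (6, 1), (0, 0), (0, 0), (0, 0), (0, 0), (1, 1), (2, 1), (0, 0), (0, 0), (1, 1), (0, 1), (3, 1), (0, 0), (0, 0), (5, 1), (0, 0), (0, 1), (2, 1), (0, 0), (0, 1), (2, 1), (0, 0), (0, 0), (0, 1), (2, 1), (2, 1), (0, 0), (0, 1)]),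
   (165759, []),
   (916384, [(0, 0), (0, 0), (0, 0), (0, 0), (0, 0), (0, 1), (0, 0), (0, 0), (0, 0), (0, 0), (0, 1), (3, 1), (0, 0), (3, 1), (0, 0), (0, 0), (4, 1), (0, 1), (0, 1), (5, 1), (0, 0), (0, 1), (0, 0), (0, 0), (0, 0), (3, 1), (0, 1), (0, 1), (5, 1), (0, 0), (0, 0), (0, 0), (0, 1), (0, 0), (4, 1), (0, 0), (1, 1), (3, 1), (0, 0), (0, 0), (0, 0), (0, 1), (2, 1), (0, 0), (3, 1), (0, 0), (1, 1), (7, 1), (0, 0), (0, 0), (0, 0), (0, 0), (0, 1), (3, 1), (0, 0), (1, 1), (0, 0), (1, 1), (4, 1), (0, 0), (0, 0), (0, 0), (1, 1), (0, 1), (4, 1), (0, 0), (0, 0), (1, 1), (2, 1), (4, 1), (0, 0), (0, 0), (0, 1), (3, 1), (0, 0), (0, 0), (0, 0), (0, 0), (3, 1), (0, 0), (1, 1), (3, 1), (0, 0), (0, 0), (1, 1), (0, 0), (0, 1), (4, 1), (0, 0), (0, 0), (0, 1), (2, 1), (8, 1), (0, 0), (0, 0), (0, 0), (0, 0), (1, 1),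 (0, 0), (0, 0), (0, 0), (5, 1), (0, 0), (0, 0), (0, 0), (2, 1), (0, 0), (0, 1), (4, 1), (0, 0), (0, 0), (0, 0), (2, 1), (5, 1), (0, 0), (0, 0), (0, 1), (0, 0), (3, 1), (0, 1), (0, 1), (0, 0), (0, 0), (2, 1), (5, 1), (0, 0), (0, 1), (0, 0), (6, 1), (0, 1), (0, 0), (0, 0), (0, 0), (0, 1), (0, 1), (3, 1), (0, 1), (0, 1), (4, 1), (2, 1), (0, 0), (0, 0), (0, 1), (0, 1), (3, 1), (0, 0), (3, 1), (6, 1), (0, 0), (0, 0), (0, 0), (0, 1), (0, 1), (0, 0), (4, 1), (0, 0), (0, 0), (0, 0), (0, 0), (0, 1), (2, 1), (0, 0), (1, 1), (3, 1), (0, 1), (3, 1), (0, 1), (0, 0), (4, 1), (0, 1), (0, 0), (1, 1), (5, 1), (0, 0), (0, 0), (0, 0), (0, 0), (1, 1), (2, 1), (0, 1), (0, 0), (0, 0), (1, 1), (5, 1), (0, 1), (3, 1), (0, 0), (0, 0), (0, 0), (0, 0), (0, 0), (1, 1), (2, 1), (0, 0), (3, 1), (2, 1), (0, 1), (3, 1), (0, 0), (0, 1),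 (2, 1), (0, 0), (1, 1), (6, 1), (0, 0), (0, 1), (0, 0), (0, 1), (0, 0), (3, 1), (0, 0), (0, 0), (0, 0), (1, 1), (2, 1), (0, 0), (0, 1), (2, 1), (0, 0), (4, 1), (0, 0), (0, 0), (0, 1), (3, 1), (0, 0), (0, 0), (0, 0), (2, 1), (7, 1), (0, 0), (0, 0), (0, 0), (0, 0), (0, 0), (1, 1), (2, 1), (0, 0), (4, 1), (0, 0), (0, 0), (0, 0), (0, 0), (1, 1), (2, 1), (3, 1), (0, 0), (0, 1), (2, 1), (0, 1), (0, 1), (6, 1), (0, 0), (0, 0), (0, 0), (0, 0), (0, 1), (4, 1), (0, 0), (0, 0), (1, 1), (0, 1), (5, 1), (0, 0), (0, 0), (0, 0), (1, 1), (2, 1), (0, 0), (9, 1), (0, 0), (0, 0), (0, 0), (0, 0), (0, 1), (0, 1), (0, 0), (0, 1), (0, 0), (1, 1), (3, 1), (4, 1), (0, 0), (0, 0), (1, 1), (0, 0), (0, 0), (4, 1), (0, 0), (0, 0), (0, 0), (6, 1), (0, 0), (0, 0), (0, 0), (0, 1), (2, 1), (0, 0), (0, 1), (4, 1), (0, 0), (0, 0), (0, 1),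 (3, 1), (3, 1), (0, 0), (0, 0), (0, 0), (2, 1), (0, 0), (0, 1), (7, 1), (0, 0), (0, 0), (0, 0), (0, 0), (0, 0), (0, 1), (0, 0), (3, 1), (0, 0), (3, 1), (0, 1), (0, 0), (1, 1), (0, 0), (5, 1), (0, 0), (1, 1), (0, 0), (0, 0), (2, 1), (0, 0), (5, 1), (0, 0), (0, 0), (0, 0), (0, 1), (0, 1), (3, 1), (3, 1), (0, 0), (0, 0), (0, 0), (0, 1), (2, 1), (2, 1), (5, 1), (0, 0), (0, 0), (0, 0), (0, 0), (0, 0), (3, 1), (0, 0), (0, 1), (4, 1), (0, 0), (0, 0), (0, 0), (0, 0), (1, 1), (2, 1), (2, 1), (0, 0), (0, 1), (2, 1), (5, 1), (0, 0), (0, 0), (0, 1), (0, 1), (3, 1), (0, 0), (1, 1), (3, 1), (0, 1), (0, 0), (7, 1), (0, 0), (0, 0), (0, 0), (0, 0), (0, 0), (1, 1), (0, 1), (0, 1), (4, 1), (0, 0), (0, 0), (0, 1), (2, 1), (2, 1), (0, 0), (0, 1), (0, 0), (0, 1), (2, 1), (0, 0), (4, 1), (4, 1), (0, 0), (0, 0), (0, 1), (0, 1),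 (3, 1), (0, 1), (0, 0), (1, 1), (4, 1), (0, 0), (1, 1), (0, 1), (0, 0), (1, 1), (0, 0), (7, 1), (0, 0), (0, 0), (0, 1), (2, 1), (0, 0), (0, 0), (1, 1), (0, 0), (3, 1), (0, 0), (0, 1), (0, 0), (1, 1), (6, 1), (0, 0), (0, 0), (0, 0), (1, 1), (2, 1), (0, 0), (0, 0), (1, 1), (2, 1), (3, 1), (0, 0), (0, 1), (0, 0), (3, 1), (0, 0), (0, 0), (7, 1), (0, 0), (0, 0), (0, 0), (0, 0), (0, 1), (0, 1), (0, 1), (4, 1), (0, 0), (1, 1), (0, 1), (4, 1), (0, 0), (0, 1), (0, 0), (3, 1), (0, 0), (4, 1), (0, 0), (0, 0), (1, 1), (0, 0), (1, 1), (0, 0), (4, 1), (0, 0), (0, 1), (0, 1), (6, 1), (0, 0), (0, 0), (0, 0), (0, 0), (0, 1), (0, 1), (3, 1), (2, 1), (0, 1), (3, 1), (0, 0), (0, 0), (0, 1), (2, 1), (2, 1), (0, 0), (4, 1), (0, 0)]),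
   (16611456, [])]

/-- Generators for `dodPt`. -/
def dodPtTabs : List ℕ :=
  [508220708748031781256999511541713184,
   523435414159369900362764295106243040]

/-- Search trees for `dodPt`. -/
def dodPtCert : List (ℕ × List (ℕ × ℕ)) :=
  [(28637, [(0, 0), (0, 0), (0, 0), (0, 0), (0, 0), (0, 0), (0, 0), (0, 1), (0, 0), (0, 1), (5, 1), (0, 0), (0, 0), (0, 1), (0, 0), (1, 1), (0, 1), (4, 1), (0, 0), (1, 1), (0, 0), (4, 1), (0, 0), (0, 1), (2, 1), (0, 1), (0, 0), (0, 0), (7, 1), (0, 0), (0, 0), (0, 0), (1, 1), (0, 0), (3, 1), (0, 0), (1, 1), (0, 0), (1, 1), (0, 0), (1, 1), (5, 1), (0, 0), (1, 1), (0, 0), (0, 0), (1, 1), (0, 0), (3, 1), (5, 1), (0, 0), (0, 0), (0, 0), (0, 0), (0, 0), (0, 1), (3, 1), (0, 1), (0, 0), (4, 1), (0, 0), (1, 1), (0, 0), (0, 1), (0, 0), (3, 1), (4, 1), (0, 0), (0, 0), (0, 1), (3, 1),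 (0, 0), (1, 1), (0, 0), (5, 1), (0, 0), (1, 1), (0, 1), (5, 1), (0, 0), (0, 0), (0, 0), (0, 1), (2, 1), (0, 0), (0, 1), (0, 1), (3, 1), (0, 1), (0, 1), (0, 0), (7, 1), (0, 0), (0, 0), (1, 1), (0, 0), (0, 1), (2, 1), (3, 1), (0, 0), (0, 0), (0, 0), (0, 1), (0, 1), (4, 1), (0, 0), (0, 1), (8, 1), (0, 0), (0, 0), (0, 0), (0, 0), (1, 1), (0, 0), (0, 1), (0, 1), (0, 0), (6, 1), (0, 0), (0, 1), (0, 0), (0, 1), (2, 1), (3, 1), (0, 0), (1, 1), (0, 0), (0, 0), (0, 0), (1, 1), (2, 1), (6, 1), (0, 0), (0, 0), (0, 0), (0, 0), (1, 1), (3, 1), (0, 0), (0, 1), (2, 1), (0, 0), (0, 0), (2, 1), (6, 1), (0, 0), (0, 0), (0, 0), (0, 0), (0, 0), (1, 1), (0, 1), (3, 1), (0, 0), (3, 1), (0, 0), (0, 1), (0, 0), (1, 1), (3, 1), (3, 1), (0, 0), (0, 0), (0, 0), (0, 1), (0, 0), (3, 1), (0, 1), (3, 1), (0, 0), (0, 0), (0, 1), (3, 1),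 (0, 1), (0, 1), (7, 1), (0, 0), (0, 0), (0, 0), (0, 1), (0, 0), (0, 0), (2, 1), (4, 1), (0, 0), (0, 0), (0, 0), (0, 1), (3, 1), (0, 0), (1, 1), (3, 1), (0, 0), (0, 0), (1, 1), (2, 1), (0, 0), (1, 1), (9, 1), (0, 0), (0, 0), (0, 0), (0, 0), (0, 0), (0, 0), (1, 1), (0, 1), (0, 1), (4, 1), (0, 1), (0, 0), (4, 1), (0, 0), (0, 0), (0, 0), (2, 1), (0, 0), (1, 1), (0, 0), (4, 1), (0, 0), (1, 1), (0, 1), (5, 1), (0, 0), (0, 0), (0, 0), (0, 0), (1, 1), (0, 1), (0, 0), (5, 1), (0, 0), (0, 0), (0, 1), (3, 1), (3, 1), (0, 1), (0, 0), (0, 0), (2, 1), (0, 0), (0, 0), (7, 1), (0, 0), (0, 0), (0, 0), (1, 1), (0, 0), (0, 0), (1, 1), (0, 0), (3, 1), (3, 1), (0, 0), (0, 0), (0, 0), (0, 0), (1, 1), (4, 1), (3, 1), (0, 0), (0, 0), (1, 1), (0, 0), (0, 0), (0, 1), (2, 1), (0, 1), (0, 1), (9, 1), (0, 0), (0, 0), (0, 0), (0, 1),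 (0, 0), (1, 1), (0, 0), (4, 1), (0, 1), (0, 0), (0, 1), (2, 1), (4, 1), (0, 0), (0, 0), (0, 1), (2, 1), (0, 0), (0, 0), (2, 1), (0, 0), (1, 1), (0, 0), (0, 0), (1, 1), (6, 1), (0, 1), (0, 0), (1, 1), (0, 0), (0, 0), (0, 0), (8, 1), (0, 0), (0, 0), (0, 0), (0, 0), (0, 0), (0, 1), (4, 1), (0, 0), (0, 1), (5, 1), (0, 0), (0, 0), (0, 0), (0, 0), (0, 1), (3, 1), (0, 0), (0, 0), (1, 1), (4, 1), (0, 1), (0, 0), (0, 0), (1, 1), (2, 1)]),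
   (129431, [(0, 0), (0, 0), (0, 0), (0, 0), (0, 0), (0, 0), (0, 0), (0, 1), (0, 1), (0, 0), (0, 0), (5, 1), (0, 0), (0, 1), (2, 1), (0, 0), (4, 1), (0, 0), (0, 0), (0, 0), (0, 0), (0, 0), (2, 1), (0, 1), (3, 1), (0, 0), (0, 1), (2, 1), (3, 1), (0, 1), (0, 0), (0, 0), (5, 1), (0, 0), (0, 0), (0, 0), (1, 1), (2, 1), (0, 1), (3, 1), (0, 0), (0, 0), (0, 0), (2, 1), (2, 1), (0, 0), (6, 1), (0, 0), (0, 0), (0, 0), (0, 0), (0, 0), (0, 0), (4, 1), (2, 1), (0, 0), (0, 1), (2, 1), (0, 1), (4, 1), (0, 0), (0, 0), (0, 0), (0, 0), (0, 1), (2, 1), (0, 1), (4, 1), (0, 0), (0, 0), (0, 0), (1, 1), (3, 1), (0, 0), (4, 1), (0, 1), (5, 1), (0, 0), (0, 0), (0, 0), (0, 1), (0, 0), (1, 1), (0, 0), (1, 1), (5, 1), (0, 0), (0, 0), (1, 1), (0, 0), (0, 0), (1, 1), (0, 0), (1, 1), (3, 1), (0, 1), (4, 1), (0, 0), (0, 0), (2, 1),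 (0, 0), (0, 0), (2, 1), (5, 1), (0, 0), (0, 1), (0, 1), (0, 0), (0, 0), (0, 0), (1, 1), (0, 1), (4, 1), (0, 1), (0, 0), (6, 1), (0, 0), (0, 0), (0, 0), (0, 0), (2, 1), (0, 1), (0, 1), (4, 1), (0, 1), (0, 0), (0, 0), (2, 1), (0, 0), (5, 1), (0, 0), (0, 0), (0, 0), (0, 1), (3, 1), (0, 0), (0, 0), (9, 1), (0, 0), (0, 0), (0, 0), (0, 1), (0, 0), (0, 1), (0, 0), (1, 1), (0, 1), (4, 1), (0, 0), (0, 0), (1, 1), (0, 1), (3, 1), (0, 1), (5, 1), (0, 1), (0, 0), (0, 1), (2, 1), (0, 0), (1, 1), (5, 1), (0, 0), (0, 0), (0, 0), (0, 0), (0, 0), (0, 0), (2, 1), (2, 1), (2, 1), (0, 0), (0, 0), (4, 1), (0, 0), (0, 1), (0, 0), (1, 1), (3, 1), (0, 0), (0, 0), (1, 1), (2, 1), (0, 0), (5, 1), (0, 0), (0, 0), (0, 1), (0, 0), (0, 0), (0, 1), (5, 1), (0, 0), (0, 0), (0, 0), (2, 1), (2, 1), (0, 0), (0, 1), (5, 1), (0, 0), (0, 0),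 (0, 1), (3, 1), (0, 0), (0, 1), (7, 1), (0, 0), (0, 0), (0, 0), (0, 0), (0, 1), (2, 1), (0, 0), (0, 0), (1, 1), (2, 1), (3, 1), (2, 1), (0, 0), (0, 0), (0, 1), (2, 1), (0, 0), (1, 1), (3, 1), (0, 0), (0, 0), (0, 0), (1, 1), (0, 1), (0, 0), (4, 1), (0, 0), (1, 1), (3, 1), (4, 1), (0, 0), (0, 0), (0, 0), (0, 0), (0, 0), (0, 1), (3, 1), (0, 0), (1, 1), (3, 1), (0, 0), (0, 1), (2, 1), (0, 0), (1, 1), (5, 1), (0, 0), (0, 0), (0, 0), (0, 1), (0, 1), (4, 1), (0, 0), (0, 0), (1, 1), (2, 1), (0, 1), (0, 0), (0, 1), (2, 1), (0, 0), (11, 1), (0, 0), (0, 0), (0, 0), (0, 0), (0, 0), (0, 1), (0, 0), (0, 0), (0, 1), (2, 1), (0, 1), (3, 1), (3, 1), (0, 1), (3, 1), (0, 0), (0, 0), (0, 0), (0, 0), (3, 1), (0, 0), (0, 0), (0, 1), (2, 1), (0, 1), (5, 1), (0, 0), (0, 1), (0, 0), (0, 0), (7, 1), (0, 0), (0, 0), (0, 0), (0,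 0), (0, 0), (0, 0), (1, 1), (0, 1), (3, 1), (0, 1), (3, 1), (2, 1), (0, 0), (0, 0), (0, 1), (2, 1), (0, 1), (5, 1), (0, 0), (0, 1), (0, 0), (0, 0), (0, 1), (3, 1), (0, 0), (4, 1), (0, 0), (4, 1), (0, 0), (0, 1), (0, 0), (0, 0), (0, 1), (2, 1), (2, 1), (0, 1), (4, 1), (0, 0), (0, 0), (0, 0), (0, 0), (3, 1), (2, 1), (0, 0), (0, 1), (0, 1), (8, 1), (0, 0), (0, 0), (0, 0), (0, 1), (0, 0), (1, 1), (0, 1), (4, 1), (0, 0), (1, 1), (0, 1), (4, 1), (0, 0), (0, 0), (0, 1), (0, 1), (0, 0), (5, 1), (0, 0), (0, 1), (0, 0), (1, 1), (6, 1), (0, 0), (0, 0), (0, 0), (0, 1), (0, 0), (1, 1), (3, 1), (0, 0), (1, 1), (0, 0), (1, 1), (0, 1), (5, 1), (0, 0), (0, 1), (4, 1), (0, 1), (5, 1), (0, 0), (0, 0), (0, 0), (0, 0), (0, 1), (0, 0), (1, 1), (0, 0), (1, 1), (5, 1), (0, 0), (0, 0), (1, 1), (0, 1), (0, 0), (1, 1), (6, 1), (0,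 0), (0, 0), (0, 0), (0, 0), (0, 1), (0, 0), (1, 1), (3, 1), (2, 1), (0, 0), (0, 1), (0, 1), (5, 1), (0, 0), (0, 0), (0, 0), (2, 1), (2, 1), (0, 0), (0, 1), (0, 0), (3, 1), (4, 1), (0, 0), (0, 0), (1, 1), (0, 1), (0, 0), (0, 0), (5, 1), (0, 0), (0, 0), (0, 0), (1, 1), (0, 1), (3, 1), (0, 1), (3, 1), (5, 1), (0, 0), (0, 0), (1, 1), (0, 0), (0, 0), (0, 1), (2, 1), (0, 0), (1, 1), (0, 0), (1, 1), (4, 1), (0, 0), (0, 0), (0, 0), (2, 1), (2, 1), (0, 1), (5, 1), (0, 0), (0, 0), (0, 0), (0, 1), (3, 1), (0, 0), (0, 0), (0, 0), (0, 0), (4, 1), (0, 1), (9, 1), (0, 0), (0, 0), (0, 0), (0, 0), (0, 0), (0, 0), (0, 0), (0, 1), (2, 1), (0, 0), (0, 0), (4, 1), (0, 0), (0, 0), (1, 1), (0, 1), (3, 1), (0, 0), (1, 1), (0, 0), (5, 1), (0, 1), (0, 0), (0, 0), (0, 0), (0, 1), (2, 1), (2, 1), (0, 0), (3, 1), (0, 0), (0, 1), (0,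 1), (3, 1), (0, 0), (0, 1), (7, 1), (0, 0), (0, 0), (0, 1), (0, 0), (0, 1), (2, 1), (0, 0), (1, 1), (4, 1), (0, 0), (0, 0), (0, 0), (1, 1), (2, 1), (0, 0), (1, 1), (0, 0), (1, 1), (4, 1), (0, 1), (4, 1), (0, 0), (0, 0), (0, 0), (2, 1), (0, 0), (0, 1), (0, 1), (5, 1), (0, 0), (0, 1), (2, 1), (0, 0), (6, 1), (0, 0), (0, 0), (0, 0), (0, 0), (0, 1), (2, 1), (0, 1), (0, 0), (1, 1), (0, 0), (1, 1), (6, 1), (0, 0), (0, 1), (0, 0), (0, 1), (2, 1), (3, 1), (3, 1), (0, 0), (0, 0), (0, 0), (0, 1), (0, 0), (0, 0), (2, 1), (3, 1), (0, 0), (3, 1), (0, 0), (1, 1), (0, 0), (0, 0), (0, 0), (2, 1), (2, 1), (4, 1), (0, 0), (0, 0), (0, 0), (1, 1), (0, 0), (4, 1), (0, 0), (0, 1), (0, 0), (1, 1), (0, 0), (9, 1), (0, 0), (0, 0), (0, 0), (0, 0), (0, 1), (0, 0), (3, 1), (0, 0), (0, 0), (0, 1), (0, 0), (3, 1), (0, 0), (3, 1), (0,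 0), (0, 1), (2, 1), (0, 1), (5, 1), (0, 0), (0, 0), (0, 0), (1, 1), (3, 1), (0, 0), (0, 1), (0, 0), (3, 1), (0, 1), (5, 1), (0, 0), (0, 0), (1, 1), (0, 0), (0, 0), (1, 1), (2, 1), (0, 0), (0, 1), (5, 1), (0, 0), (0, 0), (0, 1), (0, 0), (7, 1), (0, 0), (0, 0), (0, 0), (0, 1), (0, 0), (0, 0), (4, 1), (0, 1), (0, 0), (0, 1), (2, 1), (0, 0), (0, 1), (6, 1), (0, 0), (0, 0), (0, 1), (2, 1), (2, 1), (0, 0), (0, 0), (0, 0), (1, 1), (6, 1), (0, 0), (0, 0), (0, 0), (1, 1), (2, 1), (0, 0), (0, 1), (0, 0), (3, 1), (0, 0), (1, 1), (0, 0), (9, 1), (0, 0), (0, 0), (0, 0), (0, 0), (0, 0), (0, 0), (0, 0), (1, 1), (2, 1), (2, 1), (2, 1), (2, 1), (0, 0), (0, 0), (0, 0), (0, 0), (0, 0), (2, 1), (0, 0), (3, 1), (2, 1), (0, 1), (0, 0), (0, 0), (5, 1), (0, 0), (0, 0), (0, 0), (1, 1), (0, 0), (3, 1), (0, 1), (0, 1), (7, 1), (0,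 0), (0, 0), (0, 1), (0, 0), (1, 1), (0, 0), (0, 0), (0, 1), (6, 1), (0, 1), (0, 0), (1, 1), (0, 0), (0, 1), (2, 1), (5, 1), (0, 0), (0, 0), (0, 0), (0, 1), (2, 1), (0, 0), (3, 1), (2, 1), (0, 0), (1, 1), (0, 0), (6, 1), (0, 0), (0, 0), (0, 0), (0, 0), (0, 1), (3, 1), (0, 0), (0, 0), (2, 1), (0, 0), (0, 1), (0, 1), (6, 1), (0, 0), (0, 0), (0, 0), (1, 1), (0, 1), (0, 0), (4, 1), (0, 0), (0, 0), (0, 0), (3, 1), (0, 0), (0, 0), (0, 1), (3, 1), (0, 1), (5, 1), (0, 0), (0, 0), (0, 0), (2, 1), (0, 1), (3, 1), (0, 0), (0, 1), (2, 1), (5, 1), (0, 0), (0, 0), (0, 1), (0, 0), (3, 1), (0, 0), (0, 0), (0, 0), (0, 0), (3, 1), (0, 1), (3, 1)]),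
   (165759, []),
   (1538225, [(0, 0), (0, 0), (0, 0), (0, 0), (0, 0), (0, 0), (0, 1), (2, 1), (0, 1), (0, 0), (0, 0), (2, 1), (4, 1), (0, 1), (0, 1), (4, 1), (0, 0), (0, 0), (0, 0), (1, 1), (0, 0), (3, 1), (2, 1), (0, 0), (0, 1), (2, 1), (0, 0), (0, 1), (2, 1), (5, 1), (0, 1), (0, 0), (0, 0), (0, 0), (0, 0), (1, 1), (3, 1), (0, 0), (1, 1), (3, 1), (0, 0), (0, 1), (0, 0), (3, 1), (0, 0), (0, 1), (7, 1), (0, 0), (0, 0), (0, 0), (0, 0), (1, 1), (0, 0), (1, 1), (3, 1), (0, 1), (0, 1), (4, 1), (0, 0), (0, 1), (0, 0), (3, 1), (0, 0), (0, 0), (1, 1), (2, 1), (0, 0), (0, 0), (6, 1), (0, 0), (0, 0), (0, 0), (0, 0), (0, 1), (2, 1), (2, 1), (3, 1), (0, 0), (0, 0), (0, 0), (2, 1), (2, 1), (0, 0), (6, 1), (0, 0), (0, 0), (0, 0), (0, 0), (0, 0), (0, 1), (2, 1), (2, 1), (0, 0), (0, 0), (0, 0), (1, 1), (5, 1), (0, 0),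 (0, 0), (0, 0), (2, 1), (0, 0), (0, 0), (4, 1), (0, 0), (0, 0), (1, 1), (0, 1), (0, 1), (7, 1), (0, 0), (0, 0), (0, 0), (1, 1), (0, 1), (3, 1), (0, 1), (0, 0), (4, 1), (0, 0), (0, 0), (2, 1), (0, 0), (0, 0), (0, 1), (3, 1), (5, 1), (0, 0), (0, 0), (0, 0), (0, 0), (0, 0), (1, 1), (2, 1), (0, 1), (3, 1), (0, 0), (0, 1), (0, 0), (3, 1), (0, 0), (4, 1), (0, 0), (0, 0), (0, 0), (2, 1), (2, 1), (0, 0), (1, 1), (4, 1), (0, 0), (0, 0), (0, 0), (0, 0), (1, 1), (0, 1), (3, 1), (2, 1), (0, 0), (0, 0), (1, 1), (0, 0), (1, 1), (5, 1)])]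

end Cfsg.Agent.Golay.OrbitData
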