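import Cfsg.Prelude.Def_Sporadic_a

/-!
The equation lemmas of `Cfsg.pointBlockRel`, made once for every file that unfolds it (two copies made
apart collide when statements are checked together).
-/

set_option autoImplicit false

namespace Cfsg.Agent.Golay.PointBlockEqns

theorem rel_some_iff {α : Type*} (B : Set (Finset α)) (a : α) (b : B) :
    (Cfsg.pointBlockRel B none (some (.inl a)) ↔ True) ∧
    (Cfsg.pointBlockRel B (some (.inl a)) (some (.inr b)) ↔ a ∈ (b : Finset α)) ∧
    (Cfsg.pointBlockRel B (some (.inr b)) (some (.inr b)) ↔ Disjoint (b : Finset α) (b : Finset α)) ∧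
    (Cfsg.pointBlockRel B none none ↔ False) ∧
    (Cfsg.pointBlockRel B (some (.inl a)) none ↔ False) ∧
    (Cfsg.pointBlockRel B (some (.inr b)) (some (.inl a)) ↔ False) := by
  simp [Cfsg.pointBlockRel]

theorem not_rel_none {α : Type*} (B : Set (Finset α)) (x : Option (α ⊕ B)) :
    ¬ Cfsg.pointBlockRel B x none := by
  rcases x with _ | (a | b) <;> simp only [Cfsg.pointBlockRel, not_false_eq_true]

end Cfsg.Agent.Golay.PointBlockEqns
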