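import Cfsg.Agent.Lib.Golay.Derived23

/-!
An S(3, 6, 22) lies in a Golay code on its points and two further ones: `exists_equiv_fin`.
-/

set_option autoImplicit false

namespace Cfsg.Agent.Golay.Derived22

open Cfsg Cfsg.Agent.ThreeTransp

variable {α : Type*} [Fintype α] [DecidableEq α]

/-- The indicator word of a set. -/
def wd (S : Finset α) : α → ZMod 2 := fun a => if a ∈ S then 1 else 0

omit [DecidableEq α] in
theorem support₂_wd [DecidableEq α] (S : Finset α) : support₂ (wd S) = S := by
  ext a; by_cases h : a ∈ S <;> simp [support₂, wd, h]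

theorem wd_support₂ (w : α → ZMod 2) : wd (support₂ w) = w := by
  funext a
  rcases CodeCover.zmod2 (w a) with h | h <;> simp [wd, support₂, h]

theorem wd_sub (S T : Finset α) : wd S - wd T = wd (symmDiff S T) := by
  funext a
  by_cases h1 : a ∈ S <;> by_cases h2 : a ∈ T <;>
    simp [wd, h1, h2, Finset.mem_symmDiff] <;> decide

theorem card_symmDiff (S T : Finset α) :
    (symmDiff S T).card + 2 * (S ∩ T).card = S.card + T.card := by
  have h1 := Finset.card_sdiff_add_card_inter S T
  have h2 := Finset.card_sdiff_add_card_inter T S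
  have h3 : (symmDiff S T).card = (S \ T).card + (T \ S).card :=
    Finset.card_union_of_disjoint disjoint_sdiff_sdiff
  rw [Finset.inter_comm T S] at h2
  omega

/-- The words meeting every block evenly. -/
def evenSpace (B : Set (Finset α)) : Submodule (ZMod 2) (α → ZMod 2) :=
  LinearMap.ker (LinearMap.pi fun b : B => ∑ a ∈ (b : Finset α),
    (LinearMap.proj a : (α → ZMod 2) →ₗ[ZMod 2] ZMod 2))

theorem sum_eq_card (b : Finset α) (w : α → ZMod 2) :
    ∑ a ∈ b, w a = ((b ∩ support₂ w).card : ZMod 2) := by
  conv_lhs => rw [← wd_support₂ w]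
  simp [wd, Finset.sum_ite_mem]

theorem mem_evenSpace {B : Set (Finset α)} {w : α → ZMod 2} :
    w ∈ evenSpace B ↔ ∀ b ∈ B, Even (b ∩ support₂ w).card := by
  simp only [evenSpace, LinearMap.mem_ker, funext_iff, LinearMap.pi_apply, LinearMap.sum_apply,
    LinearMap.proj_apply, Pi.zero_apply, Subtype.forall]
  refine forall₂_congr fun b _ => ?_
  rw [sum_eq_card, ZMod.natCast_eq_zero_iff_even]

variable {B : Set (Finset α)}

theorem even_of_parity (hB : IsSteinerSystem 3 6 B) (hα : Fintype.card α = 22) (Y : Finset α)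
    (ε : ℕ) (h : ∀ b ∈ B, Even ((b ∩ Y).card + ε)) : Even (Y.card + ε) := by
  have m1 := Parity.moment hB (by norm_num) hα Y 1 (by norm_num)
  have m0 := Parity.moment hB (by norm_num) hα Y 0 (by norm_num)
  obtain ⟨l0, l1, -, -⟩ := Parity.lam_3622
  rw [l1, Nat.choose_one_right] at m1
  rw [l0, Nat.choose_zero_right, one_mul] at m0
  have hmod : ∑ j ∈ Finset.range (Y.card + 1),
      ((Steiner.blocks B).filter fun b => (b ∩ Y).card = j).card * (j + ε) ≡ 0 [MOD 2] := by
    rw [Nat.modEq_zero_iff_dvd]
    refine Finset.dvd_sum fun j _ => ?_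
    rcases Parity.zero_of_parity Y ε h j with e | e
    · exact Dvd.dvd.mul_left (Nat.dvd_of_mod_eq_zero e) _
    · simp [e]
  simp only [Nat.choose_one_right, Nat.choose_zero_right, mul_one] at m1 m0
  rw [Finset.sum_congr rfl fun j _ => Nat.mul_add _ j ε, Finset.sum_add_distrib, m1,
    ← Finset.sum_mul, m0, Nat.modEq_zero_iff_dvd] at hmod
  rw [Nat.even_iff]
  omega

theorem block_of_six (hB : IsSteinerSystem 3 6 B) (hα : Fintype.card α = 22) (Y : Finset α)
    (hY : Y.card = 6) (h : ∀ b ∈ B, Even (b ∩ Y).card) : Y ∈ B := by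
  obtain ⟨l0, l1, l2, l3⟩ := Parity.lam_3622
  have m := fun i hi => Parity.moment hB (by norm_num) hα Y i hi
  have m0 := m 0 (by omega); have m1 := m 1 (by omega); have m2 := m 2 (by omega)
  have m3 := m 3 (by omega)
  rw [l0] at m0; rw [l1] at m1; rw [l2] at m2; rw [l3] at m3
  have z := Parity.zero_of_parity Y 0 fun b hb => by simpa using h b hb
  have z1 := z 1; have z3 := z 3; have z5 := z 5
  have h6 : 0 < ((Steiner.blocks B).filter fun b => (b ∩ Y).card = 6).card := by
    rw [hY] at m0 m1 m2 m3
    simp [Finset.sum_range_succ, Nat.choose] at m0 m1 m2 m3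
    omega
  obtain ⟨b, hb⟩ := Finset.card_pos.1 h6
  rw [Finset.mem_filter, Steiner.mem_blocks] at hb
  have h1 : b ∩ Y = Y := Finset.eq_of_subset_of_card_le Finset.inter_subset_right (by omega)
  have h2 : b ∩ Y = b :=
    Finset.eq_of_subset_of_card_le Finset.inter_subset_left (by rw [hb.2, hB.1 b hb.1])
  rw [← h1, h2]
  exact hb.1

theorem finrank_evenSpace (hB : IsSteinerSystem 3 6 B) (hα : Fintype.card α = 22) :
    Module.finrank (ZMod 2) (evenSpace B) ≤ 11 := by
  classical
  haveI : Fintype ((α → ZMod 2) ⧸ evenSpace B) := Fintype.ofFinite _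
  let π : Finset α → (α → ZMod 2) ⧸ evenSpace B := fun S => Submodule.Quotient.mk (wd S)
  have hπ : ∀ {S T}, π S = π T → ∀ b ∈ B, Even (b ∩ symmDiff S T).card := fun e => by
    have := (Submodule.Quotient.eq _).1 e
    rwa [wd_sub, mem_evenSpace, support₂_wd] at this
  have hmin : ∀ {S T : Finset α}, π S = π T → S ≠ T → 6 ≤ (symmDiff S T).card := fun {S T} e hne => by
    have := Parity.weight_3622 hB hα (symmDiff S T) 0 (by norm_num) (by
      have := Finset.card_pos.2 (Finset.nonempty_iff_ne_empty.2 (fun e' => hne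
        (symmDiff_eq_bot.1 (show symmDiff S T = ⊥ from e'))))
      omega) (fun b hb => by simpa using hπ e b hb)
    omega
  set A₁ := (Finset.powersetCard 1 (Finset.univ : Finset α)).image π with hA₁
  set A₃ := (Finset.powersetCard 3 (Finset.univ : Finset α)).image π with hA₃
  have h1 : A₁.card = 22 := by
    rw [hA₁, Finset.card_image_of_injOn, Finset.card_powersetCard, Finset.card_univ, hα]
    · rfl
    · intro S hS T hT e
      rw [Finset.mem_coe, Finset.mem_powersetCard] at hS hT
      by_contra hne
      have := hmin e hne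
      have := card_symmDiff S T
      omega
  have h3 : 770 ≤ A₃.card := by
    have h := Finset.card_le_mul_card_image (f := π)
      (Finset.powersetCard 3 (Finset.univ : Finset α)) 2 fun q _ => by
      by_contra hlt
      obtain ⟨S, T, U, hS, hT, hU, hST, hSU, hTU⟩ := Finset.two_lt_card_iff.1 (not_le.1 hlt)
      simp only [Finset.mem_filter, Finset.mem_powersetCard] at hS hT hU
      have blk : ∀ {S T : Finset α}, S.card = 3 → T.card = 3 → π S = π T → S ≠ T →
          symmDiff S T ∈ B ∧ Disjoint S T := by
        intro S T hS hT e hne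
        have h6 := hmin e hne
        have hc := card_symmDiff S T
        refine ⟨block_of_six hB hα _ (by omega) (hπ e), ?_⟩
        rw [Finset.disjoint_iff_inter_eq_empty, ← Finset.card_eq_zero]
        omega
      obtain ⟨b1, d1⟩ := blk hS.1.2 hT.1.2 (hS.2.trans hT.2.symm) hST
      obtain ⟨b2, d2⟩ := blk hS.1.2 hU.1.2 (hS.2.trans hU.2.symm) hSU
      have hb := Steiner.eq_of_subset hB (s := S) hS.1.2.ge b1 b2
        (fun x hx => Finset.mem_symmDiff.2 (Or.inl ⟨hx, Finset.disjoint_left.1 d1 hx⟩))
        (fun x hx => Finset.mem_symmDiff.2 (Or.inl ⟨hx, Finset.disjoint_left.1 d2 hx⟩))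
      exact hTU (symmDiff_right_inj.1 hb)
    rw [Finset.card_powersetCard, Finset.card_univ, hα] at h
    have e : Nat.choose 22 3 = 1540 := by decide +kernel
    rw [e] at h
    rw [hA₃]
    omega
  have hd : Disjoint A₁ A₃ := by
    rw [Finset.disjoint_left]
    intro q hq hq'
    obtain ⟨S, hS, rfl⟩ := Finset.mem_image.1 hq
    obtain ⟨T, hT, e⟩ := Finset.mem_image.1 hq'
    rw [Finset.mem_powersetCard] at hS hT
    have := hmin e fun e' => by rw [e'] at hT; omega
    have := card_symmDiff T S
    omega
  have hle : evenSpace B ≤ LinearMap.ker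
      (∑ a, (LinearMap.proj a : (α → ZMod 2) →ₗ[ZMod 2] ZMod 2)) := by
    intro w hw
    have h := even_of_parity hB hα (support₂ w) 0 fun b hb => by simpa using mem_evenSpace.1 hw b hb
    rw [LinearMap.mem_ker, LinearMap.sum_apply]
    show ∑ a, w a = 0
    rw [sum_eq_card, Finset.univ_inter, ZMod.natCast_eq_zero_iff_even]
    simpa using h
  let σ : ((α → ZMod 2) ⧸ evenSpace B) →ₗ[ZMod 2] ZMod 2 := (evenSpace B).liftQ _ hle
  have hσ : ∀ S, σ (π S) = (S.card : ZMod 2) := fun S => by
    show (∑ a, LinearMap.proj a : (α → ZMod 2) →ₗ[ZMod 2] ZMod 2) (wd S) = _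
    simp [wd, LinearMap.sum_apply, Finset.sum_ite_mem]
  have hodd : ∀ q ∈ A₁ ∪ A₃, σ q = 1 := by
    intro q hq
    rcases Finset.mem_union.1 hq with h | h <;> obtain ⟨S, hS, rfl⟩ := Finset.mem_image.1 h <;>
      rw [Finset.mem_powersetCard] at hS <;> rw [hσ, hS.2] <;> rfl
  obtain ⟨a⟩ : Nonempty α := Fintype.card_pos_iff.1 (by omega)
  have hd2 : Disjoint (A₁ ∪ A₃) ((A₁ ∪ A₃).image fun q => q + π {a}) := by
    rw [Finset.disjoint_left]
    intro q hq hq'
    obtain ⟨r, hr, rfl⟩ := Finset.mem_image.1 hq'
    have h1 := hodd _ hq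
    rw [map_add, hodd r hr, hσ, Finset.card_singleton] at h1
    revert h1; decide
  have htot := Finset.card_le_univ ((A₁ ∪ A₃) ∪ (A₁ ∪ A₃).image fun q => q + π {a})
  rw [Finset.card_union_of_disjoint hd2, Finset.card_image_of_injective _ (add_left_injective _),
    Finset.card_union_of_disjoint hd, h1, Fintype.card_eq_nat_card,
    Module.natCard_eq_pow_finrank (K := ZMod 2), Nat.card_zmod] at htot
  have h2 := (evenSpace B).finrank_quotient_add_finrank
  rw [Module.finrank_pi, hα] at h2
  by_contra hlt
  have : 2 ^ Module.finrank (ZMod 2) ((α → ZMod 2) ⧸ evenSpace B) ≤ 2 ^ 10 :=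
    Nat.pow_le_pow_right (by norm_num) (by omega)
  omega

theorem card_insertNone₂_inter (b : Finset α) (U : Finset (Option (Option α))) :
    (Finset.insertNone (Finset.insertNone b) ∩ U).card =
      (b ∩ Finset.eraseNone (Finset.eraseNone U)).card +
        ((if none ∈ U then 1 else 0) + if some none ∈ U then 1 else 0) := by
  rw [Derived23.card_insertNone_inter, Derived23.card_insertNone_inter]
  simp only [Finset.mem_eraseNone]
  ring

theorem exists_equiv_fin (hα : Fintype.card α = 22) (hB : IsSteinerSystem 3 6 B) :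
    ∃ (C : Submodule (ZMod 2) CodeCover.W) (ψ : Option (Option α) ≃ Fin 24), CodeCover.Hyp C ∧
      ∀ b : Finset α, b ∈ B ↔
        (Finset.insertNone (Finset.insertNone b)).image ψ ∈ CodeCover.octs C := by
  classical
  let ψ : Option (Option α) ≃ Fin 24 :=
    Fintype.equivFinOfCardEq (by rw [Fintype.card_option, Fintype.card_option, hα])
  let ext' : Finset α → Finset (Fin 24) :=
    fun b => (Finset.insertNone (Finset.insertNone b)).image ψ
  let pr : CodeCover.W →ₗ[ZMod 2] (α → ZMod 2) :=
    LinearMap.funLeft (ZMod 2) (ZMod 2) fun a => ψ (some (some a))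
  let C₀ : Submodule (ZMod 2) CodeCover.W :=
    Submodule.span (ZMod 2) (CodeCover.word '' (ext' '' B))
  -- a word in coordinates
  have hinter : ∀ b (w : CodeCover.W), (ext' b ∩ CodeCover.supp w).card =
      (b ∩ support₂ (pr w)).card +
        ((if w (ψ none) = 0 then 0 else 1) + if w (ψ (some none)) = 0 then 0 else 1) := by
    intro b w
    have e : ext' b ∩ CodeCover.supp w =
        (Finset.insertNone (Finset.insertNone b) ∩ (CodeCover.supp w).image ψ.symm).image ψ := by
      rw [Finset.image_inter _ _ ψ.injective, Finset.image_image]; simp [ext']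
    have hm : ∀ x, x ∈ (CodeCover.supp w).image ψ.symm ↔ w (ψ x) ≠ 0 := fun x => by
      rw [Finset.mem_image]
      refine ⟨fun ⟨a, ha, e⟩ => ?_, fun h => ⟨ψ x, by simpa [CodeCover.supp] using h,
        ψ.symm_apply_apply x⟩⟩
      subst e; simpa [CodeCover.supp] using ha
    rw [e, Finset.card_image_of_injective _ ψ.injective, card_insertNone₂_inter,
      show Finset.eraseNone (Finset.eraseNone ((CodeCover.supp w).image ψ.symm)) =
        support₂ (pr w) by
          ext a
          simp only [Finset.mem_eraseNone, hm]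
          rw [support₂, Finset.mem_filter]
          exact ⟨fun h => ⟨Finset.mem_univ _, h⟩, And.right⟩]
    simp only [hm, ite_not]
  have hweight : ∀ w : CodeCover.W, (CodeCover.supp w).card =
      (support₂ (pr w)).card +
        ((if w (ψ none) = 0 then 0 else 1) + if w (ψ (some none)) = 0 then 0 else 1) := by
    intro w
    have h := hinter Finset.univ w
    have e : ext' (Finset.univ : Finset α) = Finset.univ := by
      simp only [ext']
      rw [show Finset.insertNone (Finset.insertNone (Finset.univ : Finset α)) =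
        Finset.univ by ext x; rcases x with _ | (_ | a) <;> simp]
      exact Finset.image_univ_equiv ψ
    rwa [e, Finset.univ_inter, Finset.univ_inter] at h
  have hgen : ∀ b ∈ B, ∀ c ∈ B, Even (ext' b ∩ ext' c).card := by
    intro b hb c hc
    have h := Steiner.inter_num_ne_zero hB (by norm_num) hα Steiner.interNums_3622 hb hc
    have e : (ext' b ∩ ext' c).card = (b ∩ c).card + 2 := by
      rw [← Finset.image_inter _ _ ψ.injective, Finset.card_image_of_injective _ ψ.injective,
        card_insertNone₂_inter]
      simp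
    rw [e]
    generalize (b ∩ c).card = m at h ⊢
    unfold Steiner.n3622 at h
    split at h <;> simp_all [Nat.even_iff]
  have horth : C₀ ≤ Perp.perp C₀ := by
    refine Submodule.span_le.2 ?_
    rintro _ ⟨_, ⟨b, hb, rfl⟩, rfl⟩
    rw [SetLike.mem_coe, Perp.mem_perp]
    intro w hw
    induction hw using Submodule.span_induction with
    | mem x hx =>
      obtain ⟨_, ⟨c, hc, rfl⟩, rfl⟩ := hx
      rw [CodeCover.sum_word_mul, ZMod.natCast_eq_zero_iff_even]
      exact hgen b hb c hc
    | zero => simp
    | add x y _ _ hx hy => simp [mul_add, Finset.sum_add_distrib, hx, hy]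
    | smul a x _ hx => simp [mul_left_comm _ a, ← Finset.mul_sum, hx]
  have hext : ∀ b ∈ B, CodeCover.word (ext' b) ∈ C₀ := fun b hb =>
    Submodule.subset_span ⟨_, ⟨b, hb, rfl⟩, rfl⟩
  have hext8 : ∀ b ∈ B, (ext' b).card = 8 := fun b hb => by
    rw [Finset.card_image_of_injective _ ψ.injective, Finset.card_insertNone,
      Finset.card_insertNone, hB.1 b hb]
  have hK : ∀ w ∈ Perp.perp C₀, ∀ b ∈ B, Even ((b ∩ support₂ (pr w)).card +
      ((if w (ψ none) = 0 then 0 else 1) + if w (ψ (some none)) = 0 then 0 else 1)) := by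
    intro w hw b hb
    have := Perp.mem_perp.1 hw _ (hext b hb)
    rw [← CodeCover.word_supp w, CodeCover.sum_word_mul, ZMod.natCast_eq_zero_iff_even,
      Finset.inter_comm, hinter] at this
    exact this
  have hdouble : ∀ w ∈ C₀, 4 ∣ hammingNorm w := by
    intro w hw
    suffices w ∈ C₀ ∧ 4 ∣ hammingNorm w from this.2
    induction hw using Submodule.span_induction with
    | mem x hx =>
      obtain ⟨_, ⟨c, hc, rfl⟩, rfl⟩ := hx
      exact ⟨hext c hc, by rw [CodeCover.norm_word, hext8 c hc]; norm_num⟩
    | zero => exact ⟨zero_mem _, by simp⟩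
    | add x y _ _ hx hy =>
      refine ⟨add_mem hx.1 hy.1, ?_⟩
      have e : x + y = CodeCover.word (symmDiff (CodeCover.supp x) (CodeCover.supp y)) := by
        rw [← CodeCover.word_sub, CodeCover.word_supp, CodeCover.word_supp]
        funext i
        exact (CharTwo.sub_eq_add (x i) (y i)).symm
      rw [e, CodeCover.norm_word]
      have hcs := CodeCover.card_symmDiff (CodeCover.supp x) (CodeCover.supp y)
      have hi := Perp.mem_perp.1 (horth hx.1) y hy.1
      rw [← CodeCover.word_supp x, ← CodeCover.word_supp y, CodeCover.sum_word_mul,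
        ZMod.natCast_eq_zero_iff_even] at hi
      obtain ⟨k, hk⟩ := hi
      obtain ⟨a, ha⟩ := hx.2
      obtain ⟨c, hc⟩ := hy.2
      rw [CodeCover.norm_eq] at ha hc
      omega
    | smul r x _ hx =>
      rcases CodeCover.zmod2 r with rfl | rfl
      · simp
      · rw [one_smul]; exact hx
  -- the words with equal values at the two further points
  let δ : CodeCover.W →ₗ[ZMod 2] ZMod 2 :=
    LinearMap.proj (R := ZMod 2) (φ := fun _ : Fin 24 => ZMod 2) (ψ none) +
      LinearMap.proj (ψ (some none))
  have hδ : ∀ w, δ w = 0 ↔ w (ψ none) = w (ψ (some none)) := fun w => by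
    show w (ψ none) + w (ψ (some none)) = 0 ↔ _
    exact CharTwo.add_eq_zero
  let E := Perp.perp C₀ ⊓ LinearMap.ker δ
  have hEeven : ∀ w ∈ E, pr w ∈ evenSpace B := by
    intro w hw
    refine mem_evenSpace.2 fun b hb => ?_
    have := hK w hw.1 b hb
    rw [(hδ w).1 hw.2] at this
    rw [Nat.even_iff] at this ⊢
    split_ifs at this <;> omega
  have hC₀E : C₀ ≤ E := le_inf horth (Submodule.span_le.2 (by
    rintro _ ⟨_, ⟨b, hb, rfl⟩, rfl⟩
    rw [SetLike.mem_coe, LinearMap.mem_ker, hδ]
    simp [CodeCover.word, ext']))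
  have hker0 : ∀ w ∈ C₀, pr w = 0 → w = 0 := by
    intro w hw hp
    have h1 := hweight w
    rw [hp, show support₂ (0 : α → ZMod 2) = ∅ by ext; simp [support₂], Finset.card_empty] at h1
    obtain ⟨k, hk⟩ := hdouble w hw
    rw [CodeCover.norm_eq] at hk
    have h2 : (CodeCover.supp w).card = 0 := by split_ifs at h1 <;> omega
    rw [← CodeCover.word_supp w, Finset.card_eq_zero.1 h2]
    funext i; simp [CodeCover.word]
  have hd11 := finrank_evenSpace hB hα
  have hC11 : Module.finrank (ZMod 2) C₀ ≤ 11 := by
    refine le_trans ?_ hd11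
    refine LinearMap.finrank_le_finrank_of_injective
      (f := (pr.comp C₀.subtype).codRestrict (evenSpace B) fun w => hEeven _ (hC₀E w.2)) ?_
    intro x y hxy
    have h := congrArg Subtype.val hxy
    change pr x.1 = pr y.1 at h
    exact Subtype.ext (sub_eq_zero.1 (hker0 _ (sub_mem x.2 y.2) (by rw [map_sub, h, sub_self])))
  have hE12 : Module.finrank (ZMod 2) E ≤ 12 := by
    let F : E →ₗ[ZMod 2] evenSpace B × ZMod 2 :=
      ((pr.comp E.subtype).codRestrict (evenSpace B) fun w => hEeven _ w.2).prod
        ((LinearMap.proj (R := ZMod 2) (φ := fun _ : Fin 24 => ZMod 2) (ψ none)).comp E.subtype)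
    have hF : Function.Injective F := by
      intro x y hxy
      have h1 : pr x.1 = pr y.1 := congrArg (fun p => (p.1 : α → ZMod 2)) hxy
      have h2 : x.1 (ψ none) = y.1 (ψ none) := congrArg Prod.snd hxy
      apply Subtype.ext
      funext i
      obtain ⟨z, rfl⟩ := ψ.surjective i
      rcases z with _ | (_ | a)
      · exact h2
      · rw [← (hδ _).1 x.2.2, ← (hδ _).1 y.2.2]; exact h2
      · exact congrFun h1 a
    have := LinearMap.finrank_le_finrank_of_injective hF
    rw [Module.finrank_prod, Module.finrank_self] at this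
    omega
  have hperp := Perp.finrank_perp C₀
  obtain ⟨v, hvK, hvE⟩ : ∃ v ∈ Perp.perp C₀, δ v ≠ 0 := by
    by_contra hcon
    push Not at hcon
    have : Perp.perp C₀ ≤ E := le_inf le_rfl fun w hw => hcon w hw
    have := Submodule.finrank_mono this
    omega
  have hC11' : 11 ≤ Module.finrank (ZMod 2) C₀ := by
    have h1 : Perp.perp C₀ ≤ E ⊔ Submodule.span (ZMod 2) {v} := by
      intro w hw
      rcases CodeCover.zmod2 (δ w) with h | h
      · exact Submodule.mem_sup_left ⟨hw, h⟩
      · refine Submodule.mem_sup.2 ⟨w - v, ⟨sub_mem hw hvK, ?_⟩, v,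
          Submodule.mem_span_singleton_self v, sub_add_cancel w v⟩
        rw [SetLike.mem_coe, LinearMap.mem_ker, map_sub, h, (CodeCover.zmod2 (δ v)).resolve_left hvE,
          sub_self]
    have h2 := (Submodule.finrank_mono h1).trans
      (Submodule.finrank_add_le_finrank_add_finrank _ _)
    have h3 : Module.finrank (ZMod 2) (Submodule.span (ZMod 2) {v}) ≤ 1 := by
      have := finrank_span_le_card (R := ZMod 2) ({v} : Set CodeCover.W)
      simpa using this
    omega
  -- the word on the two further points
  set u : CodeCover.W := CodeCover.word {ψ none, ψ (some none)} with hu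
  have hupr : pr u = 0 := by
    funext a; simp [pr, u, CodeCover.word, LinearMap.funLeft_apply]
  have huC : u ∉ C₀ := fun h => by
    have := congrFun (hker0 u h hupr) (ψ none)
    simp [u, CodeCover.word] at this
  have huE : u ∈ E := by
    refine ⟨Perp.mem_perp.2 fun w hw => ?_, ?_⟩
    · rw [← CodeCover.word_supp w, hu, CodeCover.sum_word_mul, ZMod.natCast_eq_zero_iff_even]
      have h := (hδ w).1 (hC₀E hw).2
      rcases CodeCover.zmod2 (w (ψ none)) with e | e
      · have : ({ψ none, ψ (some none)} : Finset (Fin 24)) ∩ CodeCover.supp w = ∅ := by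
          ext x; simp [CodeCover.supp]; rintro (rfl | rfl) <;> simp [← h, e]
        simp [this]
      · have : ({ψ none, ψ (some none)} : Finset (Fin 24)) ∩ CodeCover.supp w =
            {ψ none, ψ (some none)} := by
          rw [Finset.inter_eq_left]
          intro x hx
          rcases Finset.mem_insert.1 hx with rfl | hx
          · simp [CodeCover.supp, e]
          · rw [Finset.mem_singleton] at hx; subst hx; simp [CodeCover.supp, ← h, e]
        rw [this, Finset.card_pair (ψ.injective.ne (by simp))]
        exact even_two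
    · rw [SetLike.mem_coe, LinearMap.mem_ker, hδ]
      simp [u, CodeCover.word]
  have hEeq : C₀ ⊔ Submodule.span (ZMod 2) {u} = E := by
    refine Submodule.eq_of_le_of_finrank_le
      (sup_le hC₀E ((Submodule.span_singleton_le_iff_mem _ _).2 huE)) ?_
    have hlt : C₀ < C₀ ⊔ Submodule.span (ZMod 2) {u} := lt_of_le_of_ne le_sup_left fun e =>
      huC (e.symm ▸ Submodule.mem_sup_right (Submodule.mem_span_singleton_self u) : u ∈ C₀)
    have := Submodule.finrank_lt_finrank_of_lt hlt
    omega
  let C := C₀ ⊔ Submodule.span (ZMod 2) {v}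
  have hvv : ∑ i, v i * v i = 0 := by
    rw [← CodeCover.word_supp v, CodeCover.sum_word_mul, ZMod.natCast_eq_zero_iff_even,
      Finset.inter_self, hweight]
    exact even_of_parity hB hα _ _ (hK v hvK)
  have hC : CodeCover.Hyp C := by
    refine Perp.hyp_of_perp ?_ fun w hw hne => ?_
    · intro x hx y hy
      obtain ⟨a, ha, a', ha', rfl⟩ := Submodule.mem_sup.1 hx
      obtain ⟨c, hc, c', hc', rfl⟩ := Submodule.mem_sup.1 hy
      obtain ⟨r, rfl⟩ := Submodule.mem_span_singleton.1 ha'
      obtain ⟨s, rfl⟩ := Submodule.mem_span_singleton.1 hc'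
      have h1 : ∑ i, a i * c i = 0 := Perp.mem_perp.1 (horth ha) c hc
      have h2 : ∑ i, v i * c i = 0 := Perp.mem_perp.1 hvK c hc
      have h3 : ∑ i, a i * v i = 0 := by
        rw [← Perp.mem_perp.1 hvK a ha]; exact Finset.sum_congr rfl fun i _ => mul_comm _ _
      simp only [Pi.add_apply, Pi.smul_apply, smul_eq_mul, add_mul, mul_add, Finset.sum_add_distrib,
        mul_assoc, mul_left_comm _ s, ← Finset.mul_sum, h1, h2, h3, hvv, mul_zero, add_zero]
    · have hwK : w ∈ Perp.perp C₀ :=
        Perp.mem_perp.2 fun c hc => Perp.mem_perp.1 hw c (Submodule.mem_sup_left hc)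
      have hwv : ∑ i, w i * v i = 0 := Perp.mem_perp.1 hw v
        (Submodule.mem_sup_right (Submodule.mem_span_singleton_self v))
      rw [CodeCover.norm_eq, hweight]
      rcases CodeCover.zmod2 (δ w) with h | h
      · have hwE : w ∈ E := ⟨hwK, h⟩
        have hwE' := hwE
        rw [← hEeq] at hwE'
        obtain ⟨c, hc, c', hc', hsum⟩ := Submodule.mem_sup.1 hwE'
        obtain ⟨r, rfl⟩ := Submodule.mem_span_singleton.1 hc'
        have huv : ∑ i, u i * v i = 1 := by
          rw [show ∑ i, u i * v i = δ v by
            show _ = v (ψ none) + v (ψ (some none))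
            rw [Fintype.sum_eq_add (ψ none) (ψ (some none))
              (ψ.injective.ne (show (none : Option (Option α)) ≠ some none by simp))
              (fun x hx => by simp [u, CodeCover.word, hx.1, hx.2])]
            simp [u, CodeCover.word]]
          exact (CodeCover.zmod2 (δ v)).resolve_left hvE
        have hcv : ∑ i, c i * v i = 0 := by
          rw [← Perp.mem_perp.1 hvK c hc]; exact Finset.sum_congr rfl fun i _ => mul_comm _ _
        have hr : r = 0 := by
          rw [← hsum] at hwv
          simpa [add_mul, Finset.sum_add_distrib, mul_assoc, ← Finset.mul_sum, hcv, huv] using hwv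
        rw [hr, zero_smul, add_zero] at hsum
        subst hsum
        have h6 := Parity.weight_3622 hB hα (support₂ (pr c)) 0 (by norm_num) (by
          have : support₂ (pr c) ≠ ∅ := fun e => hne (hker0 c hc (by
            rw [← wd_support₂ (pr c), e]; funext a; simp [wd]))
          have := Finset.card_pos.2 (Finset.nonempty_iff_ne_empty.2 this)
          omega)
          (fun b hb => by simpa using mem_evenSpace.1 (hEeven c hwE) b hb)
        obtain ⟨k, hk⟩ := hdouble c hc
        rw [CodeCover.norm_eq, hweight] at hk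
        split_ifs at hk ⊢ <;> omega
      · have hne' : w (ψ none) ≠ w (ψ (some none)) := fun e => by
          rw [(hδ w).2 e] at h; exact zero_ne_one h
        have h1 : ((if w (ψ none) = 0 then 0 else 1) +
            if w (ψ (some none)) = 0 then 0 else 1 : ℕ) = 1 := by
          rcases CodeCover.zmod2 (w (ψ none)) with e | e <;>
            rcases CodeCover.zmod2 (w (ψ (some none))) with e' | e' <;> simp_all
        have := Parity.weight_3622 hB hα (support₂ (pr w)) 1 le_rfl (by omega)
          (fun b hb => h1 ▸ hK w hwK b hb)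
        omega
  refine ⟨C, ψ, hC, fun b => ?_⟩
  have hmem : ∀ b ∈ B, ext' b ∈ CodeCover.octs C := fun b hb =>
    CodeCover.mem_octs.2 ⟨Submodule.mem_sup_left (hext b hb), hext8 b hb⟩
  refine ⟨hmem b, fun ho => ?_⟩
  have hb6 : b.card = 6 := by
    have := (CodeCover.mem_octs.1 ho).2
    rw [Finset.card_image_of_injective _ ψ.injective, Finset.card_insertNone,
      Finset.card_insertNone] at this
    omega
  obtain ⟨T, hTb, hT⟩ := Finset.exists_subset_card_eq (show 3 ≤ b.card by omega)
  obtain ⟨c, hc, hTc⟩ := Steiner.exists_block hB hT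
  have mono : ∀ {s t : Finset α}, s ⊆ t → ext' s ⊆ ext' t := fun h =>
    Finset.image_subset_image (Finset.insertNone.monotone (Finset.insertNone.monotone h))
  have heq := ((CodeCover.steiner hC).2 (ext' T) (by
      rw [Finset.card_image_of_injective _ ψ.injective, Finset.card_insertNone,
        Finset.card_insertNone, hT])).unique ⟨ho, mono hTb⟩ ⟨hmem c hc, mono hTc⟩
  rw [Finset.insertNone.injective (Finset.insertNone.injective
    (Finset.image_injective ψ.injective heq))]
  exact hc

end Cfsg.Agent.Golay.Derived22
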