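import Cfsg.Agent.Lib.Golay.Basic

/-!
Certificates for the Mathieu group M24: words in the five letters `t, t⁻¹, s, c, c⁻¹` (numbered
0, 1, 2, 3, 4; the first letter is applied last).  Produced by a search outside Lean; everything
about them is re-checked in `M24.lean`.
-/

set_option autoImplicit false

namespace Cfsg.Agent.Golay.M24Data

/-- The base: five points of an octad, a sixth point of it and one point outside. -/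
def baseIx : List ℕ := [0, 1, 2, 3, 4, 7, 5]

/-- The mask of the octad through the first five base points. -/
def baseOctad : ℕ := 5279

/-- Packed tables of the five letters. -/
def letterTab : ℕ → ℕ
  | 0 => 956302485175575353788796878166559809
  | 1 => 983478296959358443554250846857397270
  | 2 => 1795248432537898728475572672376535
  | 3 => 974380510768821363662145534143076928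
  | 4 => 980275914351787324191492553553580224
  | _ => 984818244535754528103549039458486304

/-- Words for the orbit of base point 0 under the fixer of the earlier ones. -/
def trans0 : List (List ℕ) :=
  [[],
   [0],
   [0, 0],
   [0, 0, 0],
   [3, 3, 0],
   [1, 4, 0],
   [4, 0],
   [0, 4, 0],
   [0, 0, 4, 0],
   [2, 1, 4, 0],
   [1, 2, 0, 0],
   [2, 0, 0],
   [2, 1, 1],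
   [1, 3, 1],
   [3, 1],
   [0, 3, 1],
   [0, 0, 3, 1],
   [1, 3, 0],
   [3, 0],
   [4, 1],
   [0, 4, 1],
   [1, 1],
   [1],
   [2]]

/-- Words for the orbit of base point 1 under the fixer of the earlier ones. -/
def trans1 : List (List ℕ) :=
  [[],
   [4, 4],
   [2, 0, 2, 3],
   [3, 3],
   [1, 4, 0, 3, 3, 1],
   [4],
   [2, 1, 2, 3],
   [2, 0, 2, 4],
   [1, 3, 0, 4, 1, 1],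
   [0, 3, 1, 3, 1, 1],
   [0, 3, 1, 1, 1, 1],
   [2, 1, 2],
   [1, 3, 0, 3, 0, 4, 0],
   [2, 1, 2, 4],
   [1, 4, 1, 4, 1, 3],
   [1, 1, 4, 4, 0],
   [0, 0, 0, 3, 1, 1],
   [3],
   [2, 0, 4, 1, 2],
   [1, 3, 0, 0, 4, 0, 0],
   [2, 0, 2, 4, 4],
   [2, 0, 0, 2],
   [2, 0, 2]]

/-- Words for the orbit of base point 2 under the fixer of the earlier ones. -/
def trans2 : List (List ℕ) :=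
  [[],
   [3, 0, 3, 0, 3, 0],
   [0, 0, 4, 1, 1, 1, 0, 3, 1, 1, 1, 2, 0],
   [2, 1, 2, 0, 3, 0, 2, 3, 1],
   [3, 2, 1, 2, 0, 4, 1, 4, 0, 3, 1],
   [3, 3, 1, 3, 0, 0, 3, 3, 0],
   [2, 0, 2, 2, 0, 0, 2, 4],
   [3, 3, 2, 1, 2, 0, 4, 0, 2, 0, 4, 0],
   [3, 2, 1, 2, 2, 1, 1, 2],
   [3, 3, 0, 3, 1, 3, 1, 2, 0],
   [0, 0, 3, 1, 4, 0, 0, 3, 1, 3, 1, 1, 3],
   [2, 1, 2, 2, 3, 0, 2],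
   [3, 2, 0, 2, 2, 0, 2, 3, 3],
   [3, 3, 0, 3, 0, 3, 0, 4],
   [1, 3, 3, 0, 0, 0, 3, 2, 3, 0, 0],
   [2, 1, 2, 1, 1, 2, 4, 4, 1],
   [0, 0, 0, 0, 4, 1, 2, 0, 0, 0, 2],
   [1, 1, 3, 1, 1, 4, 0, 1, 4, 0, 3, 3, 1, 3],
   [3, 3, 1, 3, 3, 0, 0],
   [4, 4, 0, 0, 0, 0, 4, 1],
   [3, 2, 1, 2, 2, 3, 1, 2],
   [4, 4, 0, 4, 0, 0, 2, 1, 1]]

/-- Words for the orbit of base point 3 under the fixer of the earlier ones. -/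
def trans3 : List (List ℕ) :=
  [[],
   [4, 1, 4, 1, 4, 1],
   [2, 0, 4, 2, 2, 0, 2, 4, 4, 4, 1, 4, 0, 3, 3, 1, 4],
   [2, 0, 0, 2, 2, 0, 2, 4, 2, 1, 1, 2, 1, 1, 1, 1, 4, 0, 0],
   [0, 0, 0, 0, 4, 1, 1, 3, 0, 4, 1, 1, 3],
   [0, 4, 2, 1, 4, 1, 2, 0, 2, 2, 0, 2, 2, 0, 3, 1, 2],
   [1, 4, 4, 1, 1, 4, 0, 4, 4, 1, 3, 3, 0, 0, 2, 1, 2, 4, 4],
   [2, 0, 0, 2, 2, 0, 2, 4, 0, 0, 3, 1, 4, 0, 2, 4, 1, 2],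
   [0, 0, 2, 1, 1, 3, 1, 3, 3, 4, 2, 0, 2, 0, 3, 1, 1, 1, 1, 4],
   [2, 1, 4, 2, 2, 0, 2, 1, 3, 3, 0, 0, 2, 3, 0, 2, 4],
   [0, 3, 1, 1, 1, 1, 3, 3, 1, 3, 3, 0, 0, 2, 0, 3, 1, 2, 3],
   [1, 1, 4, 4, 0, 4, 4, 2, 1, 2, 2, 4, 0, 2],
   [2, 1, 2, 1, 3, 0, 0, 2, 3, 3, 1],
   [0, 0, 2, 1, 1, 3, 1, 3, 3, 2, 1, 2, 1, 3, 3, 0, 2, 1],
   [2, 0, 0, 2, 2, 0, 2, 4, 4, 2, 0, 2, 1, 4, 1, 2, 4, 0],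
   [0, 4, 2, 1, 4, 1, 2, 0, 2, 3, 3, 2, 1, 2, 2, 1, 1, 2, 3],
   [2, 0, 0, 2, 2, 0, 2, 4, 4, 0, 3, 1, 1, 1, 1, 3],
   [1, 4, 1, 4, 1, 4, 0, 0, 4, 0, 4, 1, 2, 0, 0, 2, 3],
   [2, 1, 4, 2, 2, 0, 2, 3, 2, 0, 2, 2, 3, 0, 0, 2],
   [2, 0, 4, 2, 2, 0, 2, 4, 2, 0, 2, 1, 3, 1, 1, 2, 3, 1, 1],
   [2, 0, 0, 2, 2, 0, 2, 4, 2, 0, 3, 1, 2, 2, 4, 0, 0, 2]]

/-- Words for the orbit of base point 4 under the fixer of the earlier ones. -/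
def trans4 : List (List ℕ) :=
  [[],
   [0, 4, 2, 1, 4, 1, 2, 0, 2, 4, 2, 0, 2, 0, 3, 0, 0, 3, 3, 1],
   [2, 0, 4, 2, 2, 0, 2, 4, 2, 0, 2, 1, 1, 2, 0, 2, 1, 1, 3, 0],
   [0, 0, 2, 1, 1, 3, 1, 3, 3, 4, 1, 4, 1, 2, 3, 0, 2, 1],
   [1, 1, 4, 4, 0, 4, 4, 3, 0, 4, 1, 1, 2, 4, 0, 2, 4, 1],
   [0, 3, 0, 3, 0, 3, 2, 1, 1, 2, 0, 4, 1, 1, 1, 3, 3, 1],
   [1, 1, 4, 4, 0, 4, 4, 1, 1, 3, 1, 1, 4, 0, 2, 4, 4, 1, 2, 3],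
   [2, 1, 4, 2, 2, 0, 2, 0, 0, 3, 1, 4, 0, 2, 1, 4, 0, 0, 2],
   [4, 4, 2, 1, 2, 2, 1, 2, 4, 3, 3, 1, 3, 0, 4, 4, 0, 4, 1],
   [0, 3, 0, 3, 0, 3, 4, 2, 1, 2, 1, 1, 1, 3, 1, 4, 0, 0],
   [0, 3, 1, 1, 1, 1, 3, 3, 3, 3, 2, 0, 3, 1, 1, 2],
   [0, 3, 0, 3, 0, 3, 1, 1, 3, 1, 1, 4, 0, 2, 4, 1, 2, 3, 3],
   [2, 1, 4, 2, 2, 0, 2, 2, 1, 2, 0, 3, 1, 4, 1, 3, 1, 2, 3, 1],
   [2, 1, 4, 2, 2, 0, 2, 2, 1, 2, 1, 3, 1, 1, 2, 3, 1, 1, 4, 4],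
   [0, 3, 1, 1, 1, 1, 3, 3, 0, 0, 0, 0, 4, 1, 2, 0, 3, 0, 4, 1, 2],
   [0, 3, 0, 3, 0, 3, 4, 4, 1, 4, 4, 1, 3, 0, 4, 0],
   [1, 1, 4, 4, 0, 4, 4, 0, 4, 4, 1, 3, 0, 1, 4, 1, 2, 4, 0, 3],
   [0, 3, 0, 3, 0, 3, 2, 1, 2, 1, 4, 4, 1, 1, 2, 4, 1],
   [0, 3, 3, 2, 0, 0, 2, 0, 2, 2, 0, 2, 2, 0, 0, 0, 0, 2, 3, 3],
   [1, 2, 0, 4, 0, 4, 1, 4, 4, 1, 4, 0, 4, 4, 1, 1, 1, 1]]

/-- Words for the orbit of base point 5 under the fixer of the earlier ones. -/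
def trans5 : List (List ℕ) :=
  [[],
   [0, 3, 0, 3, 0, 3, 1, 4, 1, 4, 1, 4, 1, 1, 4, 0, 4, 4, 0, 4, 1],
   [0, 4, 2, 1, 4, 1, 2, 0, 2, 3, 3, 1, 3, 1, 4, 0, 3, 3, 0]]

/-- Words for the orbit of base point 6 under the fixer of the earlier ones. -/
def trans6 : List (List ℕ) :=
  [[],
   [2, 1, 1, 1, 2, 0, 3, 1, 1, 1, 1, 4, 4, 1, 4, 1, 1, 2, 4, 1, 1, 2, 3, 1],
   [0, 3, 1, 1, 1, 1, 3, 3, 4, 0, 3, 0, 3, 0, 2, 0, 0, 0, 0, 0, 4, 0, 2, 4],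
   [1, 1, 4, 4, 0, 4, 4, 2, 0, 3, 1, 2, 1, 3, 0, 0, 0, 3, 1, 1, 1, 4, 0],
   [1, 2, 0, 4, 0, 4, 1, 4, 4, 2, 0, 2, 1, 1, 2, 0, 0, 0, 0, 0, 2, 0, 3, 0],
   [1, 4, 1, 4, 1, 4, 3, 2, 1, 2, 0, 3, 1, 1, 3, 1, 3, 0, 4, 1, 4, 1],
   [1, 4, 1, 4, 1, 4, 4, 1, 3, 0, 2, 4, 4, 0, 0, 4, 0, 3, 3],
   [0, 4, 4, 0, 0, 0, 3, 1, 2, 0, 0, 2, 4, 1, 4, 1, 4, 1, 2, 0, 3, 1, 1, 4, 0, 3, 1, 2, 4],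
   [1, 2, 0, 4, 0, 4, 1, 4, 4, 4, 4, 2, 0, 3, 0, 0, 0, 4, 1, 2],
   [2, 0, 4, 2, 2, 0, 2, 4, 3, 1, 1, 3, 0, 2, 4, 4, 0, 3, 1],
   [0, 3, 1, 1, 1, 1, 3, 3, 0, 0, 3, 1, 4, 0, 0, 0, 2, 0, 4, 4, 0, 4, 0, 4, 1, 3],
   [0, 3, 0, 3, 0, 3, 1, 4, 1, 4, 1, 4, 3, 0, 4, 0, 2, 0, 0, 0, 0, 0, 0, 0],
   [0, 3, 3, 2, 0, 0, 2, 0, 2, 0, 0, 4, 0, 4, 1, 2, 0, 4, 0, 3, 1, 4, 4, 0, 2],
   [1, 1, 4, 4, 0, 4, 4, 1, 1, 3, 1, 1, 4, 0, 1, 1, 2, 0, 1, 1, 4, 1, 3, 1, 3, 1, 3],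
   [2, 1, 4, 2, 2, 0, 2, 3, 3, 1, 1, 4, 0, 4, 4, 1, 4, 1, 1, 1],
   [1, 1, 4, 4, 0, 4, 4, 2, 1, 2, 3, 0, 2, 1, 1, 3, 0, 0, 0]]

end Cfsg.Agent.Golay.M24Data
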