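import Mathlib

/-!
Fixers of lists of points in a permutation group and the step lemma of an order computation.
-/

set_option autoImplicit false

namespace Cfsg.Agent.Golay.Perm

variable {α : Type*}

/-- The elements of `G` fixing every point of `l`. -/
def fixers (G : Subgroup (Equiv.Perm α)) (l : List α) : Subgroup (Equiv.Perm α) where
  carrier := {g | g ∈ G ∧ ∀ x ∈ l, g x = x}
  one_mem' := ⟨G.one_mem, fun _ _ => rfl⟩
  mul_mem' := by
    rintro a b ⟨ha, ha'⟩ ⟨hb, hb'⟩
    exact ⟨G.mul_mem ha hb, fun x hx => by rw [Equiv.Perm.mul_apply, hb' x hx, ha' x hx]⟩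
  inv_mem' := by
    rintro a ⟨ha, ha'⟩
    refine ⟨G.inv_mem ha, fun x hx => ?_⟩
    rw [Equiv.Perm.inv_eq_iff_eq, ha' x hx]

theorem mem_fixers {G : Subgroup (Equiv.Perm α)} {l : List α} {g : Equiv.Perm α} :
    g ∈ fixers G l ↔ g ∈ G ∧ ∀ x ∈ l, g x = x := Iff.rfl

theorem fixers_nil (G : Subgroup (Equiv.Perm α)) : fixers G [] = G := by
  ext g; simp [mem_fixers]

theorem fixers_le (G : Subgroup (Equiv.Perm α)) (l : List α) : fixers G l ≤ G := fun _ h => h.1

theorem fixers_mono {G H : Subgroup (Equiv.Perm α)} (h : G ≤ H) (l : List α) :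
    fixers G l ≤ fixers H l := fun _ hg => ⟨h hg.1, hg.2⟩

/-- Orbit-stabiliser in the form used for order computations. -/
theorem card_fixers_step (G : Subgroup (Equiv.Perm α)) (l : List α) (b : α) (T : Finset α)
    (h1 : ∀ g ∈ fixers G l, g b ∈ T) (h2 : ∀ t ∈ T, ∃ g ∈ fixers G l, g b = t) :
    Nat.card (fixers G l) = T.card * Nat.card (fixers G (b :: l)) := by
  have horb : MulAction.orbit (fixers G l) b = (T : Set α) := by
    ext t
    constructor
    · rintro ⟨g, rfl⟩; exact h1 g.1 g.2
    · intro ht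
      obtain ⟨g, hg, rfl⟩ := h2 t ht
      exact ⟨⟨g, hg⟩, rfl⟩
  have hstab : (MulAction.stabilizer (fixers G l) b).map (fixers G l).subtype = fixers G (b :: l) := by
    ext g
    constructor
    · rintro ⟨⟨x, hx⟩, hb, rfl⟩
      refine ⟨hx.1, fun y hy => ?_⟩
      rcases List.mem_cons.1 hy with rfl | hy
      · exact hb
      · exact hx.2 y hy
    · intro hg
      exact ⟨⟨g, hg.1, fun y hy => hg.2 y (List.mem_cons_of_mem _ hy)⟩,
        hg.2 b List.mem_cons_self, rfl⟩
  rw [← Subgroup.index_mul_card (MulAction.stabilizer (fixers G l) b), MulAction.index_stabilizer,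
    horb, Set.ncard_coe_finset, ← hstab,
    Subgroup.card_map_of_injective (fixers G l).subtype_injective]

/-- Two nested groups with the same order computation are equal. -/
theorem eq_of_le_of_card_eq {H G : Subgroup (Equiv.Perm α)} [Finite α] (h : H ≤ G)
    (hc : Nat.card H = Nat.card G) : H = G :=
  Subgroup.eq_of_le_of_card_ge h hc.ge

end Cfsg.Agent.Golay.Perm
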