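import Cfsg.Agent.Lib.Golay.Design
import Cfsg.Agent.Lib.Golay.M24Data
import Cfsg.Agent.Lib.Golay.Perm

/-!
The group `Cfsg.M24`: membership criterion, the three generators, `Nat.card M24 = 244823040`,
generation by the three generators, transitivity on ordered 5-tuples of distinct points.
-/

set_option autoImplicit false
set_option maxRecDepth 10000

namespace Cfsg.Agent.Golay.M24

open Cfsg Cfsg.Agent.Golay.Basic Cfsg.Agent.Golay.Design Cfsg.Agent.Golay.M24Data Cfsg.Agent.Golay.Perm
open scoped Pointwise

/-- Supports of code words. -/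
abbrev codeSets : Set (Finset GolayPt) := supports (golayCode : Set (GolayPt → ZMod 2))

theorem smul_finset_def (g : Equiv.Perm GolayPt) (s : Finset GolayPt) : g • s = s.image g := rfl

theorem smul_symmDiff (g : Equiv.Perm GolayPt) (s t : Finset GolayPt) :
    g • symmDiff s t = symmDiff (g • s) (g • t) := by
  simp only [smul_finset_def]
  exact Finset.image_symmDiff _ _ g.injective

theorem mem_smul_iff (g : Equiv.Perm GolayPt) (s : Finset GolayPt) (p : GolayPt) :
    g p ∈ g • s ↔ p ∈ s := Finset.smul_mem_smul_finset_iff g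

/-! ### Membership -/

theorem smul_enc_mem (g : Equiv.Perm GolayPt) : ∀ (L : List ℕ),
    (∀ b ∈ L, g • maskSet b ∈ codeSets) → ∀ a, g • maskSet (enc L a) ∈ codeSets
  | [], _, a => by
    have : maskSet (enc [] a) = ∅ := by simp only [enc]; decide
    rw [this, Finset.smul_finset_empty, mem_supports_iff]
    decide
  | c :: cs, h, a => by
    simp only [enc]
    rw [mask_maskSet_xor, smul_symmDiff]
    refine symmDiff_mem_supports ?_ (smul_enc_mem g cs (fun b hb => h b (List.mem_cons_of_mem _ hb)) _)
    rcases Nat.mod_two_eq_zero_or_one a with ha | ha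
    · rw [ha, zero_mul, show maskSet 0 = ∅ by decide, Finset.smul_finset_empty, mem_supports_iff]
      decide
    · rw [ha, one_mul]; exact h c List.mem_cons_self

theorem mem_M24_of_basis {g : Equiv.Perm GolayPt}
    (h : ∀ b ∈ basisMasks, g • maskSet b ∈ codeSets) : g ∈ M24 := by
  show g • codeSets = codeSets
  have hsub : g • codeSets ⊆ codeSets := by
    rintro _ ⟨s, hs, rfl⟩
    have hm := mem_supports_iff.1 hs
    simp only [isCode, beq_iff_eq] at hm
    show g • s ∈ codeSets
    rw [← maskSet_mask s, ← hm]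
    exact smul_enc_mem g _ h _
  exact Set.eq_of_subset_of_ncard_le hsub (by rw [Set.ncard_smul_set]) (Set.toFinite _)

theorem smul_mem_supports {g : Equiv.Perm GolayPt} (hg : g ∈ M24) {s : Finset GolayPt}
    (hs : s ∈ codeSets) : g • s ∈ codeSets := by
  have h : g • codeSets = codeSets := hg
  rw [← h]; exact Set.smul_mem_smul_set hs

theorem smul_mem_octads {g : Equiv.Perm GolayPt} (hg : g ∈ M24) {s : Finset GolayPt}
    (hs : s ∈ octads) : g • s ∈ octads :=
  ⟨smul_mem_supports hg hs.1, by rw [Finset.card_smul_finset]; exact hs.2⟩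

theorem smul_mem_dodecads {g : Equiv.Perm GolayPt} (hg : g ∈ M24) {s : Finset GolayPt}
    (hs : s ∈ dodecads) : g • s ∈ dodecads :=
  ⟨smul_mem_supports hg hs.1, by rw [Finset.card_smul_finset]; exact hs.2⟩

theorem coe_smul_finset (g : M24) (s : Finset GolayPt) : g • s = (g : Equiv.Perm GolayPt) • s := rfl

/-! ### Generators and words -/

/-- The translation by one. -/
def transl : Equiv.Perm GolayPt := Equiv.optionCongr (Equiv.addRight (1 : ZMod 23))

theorem transl_mem : transl ∈ M24 :=
  mem_M24_of_basis fun b hb => mem_supports_iff.2 (by revert b; decide +kernel)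

theorem projInv_mem : projInv ∈ M24 :=
  mem_M24_of_basis fun b hb => mem_supports_iff.2 (by revert b; decide +kernel)

theorem cubeTwist_mem : cubeTwist ∈ M24 :=
  mem_M24_of_basis fun b hb => mem_supports_iff.2 (by revert b; decide +kernel)

/-- The three generators. -/
def genSet : Set (Equiv.Perm GolayPt) := {transl, projInv, cubeTwist}

/-- The group they generate. -/
def genGroup : Subgroup (Equiv.Perm GolayPt) := Subgroup.closure genSet

theorem genGroup_le : genGroup ≤ M24 := by
  rw [genGroup, Subgroup.closure_le]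
  rintro g (rfl | rfl | rfl)
  · exact transl_mem
  · exact projInv_mem
  · exact cubeTwist_mem

/-- The five letters. -/
noncomputable def letterPerm : ℕ → Equiv.Perm GolayPt
  | 0 => transl
  | 1 => transl⁻¹
  | 2 => projInv
  | 3 => cubeTwist
  | 4 => cubeTwist⁻¹
  | _ => 1

/-- Entry of a packed table. -/
def tabAt (tab i : ℕ) : ℕ := (tab >>> (5 * i)) % 32

theorem letter_inv_aux (g : Equiv.Perm GolayPt) (tab : ℕ)
    (h : ∀ p, g (pt (tabAt tab (ix p))) = p) (h' : ∀ p, tabAt tab (ix p) < 24) (p : GolayPt) :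
    ix (g⁻¹ p) = tabAt tab (ix p) := by
  have : g⁻¹ p = pt (tabAt tab (ix p)) := by rw [Equiv.Perm.inv_eq_iff_eq, h p]
  rw [this, ix_pt (h' p)]

theorem ix_letterPerm (k : ℕ) (p : GolayPt) :
    ix (letterPerm k p) = tabAt (letterTab k) (ix p) := by
  match k with
  | 0 => revert p; decide +kernel
  | 1 => exact letter_inv_aux _ _ (by decide +kernel) (by decide +kernel) p
  | 2 => revert p; decide +kernel
  | 3 =>
    show ix (cubeTwistFun p) = _
    revert p; decide +kernel
  | 4 =>
    refine letter_inv_aux _ _ ?_ (by decide +kernel) p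
    intro q
    show cubeTwistFun _ = q
    revert q; decide +kernel
  | _ + 5 =>
    show ix p = tabAt 984818244535754528103549039458486304 (ix p)
    revert p; decide +kernel

theorem letterPerm_mem (k : ℕ) : letterPerm k ∈ genGroup := by
  have h0 : transl ∈ genGroup := Subgroup.subset_closure (Or.inl rfl)
  have h3 : cubeTwist ∈ genGroup := Subgroup.subset_closure (Or.inr (Or.inr rfl))
  match k with
  | 0 => exact h0
  | 1 => exact genGroup.inv_mem h0
  | 2 => exact Subgroup.subset_closure (Or.inr (Or.inl rfl))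
  | 3 => exact h3
  | 4 => exact genGroup.inv_mem h3
  | _ + 5 => exact genGroup.one_mem

/-- The permutation of a word (first letter applied last). -/
noncomputable def evalWord : List ℕ → Equiv.Perm GolayPt
  | [] => 1
  | k :: w => letterPerm k * evalWord w

/-- The action of a word on indices. -/
def runWord : List ℕ → ℕ → ℕ
  | [], i => i
  | k :: w, i => tabAt (letterTab k) (runWord w i)

theorem ix_evalWord : ∀ (w : List ℕ) (p : GolayPt), ix (evalWord w p) = runWord w (ix p)
  | [], _ => rfl
  | k :: w, p => by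
    show ix (letterPerm k (evalWord w p)) = _
    rw [ix_letterPerm, ix_evalWord w p]; rfl

theorem evalWord_pt (w : List ℕ) {i : ℕ} (hi : i < 24) :
    evalWord w (pt i) = pt (runWord w i) := by
  rw [← pt_ix (evalWord w (pt i)), ix_evalWord, ix_pt hi]

theorem evalWord_mem_gen : ∀ w : List ℕ, evalWord w ∈ genGroup
  | [] => genGroup.one_mem
  | k :: w => genGroup.mul_mem (letterPerm_mem k) (evalWord_mem_gen w)

theorem evalWord_mem (w : List ℕ) : evalWord w ∈ M24 := genGroup_le (evalWord_mem_gen w)

theorem evalWord_append : ∀ v w : List ℕ, evalWord (v ++ w) = evalWord v * evalWord w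
  | [], w => (one_mul _).symm
  | k :: v, w => by
    show letterPerm k * evalWord (v ++ w) = (letterPerm k * evalWord v) * evalWord w
    rw [evalWord_append v w, mul_assoc]

/-! ### Octads and fixed points -/

/-- The masks of the 759 octads. -/
def octList : List ℕ := codeList.filter fun m => pc m == 8

theorem maskSet_mem_octads {m : ℕ} (h : m ∈ octList) : maskSet m ∈ octads := by
  simp only [octList, List.mem_filter, beq_iff_eq] at h
  have hc := isCode_of_mem_codeList h.1
  have hlt : m < 2 ^ 24 :=
    of_decide_eq_true (forall_code (P := fun x => decide (x < 2 ^ 24)) (by decide +kernel) hc)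
  rw [mem_octads_iff, mask_maskSet hlt, card_maskSet]
  exact ⟨hc, h.2⟩

theorem mask_mem_octList {o : Finset GolayPt} (h : o ∈ octads) : mask o ∈ octList := by
  rw [mem_octads_iff, card_eq_pc] at h
  simp only [octList, List.mem_filter, beq_iff_eq]
  exact ⟨mem_codeList h.1, h.2⟩

theorem smul_eq_of_fix_five {g : Equiv.Perm GolayPt} (hg : g ∈ M24) {o s : Finset GolayPt}
    (ho : o ∈ octads) (hs : 5 ≤ s.card) (hso : s ⊆ o) (hfix : ∀ x ∈ s, g x = x) : g • o = o := by
  refine octads_eq_of_subset hs (smul_mem_octads hg ho) ho ?_ hso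
  intro x hx
  rw [← hfix x hx]
  exact (mem_smul_iff g o x).2 (hso hx)

/-- The intersection of the sets (or complements) through point `i`. -/
def atom (i : ℕ) : List ℕ → ℕ
  | [] => 16777215
  | o :: L => (if o.testBit i then o else o ^^^ 16777215) &&& atom i L

/-- The points forced to be fixed by a fixed set `F`. -/
def forced (F G : ℕ) : Bool :=
  let L := octList.filter fun o => decide (5 ≤ pc (o &&& F))
  (List.range 24).all fun i => !G.testBit i || atom i L == 1 <<< i

theorem atom_testBit {g : Equiv.Perm GolayPt} {p : GolayPt} :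
    ∀ L : List ℕ, (∀ o ∈ L, g • maskSet o = maskSet o) →
    (atom (ix p) L).testBit (ix (g p)) = true
  | [], _ => by
    have : ∀ j < 24, (16777215 : ℕ).testBit j = true := by decide
    exact this _ (ix_lt _)
  | o :: L, h => by
    have ih := atom_testBit (g := g) (p := p) L fun o' ho' => h o' (List.mem_cons_of_mem _ ho')
    have ho := h o List.mem_cons_self
    have hiff : o.testBit (ix (g p)) = o.testBit (ix p) := by
      rw [Bool.eq_iff_iff, ← mem_maskSet, ← mem_maskSet]
      conv_lhs => rw [← ho]
      exact mem_smul_iff g _ p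
    have hfull : ∀ j < 24, (16777215 : ℕ).testBit j = true := by decide
    rw [atom, Nat.testBit_and, ih, Bool.and_true]
    split
    · next hb => rw [hiff, hb]
    · next hb =>
      rw [Nat.testBit_xor, hfull _ (ix_lt _), hiff]
      simp only [Bool.not_eq_true] at hb
      rw [hb]; rfl

theorem fix_of_forced {g : Equiv.Perm GolayPt} (hg : g ∈ M24) {F G : ℕ} (h : forced F G = true)
    (hfix : ∀ x ∈ maskSet F, g x = x) : ∀ x ∈ maskSet G, g x = x := by
  intro x hx
  simp only [forced, List.all_eq_true, List.mem_range, Bool.or_eq_true, Bool.not_eq_eq_eq_not,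
    Bool.not_true, beq_iff_eq] at h
  have hb := mem_maskSet.1 hx
  rcases h (ix x) (ix_lt x) with h' | h'
  · rw [hb] at h'; cases h'
  have hL : ∀ o ∈ octList.filter (fun o => decide (5 ≤ pc (o &&& F))), g • maskSet o = maskSet o := by
    intro o ho
    simp only [List.mem_filter, decide_eq_true_eq] at ho
    refine smul_eq_of_fix_five hg (maskSet_mem_octads ho.1) (s := maskSet (o &&& F)) ?_ ?_ ?_
    · rw [card_maskSet]; exact ho.2
    · intro y hy; simp_all
    · intro y hy; exact hfix y (by simp_all)
  have ht := atom_testBit (p := x) _ hL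
  rw [h', Nat.one_shiftLeft, Nat.testBit_two_pow, decide_eq_true_eq] at ht
  exact ix_injective ht.symm

/-! ### The order computation -/

/-- Base point `k`. -/
def base (k : ℕ) : GolayPt := pt (baseIx.getD k 0)

/-- The first `k` base points, latest first. -/
def basePre : ℕ → List GolayPt
  | 0 => []
  | k + 1 => base k :: basePre k

/-- The orbit of base point `k`, as a set. -/
def baseOrbit : ℕ → Finset GolayPt
  | 5 => maskSet baseOctad \ (basePre 5).toFinset
  | 6 => (maskSet baseOctad)ᶜ
  | k => Finset.univ \ (basePre k).toFinset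

/-- The words for level `k`. -/
def transWords : ℕ → List (List ℕ)
  | 0 => trans0
  | 1 => trans1
  | 2 => trans2
  | 3 => trans3
  | 4 => trans4
  | 5 => trans5
  | _ => trans6

/-- Check of the words of level `k`. -/
def levelOK (k : ℕ) : Bool :=
  ((transWords k).all fun w => (baseIx.take k).all fun b => runWord w b == b) &&
  (List.range 24).all fun t => !decide (pt t ∈ baseOrbit k) ||
    (transWords k).any fun w => runWord w (baseIx.getD k 0) == t

theorem levelOK_all : ∀ k < 7, levelOK k = true := by decide +kernel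

theorem mem_basePre {x : GolayPt} : ∀ {k : ℕ}, x ∈ basePre k → ∃ j < k, x = base j
  | 0, h => absurd h List.not_mem_nil
  | k + 1, h => by
    rcases List.mem_cons.1 h with rfl | h
    · exact ⟨k, by omega, rfl⟩
    · obtain ⟨j, hj, rfl⟩ := mem_basePre h; exact ⟨j, by omega, rfl⟩

theorem base_mem_basePre : ∀ {k j : ℕ}, j < k → base j ∈ basePre k
  | 0, _, h => absurd h (Nat.not_lt_zero _)
  | k + 1, j, h => by
    rcases Nat.lt_succ_iff_lt_or_eq.1 h with h | rfl
    · exact List.mem_cons_of_mem _ (base_mem_basePre h)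
    · exact List.mem_cons_self

theorem baseIx_lt : ∀ k, baseIx.getD k 0 < 24 := by
  intro k
  rcases Nat.lt_or_ge k 7 with h | h
  · revert k; decide
  · rw [List.getD_eq_default _ _ (by simpa [baseIx] using h)]; norm_num

theorem trans_exists {k : ℕ} (hk : k < 7) {t : GolayPt} (ht : t ∈ baseOrbit k) :
    ∃ g ∈ fixers genGroup (basePre k), g (base k) = t := by
  have h := levelOK_all k hk
  simp only [levelOK, Bool.and_eq_true, List.all_eq_true, List.mem_range, Bool.or_eq_true,
    Bool.not_eq_eq_eq_not, Bool.not_true, decide_eq_false_iff_not, List.any_eq_true, beq_iff_eq] at h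
  obtain ⟨h1, h2⟩ := h
  rcases h2 (ix t) (ix_lt t) with hn | ⟨w, hw, hwt⟩
  · rw [pt_ix] at hn; exact absurd ht hn
  refine ⟨evalWord w, ⟨evalWord_mem_gen w, fun x hx => ?_⟩, ?_⟩
  · obtain ⟨j, hj, rfl⟩ := mem_basePre hx
    have hlen : j < baseIx.length := by simp [baseIx]; omega
    have hmem : baseIx.getD j 0 ∈ baseIx.take k := by
      rw [List.getD_eq_getElem _ _ hlen]
      exact List.mem_take_iff_getElem.2 ⟨j, by simp; omega, rfl⟩
    rw [base, evalWord_pt w (baseIx_lt j), h1 w hw _ hmem]
  · rw [base, evalWord_pt w (baseIx_lt k), hwt, pt_ix]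

theorem baseOctad_fixed {g : Equiv.Perm GolayPt} (hg : g ∈ fixers M24 (basePre 5)) :
    g • maskSet baseOctad = maskSet baseOctad :=
  smul_eq_of_fix_five hg.1 (mem_octads_iff.2 (by decide +kernel)) (s := (basePre 5).toFinset)
    (by decide +kernel) (by decide +kernel) (fun x hx => hg.2 x (List.mem_toFinset.1 hx))

theorem orbit_bound {k : ℕ} (hk : k < 7) {g : Equiv.Perm GolayPt} (hg : g ∈ fixers M24 (basePre k)) :
    g (base k) ∈ baseOrbit k := by
  have hnot : ∀ j < 7, base j ∉ basePre j := by decide +kernel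
  have hne : g (base k) ∉ (basePre k).toFinset := by
    rw [List.mem_toFinset]
    intro hmem
    refine hnot k hk ?_
    rwa [g.injective (hg.2 _ hmem)] at hmem
  match k, hk with
  | 0, _ | 1, _ | 2, _ | 3, _ | 4, _ => exact Finset.mem_sdiff.2 ⟨Finset.mem_univ _, hne⟩
  | 5, _ =>
    refine Finset.mem_sdiff.2 ⟨?_, hne⟩
    rw [← baseOctad_fixed hg, mem_smul_iff]
    decide +kernel
  | 6, _ =>
    have h5 : g ∈ fixers M24 (basePre 5) :=
      ⟨hg.1, fun x hx => hg.2 x (List.mem_cons_of_mem _ hx)⟩
    refine Finset.mem_compl.2 fun hmem => ?_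
    rw [← baseOctad_fixed h5, mem_smul_iff] at hmem
    revert hmem
    decide +kernel

theorem fixers_seven : fixers M24 (basePre 7) = ⊥ := by
  rw [eq_bot_iff]
  intro g hg
  rw [Subgroup.mem_bot]
  have h0 : ∀ x ∈ maskSet 191, g x = x := by
    have hsub : ∀ x ∈ maskSet 191, x ∈ basePre 7 := by decide +kernel
    exact fun x hx => hg.2 x (hsub x hx)
  have h1 : ∀ x ∈ maskSet 16772095, g x = x :=
    fix_of_forced hg.1 (F := 191) (by decide +kernel) h0
  have h2 : ∀ x ∈ maskSet 16777215, g x = x :=
    fix_of_forced hg.1 (F := 16772095) (by decide +kernel) h1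
  refine Equiv.ext fun x => ?_
  exact h2 x (by revert x; decide +kernel)

theorem baseOrbit_card : ∀ k < 7, (baseOrbit k).card = [24, 23, 22, 21, 20, 3, 16].getD k 0 := by
  decide +kernel

theorem card_fixers_succ {G : Subgroup (Equiv.Perm GolayPt)} (h1 : genGroup ≤ G) (h2 : G ≤ M24)
    {k : ℕ} (hk : k < 7) : Nat.card (fixers G (basePre k)) =
      (baseOrbit k).card * Nat.card (fixers G (basePre (k + 1))) :=
  card_fixers_step G _ _ _ (fun g hg => orbit_bound hk (fixers_mono h2 _ hg))
    (fun t ht => let ⟨g, hg, e⟩ := trans_exists hk ht; ⟨g, fixers_mono h1 _ hg, e⟩)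

theorem card_fixers_seven {G : Subgroup (Equiv.Perm GolayPt)} (h2 : G ≤ M24) :
    Nat.card (fixers G (basePre 7)) = 1 := by
  have : fixers G (basePre 7) = ⊥ := eq_bot_iff.2 (fixers_seven ▸ fixers_mono h2 _)
  rw [this]; simp

theorem card_of_between {G : Subgroup (Equiv.Perm GolayPt)} (h1 : genGroup ≤ G) (h2 : G ≤ M24) :
    Nat.card G = 244823040 := by
  have e := fun k hk => card_fixers_succ h1 h2 (k := k) hk
  have b := baseOrbit_card
  rw [← fixers_nil G, show ([] : List GolayPt) = basePre 0 from rfl]
  rw [e 0 (by norm_num), e 1 (by norm_num), e 2 (by norm_num), e 3 (by norm_num), e 4 (by norm_num),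
    e 5 (by norm_num), e 6 (by norm_num), card_fixers_seven h2, b 0 (by norm_num), b 1 (by norm_num),
    b 2 (by norm_num), b 3 (by norm_num), b 4 (by norm_num), b 5 (by norm_num), b 6 (by norm_num)]
  norm_num

theorem card_M24 : Nat.card M24 = 244823040 := card_of_between genGroup_le le_rfl

theorem genGroup_eq : genGroup = M24 :=
  eq_of_le_of_card_eq genGroup_le (by rw [card_of_between le_rfl genGroup_le, card_M24])

/-! ### Transitivity -/

theorem exists_to_base : ∀ (n : ℕ), n ≤ 5 → ∀ x : ℕ → GolayPt, Set.InjOn x (Set.Iio n) →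
    ∃ g ∈ M24, ∀ i < n, g (x i) = base i
  | 0, _, _, _ => ⟨1, M24.one_mem, fun i hi => absurd hi (Nat.not_lt_zero i)⟩
  | n + 1, hn, x, hx => by
    obtain ⟨g, hg, hgi⟩ := exists_to_base n (by omega) x
      (hx.mono fun i (hi : i < n) => (by show i < n + 1; omega))
    have hnot : g (x n) ∉ (basePre n).toFinset := by
      rw [List.mem_toFinset]
      intro h
      obtain ⟨j, hj, hjeq⟩ := mem_basePre h
      rw [← hgi j hj] at hjeq
      have := hx (show n ∈ Set.Iio (n + 1) by simp) (show j ∈ Set.Iio (n + 1) by simp; omega)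
        (g.injective hjeq)
      omega
    have horb : g (x n) ∈ baseOrbit n := by
      match n, hn, hnot with
      | 0, _, h | 1, _, h | 2, _, h | 3, _, h | 4, _, h => exact Finset.mem_sdiff.2 ⟨Finset.mem_univ _, h⟩
    obtain ⟨h, hh, hhn⟩ := trans_exists (by omega : n < 7) horb
    refine ⟨h⁻¹ * g, M24.mul_mem (M24.inv_mem (genGroup_le hh.1)) hg, fun i hi => ?_⟩
    rw [Equiv.Perm.mul_apply, Equiv.Perm.inv_eq_iff_eq]
    rcases Nat.lt_succ_iff_lt_or_eq.1 hi with hi | rfl
    · rw [hgi i hi]
      exact (hh.2 _ (base_mem_basePre hi)).symm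
    · exact hhn.symm

theorem exists_map_tuple {n : ℕ} (hn : n ≤ 5) (x y : Fin n ↪ GolayPt) :
    ∃ g ∈ M24, ∀ i, g (x i) = y i := by
  classical
  let ext' : (Fin n ↪ GolayPt) → ℕ → GolayPt := fun z i => if h : i < n then z ⟨i, h⟩ else none
  have hinj : ∀ z, Set.InjOn (ext' z) (Set.Iio n) := by
    intro z i hi j hj h
    simp only [ext', dif_pos (show i < n from hi), dif_pos (show j < n from hj)] at h
    exact Fin.mk.inj_iff.1 (z.injective h)
  obtain ⟨a, ha, ha'⟩ := exists_to_base n hn (ext' x) (hinj x)
  obtain ⟨b, hb, hb'⟩ := exists_to_base n hn (ext' y) (hinj y)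
  refine ⟨b⁻¹ * a, M24.mul_mem (M24.inv_mem hb) ha, fun i => ?_⟩
  have h1 := ha' i i.2
  have h2 := hb' i i.2
  simp only [ext', dif_pos i.2, Fin.eta] at h1 h2
  rw [Equiv.Perm.mul_apply, Equiv.Perm.inv_eq_iff_eq, h1, h2]

theorem isMultiplyPretransitive_five : MulAction.IsMultiplyPretransitive M24 GolayPt 5 := by
  rw [MulAction.isMultiplyPretransitive_iff]
  intro x y
  obtain ⟨g, hg, h⟩ := exists_map_tuple le_rfl x y
  exact ⟨⟨g, hg⟩, DFunLike.ext _ _ h⟩

end Cfsg.Agent.Golay.M24
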