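import Cfsg.Agent.Lib.Golay.CodeUnique
import Cfsg.Agent.Lib.Golay.M24
import Cfsg.Agent.Lib.Golay.Derived22Code

/-!
Self-duality of the code on masks (`supports_of_even`) and generators of the words that take equal
values at `pt 0` and `pt 1`.
-/

set_option autoImplicit false
set_option maxRecDepth 20000

namespace Cfsg.Agent.Golay.Derived22

open Cfsg Cfsg.Agent.Golay.Basic

/-- Eleven octads through `pt 0` and `pt 1`, spanning the words constant there. -/
def pairOctads : List ℕ :=
  [9347075, 3416079, 12656663, 3719203, 6447171, 4505735, 11731203, 57883, 5325835, 7145475, 5902343]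

/-- An octad through `pt 0` but not `pt 1`. -/
def oneOctad : ℕ := 15777

theorem basis_eq_pair : basisMasks =
    ([1749, 1751, 2050, 2052, 2056, 18, 34, 2112, 130, 270, 2566, 1026] : List ℕ).map
      (enc (oneOctad :: pairOctads)) := by decide +kernel

theorem pairOctads_ok : ∀ m ∈ pairOctads, m.testBit (ix (pt 0)) = true ∧
    m.testBit (ix (pt 1)) = true ∧ m < 2 ^ 24 ∧ isCode m = true ∧ pc m = 8 := by decide +kernel

theorem oneOctad_ok : isCode oneOctad = true ∧ oneOctad < 2 ^ 24 ∧
    oneOctad.testBit (ix (pt 0)) = true ∧ oneOctad.testBit (ix (pt 1)) = false := by decide +kernel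

theorem high_check : (List.range 4096).all
    (fun h => (h == 0) || basisMasks.any fun b => pc ((h <<< 12) &&& b) % 2 == 1) = true := by
  decide +kernel

theorem code_inter_even : codeList.all
    (fun m => basisMasks.all fun b => pc (m &&& b) % 2 == 0) = true := by decide +kernel

theorem pc_xor_inter (S T U : Finset GolayPt) :
    (pc (mask (symmDiff S T) &&& mask U)) % 2 = (pc (mask S &&& mask U) + pc (mask T &&& mask U)) % 2 := by
  rw [← mask_inter, ← mask_inter, ← mask_inter, ← card_eq_pc, ← card_eq_pc, ← card_eq_pc]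
  have h := Derived22.card_symmDiff (S ∩ U) (T ∩ U)
  rw [show symmDiff S T ∩ U = symmDiff (S ∩ U) (T ∩ U) by
    ext x; simp [Finset.mem_symmDiff]; tauto]
  omega

theorem supports_of_even {S : Finset GolayPt}
    (h : ∀ b ∈ basisMasks, Even (S ∩ maskSet b).card) : S ∈ M24.codeSets := by
  have hlt := mask_lt S
  set T : Finset GolayPt := maskSet (enc basisMasks (mask S)) with hT
  have hTc : isCode (mask T) = true := by
    rw [hT, ← mem_supports_iff]
    exact ⟨word (maskSet (enc basisMasks (mask S))),
      CodeUnique.enc_mem_of basisMasks (fun b hb => word_maskSet_mem_of_isCode (by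
        revert b; decide +kernel)) _, support₂_word _⟩
  have hbmask : ∀ b ∈ basisMasks, b < 2 ^ 24 := by decide +kernel
  have hlow : ∀ i < 12, (mask (symmDiff S T)).testBit i = false := by
    have henc : ∀ a < 4096, ∀ i < 12, (enc basisMasks a).testBit i = a.testBit i := by
      decide +kernel
    have henc' : ∀ a, enc basisMasks a < 2 ^ 24 := by
      intro a
      rw [← enc_mod, show basisMasks.length = 12 from rfl]
      have : ∀ a < 4096, enc basisMasks a < 2 ^ 24 := by decide +kernel
      exact this _ (Nat.mod_lt _ (by norm_num))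
    intro i hi
    rw [hT, mask_symmDiff, mask_maskSet (henc' _), Nat.testBit_xor, ← enc_mod,
      show basisMasks.length = 12 from rfl,
      henc _ (show mask S % 2 ^ 12 < 4096 from Nat.mod_lt _ (by norm_num)) i hi,
      Nat.testBit_mod_two_pow, decide_eq_true hi]
    simp
  have hshift : (mask (symmDiff S T) >>> 12) <<< 12 = mask (symmDiff S T) := by
    apply Nat.eq_of_testBit_eq
    intro i
    rw [Nat.testBit_shiftLeft]
    rcases Nat.lt_or_ge i 12 with hi | hi
    · simp [hlow i hi, show ¬ 12 ≤ i by omega]
    · simp [hi, Nat.testBit_shiftRight, Nat.add_sub_cancel' hi]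
  have hz := List.all_eq_true.1 high_check (mask (symmDiff S T) >>> 12) (List.mem_range.2 (by
    rw [Nat.shiftRight_eq_div_pow]; have := mask_lt (symmDiff S T); omega))
  rw [hshift] at hz
  rcases Bool.or_eq_true _ _ ▸ hz with h0 | h0
  · rw [beq_iff_eq] at h0
    rw [h0, Nat.zero_shiftLeft] at hshift
    have : S = T := symmDiff_eq_bot.1 (mask_injective (show mask (symmDiff S T) = mask ∅ by
      rw [mask_empty]; exact hshift.symm))
    rw [this, mem_supports_iff]; exact hTc
  · obtain ⟨b, hb, hodd⟩ := List.any_eq_true.1 h0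
    rw [beq_iff_eq] at hodd
    have hb' : b = mask (maskSet b) := (mask_maskSet (hbmask b hb)).symm
    rw [hb', pc_xor_inter, ← mask_inter S, ← card_eq_pc] at hodd
    have h1 := forall_code code_inter_even hTc
    simp only [List.all_eq_true, beq_iff_eq] at h1
    have h2 := h1 b hb
    rw [hb'] at h2
    have h3 := Nat.even_iff.1 (h b hb)
    omega

/-- Coordinates in `oneOctad :: pairOctads`. -/
def pairDec : List ℕ := [1749, 1751, 2050, 2052, 2056, 18, 34, 2112, 130, 270, 2566, 1026]

theorem pair_check : codeList.all (fun m =>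
    (enc (oneOctad :: pairOctads) (enc pairDec m) == m) &&
      (!(m.testBit 0 == m.testBit 1) || enc pairDec m % 2 == 0)) = true := by decide +kernel

theorem const_words {T : Finset GolayPt} (hT : T ∈ M24.codeSets) (hc : pt 0 ∈ T ↔ pt 1 ∈ T) :
    ∃ a, mask T = enc pairOctads a := by
  have h := forall_code pair_check (mem_supports_iff.1 hT)
  have hb : (mask T).testBit 0 = (mask T).testBit 1 := by
    rw [show (0 : ℕ) = ix (pt 0) from rfl, show (1 : ℕ) = ix (pt 1) from rfl, testBit_mask,
      testBit_mask]
    exact decide_eq_decide.2 hc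
  simp only [Bool.and_eq_true, beq_iff_eq, hb, beq_self_eq_true, Bool.not_true, Bool.false_or] at h
  refine ⟨enc pairDec (mask T) / 2, ?_⟩
  conv_lhs => rw [← h.1]
  simp [enc, h.2]

end Cfsg.Agent.Golay.Derived22
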