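import Cfsg.Prelude.Def_Sporadic_a

/-!
The length-24 code of `Def_Sporadic_a` as a set of 24-bit masks.

* `ix : GolayPt → ℕ`, `pt : ℕ → GolayPt`: the residue `x` is bit `x`, the extra point is bit 23.
* `mask : Finset GolayPt → ℕ`, `maskSet : ℕ → Finset GolayPt`.
* `isCode m`: kernel-cheap membership test; `mem_supports_iff`, `mem_code_iff`.
* `forall_code`: reduces a statement about all code words to a check over `codeList` (4096 masks).
-/

set_option autoImplicit false

namespace Cfsg.Agent.Golay.Basic

open Cfsg

/-! ### Points and masks -/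

def ix : GolayPt → ℕ
  | none => 23
  | some x => x.val

def pt (i : ℕ) : GolayPt := if i < 23 then some (i : ZMod 23) else none

theorem ix_lt (p : GolayPt) : ix p < 24 := by revert p; decide

theorem pt_ix (p : GolayPt) : pt (ix p) = p := by revert p; decide

theorem ix_pt {i : ℕ} (h : i < 24) : ix (pt i) = i := by revert i; decide

theorem ix_injective : Function.Injective ix := fun a b h => by rw [← pt_ix a, h, pt_ix]

/-- The mask of a set of points. -/
def mask (s : Finset GolayPt) : ℕ := Nat.ofBits fun i : Fin 24 => decide (pt i.1 ∈ s)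

/-- The set of points of a mask. -/
def maskSet (m : ℕ) : Finset GolayPt := Finset.univ.filter fun p => m.testBit (ix p) = true

@[simp] theorem mem_maskSet {m : ℕ} {p : GolayPt} : p ∈ maskSet m ↔ m.testBit (ix p) = true := by
  simp [maskSet]

@[simp] theorem testBit_mask (s : Finset GolayPt) (p : GolayPt) :
    (mask s).testBit (ix p) = decide (p ∈ s) := by
  rw [mask, Nat.testBit_ofBits_lt _ _ (ix_lt p)]
  simp [pt_ix]

theorem testBit_mask_ge (s : Finset GolayPt) {i : ℕ} (h : 24 ≤ i) : (mask s).testBit i = false :=
  Nat.testBit_ofBits_ge _ _ h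

theorem mask_lt (s : Finset GolayPt) : mask s < 2 ^ 24 := Nat.ofBits_lt_two_pow _

theorem maskSet_mask (s : Finset GolayPt) : maskSet (mask s) = s := by
  ext p; simp

theorem mask_injective : Function.Injective mask := fun s t h => by
  rw [← maskSet_mask s, h, maskSet_mask]

theorem mask_maskSet {m : ℕ} (h : m < 2 ^ 24) : mask (maskSet m) = m := by
  apply Nat.eq_of_testBit_eq
  intro i
  rcases Nat.lt_or_ge i 24 with hi | hi
  · rw [← ix_pt hi, testBit_mask]
    simp
  · rw [testBit_mask_ge _ hi, Nat.testBit_lt_two_pow (lt_of_lt_of_le h (Nat.pow_le_pow_right (by norm_num) hi))]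

theorem eq_maskSet_iff {s : Finset GolayPt} {m : ℕ} (h : m < 2 ^ 24) : s = maskSet m ↔ mask s = m :=
  ⟨fun e => by rw [e, mask_maskSet h], fun e => by rw [← e, maskSet_mask]⟩

theorem mask_symmDiff (s t : Finset GolayPt) : mask (symmDiff s t) = mask s ^^^ mask t := by
  apply Nat.eq_of_testBit_eq
  intro i
  rcases Nat.lt_or_ge i 24 with hi | hi
  · rw [← ix_pt hi, testBit_mask, Nat.testBit_xor, testBit_mask, testBit_mask]
    by_cases h1 : pt i ∈ s <;> by_cases h2 : pt i ∈ t <;> simp [Finset.mem_symmDiff, h1, h2]
  · simp [testBit_mask_ge _ hi, Nat.testBit_xor]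

theorem mask_inter (s t : Finset GolayPt) : mask (s ∩ t) = mask s &&& mask t := by
  apply Nat.eq_of_testBit_eq
  intro i
  rcases Nat.lt_or_ge i 24 with hi | hi
  · rw [← ix_pt hi, testBit_mask, Nat.testBit_and, testBit_mask, testBit_mask]
    simp
  · simp [testBit_mask_ge _ hi, Nat.testBit_and]

theorem mask_union (s t : Finset GolayPt) : mask (s ∪ t) = mask s ||| mask t := by
  apply Nat.eq_of_testBit_eq
  intro i
  rcases Nat.lt_or_ge i 24 with hi | hi
  · rw [← ix_pt hi, testBit_mask, Nat.testBit_or, testBit_mask, testBit_mask]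
    simp
  · simp [testBit_mask_ge _ hi, Nat.testBit_or]

theorem mask_compl (s : Finset GolayPt) : mask sᶜ = mask s ^^^ 16777215 := by
  have h : sᶜ = symmDiff s (maskSet 16777215) := by
    have : maskSet 16777215 = Finset.univ := by decide
    rw [this]; ext p; simp [Finset.mem_symmDiff]
  rw [h, mask_symmDiff, mask_maskSet (by norm_num)]

@[simp] theorem mask_empty : mask ∅ = 0 := by decide

theorem subset_iff_mask {s t : Finset GolayPt} : s ⊆ t ↔ mask s &&& mask t = mask s := by
  rw [← mask_inter]
  exact ⟨fun h => by rw [Finset.inter_eq_left.2 h], fun h => Finset.inter_eq_left.1 (mask_injective h)⟩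

theorem disjoint_iff_mask {s t : Finset GolayPt} : Disjoint s t ↔ mask s &&& mask t = 0 := by
  rw [← mask_inter, Finset.disjoint_iff_inter_eq_empty, ← mask_empty]
  exact ⟨fun h => by rw [h], fun h => mask_injective h⟩

/-! ### Popcount -/

/-- Number of bits among the low eight. -/
def pc8 (b : ℕ) : ℕ :=
  b % 2 + b / 2 % 2 + b / 4 % 2 + b / 8 % 2 + b / 16 % 2 + b / 32 % 2 + b / 64 % 2 + b / 128 % 2

/-- Number of bits among the low twenty-four. -/
def pc (m : ℕ) : ℕ := pc8 m + pc8 (m / 256) + pc8 (m / 65536)

private def bitsum (m : ℕ) : ℕ → ℕ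
  | 0 => 0
  | n + 1 => bitsum m n + (m.testBit n).toNat

private theorem bitsum_eq_card (m : ℕ) : ∀ n, n ≤ 24 →
    bitsum m n = ((Finset.range n).filter fun i => m.testBit i = true).card
  | 0, _ => by simp [bitsum]
  | n + 1, h => by
    rw [bitsum, bitsum_eq_card m n (by omega), Finset.range_add_one, Finset.filter_insert]
    cases hb : m.testBit n <;> simp [hb]

theorem card_maskSet (m : ℕ) : (maskSet m).card = pc m := by
  have h1 : (maskSet m).card = ((Finset.range 24).filter fun i => m.testBit i = true).card := by
    apply Finset.card_bij (fun p _ => ix p)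
    · intro p hp; simp [ix_lt, mem_maskSet.1 hp]
    · intro a _ b _ h; exact ix_injective h
    · intro i hi
      simp only [Finset.mem_filter, Finset.mem_range] at hi
      exact ⟨pt i, by simp [ix_pt hi.1, hi.2], ix_pt hi.1⟩
  rw [h1, ← bitsum_eq_card m 24 le_rfl]
  simp only [bitsum, Nat.testBit_eq_decide_div_mod_eq, pc, pc8, Nat.div_div_eq_div_mul]
  norm_num
  have e : ∀ k : ℕ, (decide (k % 2 = 1)).toNat = k % 2 := fun k => by
    rcases Nat.mod_two_eq_zero_or_one k with h | h <;> simp [h]
  simp only [e]
  ring

theorem card_eq_pc (s : Finset GolayPt) : s.card = pc (mask s) := by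
  rw [← card_maskSet, maskSet_mask]

/-! ### Linear encoding -/

/-- The xor of the entries of `L` selected by the bits of `a`. -/
def enc : List ℕ → ℕ → ℕ
  | [], _ => 0
  | b :: bs, a => (a % 2) * b ^^^ enc bs (a / 2)

theorem enc_xor : ∀ (L : List ℕ) (a b : ℕ), enc L (a ^^^ b) = enc L a ^^^ enc L b
  | [], _, _ => by simp [enc]
  | c :: cs, a, b => by
    simp only [enc, Nat.xor_div_two, enc_xor cs]
    have h := Nat.xor_mod_two_eq_one (a := a) (b := b)
    have key : (a ^^^ b) % 2 * c = a % 2 * c ^^^ b % 2 * c := by
      rcases Nat.mod_two_eq_zero_or_one a with ha | ha <;>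
        rcases Nat.mod_two_eq_zero_or_one b with hb | hb <;>
        rcases Nat.mod_two_eq_zero_or_one (a ^^^ b) with hab | hab <;>
        simp [ha, hb, hab] at h ⊢
    rw [key]
    ac_rfl

theorem enc_zero : ∀ L : List ℕ, enc L 0 = 0
  | [] => rfl
  | c :: cs => by simp [enc, enc_zero cs]

theorem enc_mod : ∀ (L : List ℕ) (a : ℕ), enc L (a % 2 ^ L.length) = enc L a
  | [], _ => rfl
  | c :: cs, a => by
    simp only [enc, List.length_cons]
    have h1 : a % 2 ^ (cs.length + 1) % 2 = a % 2 :=
      Nat.mod_mod_of_dvd _ (dvd_pow_self 2 (by omega))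
    have h2 : a % 2 ^ (cs.length + 1) / 2 = a / 2 % 2 ^ cs.length := by
      rw [pow_succ', Nat.mod_mul_right_div_self]
    simp only [h1, h2, enc_mod cs]

/-- A basis of the code: the unique code words with a single bit among the low twelve. -/
def basisMasks : List ℕ :=
  [0xc75001, 0x49f002, 0xd4b004, 0x6e3008, 0x9b3010, 0xb66020,
   0xecc040, 0x1ed080, 0x3da100, 0x7b4200, 0xb1d400, 0xe3a800]

/-- The membership test for the code, on masks. -/
def isCode (m : ℕ) : Bool := enc basisMasks m == m

/-- All xors of subfamilies of a list. -/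
def spanList : List ℕ → List ℕ
  | [] => [0]
  | b :: bs => spanList bs ++ (spanList bs).map (fun x => b ^^^ x)

theorem enc_mem_spanList : ∀ (L : List ℕ) (a : ℕ), enc L a ∈ spanList L
  | [], _ => List.mem_singleton.2 rfl
  | c :: cs, a => by
    simp only [enc, spanList, List.mem_append, List.mem_map]
    rcases Nat.mod_two_eq_zero_or_one a with h | h <;> rw [h]
    · exact Or.inl (by simpa using enc_mem_spanList cs (a / 2))
    · exact Or.inr ⟨_, enc_mem_spanList cs (a / 2), by simp⟩

theorem mem_spanList_fix {L : List ℕ} : ∀ {M : List ℕ}, (∀ b ∈ M, enc L b = b) →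
    ∀ x ∈ spanList M, enc L x = x
  | [], _, x, hx => by rw [List.mem_singleton.1 hx, enc_zero]
  | c :: cs, h, x, hx => by
    have ih := mem_spanList_fix (L := L) (M := cs) fun b hb => h b (List.mem_cons_of_mem _ hb)
    simp only [spanList, List.mem_append, List.mem_map] at hx
    rcases hx with hx | ⟨y, hy, rfl⟩
    · exact ih x hx
    · rw [enc_xor, h c List.mem_cons_self, ih y hy]

/-- The 4096 masks of code words. -/
def codeList : List ℕ := spanList basisMasks

theorem isCode_zero : isCode 0 = true := by decide

theorem isCode_xor {a b : ℕ} (ha : isCode a = true) (hb : isCode b = true) :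
    isCode (a ^^^ b) = true := by
  simp only [isCode, beq_iff_eq] at *
  rw [enc_xor, ha, hb]

theorem mem_codeList {m : ℕ} (h : isCode m = true) : m ∈ codeList := by
  simp only [isCode, beq_iff_eq] at h
  exact h ▸ enc_mem_spanList basisMasks m

theorem isCode_of_mem_codeList {m : ℕ} (h : m ∈ codeList) : isCode m = true := by
  simp only [isCode, beq_iff_eq]
  exact mem_spanList_fix (M := basisMasks) (by decide) m h

/-! ### The code -/

/-- The word with a given support. -/
def word (s : Finset GolayPt) : GolayPt → ZMod 2 := fun p => if p ∈ s then 1 else 0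

theorem support₂_word (s : Finset GolayPt) : support₂ (word s) = s := by
  ext p; by_cases h : p ∈ s <;> simp [support₂, word, h]

theorem mem_support₂ {w : GolayPt → ZMod 2} {p : GolayPt} : p ∈ support₂ w ↔ w p ≠ 0 := by
  simp [support₂]

theorem word_support₂ (w : GolayPt → ZMod 2) : word (support₂ w) = w := by
  funext p
  have hcases : ∀ a : ZMod 2, a = 0 ∨ a = 1 := by decide
  rcases hcases (w p) with h | h <;> simp [word, support₂, h]

theorem hammingNorm_eq_card (w : GolayPt → ZMod 2) : hammingNorm w = (support₂ w).card := rfl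

theorem support₂_add (v w : GolayPt → ZMod 2) :
    support₂ (v + w) = symmDiff (support₂ v) (support₂ w) := by
  have hcases : ∀ a : ZMod 2, a = 0 ∨ a = 1 := by decide
  have h2 : (1 : ZMod 2) + 1 = 0 := by decide
  ext p
  rcases hcases (v p) with h | h <;> rcases hcases (w p) with h' | h' <;>
    simp [support₂, Finset.mem_symmDiff, h, h', h2]

theorem word_symmDiff (s t : Finset GolayPt) : word (symmDiff s t) = word s + word t := by
  rw [← word_support₂ (word s + word t), support₂_add, support₂_word, support₂_word]

theorem mask_maskSet_xor (a b : ℕ) : maskSet (a ^^^ b) = symmDiff (maskSet a) (maskSet b) := by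
  ext p
  simp only [mem_maskSet, Finset.mem_symmDiff, Nat.testBit_xor]
  cases a.testBit (ix p) <;> cases b.testBit (ix p) <;> simp

/-- Masks of the translates of the squares, twelve of them. -/
def qrMasks : List ℕ := (List.range 23).map fun t => mask (support₂ (qrWord (t : ZMod 23)))

private theorem word_maskSet_enc_mem : ∀ (L : List ℕ),
    (∀ b ∈ L, word (maskSet b) ∈ golayCode) → ∀ a, word (maskSet (enc L a)) ∈ golayCode
  | [], _, _ => by
    have : word (maskSet (enc [] 0)) = 0 := by decide
    simp only [enc] at this ⊢; rw [this]; exact zero_mem _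
  | c :: cs, h, a => by
    simp only [enc]
    rw [mask_maskSet_xor, word_symmDiff]
    refine add_mem ?_ (word_maskSet_enc_mem cs (fun b hb => h b (List.mem_cons_of_mem _ hb)) _)
    rcases Nat.mod_two_eq_zero_or_one a with ha | ha
    rotate_left
    · rw [ha, one_mul]; exact h c List.mem_cons_self
    · rw [ha, zero_mul]
      have : word (maskSet 0) = 0 := by decide
      rw [this]; exact zero_mem _

theorem isCode_mask_of_mem {w : GolayPt → ZMod 2} (hw : w ∈ golayCode) :
    isCode (mask (support₂ w)) = true := by
  induction hw using Submodule.span_induction with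
  | mem x hx =>
    rcases hx with ⟨t, rfl⟩ | rfl
    · revert t; decide +kernel
    · decide +kernel
  | zero => decide +kernel
  | add x y _ _ hx hy => rw [support₂_add, mask_symmDiff]; exact isCode_xor hx hy
  | smul a x _ hx =>
    have hcases : ∀ b : ZMod 2, b = 0 ∨ b = 1 := by decide
    rcases hcases a with h | h <;> subst h
    · rw [zero_smul]; decide +kernel
    · simpa using hx

theorem word_maskSet_qr_mem : ∀ b ∈ qrMasks ++ [16777215], word (maskSet b) ∈ golayCode := by
  intro b hb
  rcases List.mem_append.1 hb with hb | hb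
  · obtain ⟨t, -, rfl⟩ := List.mem_map.1 hb
    rw [maskSet_mask, word_support₂]
    exact Submodule.subset_span (Or.inl ⟨_, rfl⟩)
  · obtain rfl := List.mem_singleton.1 hb
    have : word (maskSet 16777215) = 1 := by decide
    rw [this]
    exact Submodule.subset_span (Or.inr rfl)

theorem basis_eq_enc : basisMasks =
    ([8390313, 280, 8389785, 1400, 8390330, 8390551, 8390093, 2000, 1347, 101, 8390243, 8390181] : List ℕ).map (enc (qrMasks ++ [16777215])) := by decide +kernel

theorem word_maskSet_mem_of_isCode {m : ℕ} (h : isCode m = true) :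
    word (maskSet m) ∈ golayCode := by
  have hb : ∀ b ∈ basisMasks, word (maskSet b) ∈ golayCode := by
    intro b hb
    rw [basis_eq_enc] at hb
    obtain ⟨a, -, rfl⟩ := List.mem_map.1 hb
    exact word_maskSet_enc_mem _ word_maskSet_qr_mem a
  have h' : enc basisMasks m = m := by simpa [isCode] using h
  rw [← h']
  exact word_maskSet_enc_mem _ hb m

theorem mem_code_iff {w : GolayPt → ZMod 2} :
    w ∈ golayCode ↔ isCode (mask (support₂ w)) = true := by
  refine ⟨isCode_mask_of_mem, fun h => ?_⟩
  have := word_maskSet_mem_of_isCode h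
  rwa [maskSet_mask, word_support₂] at this

theorem mem_supports_iff {s : Finset GolayPt} :
    s ∈ supports (golayCode : Set (GolayPt → ZMod 2)) ↔ isCode (mask s) = true := by
  constructor
  · rintro ⟨w, hw, rfl⟩; exact isCode_mask_of_mem hw
  · intro h
    exact ⟨word s, mem_code_iff.2 (by rwa [support₂_word]), support₂_word s⟩

theorem mem_wordsOfWeight_iff {s : Finset GolayPt} {n : ℕ} :
    s ∈ wordsOfWeight (golayCode : Set (GolayPt → ZMod 2)) n ↔ isCode (mask s) = true ∧ s.card = n := by
  simp [wordsOfWeight, mem_supports_iff]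

theorem mem_octads_iff {s : Finset GolayPt} :
    s ∈ octads ↔ isCode (mask s) = true ∧ s.card = 8 := mem_wordsOfWeight_iff

theorem mem_dodecads_iff {s : Finset GolayPt} :
    s ∈ dodecads ↔ isCode (mask s) = true ∧ s.card = 12 := mem_wordsOfWeight_iff

/-- To prove something of every code mask it is enough to check `codeList`. -/
theorem forall_code {P : ℕ → Bool} (h : codeList.all P = true) {m : ℕ} (hm : isCode m = true) :
    P m = true := List.all_eq_true.1 h m (mem_codeList hm)

theorem symmDiff_mem_supports {s t : Finset GolayPt}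
    (hs : s ∈ supports (golayCode : Set (GolayPt → ZMod 2)))
    (ht : t ∈ supports (golayCode : Set (GolayPt → ZMod 2))) :
    symmDiff s t ∈ supports (golayCode : Set (GolayPt → ZMod 2)) := by
  rw [mem_supports_iff] at *
  rw [mask_symmDiff]; exact isCode_xor hs ht

theorem weights_supports {s : Finset GolayPt}
    (hs : s ∈ supports (golayCode : Set (GolayPt → ZMod 2))) :
    s.card = 0 ∨ s.card = 8 ∨ s.card = 12 ∨ s.card = 16 ∨ s.card = 24 := by
  have h := forall_code (P := fun m => pc m == 0 || pc m == 8 || pc m == 12 || pc m == 16 || pc m == 24)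
    (by decide +kernel) (mem_supports_iff.1 hs)
  simp only [Bool.or_eq_true, beq_iff_eq] at h
  rw [card_eq_pc]; tauto

end Cfsg.Agent.Golay.Basic
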