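import Cfsg.Agent.Lib.Golay.Basic

/-!
Weight enumerator of the length-24 code and the Steiner system of octads.
-/

set_option autoImplicit false

namespace Cfsg.Agent.Golay.Design

open Cfsg Cfsg.Agent.Golay.Basic

/-- The masks of the code words with `n` bits. -/
def weightList (n : ℕ) : List ℕ := codeList.filter fun m => pc m == n

/-- Subsets of the points as a set, cut out by a Boolean test on code masks. -/
theorem ncard_code_filter (Q : ℕ → Bool) (S : Set (Finset GolayPt))
    (hS : ∀ s, s ∈ S ↔ isCode (mask s) = true ∧ Q (mask s) = true)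
    (k : ℕ) (hk : (codeList.filter Q).dedup.length = k) : S.ncard = k := by
  classical
  have hlt : ∀ m, isCode m = true → m < 2 ^ 24 := fun m hm => by
    have := forall_code (P := fun x => decide (x < 2 ^ 24)) (by decide +kernel) hm
    simpa using this
  have : S = (((codeList.filter Q).toFinset.image maskSet : Finset (Finset GolayPt)) : Set (Finset GolayPt)) := by
    ext s
    simp only [hS, Finset.coe_image, Set.mem_image, SetLike.mem_coe, List.mem_toFinset, List.mem_filter]
    constructor
    · rintro ⟨h1, h2⟩
      exact ⟨mask s, ⟨mem_codeList h1, h2⟩, maskSet_mask s⟩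
    · rintro ⟨m, ⟨h1, h2⟩, rfl⟩
      have h1' := isCode_of_mem_codeList h1
      rw [mask_maskSet (hlt m h1')]
      exact ⟨h1', h2⟩
  rw [this, Set.ncard_coe_finset, Finset.card_image_of_injOn, List.card_toFinset, hk]
  intro a ha b hb h
  simp only [SetLike.mem_coe, List.mem_toFinset, List.mem_filter] at ha hb
  rw [← mask_maskSet (hlt a (isCode_of_mem_codeList ha.1)), h,
    mask_maskSet (hlt b (isCode_of_mem_codeList hb.1))]

theorem codeList_nodup : codeList.Nodup := by
  have hlen : ∀ a b : ℕ, a < 4096 → b < 4096 → enc basisMasks a = enc basisMasks b → a = b := by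
    intro a b ha hb h
    have : ∀ x < 4096, enc basisMasks x % 4096 = x := by
      intro x hx
      have hs : ((List.range 4096).all fun x => enc basisMasks x % 4096 == x) = true := by decide +kernel
      simpa using List.all_eq_true.1 hs x (List.mem_range.2 hx)
    rw [← this a ha, h, this b hb]
  have himg : codeList.toFinset = (Finset.range 4096).image (enc basisMasks) := by
    ext m
    simp only [List.mem_toFinset, Finset.mem_image, Finset.mem_range]
    constructor
    · intro hm
      have := isCode_of_mem_codeList hm
      simp only [isCode, beq_iff_eq] at this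
      refine ⟨m % 4096, Nat.mod_lt _ (by norm_num), ?_⟩
      rw [show 4096 = 2 ^ basisMasks.length by rfl, enc_mod, this]
    · rintro ⟨a, -, rfl⟩
      exact enc_mem_spanList _ _
  rw [← Multiset.coe_nodup, ← Multiset.toFinset_card_eq_card_iff_nodup,
    show (codeList : Multiset ℕ).toFinset = codeList.toFinset from rfl, himg, Finset.card_image_of_injOn
    (fun a ha b hb h => hlen a b (Finset.mem_range.1 ha) (Finset.mem_range.1 hb) h),
    Finset.card_range, Multiset.coe_card]
  decide +kernel

theorem ncard_code_filter' (Q : ℕ → Bool) (S : Set (Finset GolayPt))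
    (hS : ∀ s, s ∈ S ↔ isCode (mask s) = true ∧ Q (mask s) = true)
    (k : ℕ) (hk : (codeList.filter Q).length = k) : S.ncard = k :=
  ncard_code_filter Q S hS k (by rw [List.dedup_eq_self.2 (codeList_nodup.filter _), hk])

theorem octads_ncard : octads.ncard = 759 :=
  ncard_code_filter' (fun m => pc m == 8) _ (fun s => by simp [mem_octads_iff, card_eq_pc]) _
    (by decide +kernel)

theorem dodecads_ncard : dodecads.ncard = 2576 :=
  ncard_code_filter' (fun m => pc m == 12) _ (fun s => by simp [mem_dodecads_iff, card_eq_pc]) _
    (by decide +kernel)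

theorem octad_card {o : Finset GolayPt} (h : o ∈ octads) : o.card = 8 := (mem_octads_iff.1 h).2

theorem octad_mem_supports {o : Finset GolayPt} (h : o ∈ octads) :
    o ∈ supports (golayCode : Set (GolayPt → ZMod 2)) := mem_supports_iff.2 (mem_octads_iff.1 h).1

theorem card_symmDiff_eq {α : Type*} [DecidableEq α] (s t : Finset α) :
    (symmDiff s t).card + 2 * (s ∩ t).card = s.card + t.card := by
  have h1 : (symmDiff s t).card = (s \ t).card + (t \ s).card := by
    rw [symmDiff_def]
    exact Finset.card_union_of_disjoint disjoint_sdiff_sdiff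
  have h2 := Finset.card_sdiff_add_card_inter s t
  have h3 := Finset.card_sdiff_add_card_inter t s
  rw [Finset.inter_comm t s] at h3
  omega

theorem octads_eq_of_subset {s b c : Finset GolayPt} (hs : 5 ≤ s.card) (hb : b ∈ octads)
    (hc : c ∈ octads) (hsb : s ⊆ b) (hsc : s ⊆ c) : b = c := by
  have h5 : s.card ≤ (b ∩ c).card := Finset.card_le_card (Finset.subset_inter hsb hsc)
  have he := card_symmDiff_eq b c
  rw [octad_card hb, octad_card hc] at he
  have hw := weights_supports (symmDiff_mem_supports (octad_mem_supports hb) (octad_mem_supports hc))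
  have h0 : (symmDiff b c).card = 0 := by omega
  exact symmDiff_eq_bot.1 (Finset.card_eq_zero.1 h0)

/-- The octads form a Steiner system S(5, 8, 24). -/
theorem steiner_octads : IsSteinerSystem 5 8 octads := by
  classical
  refine ⟨fun b hb => octad_card hb, fun s hs => ?_⟩
  have hfin : octads.Finite := Set.toFinite _
  set O := hfin.toFinset with hO
  have hcard : O.card = 759 := by rw [hO, ← Set.ncard_eq_toFinset_card _ hfin, octads_ncard]
  have hdisj : (O : Set (Finset GolayPt)).PairwiseDisjoint (fun b => b.powersetCard 5) := by
    intro b hb c hc hbc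
    simp only [Function.onFun, Finset.disjoint_left, Finset.mem_powersetCard]
    rintro t ⟨htb, htc⟩ ⟨htc', -⟩
    exact hbc (octads_eq_of_subset (by omega) (by simpa [hO] using hb) (by simpa [hO] using hc) htb htc')
  have hU : O.biUnion (fun b => b.powersetCard 5) = (Finset.univ : Finset GolayPt).powersetCard 5 := by
    apply Finset.eq_of_subset_of_card_le
    · intro t ht
      simp only [Finset.mem_biUnion, Finset.mem_powersetCard] at ht ⊢
      obtain ⟨b, -, -, h⟩ := ht
      exact ⟨Finset.subset_univ _, h⟩
    · rw [Finset.card_biUnion hdisj, Finset.card_powersetCard, Finset.card_univ]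
      have : ∀ b ∈ O, (b.powersetCard 5).card = 56 := fun b hb => by
        rw [Finset.card_powersetCard, octad_card (by simpa [hO] using hb)]; decide
      rw [Finset.sum_congr rfl this, Finset.sum_const, hcard]
      decide +kernel
  have : s ∈ O.biUnion (fun b => b.powersetCard 5) := by
    rw [hU, Finset.mem_powersetCard]; exact ⟨Finset.subset_univ _, hs⟩
  obtain ⟨b, hb, hsb⟩ := Finset.mem_biUnion.1 this
  have hb' : b ∈ octads := by simpa [hO] using hb
  exact ⟨b, ⟨hb', (Finset.mem_powersetCard.1 hsb).1⟩,
    fun c hc => octads_eq_of_subset (by omega) hc.1 hb' hc.2 (Finset.mem_powersetCard.1 hsb).1⟩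

theorem finrank_golayCode : Module.finrank (ZMod 2) golayCode = 12 := by
  classical
  have hN : (supports (golayCode : Set (GolayPt → ZMod 2))).ncard = 4096 :=
    ncard_code_filter' (fun _ => true) _ (fun s => by simp [mem_supports_iff]) _ (by decide +kernel)
  have hinj : Function.Injective (support₂ (α := GolayPt)) := fun v w h => by
    rw [← word_support₂ v, h, word_support₂]
  have h2 : Nat.card golayCode = 4096 := by
    rw [supports, Set.ncard_image_of_injective _ hinj] at hN
    rw [← hN]; exact Nat.card_coe_set_eq _
  have h3 := Module.natCard_eq_pow_finrank (K := ZMod 2) (V := golayCode)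
  rw [h2, Nat.card_zmod] at h3
  exact (Nat.pow_right_injective (le_refl 2) (h3.symm.trans (by norm_num : (4096 : ℕ) = 2 ^ 12)))

end Cfsg.Agent.Golay.Design
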