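import Cfsg.Agent.Lib.Golay.Derived22Code
import Cfsg.Agent.Lib.Golay.Derived22Dual
import Cfsg.Agent.Lib.Golay.Small
import Cfsg.Agent.S0362

/-!
An S(3, 6, 22) is the family of octads through two points, and its automorphism group is the
stabiliser of that pair in M24, with M22 of index 2.
-/

set_option autoImplicit false
set_option maxRecDepth 20000

namespace Cfsg.Agent.Golay.Derived22

open Cfsg Cfsg.Agent.Golay.Basic Cfsg.Agent.ThreeTransp
open scoped Pointwise

variable {α : Type*} [Fintype α] [DecidableEq α]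

/-- Every S(3, 6, 22) consists of the octads through `pt 0` and `pt 1`, those points removed. -/
theorem exists_embedding (hα : Fintype.card α = 22) {B : Set (Finset α)}
    (hB : IsSteinerSystem 3 6 B) :
    ∃ e : Option (Option α) ≃ GolayPt, e none = pt 0 ∧ e (some none) = pt 1 ∧
      ∀ b : Finset α, b ∈ B ↔
        (Finset.insertNone (Finset.insertNone b)).image e ∈ octads := by
  obtain ⟨C, ψ, hC, hiff⟩ := exists_equiv_fin hα hB
  obtain ⟨e₁, he₁⟩ := SteinerCode.octs_iso hC
  let e₂ : Option (Option α) ≃ GolayPt := ψ.trans e₁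
  obtain ⟨g, hg, hgp⟩ := M24.exists_map_tuple (n := 2) (by norm_num)
    ⟨![e₂ none, e₂ (some none)], fun i j h => by
      fin_cases i <;> fin_cases j <;> simp at h ⊢⟩
    ⟨![pt 0, pt 1], fun i j h => by
      fin_cases i <;> fin_cases j <;> revert h <;> decide⟩
  refine ⟨e₂.trans g, hgp 0, hgp 1, fun b => ?_⟩
  rw [hiff, DesignIso.mem_iff he₁, Finset.image_image]
  have e : (Finset.insertNone (Finset.insertNone b)).image (e₂.trans g) =
      g • (Finset.insertNone (Finset.insertNone b)).image e₂ := by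
    rw [M24.smul_finset_def, Finset.image_image]; rfl
  rw [e]
  refine ⟨fun h => M24.smul_mem_octads hg h, fun h => ?_⟩
  have := M24.smul_mem_octads (M24.inv_mem hg) h
  rwa [inv_smul_smul] at this

theorem iso {β : Type*} [Fintype β] [DecidableEq β] (hα : Fintype.card α = 22)
    (hβ : Fintype.card β = 22) {B : Set (Finset α)} {B' : Set (Finset β)}
    (hB : IsSteinerSystem 3 6 B) (hB' : IsSteinerSystem 3 6 B') : SetSystemIso B B' := by
  obtain ⟨e, he, he1, heB⟩ := exists_embedding hα hB
  obtain ⟨e', he', he1', heB'⟩ := exists_embedding hβ hB'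
  let E : Option (Option α) ≃ Option (Option β) := e.trans e'.symm
  have hE : E none = none := by
    simp only [E, Equiv.trans_apply]
    rw [he, ← he', e'.symm_apply_apply]
  have hE1 : E (some none) = some none := by
    simp only [E, Equiv.trans_apply]
    rw [he1, ← he1', e'.symm_apply_apply]
  have hsome : ∀ a : Option α, some (Equiv.removeNone E a) = E (some a) := fun a =>
    Equiv.removeNone_some E (Option.ne_none_iff_exists'.1 fun h => by
      have := E.injective (h.trans hE.symm); simp at this)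
  have hF : Equiv.removeNone E none = none := Option.some_injective _ (by rw [hsome, hE1])
  let f := Equiv.removeNone (Equiv.removeNone E)
  have hf : ∀ a : α, some (some (f a)) = E (some (some a)) := fun a => by
    rw [← hsome]
    refine congrArg some (Equiv.removeNone_some _ (Option.ne_none_iff_exists'.1 fun h => ?_))
    have := (Equiv.removeNone E).injective (h.trans hF.symm)
    simp at this
  refine DesignIso.of_mem_iff f fun b => ?_
  rw [heB, heB']
  have key : ∀ x : Option (Option α), e' (Option.map (Option.map f) x) = e x := by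
    rintro (_ | (_ | a))
    · simp [he, he']
    · simp [he1, he1']
    · simp only [Option.map_some]
      rw [hf]; simp [E]
  have : (Finset.insertNone (Finset.insertNone (b.image f))).image e' =
      (Finset.insertNone (Finset.insertNone b)).image e := by
    rw [show Finset.insertNone (Finset.insertNone (b.image f)) =
      (Finset.insertNone (Finset.insertNone b)).image (Option.map (Option.map f)) by
        ext x; rcases x with _ | (_ | a) <;> simp]
    rw [Finset.image_image]
    exact Finset.image_congr fun x _ => key x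
  rw [this]

/-! ### Rigidity -/

omit [Fintype α] in
theorem symmDiff_inter_left (S A B : Finset α) :
    symmDiff (S ∩ A) (S ∩ B) = S ∩ symmDiff A B := by
  ext x; simp [Finset.mem_symmDiff]; tauto

omit [Fintype α] in
theorem symmDiff_inter_right (S A B : Finset α) :
    symmDiff S A ∩ B = symmDiff (S ∩ B) (A ∩ B) := by
  ext x; simp [Finset.mem_symmDiff]; tauto

/-- A permutation of the two points fixed, sending octads through both to octads, is in M24 up to
exchanging the two points. -/
theorem rigid {σ : Equiv.Perm GolayPt} (h0 : σ (pt 0) = pt 0) (h1 : σ (pt 1) = pt 1)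
    (h : ∀ o ∈ octads, pt 0 ∈ o → pt 1 ∈ o → σ • o ∈ octads) :
    σ ∈ M24 ∨ Equiv.swap (pt 0) (pt 1) * σ ∈ M24 := by
  set τ := Equiv.swap (pt 0) (pt 1) with hτ
  have hpair : ∀ m ∈ pairOctads, σ • maskSet m ∈ octads ∧
      pt 0 ∈ σ • maskSet m ∧ pt 1 ∈ σ • maskSet m := by
    intro m hm
    obtain ⟨a, b, hlt, hc, h8⟩ := pairOctads_ok m hm
    refine ⟨h _ (mem_octads_iff.2 ⟨by rwa [mask_maskSet hlt], by rw [card_maskSet]; exact h8⟩)
      (mem_maskSet.2 a) (mem_maskSet.2 b), ?_, ?_⟩
    · rw [M24.smul_finset_def]; exact Finset.mem_image.2 ⟨_, mem_maskSet.2 a, h0⟩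
    · rw [M24.smul_finset_def]; exact Finset.mem_image.2 ⟨_, mem_maskSet.2 b, h1⟩
  obtain ⟨hc1, hlt1, ha1, hb1⟩ := oneOctad_ok
  have hone : ∀ {ρ : Equiv.Perm GolayPt}, (∀ m ∈ pairOctads, ρ • maskSet m ∈ octads) →
      ρ • maskSet oneOctad ∈ M24.codeSets → ρ ∈ M24 := by
    intro ρ hρ hρ1
    refine M24.mem_M24_of_basis fun b hb => ?_
    rw [basis_eq_pair] at hb
    obtain ⟨a, -, rfl⟩ := List.mem_map.1 hb
    refine M24.smul_enc_mem ρ _ (fun m hm => ?_) a
    rcases List.mem_cons.1 hm with rfl | hm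
    exacts [hρ1, (hρ m hm).1]
  have hτfix : ∀ o : Finset GolayPt, pt 0 ∈ o → pt 1 ∈ o → τ • o = o := by
    intro o a b
    rw [M24.smul_finset_def]
    refine Finset.eq_of_subset_of_card_le (fun x hx => ?_)
      (by rw [Finset.card_image_of_injective _ τ.injective])
    obtain ⟨y, hy, rfl⟩ := Finset.mem_image.1 hx
    rw [hτ, Equiv.swap_apply_def]
    split_ifs <;> assumption
  by_cases hcase : σ • maskSet oneOctad ∈ M24.codeSets
  · exact Or.inl (hone (fun m hm => (hpair m hm).1) hcase)
  refine Or.inr (hone (fun m hm => ?_) (supports_of_even fun b hb => ?_))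
  · rw [mul_smul, hτfix _ (hpair m hm).2.1 (hpair m hm).2.2]; exact (hpair m hm).1
  -- the two candidate images differ on every word separating the two points
  set S := σ • maskSet oneOctad with hS
  have hS0 : pt 0 ∈ S := by
    rw [hS, M24.smul_finset_def]; exact Finset.mem_image.2 ⟨_, mem_maskSet.2 ha1, h0⟩
  have hS1 : pt 1 ∉ S := by
    rw [hS, M24.smul_finset_def]
    intro hx
    obtain ⟨y, hy, e⟩ := Finset.mem_image.1 hx
    rw [σ.injective (e.trans h1.symm), mem_maskSet, hb1] at hy
    exact Bool.noConfusion hy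
  rw [mul_smul]
  have hτS : τ • S = symmDiff S {pt 0, pt 1} := by
    rw [M24.smul_finset_def]
    ext x
    simp only [Finset.mem_image, Finset.mem_symmDiff, Finset.mem_insert, Finset.mem_singleton]
    constructor
    · rintro ⟨y, hy, rfl⟩
      by_cases hy0 : y = pt 0
      · subst hy0; simp [hτ, hS1, Equiv.swap_apply_left]
      · have hy1 : y ≠ pt 1 := fun e => hS1 (e ▸ hy)
        rw [hτ, Equiv.swap_apply_of_ne_of_ne hy0 hy1]
        exact Or.inl ⟨hy, by tauto⟩
    · rintro (⟨hx, hn⟩ | ⟨hx | hx, hn⟩)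
      · exact ⟨x, hx, Equiv.swap_apply_of_ne_of_ne (fun e => hn (Or.inl e)) fun e => hn (Or.inr e)⟩
      · exact absurd (hx ▸ hS0) hn
      · exact ⟨pt 0, hS0, by rw [hx, hτ, Equiv.swap_apply_left]⟩
  rw [hτS]
  -- parities against the code
  let P : Set (Finset GolayPt) := {T | T ∈ M24.codeSets ∧ (pt 0 ∈ T ↔ pt 1 ∈ T)}
  have hmem : ∀ (T : Finset GolayPt) (x : GolayPt), σ x = x → (x ∈ σ • T ↔ x ∈ T) := by
    intro T x hx
    rw [M24.smul_finset_def, Finset.mem_image]
    exact ⟨fun ⟨y, hy, e⟩ => (σ.injective (e.trans hx.symm)) ▸ hy, fun h => ⟨x, h, hx⟩⟩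
  have hP : σ • P = P := by
    refine Set.eq_of_subset_of_ncard_le ?_ (by rw [Set.ncard_smul_set]) (Set.toFinite _)
    rintro _ ⟨T, ⟨hT, hTc⟩, rfl⟩
    refine ⟨?_, (hmem T _ h0).trans (hTc.trans (hmem T _ h1).symm)⟩
    obtain ⟨a, ha⟩ := const_words hT hTc
    show σ • T ∈ M24.codeSets
    rw [← maskSet_mask T, ha]
    exact M24.smul_enc_mem σ _ (fun m hm => (hpair m hm).1.1) a
  have hv : maskSet oneOctad ∈ M24.codeSets :=
    mem_supports_iff.2 (by rw [mask_maskSet hlt1]; exact hc1)
  have heven : ∀ T U : Finset GolayPt, T ∈ M24.codeSets → U ∈ M24.codeSets → Even (T ∩ U).card := by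
    rintro _ _ ⟨w, hw, rfl⟩ ⟨w', hw', rfl⟩
    have h := S0362.result w w' hw hw'
    rw [← word_support₂ w, ← word_support₂ w'] at h
    simp only [word, ite_mul, one_mul, zero_mul, Finset.sum_ite_mem, Finset.univ_inter] at h
    rw [Finset.sum_const, nsmul_one, ZMod.natCast_eq_zero_iff_even] at h
    exact h
  have hSP : ∀ T ∈ P, Even (S ∩ T).card := by
    intro T hT
    rw [← hP] at hT
    obtain ⟨T₀, hT₀, rfl⟩ := hT
    show Even (σ • maskSet oneOctad ∩ σ • T₀).card
    rw [← Finset.smul_finset_inter, Finset.card_smul_finset]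
    exact heven _ _ hv hT₀.1
  have hPsym : ∀ T : Finset GolayPt, T ∈ M24.codeSets → ¬(pt 0 ∈ T ↔ pt 1 ∈ T) →
      symmDiff T (maskSet oneOctad) ∈ P := by
    intro T hT hc
    have hv0 : pt 0 ∈ maskSet oneOctad := mem_maskSet.2 ha1
    have hv1 : pt 1 ∉ maskSet oneOctad := fun hh =>
      Bool.false_ne_true (hb1.symm.trans (mem_maskSet.1 hh))
    refine ⟨symmDiff_mem_supports hT hv, ?_⟩
    rw [Finset.mem_symmDiff, Finset.mem_symmDiff]
    by_cases a : pt 0 ∈ T <;> by_cases b' : pt 1 ∈ T <;> simp [a, b', hv0, hv1] at hc ⊢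
  have hbad : ¬ Even (S ∩ maskSet oneOctad).card := by
    intro he
    apply hcase
    refine supports_of_even fun b hb => ?_
    have hbC : maskSet b ∈ M24.codeSets := mem_supports_iff.2 (by revert b; decide +kernel)
    by_cases hc : pt 0 ∈ maskSet b ↔ pt 1 ∈ maskSet b
    · exact hSP _ ⟨hbC, hc⟩
    · have h2 := hSP _ (hPsym _ hbC hc)
      have h3 := Derived22.card_symmDiff (S ∩ maskSet b) (S ∩ maskSet oneOctad)
      rw [symmDiff_inter_left] at h3
      rw [Nat.even_iff] at h2 he ⊢
      omega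
  have hbC : maskSet b ∈ M24.codeSets := mem_supports_iff.2 (by revert b; decide +kernel)
  rw [symmDiff_inter_right]
  have h4 := Derived22.card_symmDiff (S ∩ maskSet b) ({pt 0, pt 1} ∩ maskSet b)
  have hp : ({pt 0, pt 1} ∩ maskSet b : Finset GolayPt).card =
      (if pt 0 ∈ maskSet b then 1 else 0) + if pt 1 ∈ maskSet b then 1 else 0 := by
    rw [Finset.inter_comm, show maskSet b ∩ {pt 0, pt 1} =
      ({pt 0, pt 1} : Finset GolayPt).filter (· ∈ maskSet b) by ext x; simp [and_comm]]
    rw [Finset.card_filter, Finset.sum_pair (by decide)]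
  by_cases hc : pt 0 ∈ maskSet b ↔ pt 1 ∈ maskSet b
  · have h2 := hSP _ ⟨hbC, hc⟩
    rw [Nat.even_iff] at h2 ⊢
    by_cases hb0 : pt 0 ∈ maskSet b
    · rw [if_pos hb0, if_pos (hc.1 hb0)] at hp; omega
    · rw [if_neg hb0, if_neg (fun h => hb0 (hc.2 h))] at hp; omega
  · have h2 := hSP _ (hPsym _ hbC hc)
    have h3 := Derived22.card_symmDiff (S ∩ maskSet b) (S ∩ maskSet oneOctad)
    rw [symmDiff_inter_left] at h3
    rw [Nat.even_iff] at h2 hbad ⊢
    by_cases hb0 : pt 0 ∈ maskSet b
    · rw [if_pos hb0, if_neg (fun h => hc ⟨fun _ => h, fun _ => hb0⟩)] at hp; omega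
    · have hb1' : pt 1 ∈ maskSet b := by
        by_contra h; exact hc ⟨fun h' => absurd h' hb0, fun h' => absurd h' h⟩
      rw [if_neg hb0, if_pos hb1'] at hp; omega

/-! ### Automorphisms -/

/-- The stabiliser of the pair in M24. -/
def H22 : Subgroup (Equiv.Perm GolayPt) :=
  M24 ⊓ MulAction.stabilizer (Equiv.Perm GolayPt) ({pt 0, pt 1} : Finset GolayPt)

theorem mem_H22 {s : Equiv.Perm GolayPt} :
    s ∈ H22 ↔ s ∈ M24 ∧ (s (pt 0) = pt 0 ∧ s (pt 1) = pt 1 ∨ s (pt 0) = pt 1 ∧ s (pt 1) = pt 0) := by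
  have hne : pt 0 ≠ pt 1 := by decide
  rw [H22, Subgroup.mem_inf]
  refine and_congr_right fun _ => ?_
  rw [MulAction.mem_stabilizer_iff, M24.smul_finset_def,
    Finset.image_insert, Finset.image_singleton]
  refine ⟨fun h => ?_, ?_⟩
  · have a : s (pt 0) ∈ ({pt 0, pt 1} : Finset GolayPt) := h ▸ Finset.mem_insert_self _ _
    have b : s (pt 1) ∈ ({pt 0, pt 1} : Finset GolayPt) :=
      h ▸ Finset.mem_insert_of_mem (Finset.mem_singleton_self _)
    rw [Finset.mem_insert, Finset.mem_singleton] at a b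
    rcases a with a | a <;> rcases b with b | b
    exacts [absurd (s.injective (a.trans b.symm)) hne, Or.inl ⟨a, b⟩, Or.inr ⟨a, b⟩,
      absurd (s.injective (a.trans b.symm)) hne]
  · rintro (⟨a, b⟩ | ⟨a, b⟩)
    · rw [a, b]
    · rw [a, b, Finset.pair_comm]

theorem M22K_le : Small.M22K ≤ H22 := fun s hs => by
  obtain ⟨h, h'⟩ := Perm.mem_fixers.1 hs
  exact mem_H22.2 ⟨h, Or.inl ⟨h' _ (by simp), h' _ (by simp)⟩⟩

theorem index_M22K : (Small.M22K.subgroupOf H22).index = 2 := by
  have hne : pt 0 ≠ pt 1 := by decide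
  obtain ⟨w, hw, hwp⟩ := M24.exists_map_tuple (n := 2) (by norm_num)
    ⟨![pt 0, pt 1], fun i j h => by fin_cases i <;> fin_cases j <;> revert h <;> decide⟩
    ⟨![pt 1, pt 0], fun i j h => by fin_cases i <;> fin_cases j <;> revert h <;> decide⟩
  have w0 : w (pt 0) = pt 1 := hwp 0
  have w1 : w (pt 1) = pt 0 := hwp 1
  rw [Subgroup.index_eq_two_iff]
  refine ⟨⟨w, mem_H22.2 ⟨hw, Or.inr ⟨w0, w1⟩⟩⟩, fun b => ?_⟩
  obtain ⟨hb, hb'⟩ := mem_H22.1 b.2
  simp only [Subgroup.mem_subgroupOf, Small.M22K, Perm.mem_fixers, List.forall_mem_cons,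
    List.not_mem_nil, false_implies, implies_true, and_true, Subgroup.coe_mul,
    Equiv.Perm.mul_apply, w0, w1]
  rcases hb' with ⟨a, c⟩ | ⟨a, c⟩
  · exact Or.inr ⟨⟨hb, a, c⟩, fun h => hne (h.2.1.symm.trans c)⟩
  · exact Or.inl ⟨⟨M24.mul_mem hb hw, c, a⟩, fun h => hne (h.2.1.symm.trans a)⟩

theorem card_H22 : Nat.card H22 = 887040 := by
  rw [← (Small.M22K.subgroupOf H22).card_mul_index, index_M22K,
    Nat.card_congr (Subgroup.subgroupOfEquivOfLe M22K_le).toEquiv, Small.card_M22K]

theorem swap_notMem : Equiv.swap (pt 0) (pt 1) ∉ M24 := by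
  intro h
  obtain ⟨hc, hlt, ha, hb⟩ := oneOctad_ok
  have ho : maskSet oneOctad ∈ octads := mem_octads_iff.2
    ⟨by rw [mask_maskSet hlt]; exact hc, by rw [card_maskSet]; decide +kernel⟩
  generalize maskSet oneOctad = o, mem_maskSet.2 ha = ha', (fun hh : pt 1 ∈ maskSet oneOctad =>
    Bool.false_ne_true (hb.symm.trans (mem_maskSet.1 hh))) = hb' at *
  have h' := M24.smul_mem_octads h ho
  have h8 := Design.octad_card ho
  have e := Design.octads_eq_of_subset (s := o.erase (pt 0))
    (by rw [Finset.card_erase_of_mem ha', h8]; norm_num) ho h' (Finset.erase_subset _ _) (by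
      intro x hx
      obtain ⟨hx0, hxo⟩ := Finset.mem_erase.1 hx
      rw [M24.smul_finset_def]
      exact Finset.mem_image.2 ⟨x, hxo, Equiv.swap_apply_of_ne_of_ne hx0 fun e => hb' (e ▸ hxo)⟩)
  refine hb' ?_
  rw [e, M24.smul_finset_def]
  exact Finset.mem_image.2 ⟨pt 0, ha', Equiv.swap_apply_left _ _⟩

theorem exists_autEquiv (hα : Fintype.card α = 22) {B : Set (Finset α)}
    (hB : IsSteinerSystem 3 6 B) :
    ∃ (Φ : H22 ≃* setSystemAut B) (ι : α → GolayPt), Function.Injective ι ∧
      (∀ a, ι a ≠ pt 0 ∧ ι a ≠ pt 1) ∧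
      ∀ (s : H22) (a : α), ι (Φ s • a) = (s : Equiv.Perm GolayPt) (ι a) := by
  classical
  obtain ⟨e, he, he1, heB⟩ := exists_embedding hα hB
  let ι : α → GolayPt := fun a => e (some (some a))
  have hι : Function.Injective ι := fun a b h =>
    Option.some_injective _ (Option.some_injective _ (e.injective h))
  have hιne : ∀ a, ι a ≠ pt 0 ∧ ι a ≠ pt 1 := fun a => by
    rw [← he, ← he1]; exact ⟨e.injective.ne (by simp), e.injective.ne (by simp)⟩
  have hιsurj : ∀ p, p ≠ pt 0 → p ≠ pt 1 → ∃ a, ι a = p := by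
    intro p h0 h1
    obtain ⟨x, rfl⟩ := e.surjective p
    rcases x with _ | (_ | a)
    exacts [absurd he h0, absurd he1 h1, ⟨a, rfl⟩]
  have hext : ∀ b : Finset α, (Finset.insertNone (Finset.insertNone b)).image e =
      {pt 0, pt 1} ∪ b.image ι := by
    intro b
    ext p
    obtain ⟨x, rfl⟩ := e.surjective p
    rw [← he, ← he1]
    simp only [Finset.mem_image, e.injective.eq_iff, exists_eq_right, Finset.mem_union,
      Finset.mem_insert, Finset.mem_singleton, ι]
    rcases x with _ | (_ | a) <;> simp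
  have hsv : ∀ (s : H22) (a : α), ∃ a', ι a' = (s : Equiv.Perm GolayPt) (ι a) := by
    intro s a
    obtain ⟨-, h⟩ := mem_H22.1 s.2
    obtain ⟨n0, n1⟩ := hιne a
    refine hιsurj _ ?_ ?_ <;> intro hh <;> rcases h with ⟨u, v⟩ | ⟨u, v⟩
    · exact n0 (s.1.injective (hh.trans u.symm))
    · exact n1 (s.1.injective (hh.trans v.symm))
    · exact n1 (s.1.injective (hh.trans v.symm))
    · exact n0 (s.1.injective (hh.trans u.symm))
  choose act hact using hsv
  have hactinj : ∀ s, Function.Bijective (act s) := fun s =>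
    Finite.injective_iff_bijective.1 fun a b h =>
      hι (s.1.injective ((hact s a).symm.trans ((congrArg ι h).trans (hact s b))))
  let φ : H22 →* Equiv.Perm α :=
    { toFun := fun s => Equiv.ofBijective (act s) (hactinj s)
      map_one' := Equiv.ext fun a => hι ((hact 1 a).trans rfl)
      map_mul' := fun s t => Equiv.ext fun a => hι (by
        show ι (act (s * t) a) = ι (act s (act t a))
        rw [hact, hact, hact]; rfl) }
  have himg : ∀ (s : H22) (b : Finset α),
      (s : Equiv.Perm GolayPt) • (Finset.insertNone (Finset.insertNone b)).image e =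
        (Finset.insertNone (Finset.insertNone (φ s • b))).image e := by
    intro s b
    have hpair : (s : Equiv.Perm GolayPt) • ({pt 0, pt 1} : Finset GolayPt) = {pt 0, pt 1} :=
      s.2.2
    rw [M24.smul_finset_def] at hpair ⊢
    rw [hext, hext, Finset.image_union, hpair, show φ s • b = b.image (φ s) from rfl,
      Finset.image_image, Finset.image_image]
    exact congrArg _ (Finset.image_congr fun a _ => (hact s a).symm)
  have hmem : ∀ s, φ s ∈ setSystemAut B := by
    intro s
    show φ s • B = B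
    refine Set.eq_of_subset_of_ncard_le ?_ (by rw [Set.ncard_smul_set]) (Set.toFinite _)
    rintro _ ⟨b, hb, rfl⟩
    show φ s • b ∈ B
    rw [heB, ← himg]
    exact M24.smul_mem_octads (mem_H22.1 s.2).1 ((heB b).1 hb)
  let Φ₀ : H22 →* setSystemAut B := φ.codRestrict _ hmem
  have hinj : Function.Injective Φ₀ := by
    refine (injective_iff_map_eq_one _).2 fun s hs => Subtype.ext ?_
    have hfix : ∀ a, (s : Equiv.Perm GolayPt) (ι a) = ι a := fun a => by
      rw [← hact]
      exact congrArg ι (Equiv.congr_fun (congrArg Subtype.val hs) a)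
    obtain ⟨hsM, h⟩ := mem_H22.1 s.2
    rcases h with ⟨u, v⟩ | ⟨u, v⟩
    · refine Equiv.ext fun p => ?_
      by_cases p0 : p = pt 0
      · subst p0; exact u
      by_cases p1 : p = pt 1
      · subst p1; exact v
      obtain ⟨a, rfl⟩ := hιsurj p p0 p1
      exact hfix a
    · refine absurd ?_ swap_notMem
      convert hsM using 1
      refine Equiv.ext fun p => ?_
      by_cases p0 : p = pt 0
      · subst p0; rw [Equiv.swap_apply_left, u]
      by_cases p1 : p = pt 1
      · subst p1; rw [Equiv.swap_apply_right, v]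
      obtain ⟨a, rfl⟩ := hιsurj p p0 p1
      rw [Equiv.swap_apply_of_ne_of_ne p0 p1, hfix]
  have hsurj : Function.Surjective Φ₀ := by
    rintro ⟨g, hg⟩
    let σ : Equiv.Perm GolayPt := e.permCongr (Equiv.optionCongr (Equiv.optionCongr g))
    have s0 : σ (pt 0) = pt 0 := by simp [σ, Equiv.permCongr_apply, ← he]
    have s1 : σ (pt 1) = pt 1 := by simp [σ, Equiv.permCongr_apply, ← he1]
    have sι : ∀ a, σ (ι a) = ι (g a) := fun a => by simp [σ, ι, Equiv.permCongr_apply]
    have hσ : ∀ o ∈ octads, pt 0 ∈ o → pt 1 ∈ o → σ • o ∈ octads := by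
      intro o ho a0 a1
      have hb : ({pt 0, pt 1} : Finset GolayPt) ∪
          (Finset.univ.filter fun a => ι a ∈ o).image ι = o := by
        ext p
        simp only [Finset.mem_union, Finset.mem_insert, Finset.mem_singleton, Finset.mem_image,
          Finset.mem_filter, Finset.mem_univ, true_and]
        constructor
        · rintro ((rfl | rfl) | ⟨a, ha, rfl⟩)
          exacts [a0, a1, ha]
        · intro hp
          by_cases p0 : p = pt 0
          · exact Or.inl (Or.inl p0)
          by_cases p1 : p = pt 1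
          · exact Or.inl (Or.inr p1)
          obtain ⟨a, rfl⟩ := hιsurj p p0 p1
          exact Or.inr ⟨a, hp, rfl⟩
      generalize (Finset.univ.filter fun a => ι a ∈ o) = b at hb
      subst hb
      rw [← hext] at ho
      have hbB := (heB b).2 ho
      have hg' : g • B = B := hg
      have := (heB (g • b)).1 (by rw [← hg']; exact Set.smul_mem_smul_set hbB)
      rw [hext, show g • b = b.image g from rfl, Finset.image_image] at this
      rw [M24.smul_finset_def, Finset.image_union, Finset.image_insert, Finset.image_singleton,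
        s0, s1, Finset.image_image]
      convert this using 3
      funext a; exact sι a
    have hfin : ∀ s : H22, (∀ a, (s : Equiv.Perm GolayPt) (ι a) = ι (g a)) →
        ∃ x, Φ₀ x = ⟨g, hg⟩ := fun s hs =>
      ⟨s, Subtype.ext (Equiv.ext fun a => hι ((hact s a).trans (hs a)))⟩
    rcases rigid s0 s1 hσ with h | h
    · exact hfin ⟨σ, mem_H22.2 ⟨h, Or.inl ⟨s0, s1⟩⟩⟩ sι
    · refine hfin ⟨_, mem_H22.2 ⟨h, Or.inr ⟨?_, ?_⟩⟩⟩ fun a => ?_
      · rw [Equiv.Perm.mul_apply, s0, Equiv.swap_apply_left]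
      · rw [Equiv.Perm.mul_apply, s1, Equiv.swap_apply_right]
      · show Equiv.swap (pt 0) (pt 1) (σ (ι a)) = ι (g a)
        rw [sι, Equiv.swap_apply_of_ne_of_ne (hιne _).1 (hιne _).2]
  exact ⟨MulEquiv.ofBijective Φ₀ ⟨hinj, hsurj⟩, ι, hι, hιne, fun s a => hact s a⟩

theorem aut (hα : Fintype.card α = 22) {B : Set (Finset α)} (hB : IsSteinerSystem 3 6 B) :
    Nat.card (setSystemAut B) = 887040 ∧
      MulAction.IsMultiplyPretransitive (setSystemAut B) α 3 ∧
      ∃ H : Subgroup (setSystemAut B), H.index = 2 ∧ IsSimpleGroup H ∧ Nat.card H = 443520 := by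
  obtain ⟨Φ, ι, hι, hιne, hΦ⟩ := exists_autEquiv hα hB
  refine ⟨(Nat.card_congr Φ.toEquiv).symm.trans card_H22, ⟨fun x y => ?_⟩,
    (Small.M22K.subgroupOf H22).map Φ.toMonoidHom, ?_, ?_, ?_⟩
  · let five : (Fin 3 ↪ α) → (Fin 5 ↪ GolayPt) := fun z =>
      ⟨Fin.cons (pt 0) (Fin.cons (pt 1) fun i => ι (z i)), Fin.cons_injective_iff.2
        ⟨by
          rintro ⟨i, hi⟩
          refine Fin.cases (fun h => ?_) (fun j h => ?_) i hi
          · exact absurd h (by simp; decide)
          · simp at h; exact (hιne _).1 h,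
          Fin.cons_injective_iff.2 ⟨by rintro ⟨i, hi⟩; exact (hιne _).2 hi,
            hι.comp z.injective⟩⟩⟩
    obtain ⟨g, hg, hgx⟩ := M24.exists_map_tuple (n := 5) le_rfl (five x) (five y)
    have h0 : g (pt 0) = pt 0 := hgx 0
    have h1 : g (pt 1) = pt 1 := hgx (Fin.succ 0)
    refine ⟨Φ ⟨g, mem_H22.2 ⟨hg, Or.inl ⟨h0, h1⟩⟩⟩, ?_⟩
    ext i
    exact hι ((hΦ _ (x i)).trans (hgx i.succ.succ))
  · exact (Subgroup.index_map_equiv _ Φ).trans index_M22K
  · exact ((((Small.M22K.subgroupOf H22).equivMapOfInjective Φ.toMonoidHom Φ.injective).symm).trans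
      (Subgroup.subgroupOfEquivOfLe M22K_le)).isSimpleGroup_congr.2 Small.isSimple_M22K
  · rw [← Nat.card_congr ((Small.M22K.subgroupOf H22).equivMapOfInjective Φ.toMonoidHom
      Φ.injective).toEquiv, Nat.card_congr (Subgroup.subgroupOfEquivOfLe M22K_le).toEquiv,
      Small.card_M22K]

end Cfsg.Agent.Golay.Derived22
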