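import Cfsg.Prelude.Def_Sporadic_a

/-!
Elementary theory of Steiner systems: block counts through a set, intersection numbers with a
block, the symmetric difference lemma of S(5, 8, 24).
-/

set_option autoImplicit false

namespace Cfsg.Agent.Golay.Steiner

open Cfsg Finset

variable {α : Type*} [Fintype α] [DecidableEq α] {t k : ℕ} {B : Set (Finset α)}

/-- The subsets of `b` of size `n` containing `s`. -/
theorem card_supersets {s b : Finset α} {n : ℕ} (hsb : s ⊆ b) (hn : s.card ≤ n) :
    ((b.powersetCard n).filter fun u => s ⊆ u).card = (b.card - s.card).choose (n - s.card) := by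
  rw [← card_sdiff_of_subset hsb, ← card_powersetCard]
  apply card_bij' (fun u _ => u \ s) (fun v _ => v ∪ s)
  · intro u hu
    simp only [mem_filter, mem_powersetCard] at hu ⊢
    exact ⟨sdiff_subset_sdiff hu.1.1 (Subset.refl _), by rw [card_sdiff_of_subset hu.2, hu.1.2]⟩
  · intro v hv
    simp only [mem_powersetCard] at hv
    simp only [mem_filter, mem_powersetCard]
    have hd : Disjoint v s := disjoint_of_subset_left hv.1 sdiff_disjoint
    exact ⟨⟨union_subset (hv.1.trans sdiff_subset) hsb,
      by rw [card_union_of_disjoint hd, hv.2]; omega⟩, subset_union_right⟩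
  · intro u hu
    simp only [mem_filter] at hu
    exact sdiff_union_of_subset hu.2
  · intro v hv
    simp only [mem_powersetCard] at hv
    exact union_sdiff_cancel_right (disjoint_of_subset_left hv.1 sdiff_disjoint)

/-- The blocks as a finset. -/
noncomputable def blocks (B : Set (Finset α)) : Finset (Finset α) := (Set.toFinite B).toFinset

omit [DecidableEq α] in
theorem mem_blocks {b : Finset α} : b ∈ blocks B ↔ b ∈ B := Set.Finite.mem_toFinset _

omit [DecidableEq α] in
theorem ncard_eq_filter (P : Finset α → Prop) [DecidablePred P] :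
    {b : Finset α | b ∈ B ∧ P b}.ncard = ((blocks B).filter P).card := by
  rw [← Set.ncard_coe_finset]
  congr 1
  ext b
  simp [mem_blocks]

theorem eq_of_subset (hB : IsSteinerSystem t k B) {s b c : Finset α} (hs : t ≤ s.card)
    (hb : b ∈ B) (hc : c ∈ B) (hsb : s ⊆ b) (hsc : s ⊆ c) : b = c := by
  obtain ⟨u, hu, hcard⟩ := exists_subset_card_eq hs
  exact (hB.2 u hcard).unique ⟨hb, hu.trans hsb⟩ ⟨hc, hu.trans hsc⟩

theorem inter_card_lt (hB : IsSteinerSystem t k B) {b c : Finset α} (hb : b ∈ B) (hc : c ∈ B)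
    (hbc : b ≠ c) : (b ∩ c).card < t :=
  lt_of_not_ge fun h => hbc (eq_of_subset hB h hb hc inter_subset_left inter_subset_right)

theorem exists_block (hB : IsSteinerSystem t k B) {s : Finset α} (hs : s.card = t) :
    ∃ b ∈ B, s ⊆ b := let ⟨b, hb, _⟩ := hB.2 s hs; ⟨b, hb.1, hb.2⟩

/-- Double counting of the blocks through a set. -/
theorem count_through (hB : IsSteinerSystem t k B) {s : Finset α} (hs : s.card ≤ t) :
    {b : Finset α | b ∈ B ∧ s ⊆ b}.ncard * (k - s.card).choose (t - s.card) =
      (Fintype.card α - s.card).choose (t - s.card) := by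
  rw [ncard_eq_filter]
  set F := (blocks B).filter fun b => s ⊆ b with hF
  have hdis : (F : Set (Finset α)).PairwiseDisjoint
      (fun b => (b.powersetCard t).filter fun u => s ⊆ u) := by
    intro b hb c hc hbc
    simp only [Function.onFun, disjoint_left, mem_filter, mem_powersetCard]
    rintro u ⟨⟨hub, hu⟩, -⟩ ⟨⟨huc, -⟩, -⟩
    simp only [hF, mem_coe, mem_filter, mem_blocks] at hb hc
    exact hbc (eq_of_subset hB hu.ge hb.1 hc.1 hub huc)
  have hU : F.biUnion (fun b => (b.powersetCard t).filter fun u => s ⊆ u) =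
      ((univ : Finset α).powersetCard t).filter fun u => s ⊆ u := by
    ext u
    simp only [mem_biUnion, hF, mem_filter, mem_blocks, mem_powersetCard]
    constructor
    · rintro ⟨b, ⟨-, -⟩, ⟨-, h2⟩, h3⟩; exact ⟨⟨subset_univ _, h2⟩, h3⟩
    · rintro ⟨⟨-, h2⟩, h3⟩
      obtain ⟨b, hb, hub⟩ := exists_block hB h2
      exact ⟨b, ⟨hb, h3.trans hub⟩, ⟨hub, h2⟩, h3⟩
  have h := congrArg Finset.card hU
  rw [card_biUnion hdis, card_supersets (subset_univ s) hs, card_univ] at h
  rw [← h, sum_const_nat]
  intro b hb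
  simp only [hF, mem_filter, mem_blocks] at hb
  rw [card_supersets hb.2 hs, hB.1 b hb.1]

/-- The number of blocks through a `j`-set contained in a block of an S(t, k, v). -/
def lam (t k v j : ℕ) : ℕ := if j ≤ t then (v - j).choose (t - j) / (k - j).choose (t - j) else 1

theorem ncard_through (hB : IsSteinerSystem t k B) (htk : t ≤ k) {v : ℕ} (hv : Fintype.card α = v)
    {s : Finset α} (hs : s.card ≤ t) : {b : Finset α | b ∈ B ∧ s ⊆ b}.ncard = lam t k v s.card := by
  rw [lam, if_pos hs, ← hv, ← count_through hB hs, Nat.mul_div_cancel _ (Nat.choose_pos (by omega))]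

theorem ncard_through_block (hB : IsSteinerSystem t k B) (htk : t ≤ k) {v : ℕ}
    (hv : Fintype.card α = v) {b s : Finset α} (hb : b ∈ B) (hs : s ⊆ b) :
    {c : Finset α | c ∈ B ∧ s ⊆ c}.ncard = lam t k v s.card := by
  rcases Nat.lt_or_ge t s.card with h | h
  · rw [lam, if_neg (by omega), Set.ncard_eq_one]
    exact ⟨b, Set.ext fun c => ⟨fun hc => eq_of_subset hB h.le hc.1 hb hc.2 hs,
      fun hc => by rw [Set.mem_singleton_iff] at hc; subst hc; exact ⟨hb, hs⟩⟩⟩
  · exact ncard_through hB htk hv h

theorem block_count (hB : IsSteinerSystem t k B) :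
    B.ncard * k.choose t = (Fintype.card α).choose t := by
  have h := count_through hB (s := ∅) (by simp)
  simpa using h

/-- The equations satisfied by the intersection numbers with a block. -/
def InterNums (t k v : ℕ) (n : ℕ → ℕ) : Prop :=
  ∀ j ≤ k, lam t k v j = ∑ i ∈ Finset.range (k - j + 1), (k - j).choose i * n (j + i)

/-- The blocks meeting a block `b` exactly in `s`. -/
theorem ncard_inter_eq (hB : IsSteinerSystem t k B) (htk : t ≤ k) {v : ℕ}
    (hv : Fintype.card α = v) {n : ℕ → ℕ} (hn : InterNums t k v n) {b : Finset α} (hb : b ∈ B) :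
    ∀ (d : ℕ) (s : Finset α), s ⊆ b → k - s.card = d →
      {c : Finset α | c ∈ B ∧ b ∩ c = s}.ncard = n s.card := by
  intro d
  induction d using Nat.strong_induction_on with
  | _ d ih =>
    intro s hs hd
    have hbk := hB.1 b hb
    have hsk : s.card ≤ k := hbk ▸ card_le_card hs
    have hfib : ((blocks B).filter fun c => s ⊆ c).card =
        ∑ u ∈ b.powerset.filter (fun u => s ⊆ u),
          ((blocks B).filter fun c => b ∩ c = u).card := by
      rw [card_eq_sum_card_fiberwise (f := fun c => b ∩ c)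
        (t := b.powerset.filter fun u => s ⊆ u) (fun c hc => by
          simp only [mem_coe, mem_filter, mem_powerset] at hc ⊢
          exact ⟨inter_subset_left, subset_inter hs hc.2⟩)]
      refine sum_congr rfl fun u hu => ?_
      congr 1
      simp only [mem_filter] at hu
      ext c
      simp only [mem_filter]
      exact ⟨fun h => ⟨h.1.1, h.2⟩, fun h => ⟨⟨h.1, hu.2.trans (h.2 ▸ inter_subset_right)⟩, h.2⟩⟩
    have hsum : ∑ u ∈ b.powerset.filter (fun u => s ⊆ u), n u.card =
        ∑ i ∈ range (k - s.card + 1), (k - s.card).choose i * n (s.card + i) := by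
      have hbs : (b \ s).card = k - s.card := by rw [card_sdiff_of_subset hs, hbk]
      rw [← hbs]
      calc ∑ u ∈ b.powerset.filter (fun u => s ⊆ u), n u.card
          = ∑ u ∈ (b \ s).powerset, n (s.card + u.card) := by
            apply sum_nbij' (fun u => u \ s) (fun u => u ∪ s)
            · intro u hu
              simp only [mem_coe, mem_filter, mem_powerset] at hu ⊢
              exact sdiff_subset_sdiff hu.1 (Subset.refl _)
            · intro u hu
              simp only [mem_coe, mem_powerset, mem_filter] at hu ⊢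
              exact ⟨union_subset (hu.trans sdiff_subset) hs, subset_union_right⟩
            · intro u hu
              simp only [mem_coe, mem_filter] at hu
              exact sdiff_union_of_subset hu.2
            · intro u hu
              simp only [mem_coe, mem_powerset] at hu
              exact union_sdiff_cancel_right (disjoint_of_subset_left hu sdiff_disjoint)
            · intro u hu
              simp only [mem_filter] at hu
              congr 1
              have := card_le_card hu.2
              rw [card_sdiff_of_subset hu.2]; omega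
        _ = _ := by
            rw [sum_powerset_apply_card (fun i => n (s.card + i))]
            simp
    have hmain : ∑ u ∈ b.powerset.filter (fun u => s ⊆ u),
        ((blocks B).filter fun c => b ∩ c = u).card =
        ∑ u ∈ b.powerset.filter (fun u => s ⊆ u), n u.card := by
      rw [← hfib, ← ncard_eq_filter, ncard_through_block hB htk hv hb hs, hsum, hn s.card hsk]
    have hsmem : s ∈ b.powerset.filter (fun u => s ⊆ u) := by simp [hs]
    have hrest : ∑ u ∈ (b.powerset.filter (fun u => s ⊆ u)).erase s,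
        ((blocks B).filter fun c => b ∩ c = u).card =
        ∑ u ∈ (b.powerset.filter (fun u => s ⊆ u)).erase s, n u.card := by
      refine sum_congr rfl fun u hu => ?_
      simp only [mem_erase, mem_filter, mem_powerset] at hu
      rw [← ncard_eq_filter]
      have hlt : s.card < u.card :=
        card_lt_card (Finset.ssubset_iff_subset_ne.2 ⟨hu.2.2, Ne.symm hu.1⟩)
      have hule : u.card ≤ k := hbk ▸ card_le_card hu.2.1
      exact ih (k - u.card) (by omega) u hu.2.1 rfl
    rw [← add_sum_erase _ _ hsmem, ← add_sum_erase _ _ hsmem, hrest] at hmain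
    rw [ncard_eq_filter]
    omega

/-- The blocks meeting a block `b` in exactly `i` points. -/
theorem ncard_inter_card (hB : IsSteinerSystem t k B) (htk : t ≤ k) {v : ℕ}
    (hv : Fintype.card α = v) {n : ℕ → ℕ} (hn : InterNums t k v n) {b : Finset α} (hb : b ∈ B)
    (i : ℕ) : {c : Finset α | c ∈ B ∧ (b ∩ c).card = i}.ncard = k.choose i * n i := by
  rw [ncard_eq_filter, ← hB.1 b hb, ← card_powersetCard,
    card_eq_sum_card_fiberwise (f := fun c => b ∩ c) (t := b.powersetCard i) (fun c hc => by
      simp only [mem_coe, mem_filter, mem_powersetCard] at hc ⊢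
      exact ⟨inter_subset_left, hc.2⟩), sum_const_nat]
  intro u hu
  simp only [mem_powersetCard] at hu
  rw [filter_filter, filter_congr (q := fun c => b ∩ c = u)
    (fun c _ => ⟨fun h => h.2, fun h => ⟨h ▸ hu.2, h⟩⟩), ← ncard_eq_filter,
    ncard_inter_eq hB htk hv hn hb _ u hu.1 rfl, hu.2]

theorem inter_num_ne_zero (hB : IsSteinerSystem t k B) (htk : t ≤ k) {v : ℕ}
    (hv : Fintype.card α = v) {n : ℕ → ℕ} (hn : InterNums t k v n) {b c : Finset α} (hb : b ∈ B)
    (hc : c ∈ B) : n (b ∩ c).card ≠ 0 := by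
  rw [← ncard_inter_eq hB htk hv hn hb (k - (b ∩ c).card) (b ∩ c) inter_subset_left rfl]
  have hne : {x : Finset α | x ∈ B ∧ b ∩ x = b ∩ c}.Nonempty := ⟨c, hc, rfl⟩
  exact ((Set.ncard_pos (Set.toFinite _)).2 hne).ne'

/-! ### Intersection numbers of the Mathieu designs -/

/-- S(5, 8, 24). -/
def n5824 : ℕ → ℕ
  | 0 => 30 | 2 => 16 | 4 => 4 | 8 => 1 | _ => 0

/-- S(4, 7, 23). -/
def n4723 : ℕ → ℕ
  | 1 => 16 | 3 => 4 | 7 => 1 | _ => 0

/-- S(3, 6, 22). -/
def n3622 : ℕ → ℕ
  | 0 => 16 | 2 => 4 | 6 => 1 | _ => 0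

/-- S(5, 6, 12). -/
def n5612 : ℕ → ℕ
  | 0 => 1 | 2 => 3 | 3 => 2 | 4 => 3 | 6 => 1 | _ => 0

theorem interNums_5824 : InterNums 5 8 24 n5824 := by
  intro j hj; interval_cases j <;> decide +kernel

theorem interNums_4723 : InterNums 4 7 23 n4723 := by
  intro j hj; interval_cases j <;> decide +kernel

theorem interNums_3622 : InterNums 3 6 22 n3622 := by
  intro j hj; interval_cases j <;> decide +kernel

theorem interNums_5612 : InterNums 5 6 12 n5612 := by
  intro j hj; interval_cases j <;> decide +kernel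

/-- In an S(5, 8, 24) the symmetric difference of two blocks meeting in four points is a block. -/
theorem symmDiff_mem (hB : IsSteinerSystem 5 8 B) (hα : Fintype.card α = 24) {b c : Finset α}
    (hb : b ∈ B) (hc : c ∈ B) (h4 : (b ∩ c).card = 4) : symmDiff b c ∈ B := by
  have h5 : (5 : ℕ) ≤ 8 := by norm_num
  have inter024 : ∀ {x y : Finset α}, x ∈ B → y ∈ B → x ≠ y →
      (x ∩ y).card = 0 ∨ (x ∩ y).card = 2 ∨ (x ∩ y).card = 4 := by
    intro x y hx hy hxy
    have h1 := inter_card_lt hB hx hy hxy
    have h2 := inter_num_ne_zero hB h5 hα interNums_5824 hx hy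
    generalize (x ∩ y).card = m at h1 h2
    interval_cases m <;> simp [n5824] at h2 ⊢
  set T := b ∩ c with hT
  set u := b \ c with hu
  set w := c \ b with hw
  have hbc : b ≠ c := by rintro rfl; rw [hT, inter_self, hB.1 b hb] at h4; omega
  have hu4 : u.card = 4 := by
    have := card_sdiff_add_card_inter b c
    rw [← hu, ← hT, hB.1 b hb, h4] at this; omega
  have hw4 : w.card = 4 := by
    have := card_sdiff_add_card_inter c b
    rw [← hw, inter_comm, ← hT, hB.1 c hc, h4] at this; omega
  obtain ⟨w₁, hw₁⟩ : w.Nonempty := card_pos.1 (by omega)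
  have hw₁u : w₁ ∉ u := fun h => (mem_sdiff.1 hw₁).2 (mem_sdiff.1 h).1
  obtain ⟨e, he, hue⟩ := exists_block hB (s := insert w₁ u) (by rw [card_insert_of_notMem hw₁u, hu4])
  by_cases hwe : w ⊆ e
  · have hd : Disjoint u w := disjoint_sdiff_sdiff
    have hsub : u ∪ w ⊆ e := union_subset ((subset_insert _ _).trans hue) hwe
    have : u ∪ w = e := eq_of_subset_of_card_le hsub
      (by rw [card_union_of_disjoint hd, hu4, hw4, hB.1 e he])
    rw [show symmDiff b c = u ∪ w from rfl, this]; exact he
  exfalso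
  obtain ⟨w₃, hw₃, hw₃e⟩ := not_subset.1 hwe
  obtain ⟨u₄, hu₄⟩ : u.Nonempty := card_pos.1 (by omega)
  set u' := u.erase u₄ with hu'
  have hu'3 : u'.card = 3 := by rw [hu', card_erase_of_mem hu₄, hu4]
  have hne13 : w₁ ≠ w₃ := fun h => hw₃e (h ▸ hue (mem_insert_self _ _))
  have hd13 : Disjoint u' ({w₁, w₃} : Finset α) := by
    refine disjoint_left.2 fun x hx hx' => ?_
    have h1 := (mem_sdiff.1 (mem_of_mem_erase hx)).1
    simp only [mem_insert, mem_singleton] at hx'
    rcases hx' with rfl | rfl
    · exact (mem_sdiff.1 hw₁).2 h1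
    · exact (mem_sdiff.1 hw₃).2 h1
  obtain ⟨d, hd, hud⟩ := exists_block hB (s := u' ∪ {w₁, w₃})
    (by rw [card_union_of_disjoint hd13, hu'3, card_pair hne13])
  have hd1 : w₁ ∈ d := hud (mem_union_right _ (by simp))
  have hd3 : w₃ ∈ d := hud (mem_union_right _ (by simp))
  have hu₄d : u₄ ∉ d := by
    intro h
    have hsub : insert w₁ u ⊆ d := by
      intro x hx
      rcases mem_insert.1 hx with rfl | hx
      · exact hd1
      · by_cases hx4 : x = u₄
        · rw [hx4]; exact h
        · exact hud (mem_union_left _ (mem_erase.2 ⟨hx4, hx⟩))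
    exact hw₃e (eq_of_subset hB (by rw [card_insert_of_notMem hw₁u, hu4]) hd he hsub hue ▸ hd3)
  have hdu : (d ∩ u).card = 3 := by
    have : d ∩ u = u' := by
      ext x
      simp only [mem_inter, hu', mem_erase]
      exact ⟨fun h => ⟨fun h4 => hu₄d (h4 ▸ h.1), h.2⟩,
        fun h => ⟨hud (mem_union_left _ (mem_erase.2 h)), h.2⟩⟩
    rw [this, hu'3]
  have hdne : ∀ x ∈ B, u₄ ∈ x → d ≠ x := fun x _ hx h => hu₄d (h ▸ hx)
  have hdb : d ≠ b := hdne b hb (mem_sdiff.1 hu₄).1
  have hdc : d ≠ c := by
    intro h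
    obtain ⟨x, hx⟩ : (d ∩ u).Nonempty := card_pos.1 (by omega)
    exact (mem_sdiff.1 (mem_inter.1 hx).2).2 (h ▸ (mem_inter.1 hx).1)
  have split : ∀ x y : Finset α, (d ∩ x).card = (d ∩ (x \ y)).card + (d ∩ (x ∩ y)).card := by
    intro x y
    rw [← card_union_of_disjoint, ← inter_union_distrib_left, sdiff_union_inter]
    exact disjoint_of_subset_left inter_subset_right
      (disjoint_of_subset_right inter_subset_right (disjoint_sdiff_inter x y))
  have hb' := split b c
  have hc' := split c b
  rw [← hu, ← hT, hdu] at hb'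
  rw [← hw, inter_comm c b, ← hT] at hc'
  have hdb' := inter024 hd hb hdb
  have hdc' := inter024 hd hc hdc
  have hdw : 2 ≤ (d ∩ w).card := by
    rw [← card_pair hne13]
    refine card_le_card fun x hx => ?_
    simp only [mem_insert, mem_singleton] at hx
    rcases hx with rfl | rfl
    · exact mem_inter.2 ⟨hd1, hw₁⟩
    · exact mem_inter.2 ⟨hd3, hw₃⟩
  -- the other three blocks through `T`
  have hthrough : ((blocks B).filter fun x => T ⊆ x).card = 5 := by
    rw [← ncard_eq_filter, ncard_through hB h5 hα (by omega), h4]; decide +kernel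
  set X := (((blocks B).filter fun x => T ⊆ x).erase b).erase c with hX
  have hX3 : X.card = 3 := by
    rw [hX, card_erase_of_mem, card_erase_of_mem, hthrough]
    · exact mem_filter.2 ⟨mem_blocks.2 hb, inter_subset_left⟩
    · exact mem_erase.2 ⟨Ne.symm hbc, mem_filter.2 ⟨mem_blocks.2 hc, inter_subset_right⟩⟩
  have hXmem : ∀ x ∈ X, x ∈ B ∧ T ⊆ x ∧ x ≠ b ∧ x ≠ c := by
    intro x hx
    simp only [hX, mem_erase, mem_filter, mem_blocks] at hx
    exact ⟨hx.2.2.1, hx.2.2.2, hx.2.1, hx.1⟩
  have hinterT : ∀ x y, x ∈ B → y ∈ B → T ⊆ x → T ⊆ y → x ≠ y → x ∩ y = T := by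
    intro x y hx hy hTx hTy hxy
    refine (eq_of_subset_of_card_le (subset_inter hTx hTy) ?_).symm
    have := inter_card_lt hB hx hy hxy
    omega
  have hTb : T ⊆ b := inter_subset_left
  have hTc : T ⊆ c := inter_subset_right
  have hodd : ∀ x ∈ X, 1 ≤ (d ∩ (x \ T)).card := by
    intro x hx
    obtain ⟨hxB, hTx, -, -⟩ := hXmem x hx
    have hdx : d ≠ x := by
      rintro rfl
      have : (d ∩ T).card = 4 := by rw [inter_eq_right.2 hTx, h4]
      omega
    have h2 := split x T
    rw [inter_eq_right.2 hTx] at h2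
    have := inter024 hd hxB hdx
    omega
  have hpart : (d ∩ u).card + (d ∩ T).card + (d ∩ w).card + ∑ x ∈ X, (d ∩ (x \ T)).card ≤ 8 := by
    have hdisj : (X : Set (Finset α)).PairwiseDisjoint fun x => d ∩ (x \ T) := by
      intro x hx y hy hxy
      simp only [Function.onFun, disjoint_left, mem_inter, mem_sdiff]
      rintro z ⟨-, hzx, hzT⟩ ⟨-, hzy, -⟩
      obtain ⟨h1, h2, -, -⟩ := hXmem x hx
      obtain ⟨h3, h5, -, -⟩ := hXmem y hy
      exact hzT (hinterT x y h1 h3 h2 h5 hxy ▸ mem_inter.2 ⟨hzx, hzy⟩)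
    rw [← card_biUnion hdisj, ← hB.1 d hd, ← card_union_of_disjoint, ← card_union_of_disjoint,
      ← card_union_of_disjoint]
    · refine card_le_card ?_
      simp only [union_subset_iff, biUnion_subset]
      exact ⟨⟨⟨inter_subset_left, inter_subset_left⟩, inter_subset_left⟩, fun x _ => inter_subset_left⟩
    · simp only [disjoint_left, mem_union, mem_inter, mem_biUnion, mem_sdiff]
      rintro z hz ⟨x, hx, -, hzx, hzT⟩
      obtain ⟨h1, h2, h3, h4'⟩ := hXmem x hx
      rcases hz with (⟨-, hzu⟩ | ⟨-, hzT'⟩) | ⟨-, hzw⟩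
      · exact hzT (hinterT x b h1 hb h2 hTb h3 ▸ mem_inter.2 ⟨hzx, (mem_sdiff.1 hzu).1⟩)
      · exact hzT hzT'
      · exact hzT (hinterT x c h1 hc h2 hTc h4' ▸ mem_inter.2 ⟨hzx, (mem_sdiff.1 hzw).1⟩)
    · simp only [disjoint_left, mem_union, mem_inter, hu, hw, hT, mem_sdiff]
      rintro z (⟨-, hzb, -⟩ | ⟨-, hzb, -⟩) ⟨-, -, hnb⟩ <;> exact hnb hzb
    · simp only [disjoint_left, mem_inter, hu, hT, mem_sdiff]
      rintro z ⟨-, -, hnc⟩ ⟨-, -, hzc⟩; exact hnc hzc
  have hge := card_nsmul_le_sum X _ 1 hodd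
  rw [hX3, smul_eq_mul] at hge
  omega

end Cfsg.Agent.Golay.Steiner
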