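import Cfsg.Agent.Lib.Golay.Design
import Cfsg.Agent.Lib.Golay.Steiner
import Cfsg.Prelude.Def_SporadicCombinatorics

/-!
Sextets and trios of the length-24 code.
-/

set_option autoImplicit false

namespace Cfsg.Agent.Golay.Sextet

open Cfsg Cfsg.Agent.Golay.Basic Cfsg.Agent.Golay.Design Cfsg.Agent.Golay.Steiner Finset

theorem card_pts : Fintype.card GolayPt = 24 := by decide

theorem symmDiff_mem_octads {o o' : Finset GolayPt} (ho : o ∈ octads) (ho' : o' ∈ octads)
    (h : (o ∩ o').card = 4) : symmDiff o o' ∈ octads :=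
  Cfsg.Agent.Golay.Steiner.symmDiff_mem steiner_octads card_pts ho ho' h

/-- The octads through a set. -/
noncomputable def octadsThrough (t : Finset GolayPt) : Finset (Finset GolayPt) :=
  (blocks octads).filter fun o => t ⊆ o

theorem card_octadsThrough {t : Finset GolayPt} (ht : t.card = 4) : (octadsThrough t).card = 5 := by
  rw [octadsThrough, ← ncard_eq_filter, ncard_through steiner_octads (by norm_num) card_pts (by omega),
    ht]
  decide +kernel

theorem mem_octadsThrough {t o : Finset GolayPt} : o ∈ octadsThrough t ↔ o ∈ octads ∧ t ⊆ o := by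
  simp [octadsThrough, mem_blocks]

theorem inter_eq_of_through {t o o' : Finset GolayPt} (ht : t.card = 4) (ho : o ∈ octads)
    (ho' : o' ∈ octads) (hto : t ⊆ o) (hto' : t ⊆ o') (hne : o ≠ o') : o ∩ o' = t := by
  refine (eq_of_subset_of_card_le (subset_inter hto hto') ?_).symm
  have := inter_card_lt steiner_octads ho ho' hne
  omega

/-- The sextet of a tetrad. -/
noncomputable def sextetOf (t : Finset GolayPt) : Finset (Finset GolayPt) :=
  insert t ((octadsThrough t).image fun o => o \ t)

theorem sdiff_injOn {t : Finset GolayPt} :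
    Set.InjOn (fun o => o \ t) (octadsThrough t : Set (Finset GolayPt)) := by
  intro a ha b hb h
  rw [mem_coe, mem_octadsThrough] at ha hb
  simp only at h
  rw [← sdiff_union_of_subset ha.2, h, sdiff_union_of_subset hb.2]

theorem mem_sextetOf {t u : Finset GolayPt} :
    u ∈ sextetOf t ↔ u = t ∨ ∃ o ∈ octads, t ⊆ o ∧ o \ t = u := by
  simp [sextetOf, mem_octadsThrough, and_assoc]

theorem sextetOf_mem {t : Finset GolayPt} (ht : t.card = 4) : sextetOf t ∈ sextets := by
  have hd : ∀ u ∈ (octadsThrough t).image (fun o => o \ t), Disjoint t u := by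
    intro u hu
    obtain ⟨o, -, rfl⟩ := mem_image.1 hu
    exact disjoint_sdiff
  have hnot : t ∉ (octadsThrough t).image fun o => o \ t := fun h => by
    have h' := hd t h
    rw [disjoint_self_iff_empty] at h'
    rw [h', card_empty] at ht
    omega
  refine ⟨by rw [sextetOf, card_insert_of_notMem hnot, card_image_of_injOn sdiff_injOn,
    card_octadsThrough ht], fun u hu => ?_, fun u hu u' hu' hne => ?_⟩
  · rcases mem_sextetOf.1 hu with rfl | ⟨o, ho, hto, rfl⟩
    · exact ht
    · rw [card_sdiff_of_subset hto, octad_card ho, ht]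
  · rcases mem_sextetOf.1 hu with rfl | ⟨o, ho, hto, rfl⟩ <;>
      rcases mem_sextetOf.1 hu' with rfl | ⟨o', ho', hto', rfl⟩
    · exact absurd rfl hne
    · rwa [union_sdiff_of_subset hto']
    · rwa [sdiff_union_of_subset hto]
    · have hoo' : o ≠ o' := fun e => hne (by rw [e])
      have hi := inter_eq_of_through ht ho ho' hto hto' hoo'
      have hs := symmDiff_mem_octads ho ho' (by rw [hi, ht])
      have : o \ t ∪ o' \ t = symmDiff o o' := by
        rw [symmDiff_def, sup_eq_union, ← hi, sdiff_inter_self_left, inter_comm, sdiff_inter_self_left]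
      rwa [this]

theorem eq_sextetOf {S : Finset (Finset GolayPt)} (hS : S ∈ sextets) {t : Finset GolayPt}
    (ht : t ∈ S) : S = sextetOf t := by
  obtain ⟨hcard, h4, hU⟩ := hS
  have h := sextetOf_mem (h4 t ht)
  refine eq_of_subset_of_card_le (fun u hu => mem_sextetOf.2 ?_) (by rw [h.1, hcard])
  by_cases hut : u = t
  · exact Or.inl hut
  refine Or.inr ⟨t ∪ u, hU t ht u hu (Ne.symm hut), subset_union_left, ?_⟩
  have hd : Disjoint t u := by
    rw [← card_union_eq_card_add_card, octad_card (hU t ht u hu (Ne.symm hut)), h4 t ht, h4 u hu]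
  exact union_sdiff_cancel_left hd

theorem sextets_through {t : Finset GolayPt} (ht : t.card = 4) :
    ∃! S, S ∈ sextets ∧ t ∈ S :=
  ⟨sextetOf t, ⟨sextetOf_mem ht, mem_sextetOf.2 (Or.inl rfl)⟩, fun _ hS => eq_sextetOf hS.1 hS.2⟩

theorem sextets_ncard : sextets.ncard = 1771 := by
  classical
  have hfin : sextets.Finite := Set.toFinite _
  rw [Set.ncard_eq_toFinset_card _ hfin]
  have h := card_eq_sum_card_fiberwise (s := (univ : Finset GolayPt).powersetCard 4)
    (t := hfin.toFinset) (f := sextetOf) (fun t ht => by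
      simp only [mem_coe, mem_powersetCard] at ht
      exact hfin.mem_toFinset.2 (sextetOf_mem ht.2))
  rw [card_powersetCard, card_univ, card_pts, sum_const_nat (m := 6)] at h
  · have : Nat.choose 24 4 = 10626 := by decide +kernel
    omega
  · intro S hS
    rw [Set.Finite.mem_toFinset] at hS
    have : ((univ : Finset GolayPt).powersetCard 4).filter (fun t => sextetOf t = S) = S := by
      ext t
      simp only [mem_filter, mem_powersetCard, subset_univ, true_and]
      exact ⟨fun h => h.2 ▸ mem_sextetOf.2 (Or.inl rfl), fun h => ⟨hS.2.1 t h, (eq_sextetOf hS h).symm⟩⟩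
    rw [this, hS.1]

theorem compl_union_mem {o o' : Finset GolayPt} (ho : o ∈ octads) (ho' : o' ∈ octads)
    (hd : Disjoint o o') : (o ∪ o')ᶜ ∈ octads := by
  refine mem_octads_iff.2 ⟨?_, by rw [card_compl, card_union_of_disjoint hd, octad_card ho,
    octad_card ho', card_pts]⟩
  rw [← hd.symmDiff_eq_sup.trans sup_eq_union, mask_compl, mask_symmDiff]
  exact isCode_xor (isCode_xor (mem_octads_iff.1 ho).1 (mem_octads_iff.1 ho').1) (by decide +kernel)

theorem trio_eq {T : Finset (Finset GolayPt)} (hT : T ∈ trios) {o o' : Finset GolayPt}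
    (ho : o ∈ T) (ho' : o' ∈ T) (hne : o ≠ o') : T = {o, o', (o ∪ o')ᶜ} := by
  obtain ⟨h3, hO, hD⟩ := hT
  refine eq_of_subset_of_card_le (fun u hu => ?_) (le_of_le_of_eq card_le_three h3.symm)
  simp only [mem_insert, mem_singleton]
  by_cases hu1 : u = o
  · exact Or.inl hu1
  by_cases hu2 : u = o'
  · exact Or.inr (Or.inl hu2)
  refine Or.inr (Or.inr (eq_of_subset_of_card_le ?_ ?_))
  · intro x hx
    simp only [mem_compl, mem_union, not_or]
    exact ⟨disjoint_left.1 (hD u hu o ho hu1) hx, disjoint_left.1 (hD u hu o' ho' hu2) hx⟩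
  · rw [card_compl, card_union_of_disjoint (hD o ho o' ho' hne), octad_card (hO o ho),
      octad_card (hO o' ho'), octad_card (hO u hu), card_pts]

theorem trio_mem {o o' : Finset GolayPt} (ho : o ∈ octads) (ho' : o' ∈ octads)
    (hd : Disjoint o o') : ({o, o', (o ∪ o')ᶜ} : Finset (Finset GolayPt)) ∈ trios := by
  have h'' := compl_union_mem ho ho' hd
  have hne : ∀ {a b : Finset GolayPt}, a ∈ octads → Disjoint a b → a ≠ b := by
    intro a b ha hab e
    subst e
    rw [disjoint_self_iff_empty] at hab
    have := octad_card ha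
    rw [hab, card_empty] at this
    omega
  have d1 : Disjoint o (o ∪ o')ᶜ := disjoint_compl_right.mono_left subset_union_left
  have d2 : Disjoint o' (o ∪ o')ᶜ := disjoint_compl_right.mono_left subset_union_right
  refine ⟨card_eq_three.2 ⟨o, o', _, hne ho hd, hne ho d1, hne ho' d2, rfl⟩, fun u hu => ?_,
    fun u hu u' hu' hn => ?_⟩
  · simp only [mem_insert, mem_singleton] at hu
    rcases hu with rfl | rfl | rfl <;> assumption
  · simp only [mem_insert, mem_singleton] at hu hu'
    rcases hu with rfl | rfl | rfl <;> rcases hu' with rfl | rfl | rfl <;>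
      first
        | exact absurd rfl hn
        | assumption
        | exact hd.symm
        | exact d1.symm
        | exact d2.symm

theorem trios_ncard : trios.ncard = 3795 := by
  classical
  have hfin : trios.Finite := Set.toFinite _
  rw [Set.ncard_eq_toFinset_card _ hfin]
  let P := (blocks octads).sigma fun o => (blocks octads).filter fun o' => (o ∩ o').card = 0
  have hP : P.card = 22770 := by
    rw [card_sigma, sum_const_nat (m := 30)]
    · rw [show (blocks octads).card = 759 from by
        rw [← octads_ncard, Set.ncard_eq_toFinset_card _ (Set.toFinite _)]; rfl]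
    · intro o ho
      rw [← ncard_eq_filter, ncard_inter_card steiner_octads (by norm_num) card_pts interNums_5824
        (mem_blocks.1 ho) 0]
      rfl
  have hmemP : ∀ x, x ∈ P ↔ x.1 ∈ octads ∧ x.2 ∈ octads ∧ Disjoint x.1 x.2 := by
    intro x
    simp [P, mem_blocks, disjoint_iff_inter_eq_empty]
  have h := card_eq_sum_card_fiberwise (s := P) (t := hfin.toFinset)
    (f := fun x => ({x.1, x.2, (x.1 ∪ x.2)ᶜ} : Finset (Finset GolayPt))) (fun x hx => by
      rw [mem_coe, hmemP] at hx
      exact hfin.mem_toFinset.2 (trio_mem hx.1 hx.2.1 hx.2.2))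
  rw [hP, sum_const_nat (m := 6)] at h
  · omega
  · intro T hT
    rw [Set.Finite.mem_toFinset] at hT
    have hcard : (P.filter fun x => ({x.1, x.2, (x.1 ∪ x.2)ᶜ} : Finset (Finset GolayPt)) = T).card =
        T.offDiag.card := by
      apply card_nbij' (fun x => (x.1, x.2)) (fun x => ⟨x.1, x.2⟩)
      · intro x hx
        simp only [mem_coe, mem_filter, hmemP] at hx
        obtain ⟨⟨h1, h2, h3⟩, rfl⟩ := hx
        refine mem_coe.2 (mem_offDiag.2 ⟨by simp, by simp, fun e => ?_⟩)
        simp only at e
        rw [← e, disjoint_self_iff_empty] at h3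
        have := octad_card h1
        rw [h3, card_empty] at this
        omega
      · intro x hx
        obtain ⟨h1, h2, h3⟩ := mem_offDiag.1 hx
        simp only [mem_coe, mem_filter, hmemP]
        exact ⟨⟨hT.2.1 _ h1, hT.2.1 _ h2, hT.2.2 _ h1 _ h2 h3⟩, (trio_eq hT h1 h2 h3).symm⟩
      · intro x _; rfl
      · intro x _; rfl
    rw [hcard, offDiag_card, hT.1]

end Cfsg.Agent.Golay.Sextet
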