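import Cfsg.Agent.Lib.Golay.SylowTwo

/-!
The checks of the Sylow 2-subgroup of the Mathieu group of degree 22.
-/

set_option autoImplicit false
set_option maxRecDepth 20000

namespace Cfsg.Agent.Golay.SylowTwo

open Cfsg.Agent.Golay.Basic Cfsg.Agent.Golay.M24 Cfsg.Agent.Golay.Cert Cfsg.Agent.Golay.TabList Cfsg.Agent.Golay.SylowTwoData

theorem s22_list : listOK s22Pc s22Elems s22Idx = true := by decide +kernel

theorem s22_inG : s22Pc.all (fun t => tabAt t 23 == 23 && tabAt t 0 == 0) = true := by decide +kernel

theorem s22_center : centerOK s22Pc s22Elems s22Z = true := by decide +kernel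

theorem s22_gen : genOK (fun t => tabAt t 23 == 23 && tabAt t 0 == 0) s22Elems [s22Z] s22Gen = true := by decide +kernel

theorem s22_words : wordsOK s22Pc (s22Z :: s22Gen.map fun e => e.1) s22Words = true := by decide +kernel

theorem s22_rows : rowsOK s22Elems s22Dist s22Reps = true := by decide +kernel

theorem s22_prop : propOK s22Pc s22Dist s22Reps = true := by decide +kernel

theorem s22_top : topOK s22Dist s22Top = true := by decide +kernel

theorem s22_levels : levelsOK s22Dist s22Levels = true := by decide +kernel

theorem s22_tree : treeOK s22Levels s22Top = true := by decide +kernel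

theorem s22_ne : s22Pc ≠ [] := by decide +kernel

end Cfsg.Agent.Golay.SylowTwo
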