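import Cfsg.Agent.Lib.Golay.SylowTwo

/-!
The checks of the Sylow 2-subgroup of the Mathieu group of degree 23.
-/

set_option autoImplicit false
set_option maxRecDepth 20000

namespace Cfsg.Agent.Golay.SylowTwo

open Cfsg.Agent.Golay.Basic Cfsg.Agent.Golay.M24 Cfsg.Agent.Golay.Cert Cfsg.Agent.Golay.TabList Cfsg.Agent.Golay.SylowTwoData

theorem s23_list : listOK s23Pc s23Elems s23Idx = true := by decide +kernel

theorem s23_inG : s23Pc.all (fun t => tabAt t 23 == 23) = true := by decide +kernel

theorem s23_center : centerOK s23Pc s23Elems s23Z = true := by decide +kernel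

theorem s23_gen : genOK (fun t => tabAt t 23 == 23) s23Elems [s23Z] s23Gen = true := by decide +kernel

theorem s23_words : wordsOK s23Pc (s23Z :: s23Gen.map fun e => e.1) s23Words = true := by decide +kernel

theorem s23_rows : rowsOK s23Elems s23Dist s23Reps = true := by decide +kernel

theorem s23_prop : propOK s23Pc s23Dist s23Reps = true := by decide +kernel

theorem s23_top : topOK s23Dist s23Top = true := by decide +kernel

theorem s23_levels : levelsOK s23Dist s23Levels = true := by decide +kernel

theorem s23_tree : treeOK s23Levels s23Top = true := by decide +kernel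

theorem s23_ne : s23Pc ≠ [] := by decide +kernel

end Cfsg.Agent.Golay.SylowTwo
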