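import Cfsg.Agent.Lib.Golay.SylowTwo

/-!
The checks of the Sylow 2-subgroup of the Mathieu group of degree 24.
-/

set_option autoImplicit false
set_option maxRecDepth 20000

namespace Cfsg.Agent.Golay.SylowTwo

open Cfsg.Agent.Golay.Basic Cfsg.Agent.Golay.M24 Cfsg.Agent.Golay.Cert Cfsg.Agent.Golay.TabList Cfsg.Agent.Golay.SylowTwoData

theorem s24_list : listOK s24Pc s24Elems s24Idx = true := by decide +kernel

theorem s24_inG : s24Pc.all (fun _ => true) = true := by decide +kernel

theorem s24_center : centerOK s24Pc s24Elems s24Z = true := by decide +kernel

theorem s24_gen : genOK (fun _ => true) s24Elems [s24Z] s24Gen = true := by decide +kernel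

theorem s24_words : wordsOK s24Pc (s24Z :: s24Gen.map fun e => e.1) s24Words = true := by decide +kernel

theorem s24_rows : rowsOK s24Elems s24Dist s24Reps = true := by decide +kernel

theorem s24_prop : propOK s24Pc s24Dist s24Reps = true := by decide +kernel

theorem s24_top : topOK s24Dist s24Top = true := by decide +kernel

theorem s24_levels : levelsOK s24Dist s24Levels = true := by decide +kernel

theorem s24_tree : treeOK s24Levels s24Top = true := by decide +kernel

theorem s24_ne : s24Pc ≠ [] := by decide +kernel

end Cfsg.Agent.Golay.SylowTwo
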