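import Cfsg.Agent.Lib.Golay.SylowCheck12
import Cfsg.Agent.Lib.Golay.SylowCheck22
import Cfsg.Agent.Lib.Golay.SylowCheck23
import Cfsg.Agent.Lib.Golay.SylowCheck24

/-!
The Sylow 2-checks for the four Mathieu groups.
-/

set_option autoImplicit false
set_option maxRecDepth 20000

namespace Cfsg.Agent.Golay.SylowTwo

open Cfsg Cfsg.Agent.Golay.Basic Cfsg.Agent.Golay.M24 Cfsg.Agent.Golay.Cert Cfsg.Agent.Golay.Perm
  Cfsg.Agent.Golay.TabList Cfsg.Agent.Golay.SylowTwoData Cfsg.Agent.Golay.Trans
open scoped Pointwise

theorem fix_of_tab {t i : ℕ} (hi : i < 24) (ht : tabOK t = true) (h : tabAt t i = i) :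
    tabPerm t (pt i) = pt i :=
  ix_injective (by rw [isTab_tabPerm ht, ix_pt hi, h])

theorem M24_fusion_simple (S : Sylow 2 Cfsg.M24) :
    (groupFusionSystem (S : Subgroup Cfsg.M24)).IsSimple 2 :=
  fusion_isSimple (fun t ht _ => tabPerm_mem ht) s24_list s24_inG s24_center s24_gen s24_words s24_rows s24_prop s24_top s24_levels s24_tree s24_ne (m := 239085)
    (by rw [card_M24]; decide +kernel) (by norm_num) S

theorem M23_fusion_simple (S : Sylow 2 Spor.M23) :
    (groupFusionSystem (S : Subgroup Spor.M23)).IsSimple 2 := by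
  have heq : Spor.M23 = fixers Cfsg.M24 [none] := by
    ext g
    simp [Spor.M23, mem_fixers, Equiv.Perm.smul_def]
  refine fusion_isSimple (fun t ht h => ?_) s23_list s23_inG s23_center s23_gen s23_words s23_rows s23_prop s23_top s23_levels s23_tree s23_ne (m := 79695) ?_ (by norm_num) S
  · rw [heq]
    refine ⟨tabPerm_mem ht, fun x hx => ?_⟩
    obtain rfl := List.mem_singleton.1 hx
    rw [show (none : GolayPt) = pt 23 by decide +kernel]
    exact fix_of_tab (by norm_num) ht (by simpa using h)
  · rw [heq, card_fixers (List.nodup_singleton _) (by simp)]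
    decide +kernel

theorem M22_fusion_simple (S : Sylow 2 Spor.M22) :
    (groupFusionSystem (S : Subgroup Spor.M22)).IsSimple 2 := by
  have heq : Spor.M22 = fixers Cfsg.M24 [none, some 0] := by
    ext g
    simp [Spor.M22, Spor.M23, mem_fixers, Equiv.Perm.smul_def, and_assoc]
  refine fusion_isSimple (fun t ht h => ?_) s22_list s22_inG s22_center s22_gen s22_words s22_rows s22_prop s22_top s22_levels s22_tree s22_ne (m := 3465) ?_ (by norm_num) S
  · rw [heq]
    simp only [Bool.and_eq_true, beq_iff_eq] at h
    refine ⟨tabPerm_mem ht, fun x hx => ?_⟩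
    rcases List.mem_cons.1 hx with rfl | hx
    · rw [show (none : GolayPt) = pt 23 by decide +kernel]
      exact fix_of_tab (by norm_num) ht h.1
    · obtain rfl := List.mem_singleton.1 hx
      rw [show (some 0 : GolayPt) = pt 0 by decide +kernel]
      exact fix_of_tab (by norm_num) ht h.2
  · rw [heq, card_fixers (by decide) (by simp)]
    decide +kernel

theorem M12_fusion_simple (S : Sylow 2 Spor.M12) :
    (groupFusionSystem (S : Subgroup Spor.M12)).IsSimple 2 := by
  have hsq : Spor.squareDodecad = maskSet 340831 := by decide +kernel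
  refine fusion_isSimple (fun t ht h => ?_) s12_list s12_inG s12_center s12_gen s12_words s12_rows s12_prop s12_top s12_levels s12_tree s12_ne (m := 1485) ?_ (by norm_num) S
  · refine ⟨tabPerm_mem ht, ?_⟩
    show tabPerm t • Spor.squareDodecad = Spor.squareDodecad
    rw [hsq]
    apply mask_injective
    rw [← imgTab_mask (isTab_tabPerm ht), mask_maskSet (by norm_num), beq_iff_eq.1 h]
  · have h := card_stabilizer_dodecad (d := Spor.squareDodecad)
      (mem_dodecads_iff.2 (by decide +kernel))
    rw [← card_of_mem_iff (H := MulAction.stabilizer Cfsg.M24 Spor.squareDodecad) (K := Spor.M12)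
      (fun g => ⟨fun hx => ⟨g.2, hx⟩, fun hx => hx.2⟩) inf_le_left, h]
    decide +kernel

end Cfsg.Agent.Golay.SylowTwo
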