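import Cfsg.Agent.Lib.Golay.OctadStab
import Cfsg.Agent.Lib.Golay.Sextet
import Mathlib.GroupTheory.Perm.Cycle.Type

/-!
The pointwise stabiliser of an octad is elementary abelian and contains its own centraliser in the
octad stabiliser; elements of prime order at least five fix fewer than five points, and those
commuting with an involution that fixes exactly an octad are restricted.
-/

set_option autoImplicit false

namespace Cfsg.Agent.Golay.FixedOctad

open Cfsg Cfsg.Agent.Golay.Basic Cfsg.Agent.Golay.Design Cfsg.Agent.Golay.Perm Cfsg.Agent.Golay.M24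
  Cfsg.Agent.Golay.Trans Cfsg.Agent.Golay.Orbit Cfsg.Agent.Golay.OctadStab
open scoped Pointwise

local notation "pG" => Equiv.Perm GolayPt

theorem sq_eq_one {o : Finset GolayPt} (ho : o ∈ octads) {g : pG} (hg : g ∈ FK o) : g * g = 1 := by
  obtain ⟨a, ha, (hao : a • o = o0)⟩ := exists_smul_octad ho
  have h := (mem_FK_conj ha g).1 hg
  rw [hao, FK_o0_eq] at h
  have h2 := (fix_octad_of_fixers6 h).2
  have : a * (g * g) * a⁻¹ = 1 := by rw [← h2]; group
  exact conj_eq_one_iff.1 this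

theorem comm {o : Finset GolayPt} (ho : o ∈ octads) {g h : pG} (hg : g ∈ FK o) (hh : h ∈ FK o) :
    g * h = h * g := by
  have h1 := sq_eq_one ho (mul_mem hg hh)
  have hgi : g⁻¹ = g := inv_eq_of_mul_eq_one_right (sq_eq_one ho hg)
  have hhi : h⁻¹ = h := inv_eq_of_mul_eq_one_right (sq_eq_one ho hh)
  have h2 : (g * h)⁻¹ = g * h := inv_eq_of_mul_eq_one_right h1
  rw [← h2, mul_inv_rev, hgi, hhi]

theorem exists_octad_ge {s : Finset GolayPt} (hs : 5 ≤ s.card) :
    ∃ o ∈ octads, 5 ≤ (s ∩ o).card := by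
  obtain ⟨a, ha, hx⟩ := exists_five hs
  refine ⟨a⁻¹ • o0, smul_mem_octads (Cfsg.M24.inv_mem ha) o0_mem, ?_⟩
  have hsub : ((basePre 5).toFinset.image fun x => a⁻¹ x) ⊆ s ∩ a⁻¹ • o0 := by
    intro y hy
    obtain ⟨x, hx', rfl⟩ := Finset.mem_image.1 hy
    rw [List.mem_toFinset] at hx'
    have hall : ∀ x, x ∈ basePre 5 → x ∈ o0 := by decide +kernel
    exact Finset.mem_inter.2 ⟨hx x hx', (mem_smul_iff _ _ _).2 (hall x hx')⟩
  refine le_trans ?_ (Finset.card_le_card hsub)
  rw [Finset.card_image_of_injective _ (Equiv.injective _)]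
  decide +kernel

/-- An element of prime order at least five fixing five points is trivial. -/
theorem eq_one_of_five_fixed {g : pG} (hg : g ∈ Cfsg.M24) {p : ℕ} (hp : p.Prime) (h5 : 5 ≤ p)
    (hgp : g ^ p = 1) {s : Finset GolayPt} (hs : 5 ≤ s.card) (hfix : ∀ x ∈ s, g x = x) : g = 1 := by
  classical
  haveI := Fact.mk hp
  obtain ⟨o, ho, ho5⟩ := exists_octad_ge hs
  have hgo : g • o = o := smul_eq_of_fix_five hg ho ho5 Finset.inter_subset_right
    fun x hx => hfix x (Finset.mem_inter.1 hx).1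
  have hmem : ∀ x, x ∈ o ↔ g x ∈ o := fun x => by
    conv_rhs => rw [← hgo]
    exact (mem_smul_iff g o x).symm
  set σ : Equiv.Perm ↥o := g.subtypePerm fun x => (hmem x).symm with hσ
  have hσp : σ ^ p ^ 1 = 1 := by
    rw [pow_one, hσ, Equiv.Perm.subtypePerm_pow]
    ext x
    simp [hgp]
  have hmod := Equiv.Perm.card_compl_support_modEq hσp
  rw [Fintype.card_coe, octad_card ho] at hmod
  have hlow : 5 ≤ σ.supportᶜ.card := by
    refine le_trans ho5 ?_
    refine Finset.card_le_card_of_injOn (fun x => if h : x ∈ o then (⟨x, h⟩ : ↥o) else ⟨_, (Finset.card_pos.1 (by rw [octad_card ho]; norm_num)).choose_spec⟩) ?_ ?_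
    · intro x hx
      have hx' := Finset.mem_inter.1 hx
      simp only [Finset.mem_coe, dif_pos hx'.2, Finset.mem_compl, Equiv.Perm.notMem_support]
      exact Subtype.ext (hfix x hx'.1)
    · intro x hx y hy h
      simpa [dif_pos (Finset.mem_inter.1 hx).2, dif_pos (Finset.mem_inter.1 hy).2] using h
  have hle : σ.supportᶜ.card ≤ 8 := by
    simpa [octad_card ho] using Finset.card_le_univ σ.supportᶜ
  have h8 : σ.supportᶜ.card = 8 := by
    rcases Nat.lt_or_ge σ.supportᶜ.card 8 with h | h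
    · exfalso
      have hd := (Nat.modEq_iff_dvd' hle).1 hmod
      have := Nat.le_of_dvd (by omega) hd
      omega
    · omega
  have hσ1 : σ = 1 := by
    have : σ.supportᶜ = Finset.univ := by
      apply Finset.eq_univ_of_card
      rw [h8, Fintype.card_coe, octad_card ho]
    rw [← Equiv.Perm.support_eq_empty_iff, ← compl_compl σ.support, this, Finset.compl_univ]
  have hgF : g ∈ FK o := mem_FK.2 ⟨hg, fun x hx =>
    congrArg Subtype.val (Equiv.congr_fun hσ1 ⟨x, hx⟩)⟩
  have h2 := sq_eq_one ho hgF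
  obtain ⟨k, hk⟩ := hp.odd_of_ne_two (by omega)
  rw [hk, pow_succ, pow_mul, pow_two, h2, one_pow, one_mul] at hgp
  exact hgp

theorem exists_disjoint_octad {o : Finset GolayPt} (ho : o ∈ octads) :
    ∃ o' ∈ octads, ∀ x ∈ o', x ∉ o := by
  obtain ⟨a, ha, (hao : a • o = o0)⟩ := exists_smul_octad ho
  have h0 : ∃ m ∈ octList, m &&& M24Data.baseOctad = 0 := by decide +kernel
  obtain ⟨m, hm, hm0⟩ := h0
  refine ⟨a⁻¹ • maskSet m, smul_mem_octads (Cfsg.M24.inv_mem ha) (maskSet_mem_octads hm), ?_⟩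
  intro x hx hxo
  obtain ⟨y, hy, rfl⟩ := Finset.mem_smul_finset.1 hx
  have hy0 : y ∈ o0 := by
    rw [← hao]
    simpa using (mem_smul_iff a o (a⁻¹ • y)).2 hxo
  rw [mem_maskSet] at hy hy0
  have := congrArg (fun n => n.testBit (ix y)) hm0
  simp [hy, hy0] at this

/-- In the stabiliser of an octad, the pointwise stabiliser contains its centraliser. -/
theorem mem_FK_of_centralizes {o : Finset GolayPt} (ho : o ∈ octads) {g : pG} (hg : g ∈ Cfsg.M24)
    (hgo : g • o = o) (hc : ∀ k ∈ FK o, g * k = k * g) : g ∈ FK o := by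
  classical
  obtain ⟨o', ho', hdis⟩ := exists_disjoint_octad ho
  obtain ⟨q, hq⟩ := Finset.card_pos.1 (show 0 < o'.card by rw [octad_card ho']; norm_num)
  have hout : ∀ (k : FK o), (k : pG) q ∈ oᶜ := fun k => by
    rw [Finset.mem_compl]
    intro h
    have hk : (k : pG) • o = o := (FK_le_OK o k.2).2
    have h2 := mem_smul_iff (k : pG) o q
    rw [hk] at h2
    exact hdis q hq (h2.1 h)
  have hbij : Function.Bijective (fun k : FK o => (⟨(k : pG) q, hout k⟩ : ↥oᶜ)) := by
    refine (Nat.bijective_iff_injective_and_card _).2 ⟨fun k l h => ?_, ?_⟩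
    · have h' : (k : pG) q = (l : pG) q := congrArg Subtype.val h
      have h1 := fix_eq_one ho (hdis q hq) (mul_mem (inv_mem l.2) k.2)
        (by rw [Equiv.Perm.mul_apply, h']; exact (l : pG).symm_apply_apply q)
      exact Subtype.ext (inv_mul_eq_one.1 h1).symm
    · rw [card_FK ho, Nat.card_eq_fintype_card, Fintype.card_coe, Finset.card_compl, octad_card ho,
        show Fintype.card GolayPt = 24 by decide]
  have hgq : g q ∈ oᶜ := by
    rw [Finset.mem_compl]
    intro h
    rw [← hgo] at h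
    exact hdis q hq ((mem_smul_iff _ _ _).1 h)
  obtain ⟨k, hk⟩ := hbij.2 ⟨g q, hgq⟩
  have hkq : (k : pG) q = g q := congrArg Subtype.val hk
  set h := (k : pG)⁻¹ * g with hh
  have hhM : h ∈ Cfsg.M24 := Cfsg.M24.mul_mem (Cfsg.M24.inv_mem (mem_FK.1 k.2).1) hg
  have hhq : h q = q := by rw [hh, Equiv.Perm.mul_apply, ← hkq]; exact (k : pG).symm_apply_apply q
  have hhc : ∀ l ∈ FK o, h * l = l * h := fun l hl => by
    have e : (k : pG)⁻¹ * l = l * (k : pG)⁻¹ := comm ho (inv_mem k.2) hl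
    rw [hh, mul_assoc, hc l hl, ← mul_assoc, e, mul_assoc]
  have hfix : ∀ x, x ∉ o → h x = x := fun x hx => by
    obtain ⟨l, hl⟩ := hbij.2 ⟨x, Finset.mem_compl.2 hx⟩
    have hlx : (l : pG) q = x := congrArg Subtype.val hl
    rw [← hlx, ← Equiv.Perm.mul_apply, hhc _ l.2, Equiv.Perm.mul_apply, hhq]
  have h1 : h = 1 := by
    obtain ⟨z, hz⟩ : ((oᶜ : Finset GolayPt) \ o').Nonempty := by
      rw [← Finset.card_pos]
      have := Finset.le_card_sdiff o' (oᶜ : Finset GolayPt)
      rw [Finset.card_compl, octad_card ho, octad_card ho', show Fintype.card GolayPt = 24 by decide] at this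
      omega
    rw [Finset.mem_sdiff, Finset.mem_compl] at hz
    exact fix_eq_one ho' hz.2 (mem_FK.2 ⟨hhM, fun x hx => hfix x (hdis x hx)⟩) (hfix z hz.1)
  rw [show g = (k : pG) from (inv_mul_eq_one.1 h1).symm]
  exact k.2

/-- Fixed points of an element of prime order commuting with an involution fixing exactly an octad. -/
theorem fixed_counts {t x : pG} {o : Finset GolayPt} (ho : o ∈ octads) (ht : t * t = 1)
    (hto : ∀ q, t q = q ↔ q ∈ o) (hx : x ∈ Cfsg.M24) (hx1 : x ≠ 1) {p : ℕ} (hp : p.Prime)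
    (h5 : 5 ≤ p) (hxp : x ^ p = 1) (hcomm : x * t = t * x) {a b : GolayPt} (hab : a ≠ b)
    (ha : x a = a) (hb : x b = b) (hao : a ∈ o) (hbo : b ∈ o) :
    ∃ k f : ℕ, 2 ≤ k ∧ k ≤ f ∧ f ≤ 4 ∧ k ≡ 8 [MOD p] ∧ f ≡ 24 [MOD p] ∧ f ≠ k + 1 := by
  classical
  haveI := Fact.mk hp
  set F := Finset.univ.filter fun q => x q = q with hF
  have hFc : x.supportᶜ = F := by ext q; simp [hF]
  have hmod : F.card ≡ 24 [MOD p] := by
    rw [← hFc]
    simpa using Equiv.Perm.card_compl_support_modEq (σ := x) (p := p) (n := 1) (by rwa [pow_one])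
  have hF4 : F.card ≤ 4 := by
    by_contra h
    exact hx1 (eq_one_of_five_fixed hx hp h5 hxp (s := F) (by omega) fun q hq => (Finset.mem_filter.1 hq).2)
  have hmem : ∀ q, q ∈ o ↔ x q ∈ o := fun q => by
    rw [← hto, ← hto, ← Equiv.Perm.mul_apply t x, ← hcomm, Equiv.Perm.mul_apply, x.injective.eq_iff]
  set σ : Equiv.Perm ↥o := x.subtypePerm fun q => (hmem q).symm with hσ
  have hσp : σ ^ p ^ 1 = 1 := by
    rw [pow_one, hσ, Equiv.Perm.subtypePerm_pow]
    ext q
    simp [hxp]
  have hk := Equiv.Perm.card_compl_support_modEq hσp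
  rw [Fintype.card_coe, octad_card ho] at hk
  have hkF : σ.supportᶜ.card = (F ∩ o).card := by
    rw [← Finset.card_map (Function.Embedding.subtype _)]
    congr 1
    ext q
    simp [hF, hσ]
  rw [hkF] at hk
  refine ⟨(F ∩ o).card, F.card, ?_, Finset.card_le_card Finset.inter_subset_left, hF4, hk, hmod, ?_⟩
  · exact (Finset.one_lt_card.2 ⟨a, by simp [hF, ha, hao], b, by simp [hF, hb, hbo], hab⟩)
  intro he
  have h1 : (F \ o).card = 1 := by
    have := Finset.card_inter_add_card_sdiff F o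
    omega
  obtain ⟨z, hz⟩ := Finset.card_eq_one.1 h1
  have hzm : z ∈ F \ o := by rw [hz]; exact Finset.mem_singleton_self z
  have htz : t z ∈ F \ o := by
    obtain ⟨hzF, hzo⟩ := Finset.mem_sdiff.1 hzm
    rw [Finset.mem_sdiff]
    refine ⟨?_, fun h => hzo ?_⟩
    · simp only [hF, Finset.mem_filter, Finset.mem_univ, true_and] at hzF ⊢
      rw [← Equiv.Perm.mul_apply, hcomm, Equiv.Perm.mul_apply, hzF]
    · rw [← hto] at h ⊢
      exact t.injective h
  rw [hz, Finset.mem_singleton] at htz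
  exact (Finset.mem_sdiff.1 hzm).2 ((hto z).1 htz)

end Cfsg.Agent.Golay.FixedOctad
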