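import Cfsg.Agent.Lib.Golay.KSubsets

/-!
Point sets inside octads: normal forms and tests.
-/

set_option autoImplicit false
set_option maxRecDepth 10000

namespace Cfsg.Agent.Golay.SetOrbit

open Cfsg Cfsg.Agent.Golay.Basic Cfsg.Agent.Golay.M24 Cfsg.Agent.Golay.Trans
  Cfsg.Agent.Golay.Orbit Cfsg.Agent.Golay.Design
open scoped Pointwise

/-- A set of at most five points can be moved onto the first base points. -/
theorem exists_smul_small {T : Finset GolayPt} {k : ℕ} (hT : T.card = k) (hk : k ≤ 5) :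
    ∃ a ∈ M24, a • T = maskSet (2 ^ k - 1) := by
  classical
  have hl : T.toList.length = k := by rw [Finset.length_toList, hT]
  obtain ⟨a, ha, hai⟩ := exists_to_base k hk (fun i => T.toList.getD i none) (by
    intro i hi j hj h
    simp only [Set.mem_Iio, ← hl] at hi hj
    simp only [List.getD_eq_getElem _ _ hi, List.getD_eq_getElem _ _ hj] at h
    exact T.nodup_toList.getElem_inj_iff.1 h)
  refine ⟨a, ha, Finset.eq_of_subset_of_card_le ?_ ?_⟩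
  · intro y hy
    rw [smul_finset_def, Finset.mem_image] at hy
    obtain ⟨x, hx, rfl⟩ := hy
    obtain ⟨i, hi, rfl⟩ := List.mem_iff_getElem.1 (Finset.mem_toList.2 hx)
    have h := hai i (hl ▸ hi)
    rw [List.getD_eq_getElem _ _ hi] at h
    rw [h]
    have : ∀ k ≤ 5, ∀ i < k, base i ∈ maskSet (2 ^ k - 1) := by decide +kernel
    exact this k hk i (hl ▸ hi)
  · have : ∀ k ≤ 5, (maskSet (2 ^ k - 1)).card = k := by decide +kernel
    rw [this k hk, Finset.card_smul_finset, hT]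

theorem subset_smul_iff (a : Equiv.Perm GolayPt) {s t : Finset GolayPt} : a • s ⊆ a • t ↔ s ⊆ t :=
  Finset.smul_finset_subset_smul_finset_iff

theorem exists_octad_smul {a : Equiv.Perm GolayPt} (ha : a ∈ M24) (s : Finset GolayPt) :
    (∃ o ∈ octads, s ⊆ o) ↔ ∃ o ∈ octads, a • s ⊆ o :=
  ⟨fun ⟨o, ho, h⟩ => ⟨a • o, smul_mem_octads ha ho, (subset_smul_iff a).2 h⟩,
    fun ⟨o, ho, h⟩ => ⟨a⁻¹ • o, smul_mem_octads (M24.inv_mem ha) ho,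
      (subset_smul_iff a).1 (by rwa [smul_inv_smul])⟩⟩

/-- The list consists of the octads through the mask `b`. -/
def throughOK (b : ℕ) (L : List ℕ) : Bool :=
  (octList.all fun o => !(b &&& o == b) || L.contains o) && L.all fun o => octList.contains o

/-- Some octad of the list contains the mask. -/
def inAny (L : List ℕ) (m : ℕ) : Bool := L.any fun o => m &&& o == m

theorem exists_octad_iff {b : ℕ} {L : List ℕ} (hL : throughOK b L = true)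
    {s : Finset GolayPt} (hb : b &&& mask s = b) :
    (∃ o ∈ octads, s ⊆ o) ↔ inAny L (mask s) = true := by
  simp only [throughOK, Bool.and_eq_true, List.all_eq_true, Bool.or_eq_true, Bool.not_eq_true',
    List.contains_eq_mem, decide_eq_true_eq, beq_eq_false_iff_ne] at hL
  simp only [inAny, List.any_eq_true, beq_iff_eq]
  constructor
  · rintro ⟨o, ho, h⟩
    have h' := subset_iff_mask.1 h
    refine ⟨mask o, (hL.1 _ (mask_mem_octList ho)).resolve_left fun hne => hne ?_, h'⟩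
    rw [← hb, Nat.and_assoc, h', hb]
  · rintro ⟨m, hm', h⟩
    have hm := hL.2 m hm'
    have hlt : m < 2 ^ 24 := by
      simp only [octList, List.mem_filter] at hm
      exact of_decide_eq_true (forall_code (P := fun x => decide (x < 2 ^ 24)) (by decide +kernel)
        (isCode_of_mem_codeList hm.1))
    exact ⟨maskSet m, maskSet_mem_octads hm, subset_iff_mask.2 (by rw [mask_maskSet hlt, h])⟩

theorem disjoint_iff_and {s t : Finset GolayPt} : Disjoint s t ↔ mask s &&& mask t = 0 := by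
  rw [Finset.disjoint_iff_inter_eq_empty, ← mask_inter, ← mask_empty]
  exact ⟨fun h => by rw [h], fun h => mask_injective h⟩

theorem disjoint_smul_iff (a : Equiv.Perm GolayPt) {s t : Finset GolayPt} :
    Disjoint (a • s) (a • t) ↔ Disjoint s t := by
  rw [smul_finset_def, smul_finset_def, Finset.disjoint_image a.injective]

/-- The octads through the first 3 base points. -/
def octThrough3 : List ℕ := [5279, 45159, 140167, 459847, 551943, 622863, 786999, 1065303, 1116327, 2183687, 2263063, 3416079, 4196943, 4505735, 5902343, 6292775, 8536111, 8657159, 9471495, 11010247, 12656663]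

theorem octThrough3_eq : throughOK 7 octThrough3 = true := by decide +kernel

/-- The octads through the first 4 base points. -/
def octThrough4 : List ℕ := [5279, 622863, 3416079, 4196943, 8536111]

theorem octThrough4_eq : throughOK 15 octThrough4 = true := by decide +kernel

/-- Generators. -/
def triGens : List ℕ := [724678122628222015257716224460916737, 640864866272087561794022798595294210]

/-- Orbit roots and search trees. -/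
def triTrees : List (ℕ × List (ℕ × ℕ)) := [
  (56, [(0, 0), (0, 0), (0, 0), (0, 0), (0, 0), (0, 1), (0, 0), (0, 0), (0, 0), (0, 0), (0, 0), (1, 1), (3, 1), (0, 0), (0, 1), (0, 0), (5, 1), (0, 0), (0, 0), (0, 0), (0, 0), (0, 0), (3, 1), (0, 0), (3, 1), (0, 0), (3, 1), (0, 0), (1, 1), (0, 1), (5, 1), (0, 0), (0, 0), (0, 1), (0, 0), (1, 1), (0, 1), (4, 1), (2, 1), (0, 0), (0, 1), (6, 1), (0, 0), (0, 0), (0, 1), (0, 1), (3, 1), (0, 0), (0, 1), (0, 0), (0, 1), (6, 1), (0, 0), (0, 0), (0, 0), (0, 0), (1, 1), (0, 1), (3, 1), (0, 0), (0, 1), (2, 1), (0, 0), (1, 1), (4, 1), (0, 0), (0, 0), (0, 1), (0, 0), (4, 1), (0, 0), (0, 1), (5, 1), (0, 0), (0, 0), (0, 0), (1, 1), (0, 1), (0, 0), (4, 1), (0, 0), (1, 1), (0, 1), (4, 1), (0, 0), (1, 1), (0, 0), (0, 1), (0, 0), (3, 1), (7, 1), (0, 0), (0, 0), (0, 1), (0, 0), (0, 0), (0, 1), (0, 0), (0, 0), (2, 1), (0, 1), (4, 1), (0,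 1), (3, 1), (0, 0), (0, 0), (1, 1), (2, 1), (0, 1), (0, 0), (1, 1), (6, 1), (0, 0), (0, 0), (0, 0), (0, 0), (0, 0), (2, 1), (0, 0), (1, 1), (0, 0), (4, 1), (0, 0), (1, 1), (3, 1), (0, 0), (0, 1), (0, 0), (0, 1), (2, 1), (5, 1), (0, 0), (0, 0), (0, 1), (0, 0), (4, 1), (0, 1), (0, 0), (0, 0), (7, 1), (0, 0), (0, 0), (0, 1), (0, 0), (0, 0), (0, 1), (2, 1), (2, 1), (0, 1), (0, 1), (5, 1), (0, 0), (0, 0), (0, 1), (2, 1), (0, 0), (0, 1), (2, 1), (0, 0), (4, 1), (0, 1), (0, 0), (1, 1), (0, 0), (1, 1), (0, 0), (7, 1), (0, 0), (0, 0), (0, 0), (0, 0), (0, 0), (0, 1), (3, 1), (0, 1), (0, 0), (4, 1), (0, 1), (0, 1), (0, 1), (5, 1), (0, 0), (0, 0), (0, 1), (2, 1), (0, 0), (3, 1), (0, 0), (1, 1), (4, 1), (0, 0), (0, 1), (0, 1), (0, 0), (1, 1), (0, 0), (1, 1), (5, 1), (0, 0), (0, 1), (0, 1), (3, 1), (7, 1), (0, 0), (0, 0), (0, 0), (0, 0), (0, 0), (0, 1), (0, 0), (0, 0), (2,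 1), (3, 1), (0, 0), (0, 0), (0, 0), (3, 1), (3, 1), (0, 0), (0, 0), (0, 1), (0, 1), (4, 1), (0, 0), (1, 1), (0, 0), (5, 1), (0, 0), (0, 0), (0, 0), (0, 1), (0, 0), (3, 1), (0, 0), (0, 1), (2, 1), (0, 0), (0, 1), (5, 1), (0, 1), (0, 1), (0, 1), (5, 1), (0, 0), (1, 1), (0, 0), (0, 0), (0, 0), (3, 1), (0, 0), (0, 0), (2, 1), (0, 0), (0, 1), (0, 1), (9, 1), (0, 0), (0, 0), (0, 0), (1, 1), (0, 0), (0, 0), (0, 1), (2, 1), (2, 1), (0, 1), (4, 1), (0, 0), (0, 0), (0, 0), (0, 0), (3, 1), (0, 0), (1, 1), (3, 1), (0, 0), (0, 0), (1, 1), (0, 0), (0, 1), (2, 1), (6, 1), (0, 0), (0, 0), (0, 1), (0, 1), (0, 0), (5, 1), (0, 0), (0, 0), (2, 1), (0, 0), (0, 0), (1, 1), (0, 0), (0, 1), (0, 0), (5, 1), (0, 0), (7, 1), (0, 0), (0, 0), (0, 0), (0, 0), (1, 1), (2, 1), (0, 0), (0, 0), (0, 0), (0, 1), (4, 1), (0, 0), (1, 1), (0, 1), (0, 0), (6, 1), (0, 0), (0, 0), (0, 0), (0, 0), (1,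 1), (2, 1), (0, 0), (0, 0), (4, 1), (0, 0), (0, 0), (2, 1), (0, 0), (1, 1), (4, 1), (0, 0), (1, 1), (0, 0), (0, 0), (0, 0), (3, 1), (0, 1), (0, 0), (0, 0), (8, 1), (0, 0), (0, 0), (0, 0), (0, 0), (0, 1), (3, 1), (0, 0), (0, 0), (1, 1), (0, 0), (0, 1), (2, 1), (3, 1), (0, 0), (4, 1), (0, 0), (1, 1), (0, 0), (0, 0), (0, 1), (3, 1), (4, 1), (0, 0), (0, 0), (0, 1), (2, 1), (2, 1), (0, 0), (0, 1), (0, 0), (0, 1), (2, 1), (3, 1), (0, 0), (0, 1), (0, 1), (0, 0), (4, 1), (8, 1), (0, 0), (0, 0), (0, 0), (0, 0), (0, 0), (0, 1), (0, 0), (0, 1), (0, 1), (0, 0), (4, 1), (0, 1), (0, 1), (0, 0), (1, 1), (6, 1), (0, 0), (0, 0), (0, 0), (0, 1), (0, 1), (0, 0), (4, 1), (0, 1), (3, 1), (0, 0), (1, 1), (0, 0), (4, 1), (0, 1), (0, 0), (0, 0), (6, 1), (0, 0), (0, 1), (0, 0), (0, 0), (1, 1), (2, 1), (0, 0), (0, 0), (2, 1), (4, 1), (0, 0), (1, 1), (0, 0), (0, 0), (0, 0), (0, 0), (2,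 1), (3, 1), (5, 1), (0, 0), (0, 0), (0, 0), (0, 1), (0, 0), (1, 1), (0, 0), (1, 1), (4, 1), (0, 0), (0, 1), (0, 0), (5, 1), (0, 0), (0, 0), (0, 0), (1, 1), (0, 0), (1, 1), (3, 1), (0, 1), (3, 1), (3, 1), (0, 0), (0, 1), (0, 1), (0, 0), (1, 1), (0, 1), (8, 1), (0, 0), (0, 0), (0, 0), (0, 0), (0, 1), (0, 0), (0, 0), (2, 1), (0, 1), (4, 1), (0, 0), (0, 0), (0, 1), (0, 1), (4, 1), (3, 1), (0, 0), (1, 1), (0, 0), (0, 0), (0, 0), (0, 1), (4, 1), (4, 1), (0, 0), (0, 1), (0, 0), (0, 0), (2, 1), (3, 1), (0, 0), (0, 0), (2, 1), (0, 0), (0, 0), (0, 0), (1, 1), (2, 1), (0, 0), (0, 1), (4, 1), (0, 0), (1, 1), (6, 1), (0, 0), (0, 0), (0, 0), (0, 0), (0, 0), (2, 1), (4, 1), (0, 0), (0, 0), (0, 1), (2, 1), (0, 0), (0, 1), (0, 1), (3, 1), (0, 0), (0, 1), (2, 1), (4, 1), (0, 0), (0, 0), (0, 0), (0, 0), (2, 1), (2, 1), (0, 1), (0, 1), (0, 1), (5, 1), (6, 1), (0, 0), (0, 0), (0,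 0), (0, 0), (0, 0), (0, 1), (2, 1), (0, 0), (1, 1), (3, 1), (0, 1), (0, 0), (0, 0), (0, 0), (0, 0), (1, 1), (4, 1), (0, 0), (5, 1), (0, 0), (0, 0), (0, 0), (0, 0), (0, 0), (2, 1), (0, 0), (1, 1), (3, 1), (0, 0), (1, 1), (0, 0), (4, 1), (0, 0), (0, 1), (2, 1), (0, 0), (0, 0), (2, 1), (0, 1), (5, 1), (0, 0), (0, 0), (0, 0), (2, 1), (0, 1), (0, 0), (0, 1), (2, 1), (4, 1), (0, 0), (0, 1), (6, 1), (0, 0), (0, 0), (0, 1), (0, 1), (0, 1), (0, 1), (5, 1), (0, 0), (0, 0), (2, 1), (0, 0), (0, 0), (1, 1), (2, 1), (0, 1), (5, 1), (0, 0), (0, 0), (0, 1), (0, 1), (3, 1), (0, 1), (0, 0), (4, 1), (0, 0), (0, 0), (1, 1), (0, 0), (1, 1), (7, 1), (0, 0), (0, 0), (0, 0), (0, 0), (0, 0), (0, 1), (0, 1), (3, 1), (0, 1), (0, 1), (4, 1), (0, 1), (3, 1), (0, 0), (1, 1), (0, 0), (1, 1), (0, 0), (0, 1), (6, 1), (0, 0), (0, 0), (0, 0), (0, 0), (0, 1), (2, 1), (0, 1), (4, 1), (0, 1), (0,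 1), (0, 1), (5, 1), (0, 0), (0, 0), (1, 1), (0, 0), (0, 0), (0, 1), (3, 1), (0, 1), (4, 1), (0, 0), (1, 1), (0, 1), (6, 1), (0, 0), (0, 0), (0, 1), (2, 1), (0, 0), (0, 0), (0, 0), (0, 0), (6, 1), (0, 0), (0, 0), (1, 1), (0, 0), (0, 0), (1, 1), (4, 1), (0, 0), (0, 0), (1, 1), (0, 0), (3, 1), (0, 0), (0, 0), (0, 0), (2, 1), (0, 0), (3, 1), (9, 1), (0, 0), (0, 0), (0, 0), (0, 0), (0, 0), (0, 1), (0, 0), (0, 0), (0, 0), (2, 1), (0, 0), (1, 1), (3, 1), (0, 1), (0, 0), (1, 1), (5, 1), (0, 0), (0, 0), (0, 0), (0, 0), (0, 0), (4, 1), (0, 0), (0, 0), (0, 1), (2, 1), (0, 1), (3, 1), (0, 0), (1, 1), (4, 1), (0, 0), (0, 0), (0, 0), (1, 1), (3, 1), (0, 0), (0, 0), (6, 1), (0, 0), (0, 0), (0, 1), (0, 0), (0, 0), (0, 1), (3, 1), (0, 0), (4, 1), (0, 0), (0, 1), (2, 1), (0, 0), (0, 0), (2, 1), (4, 1), (0, 0), (0, 0), (0, 0), (0, 0), (1, 1), (2, 1), (2, 1), (0, 0), (0, 1), (2,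 1), (3, 1), (4, 1), (0, 1), (0, 0), (0, 0), (0, 0), (0, 0), (0, 0), (0, 1), (2, 1), (2, 1), (0, 1), (3, 1), (0, 0), (0, 0), (1, 1), (4, 1), (0, 0), (0, 0), (1, 1), (0, 0), (1, 1), (0, 0), (0, 0), (5, 1), (0, 1), (0, 0), (1, 1), (5, 1), (0, 1), (0, 0), (1, 1), (0, 0), (0, 0), (2, 1), (0, 0), (8, 1), (0, 0), (0, 0), (0, 0), (0, 0), (0, 1), (2, 1), (0, 0), (0, 0), (0, 0), (1, 1), (0, 1), (3, 1), (0, 1), (3, 1), (0, 0), (0, 1), (5, 1), (0, 0), (0, 1), (0, 0), (0, 0), (0, 0), (3, 1), (3, 1), (0, 0), (0, 0), (0, 0), (0, 0), (2, 1), (0, 0), (1, 1), (3, 1), (2, 1), (0, 1), (0, 0), (1, 1), (6, 1), (0, 0), (0, 0), (0, 1), (0, 0), (0, 1), (4, 1), (0, 0), (0, 0), (1, 1), (0, 1), (0, 1), (4, 1), (3, 1), (0, 0), (0, 0), (0, 0), (0, 0), (0, 0), (4, 1), (0, 0), (1, 1), (3, 1), (0, 0), (1, 1), (0, 0), (0, 0), (2, 1), (6, 1), (0, 0), (0, 0), (0, 0), (0, 0), (0, 0), (1, 1), (0,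 0), (0, 0), (1, 1), (2, 1), (0, 0), (4, 1), (2, 1), (0, 0), (0, 0), (0, 0), (2, 1), (0, 1), (0, 1), (6, 1), (0, 0), (0, 0), (0, 1), (0, 0), (0, 0), (2, 1), (0, 0), (4, 1), (0, 1), (0, 1), (0, 0), (1, 1), (5, 1), (0, 1), (0, 1), (5, 1), (0, 0), (0, 0), (0, 0), (0, 0), (0, 1), (3, 1), (0, 1), (0, 1), (0, 0), (1, 1), (5, 1), (0, 0), (0, 0), (0, 1), (2, 1), (4, 1), (0, 0), (0, 0), (1, 1), (0, 1), (0, 0), (0, 1), (5, 1), (0, 0), (0, 0), (0, 0), (1, 1), (3, 1), (0, 0), (0, 0), (0, 1), (3, 1), (0, 0), (9, 1), (0, 0), (0, 0), (0, 0), (0, 0), (0, 0), (0, 1), (0, 0), (0, 0), (0, 1), (0, 1), (4, 1), (3, 1), (0, 1), (0, 0), (0, 0), (0, 1), (3, 1), (0, 1), (5, 1), (0, 1), (0, 0), (4, 1), (0, 0), (0, 0), (0, 0), (0, 0), (1, 1), (0, 0), (0, 0), (1, 1), (2, 1), (4, 1), (0, 0), (0, 0), (0, 1), (5, 1), (0, 0), (0, 0), (0, 0), (2, 1), (0, 0), (0, 0), (0, 0), (1, 1), (0, 1), (6,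 1), (0, 0), (0, 0), (1, 1), (2, 1), (0, 1), (6, 1), (0, 0), (0, 0), (0, 1), (0, 1), (0, 0), (0, 1), (2, 1), (0, 0), (0, 0), (1, 1), (6, 1), (0, 0), (0, 0), (1, 1), (2, 1), (0, 0), (0, 0), (0, 0), (2, 1), (0, 1), (3, 1), (0, 1), (0, 0), (0, 1), (7, 1), (0, 0), (0, 0), (0, 0), (0, 1), (2, 1), (0, 0), (0, 0), (1, 1), (0, 0), (3, 1), (4, 1), (0, 0), (0, 0), (0, 1), (0, 0), (0, 0), (2, 1), (0, 0), (5, 1), (0, 1), (0, 0), (0, 0), (2, 1), (0, 1), (0, 0), (0, 0), (10, 1), (0, 0), (0, 0), (0, 0), (0, 0), (0, 0), (1, 1), (0, 0), (0, 0), (4, 1), (0, 1), (0, 0), (0, 0), (0, 1), (2, 1), (5, 1), (0, 1), (0, 0), (0, 0), (2, 1), (0, 0), (0, 0), (1, 1), (2, 1), (0, 0), (6, 1), (0, 0), (0, 0), (0, 0), (0, 0), (1, 1), (0, 1), (3, 1), (0, 1), (0, 0), (4, 1), (0, 0), (0, 0), (0, 1), (2, 1), (0, 0), (1, 1), (3, 1), (0, 0), (0, 1), (2, 1), (0, 0), (0, 1), (8, 1), (0, 0), (0, 1), (0,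 0), (0, 0), (1, 1), (0, 1), (3, 1), (0, 0), (0, 0), (2, 1), (0, 0), (1, 1), (0, 1), (6, 1), (0, 0), (0, 0), (0, 0), (0, 0), (0, 0), (1, 1), (0, 0), (3, 1), (2, 1), (0, 0), (0, 0), (2, 1), (0, 0), (4, 1), (0, 0), (0, 0), (1, 1), (2, 1), (3, 1), (0, 0), (0, 0), (1, 1), (0, 0), (1, 1)]),
  (152, [(0, 0), (0, 0), (0, 0), (0, 0), (0, 0), (1, 1), (0, 0), (0, 0), (0, 1), (3, 1), (0, 0), (0, 0), (2, 1), (0, 0), (1, 1), (5, 1), (0, 0), (0, 0), (1, 1), (0, 0), (0, 0), (1, 1), (0, 1), (3, 1), (3, 1), (0, 0), (0, 0), (0, 0), (0, 1), (3, 1), (2, 1), (0, 0), (5, 1), (0, 0), (0, 0), (0, 1), (0, 0), (0, 0), (1, 1), (0, 0), (5, 1), (0, 0), (0, 0), (0, 0), (0, 0), (2, 1), (3, 1), (0, 0), (4, 1), (0, 0), (0, 1), (0, 0), (1, 1), (0, 0), (0, 0), (2, 1), (0, 0), (5, 1), (0, 0), (1, 1), (0, 0), (0, 0), (0, 0), (2, 1), (2, 1), (0, 0), (0, 0), (2, 1), (7, 1), (0, 0), (0, 0), (0, 0),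 (0, 0), (0, 0), (1, 1), (2, 1), (0, 0), (0, 0), (2, 1), (0, 1), (4, 1), (0, 0), (0, 1), (2, 1), (0, 1), (4, 1), (0, 0), (0, 1), (0, 0), (0, 1), (2, 1), (3, 1), (0, 0), (0, 1), (5, 1), (0, 0), (0, 0), (0, 0), (0, 0), (0, 0), (2, 1), (0, 1), (0, 0), (4, 1), (0, 0), (1, 1), (3, 1), (0, 0), (0, 0), (2, 1), (0, 0), (0, 1), (5, 1), (0, 0), (0, 1), (0, 1), (3, 1), (0, 1), (6, 1), (0, 0), (0, 0), (0, 0), (0, 0), (0, 0), (1, 1), (0, 0), (1, 1), (0, 0), (0, 0), (2, 1), (0, 0), (5, 1), (0, 0), (0, 1), (0, 0), (1, 1), (3, 1), (0, 0), (5, 1), (0, 0), (0, 0), (0, 0), (0, 0), (0, 0), (0, 1), (0, 0), (3, 1), (0, 0), (4, 1), (0, 0), (1, 1), (3, 1), (0, 0), (0, 0), (1, 1), (0, 1), (3, 1), (0, 1), (4, 1), (0, 0), (0, 0), (0, 1), (0, 1), (0, 0), (4, 1), (0, 0), (1, 1), (0, 1), (4, 1), (0, 0), (0, 0), (0, 1), (0, 1), (3, 1), (2, 1), (0, 0), (0, 0), (2, 1), (0, 1), (7, 1), (0, 0),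 (0, 0), (1, 1), (0, 0), (0, 0), (1, 1), (0, 1), (0, 1), (4, 1), (0, 0), (0, 0), (0, 1), (2, 1), (5, 1), (0, 0), (0, 0), (0, 0), (0, 0), (0, 1), (0, 1), (4, 1), (0, 1), (3, 1), (0, 0), (3, 1), (0, 1), (0, 0), (1, 1), (0, 1)])]

/-- Generators. -/
def ppGens : List ℕ := [859922358684070172112777058827995168, 886077885331620235141313329972217888, 731195333345540426260702381943654432, 299425749628202571068108039936609312]

/-- Orbit roots and search trees. -/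
def ppTrees : List (ℕ × List (ℕ × ℕ)) := [
  (20, [(0, 0), (0, 1), (0, 1), (0, 1), (2, 2), (0, 1), (1, 3), (2, 3), (0, 3), (3, 2), (0, 2), (1, 3), (2, 3), (0, 0), (3, 1), (0, 0), (0, 1), (0, 2), (3, 3), (0, 0), (1, 1), (1, 2), (3, 2), (0, 0), (0, 2), (1, 3), (0, 1), (3, 1), (0, 2), (1, 3), (2, 2), (1, 3), (0, 1), (3, 3), (0, 0), (0, 2), (2, 1), (0, 2), (2, 2)]),
  (48, [(0, 0), (0, 1), (0, 0), (0, 1), (0, 1), (2, 2), (0, 0), (1, 3), (2, 3), (0, 1), (3, 1), (0, 0), (1, 2), (0, 2), (1, 3), (3, 2), (0, 2), (0, 1), (3, 3), (0, 0), (0, 2), (1, 3), (2, 2), (0, 2), (4, 2), (0, 0), (0, 1), (1, 2), (1, 3), (2, 1), (0, 1), (1, 3), (0, 0), (3, 2), (0, 0), (1, 3), (2, 3), (0, 1), (0, 0), (2, 2), (1, 3), (3, 3), (0, 0), (0, 1), (2, 1), (0, 1), (1, 3), (2, 2), (0, 3), (4, 1), (0, 0), (0, 1), (0, 1), (0, 1), (2, 2), (0, 3), (3, 2), (0, 1), (0, 1), (2, 2), (2, 3), (0, 0), (0,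 3), (2, 1), (0, 0), (1, 2), (4, 1), (0, 0), (0, 1), (1, 3), (0, 1), (3, 1), (0, 0), (0, 3), (2, 3), (0, 1), (3, 2), (0, 1), (1, 2), (2, 3), (0, 1), (3, 2), (0, 1), (0, 0), (0, 3), (2, 2), (1, 3), (2, 2), (1, 3), (0, 2), (1, 3), (3, 3), (0, 0), (1, 1), (0, 0), (1, 3), (0, 3), (3, 2), (0, 2), (1, 3), (4, 2), (0, 0), (0, 1), (0, 0), (1, 1), (1, 2), (2, 2), (0, 0), (0, 2), (2, 1), (1, 3), (3, 1), (0, 2), (0, 0), (1, 3), (2, 3), (0, 0), (0, 1), (4, 2), (0, 1), (0, 0), (1, 2), (1, 3), (3, 3), (0, 0), (1, 1), (0, 2), (0, 1), (2, 3), (2, 2), (3, 3), (0, 0), (0, 1), (0, 0), (2, 2), (0, 0), (1, 1), (1, 2), (2, 3), (0, 0), (3, 1), (0, 1), (1, 2), (0, 1), (1, 2), (2, 3), (2, 2), (0, 0), (0, 2), (1, 3), (2, 1), (0, 2), (2, 2), (0, 0), (1, 1), (2, 3), (2, 3), (0, 1), (1, 2)]),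
  (144, [(0, 0), (0, 1), (0, 3), (0, 1), (3, 2), (0, 1), (0, 3), (2, 2), (2, 3), (0, 1), (0, 3), (2, 3), (0, 3), (4, 1), (0, 0), (1, 1), (0, 2), (1, 3), (2, 2), (0, 2), (1, 3), (3, 2), (0, 1), (0, 0), (1, 1), (2, 2), (1, 3), (2, 3), (0, 3)])]

/-- Inside an octad with the first three base points. -/
def triKey (m : ℕ) : ℕ := cond (inAny octThrough3 (7 ||| m)) 1 0

/-- Size of the overlap with the pair `{2, 3}`, inside an octad with the first four base points. -/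
def ppKey (m : ℕ) : ℕ := 2 * pc (m &&& 12) + cond (inAny octThrough4 (15 ||| m)) 1 0

/-- The candidate triples. -/
def triCands : List ℕ := (KSubsets.ksub 24 3).filter fun m => m &&& 7 == 0

/-- The candidate pairs. -/
def ppCands : List ℕ := (KSubsets.ksub 24 2).filter fun m => m &&& 3 == 0 && !(m == 12)

theorem triGens_ok : triGens.all Cert.tabOK = true ∧ stabOK triGens [7] = true := by decide +kernel

theorem ppGens_ok : ppGens.all Cert.tabOK = true ∧ fixOK ppGens [0, 1] = true ∧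
    stabOK ppGens [12] = true := by decide +kernel

theorem tri_covers : coversOK triGens triTrees triKey triCands = true := by decide +kernel

theorem pp_covers : coversOK ppGens ppTrees ppKey ppCands = true := by decide +kernel

end Cfsg.Agent.Golay.SetOrbit
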