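import Cfsg.Agent.Lib.Golay.Suborbit
import Cfsg.Agent.Lib.Golay.Sextet
import Cfsg.Agent.Lib.Golay.SetOrbit
import Cfsg.Agent.Lib.Golay.Coset

/-!
Suborbits of `M24` on pairs, triples, octads, duums.
-/

set_option autoImplicit false
set_option maxRecDepth 20000

namespace Cfsg.Agent.Golay.SubData

open Cfsg Cfsg.Agent.Golay.Basic Cfsg.Agent.Golay.Cert Cfsg.Agent.Golay.Orbit
  Cfsg.Agent.Golay.Suborbit Cfsg.Agent.Golay.M24 Cfsg.Agent.Golay.Trans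
open scoped Pointwise

/-- Generators fixing the base duum. -/
def duumGens : List ℕ := [435100945275748782041360081796668811, 315936145990662473810167275127311524]

/-- Suborbit roots. -/
def duumRoot : Fin 3 → List ℕ := ![[165759, 16611456], [28637, 16748578], [129431, 16647784]]

/-- Movers of the base duum. -/
def duumMv : Fin 3 → ℕ := ![984818244535754528103549039458486304, 962784932987538184081939704857338057, 305220397583406944033910431699061942]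

/-- Search trees. -/
def duumCert : Fin 3 → List (ℕ × ℕ) := ![
  [],
  [(0, 0), (0, 0), (0, 0), (0, 0), (0, 0), (0, 1), (0, 0), (0, 1), (2, 1), (0, 0), (0, 0), (1, 1), (0, 1), (3, 1), (4, 1), (0, 0), (0, 0), (0, 1), (0, 1), (3, 1), (0, 0), (0, 0), (0, 0), (3, 1), (0, 0), (0, 0), (0, 0), (1, 1), (0, 1), (4, 1), (4, 1), (0, 0), (0, 0), (0, 0), (0, 0), (2, 1), (2, 1), (0, 0), (1, 1), (0, 1), (4, 1), (0, 0), (0, 1), (0, 0), (1, 1), (3, 1), (0, 0), (0, 1), (7, 1), (0, 0), (0, 0), (0, 0), (0, 0), (1, 1), (2, 1), (0, 0), (0, 0), (0, 0), (0, 1), (3, 1), (2, 1), (0, 0), (0, 1), (5, 1), (0, 0), (0, 0), (0, 1), (0, 0), (0, 1), (2, 1), (3, 1), (0, 0), (1, 1), (0, 0), (4, 1), (0, 0), (0, 0), (0, 1), (3, 1), (0, 1), (0, 0), (1, 1), (6, 1), (0, 0), (0, 0), (0, 1), (0, 1), (0, 0), (0, 0), (5, 1), (0, 1), (0, 1), (4, 1), (0, 0), (0, 0), (1, 1),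 (0, 0), (0, 0), (0, 0), (5, 1), (0, 0), (1, 1), (0, 0), (0, 1), (0, 0), (9, 1), (0, 0), (0, 0), (0, 0), (0, 0), (0, 1), (0, 1), (3, 1), (0, 0), (1, 1), (0, 0), (1, 1), (4, 1), (0, 0), (0, 0), (1, 1), (0, 0), (3, 1), (0, 0), (0, 0), (0, 0), (0, 1), (3, 1), (5, 1), (0, 0), (0, 0), (0, 0), (0, 0), (1, 1), (0, 0), (0, 1), (4, 1), (2, 1), (0, 1), (3, 1), (0, 0), (0, 0), (0, 0), (0, 0), (0, 0), (2, 1), (2, 1), (0, 0), (3, 1), (0, 0), (3, 1), (0, 0), (0, 1), (2, 1), (0, 0), (1, 1), (0, 0), (1, 1), (7, 1), (0, 0), (0, 0), (0, 0), (0, 0), (0, 0), (1, 1), (2, 1), (0, 1), (0, 0), (4, 1), (0, 0), (0, 1), (0, 0), (1, 1), (3, 1), (0, 0), (0, 0), (5, 1), (0, 0), (0, 1), (2, 1), (0, 1), (0, 1), (5, 1), (0, 0), (0, 0), (0, 1), (2, 1), (0, 0), (0, 0), (1, 1), (0, 1), (3, 1), (3, 1), (0, 1), (0, 1), (7, 1), (0, 0), (0, 0), (0, 0), (0, 0), (0, 0),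 (1, 1), (2, 1), (0, 0), (0, 0), (2, 1), (3, 1), (0, 0), (0, 0), (0, 1), (0, 0), (0, 0), (2, 1), (3, 1), (0, 0), (0, 0), (4, 1), (0, 0), (0, 0), (0, 0), (2, 1), (0, 0), (6, 1), (0, 0), (0, 0), (0, 0), (0, 0), (0, 0), (0, 1), (3, 1), (0, 1), (3, 1), (0, 0), (0, 0), (2, 1), (3, 1), (0, 0), (0, 0), (0, 1), (0, 0), (1, 1), (0, 1), (7, 1), (0, 0), (0, 0), (0, 1), (0, 0), (1, 1), (3, 1), (0, 1), (0, 0), (4, 1), (0, 0), (0, 0), (1, 1), (0, 0), (1, 1), (0, 1), (4, 1), (0, 0), (0, 0), (0, 0), (8, 1), (0, 0), (0, 0), (0, 0), (0, 1), (3, 1), (0, 0), (0, 0), (0, 0), (0, 0), (0, 0), (4, 1), (0, 1), (0, 0), (0, 0), (0, 1), (0, 1), (7, 1), (0, 1), (0, 0), (0, 0), (6, 1), (0, 1), (0, 0), (0, 0), (0, 0), (0, 0), (1, 1), (0, 0), (0, 0), (0, 1), (6, 1), (0, 0), (0, 0), (2, 1), (0, 1), (0, 0), (0, 0), (11, 1), (0, 0), (0, 0), (0, 0), (0, 0), (0, 0),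 (1, 1), (0, 0), (0, 0), (0, 0), (0, 1), (3, 1), (0, 1), (6, 1), (0, 0), (0, 0), (0, 0), (0, 0), (1, 1), (0, 0), (4, 1), (0, 0), (0, 0), (0, 0), (1, 1), (2, 1), (2, 1), (0, 0), (1, 1), (0, 1), (0, 1), (6, 1), (0, 0), (0, 1), (0, 1), (6, 1), (0, 0), (0, 0), (0, 0), (0, 0), (0, 0), (0, 1), (0, 0), (0, 1), (2, 1), (3, 1), (0, 1), (0, 1), (0, 0), (5, 1), (0, 0), (0, 0), (0, 1), (2, 1), (0, 0), (3, 1), (0, 1), (0, 1), (0, 0), (6, 1), (0, 1), (0, 0), (0, 1), (0, 1), (3, 1), (0, 0), (0, 0), (6, 1), (0, 0), (0, 0), (2, 1), (0, 0), (0, 0), (1, 1), (0, 0), (0, 0), (0, 0), (8, 1), (0, 0), (0, 1), (0, 0), (0, 1), (0, 0), (0, 0), (9, 1), (0, 0), (0, 0), (0, 0), (0, 0), (0, 0), (0, 1), (2, 1), (0, 0), (3, 1), (0, 0), (0, 0), (0, 0), (1, 1), (2, 1), (0, 0), (1, 1), (0, 0), (1, 1), (0, 1), (7, 1), (0, 0), (0, 0), (0, 0), (0, 0), (0, 0), (1, 1),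 (3, 1), (0, 0), (0, 0), (0, 0), (3, 1), (0, 1), (0, 0), (6, 1), (0, 0), (0, 0), (0, 1), (2, 1), (0, 0), (3, 1), (0, 0), (0, 0), (1, 1), (2, 1), (5, 1), (0, 0), (0, 0), (0, 0), (0, 0), (0, 1), (2, 1), (0, 1), (0, 1), (4, 1), (2, 1), (0, 1), (0, 0), (1, 1), (4, 1), (0, 0), (0, 1), (0, 0), (3, 1), (0, 0), (0, 0), (2, 1), (0, 1), (0, 0), (7, 1), (0, 0), (0, 0), (0, 0), (0, 0), (2, 1), (0, 0), (0, 0), (1, 1), (0, 1), (5, 1), (0, 0), (0, 1), (0, 0), (0, 0), (0, 0), (3, 1), (0, 1), (0, 0), (5, 1), (0, 1), (4, 1), (0, 0), (0, 1), (0, 0), (0, 0), (2, 1), (0, 0), (0, 0), (1, 1), (0, 0), (6, 1), (0, 0), (0, 0), (0, 0), (0, 1), (0, 0), (1, 1), (0, 1), (4, 1), (3, 1)],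
  [(0, 0), (0, 0), (0, 0), (0, 0), (0, 0), (0, 1), (0, 0), (0, 1), (0, 0), (0, 1), (2, 1), (3, 1), (0, 1), (0, 0), (0, 0), (1, 1), (2, 1), (0, 1), (6, 1), (0, 0), (0, 0), (0, 0), (0, 0), (4, 1), (0, 0), (0, 0), (0, 1), (0, 0), (0, 0), (2, 1), (0, 0), (1, 1), (4, 1), (0, 0), (0, 0), (0, 0), (2, 1), (2, 1), (0, 1), (0, 0), (5, 1), (0, 0), (0, 0), (0, 0), (2, 1), (0, 1), (3, 1), (0, 1), (6, 1), (0, 0), (0, 0), (1, 1), (0, 0), (0, 0), (0, 0), (0, 0), (1, 1), (0, 0), (4, 1), (0, 0), (0, 0), (2, 1), (3, 1), (0, 0), (0, 0), (0, 0), (1, 1), (3, 1), (0, 0), (1, 1), (5, 1), (0, 0), (0, 0), (0, 0), (0, 1), (0, 0), (3, 1), (0, 0), (0, 0), (0, 0), (0, 0), (2, 1), (2, 1), (0, 1), (3, 1), (0, 1), (0, 0), (5, 1), (0, 0), (0, 0), (0, 1), (0, 0), (3, 1), (0, 1), (3, 1), (0, 0), (0, 0), (1, 1), (2, 1), (0, 0), (0, 0), (1, 1), (6, 1), (0, 0), (0,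 0), (0, 0), (0, 0), (2, 1), (0, 0), (0, 0), (1, 1), (4, 1), (0, 0), (0, 1), (4, 1), (0, 0), (0, 0), (0, 0), (1, 1), (3, 1), (0, 0), (0, 0), (0, 0), (2, 1), (0, 1), (9, 1), (0, 0), (0, 0), (0, 1), (0, 0), (0, 0), (0, 1), (2, 1), (0, 0), (0, 0), (0, 1), (3, 1), (0, 0), (6, 1), (0, 0), (0, 1), (0, 0), (0, 0), (0, 1), (0, 1), (4, 1), (0, 0), (0, 1), (0, 1), (3, 1), (0, 0), (5, 1), (0, 0), (0, 1), (0, 0), (0, 1), (2, 1), (0, 1), (4, 1), (0, 0), (0, 1), (0, 0), (3, 1), (0, 1), (0, 0), (0, 1), (2, 1), (7, 1), (0, 0), (0, 0), (0, 0), (0, 0), (0, 0), (0, 1), (0, 0), (3, 1), (0, 1), (0, 1), (5, 1), (0, 0), (0, 0), (0, 1), (2, 1), (2, 1), (0, 0), (0, 1), (0, 0), (0, 0), (0, 1), (5, 1), (4, 1), (0, 0), (0, 0), (4, 1), (0, 0), (0, 0), (1, 1), (0, 0), (0, 0), (1, 1), (0, 0), (1, 1), (0, 1), (4, 1), (0, 1), (0, 0), (1, 1), (5, 1), (0, 0), (0,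 0), (0, 0), (2, 1), (0, 1), (0, 1), (9, 1), (0, 0), (0, 0), (0, 0), (0, 0), (0, 0), (1, 1), (0, 0), (0, 0), (1, 1), (0, 0), (3, 1), (0, 0), (0, 0), (2, 1), (4, 1), (0, 1), (0, 1), (0, 0), (5, 1), (0, 0), (0, 0), (0, 0), (0, 0), (0, 0), (2, 1), (0, 0), (1, 1), (3, 1), (2, 1), (0, 0), (0, 0), (2, 1), (0, 0), (0, 0), (2, 1), (0, 0), (1, 1), (5, 1), (0, 0), (0, 0), (0, 0), (0, 0), (2, 1), (0, 1), (3, 1), (0, 0), (0, 1), (0, 1), (3, 1), (3, 1), (0, 0), (1, 1), (0, 0), (1, 1), (0, 1), (7, 1), (0, 0), (0, 0), (0, 0), (0, 0), (1, 1), (2, 1), (0, 0), (1, 1), (0, 0), (0, 0), (0, 0), (1, 1), (2, 1), (0, 0), (3, 1), (0, 0), (6, 1), (0, 0), (0, 0), (0, 0), (0, 0), (3, 1), (2, 1), (0, 0), (0, 0), (0, 0), (2, 1), (2, 1), (0, 0), (0, 0), (2, 1), (0, 1), (0, 0), (8, 1), (0, 0), (0, 0), (0, 0), (0, 0), (0, 0), (1, 1), (0, 0), (3, 1), (0, 1), (0,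 0), (0, 0), (0, 1), (2, 1), (2, 1), (0, 0), (5, 1), (0, 0), (0, 0), (0, 0), (0, 0), (2, 1), (0, 0), (1, 1), (4, 1), (0, 0), (0, 0), (2, 1), (4, 1), (0, 0), (0, 1), (0, 0), (0, 0), (0, 1), (3, 1), (0, 0), (4, 1), (0, 0), (0, 0), (1, 1), (2, 1), (0, 0), (0, 0), (1, 1), (2, 1), (5, 1), (0, 0), (0, 0), (0, 0), (0, 0), (0, 0), (2, 1), (0, 0), (0, 1), (2, 1), (3, 1), (0, 0), (0, 1), (0, 0), (1, 1), (0, 0), (4, 1), (3, 1), (0, 0), (0, 0), (0, 1), (0, 1), (0, 0), (7, 1), (0, 0), (0, 0), (0, 0), (0, 1), (0, 0), (3, 1), (0, 0), (1, 1), (3, 1), (0, 0), (0, 0), (0, 0), (0, 0), (1, 1), (2, 1), (2, 1), (0, 1), (5, 1), (0, 0), (0, 0), (0, 0), (0, 0), (1, 1), (2, 1), (0, 0), (1, 1), (3, 1), (0, 0), (0, 1), (2, 1), (0, 1), (4, 1), (0, 0), (0, 0), (0, 1), (2, 1), (0, 0), (0, 0), (2, 1), (0, 1), (11, 1), (0, 0), (0, 0), (0, 0), (0, 0), (0, 0), (0,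 1), (0, 0), (0, 0), (2, 1), (3, 1), (0, 0), (0, 1), (0, 0), (0, 1), (0, 1), (5, 1), (0, 0), (0, 0), (5, 1), (0, 0), (0, 0), (0, 1), (0, 0), (3, 1), (0, 0), (1, 1), (0, 0), (1, 1), (0, 0), (0, 0), (2, 1), (5, 1), (0, 0), (0, 0), (0, 0), (2, 1), (0, 1), (0, 1), (0, 0), (5, 1), (0, 0), (0, 1), (0, 1), (3, 1), (0, 1), (6, 1), (0, 0), (0, 0), (0, 0), (0, 0), (0, 0), (1, 1), (0, 1), (3, 1), (0, 1), (4, 1), (0, 0), (1, 1), (0, 0), (0, 0), (1, 1), (2, 1), (0, 0), (1, 1), (5, 1), (0, 0), (0, 0), (0, 1), (0, 0), (0, 1), (2, 1), (0, 1), (0, 0), (5, 1), (0, 0), (0, 0), (0, 1), (0, 0), (1, 1), (4, 1), (0, 0), (0, 0), (0, 0), (0, 0), (3, 1), (2, 1), (0, 1), (5, 1), (0, 1), (0, 1), (6, 1), (0, 0), (0, 0), (0, 0), (0, 0), (0, 0), (1, 1), (0, 0), (1, 1), (4, 1), (0, 0), (0, 0), (0, 0), (0, 1), (0, 1), (3, 1), (0, 1), (0, 1), (4, 1), (0, 0), (1,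 1), (3, 1), (0, 0), (0, 0), (0, 1), (3, 1), (0, 0), (0, 0), (2, 1), (5, 1), (0, 0), (0, 0), (0, 0), (0, 0), (0, 0), (3, 1), (0, 0), (1, 1), (0, 0), (0, 1), (2, 1), (7, 1), (0, 0), (0, 0), (0, 1), (0, 0), (0, 0), (0, 1), (2, 1), (0, 1), (3, 1), (0, 1), (0, 0), (5, 1), (0, 0), (0, 1), (0, 0), (1, 1), (0, 1), (4, 1), (0, 1), (0, 0), (5, 1), (0, 0), (0, 0), (0, 0), (1, 1), (0, 0), (0, 0), (1, 1), (2, 1), (0, 0), (4, 1), (0, 0), (0, 0), (0, 1), (3, 1), (0, 1), (0, 1), (5, 1), (0, 1), (0, 0), (0, 0), (8, 1), (0, 0), (0, 0), (0, 0), (0, 0), (0, 0), (0, 1), (0, 0), (0, 1), (4, 1), (0, 0), (0, 0), (0, 1), (2, 1), (2, 1), (0, 1), (0, 0), (1, 1), (5, 1), (0, 0), (0, 0), (0, 0), (1, 1), (0, 1), (0, 0), (5, 1), (0, 1), (4, 1), (0, 0), (0, 0), (0, 0), (0, 0), (0, 0), (1, 1), (2, 1), (0, 0), (3, 1), (0, 0), (0, 1), (0, 0), (3, 1), (0, 1), (4,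 1), (0, 0), (0, 0), (0, 1), (2, 1), (0, 0), (1, 1), (3, 1), (0, 0), (0, 1), (2, 1), (4, 1), (0, 0), (0, 0), (0, 0), (0, 0), (3, 1), (0, 0), (0, 0), (0, 1), (2, 1), (2, 1), (0, 1), (7, 1), (0, 0), (0, 0), (0, 0), (0, 1), (2, 1), (0, 0), (0, 0), (0, 1), (2, 1), (0, 0), (3, 1), (0, 0), (4, 1), (0, 0), (1, 1), (0, 0), (0, 0), (1, 1), (5, 1), (0, 0), (0, 0), (0, 0), (0, 0), (0, 0), (3, 1), (2, 1), (0, 1), (0, 0), (0, 1), (2, 1), (0, 0), (0, 1), (2, 1), (5, 1), (0, 0), (1, 1), (0, 0), (0, 0), (0, 0), (3, 1), (0, 0), (1, 1), (0, 0), (8, 1), (0, 0), (0, 0), (0, 0), (0, 0), (0, 0), (1, 1), (0, 0), (0, 0), (1, 1), (0, 0), (3, 1), (3, 1), (0, 0), (1, 1), (3, 1), (0, 0), (0, 0), (0, 1), (0, 0), (3, 1), (0, 0), (0, 1), (2, 1), (0, 1), (6, 1), (0, 0), (0, 0), (0, 0), (0, 1), (2, 1), (0, 1), (0, 0), (1, 1), (0, 0), (5, 1), (0, 0), (1, 1), (0,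 0), (0, 1), (2, 1), (4, 1), (0, 0), (0, 0), (0, 1), (2, 1), (0, 0), (0, 1), (2, 1), (0, 1), (0, 0), (5, 1), (0, 0), (0, 1), (0, 1), (3, 1), (0, 0), (0, 1), (2, 1), (6, 1), (0, 0), (0, 0), (0, 0), (0, 0), (0, 0), (1, 1), (0, 1), (5, 1), (0, 0), (1, 1), (0, 0), (0, 0), (2, 1), (0, 0), (0, 0), (2, 1), (0, 1), (6, 1), (0, 0), (0, 0), (1, 1), (0, 0), (0, 0), (0, 1), (3, 1), (0, 1), (0, 1), (5, 1), (0, 0), (0, 0), (0, 0), (0, 0), (3, 1), (0, 0), (1, 1)]]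

/-- Suborbit lengths. -/
def duumSize : Fin 3 → ℕ := ![1, 495, 792]

/-- Label of a node. -/
def duumProj (L : List ℕ) : ℕ := L.headD 0 % 4096

theorem duum_gens_ok : (duumGens.all fun t => moveOK actFam (duumRoot 0) t (duumRoot 0)) = true := by
  decide +kernel

theorem duum_cert_ok : (List.finRange 3).all (fun i => distinctFrom
    ((orbitList actFam duumGens (duumCert i) (duumRoot i)).map duumProj) 0 &&
    (orbitList actFam duumGens (duumCert i) (duumRoot i)).length == duumSize i) = true := by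
  decide +kernel

theorem duum_mv_ok :
    (List.finRange 3).all (fun i => moveOK actFam (duumRoot 0) (duumMv i) (duumRoot i)) = true := by
  decide +kernel

theorem duum_root_ok : ∀ i, (duumRoot i).Pairwise (· < ·) ∧ ∀ m ∈ duumRoot i, m < 2 ^ 24 := by
  decide +kernel

/-- The representatives. -/
def duumRep (i : Fin 3) : Finset (Finset GolayPt) := famSet (duumRoot i)

theorem duum_enc (i : Fin 3) : encFam (duumRep i) = duumRoot i :=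
  encFam_famSet (duum_root_ok i).1 (duum_root_ok i).2

theorem duum_phi : Function.Injective fun i => overlap (duumRep 0) (duumRep i) := by
  decide +kernel

/-- Generators fixing the base octad. -/
def octadGens : List ℕ := [216318937677154255462535389050646595, 402871374251219415034450961087080515]

/-- Suborbit roots. -/
def octadRoot : Fin 4 → ℕ := ![5279, 10558, 31554, 1009728]

/-- Movers of the base octad. -/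
def octadMv : Fin 4 → ℕ := ![984818244535754528103549039458486304, 956302485175575353788796878166559809, 981486294261533825642611957767122982, 196159596629674213874571747672832518]

/-- Search trees. -/
def octadCert : Fin 4 → List (ℕ × ℕ) := ![
  [],
  [(0, 0), (0, 0), (0, 0), (0, 0), (0, 0), (0, 1), (0, 0), (0, 1), (0, 0), (3, 1), (3, 1), (0, 0), (0, 0), (0, 1), (2, 1), (0, 0), (3, 1), (0, 0), (0, 0), (0, 1), (2, 1), (0, 0), (6, 1), (0, 0), (0, 0), (0, 0), (0, 0), (0, 0), (1, 1), (2, 1), (0, 0), (1, 1), (4, 1), (0, 0), (0, 0), (0, 1), (2, 1), (0, 1), (3, 1), (3, 1), (0, 1), (0, 0), (0, 0), (1, 1), (0, 0), (0, 0), (2, 1), (0, 1), (4, 1), (0, 1), (6, 1), (0, 0), (0, 0), (1, 1), (0, 0), (0, 0), (0, 1), (0, 0), (1, 1), (0, 0), (4, 1), (0, 1), (3, 1), (0, 1), (0, 0), (0, 1), (6, 1), (0, 0), (0, 0), (1, 1), (0, 1), (0, 0), (0, 1),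 (2, 1), (4, 1), (0, 0), (0, 1), (0, 0), (0, 1), (0, 1), (3, 1), (0, 1), (4, 1), (0, 1), (0, 0), (0, 1), (8, 1), (0, 0), (0, 0), (0, 1), (0, 0), (0, 0), (0, 0), (0, 0), (0, 1), (0, 1), (3, 1), (0, 0), (3, 1), (0, 0), (0, 1), (4, 1), (0, 0), (0, 0), (2, 1), (0, 0), (0, 0), (7, 1), (0, 0), (0, 1), (0, 0), (0, 0), (0, 1), (2, 1), (4, 1), (0, 0), (0, 1), (0, 1), (3, 1), (0, 1), (0, 0), (0, 1), (7, 1), (0, 0), (0, 0), (0, 1), (0, 0), (0, 0), (0, 1), (2, 1), (0, 0), (5, 1), (0, 0), (0, 0), (0, 0), (0, 0), (0, 0), (2, 1), (0, 0), (3, 1), (0, 1), (0, 1), (5, 1), (0, 0), (0, 1), (0, 1), (3, 1), (7, 1), (0, 0), (0, 0), (0, 0), (0, 0), (0, 0), (1, 1), (0, 0), (0, 1), (0, 1), (3, 1), (0, 1), (4, 1), (0, 0), (0, 0), (0, 1), (0, 0), (1, 1), (3, 1), (0, 1), (0, 0), (4, 1), (0, 1), (0, 1), (5, 1), (0, 0), (0, 1), (2, 1), (0, 0), (0, 0), (0, 1),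 (0, 0), (4, 1), (0, 0), (0, 0), (0, 1), (2, 1), (2, 1), (0, 0), (0, 1), (7, 1), (0, 0), (0, 0), (0, 1), (0, 0), (1, 1), (0, 1), (0, 1), (5, 1), (0, 0), (0, 0), (0, 0), (0, 1), (2, 1), (2, 1), (2, 1), (0, 0), (0, 1), (0, 0), (3, 1), (0, 1), (0, 0), (6, 1), (0, 0), (0, 0), (0, 1), (0, 0), (1, 1), (0, 0), (1, 1), (4, 1), (0, 0), (3, 1), (0, 0), (0, 0), (0, 1), (0, 1), (4, 1), (0, 1), (0, 0), (0, 0), (8, 1), (0, 0), (0, 0), (0, 1), (0, 0), (0, 0), (0, 0), (0, 1), (2, 1), (2, 1), (2, 1), (0, 0), (0, 1), (2, 1), (0, 1), (5, 1), (0, 0), (0, 0), (0, 0), (0, 0), (1, 1), (0, 1), (3, 1), (2, 1), (0, 0), (0, 1), (0, 1), (3, 1), (0, 0), (0, 0), (2, 1), (0, 1), (0, 1), (6, 1), (0, 1), (0, 0), (0, 0), (0, 1), (2, 1), (2, 1), (5, 1), (0, 0), (0, 0), (2, 1), (0, 0), (0, 0), (1, 1), (0, 0), (0, 0), (1, 1), (4, 1)],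
  [(0, 0), (0, 0), (0, 0), (0, 0), (0, 0), (0, 1), (0, 0), (0, 0), (0, 0), (0, 0), (1, 1), (2, 1), (0, 1), (3, 1), (0, 0), (0, 0), (1, 1), (4, 1), (0, 0), (0, 0), (1, 1), (2, 1), (0, 0), (0, 1), (2, 1), (0, 0), (6, 1), (0, 0), (0, 0), (0, 1), (0, 1), (0, 0), (4, 1), (0, 0), (0, 0), (0, 0), (1, 1), (2, 1), (2, 1), (0, 0), (1, 1), (0, 0), (0, 1), (6, 1), (0, 0), (1, 1), (0, 0), (0, 0), (0, 1), (2, 1), (0, 0), (0, 1), (2, 1), (0, 0), (4, 1), (6, 1), (0, 0), (0, 0), (0, 0), (0, 1), (0, 0), (0, 0), (1, 1), (0, 0), (3, 1), (0, 0), (0, 0), (0, 1), (6, 1), (0, 0), (0, 0), (0, 1), (0, 0), (3, 1), (0, 0), (3, 1), (0, 0), (0, 1), (2, 1), (0, 0), (0, 0), (6, 1), (0, 0), (0, 0), (0, 1), (0, 1), (0, 0), (4, 1), (0, 1), (0, 0), (4, 1), (0, 0), (0, 0), (0, 1), (0, 0), (1, 1), (3, 1), (0, 0), (0, 0), (4, 1), (0, 1), (0, 0), (1, 1), (6, 1), (0,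 0), (0, 0), (0, 1), (0, 0), (0, 0), (0, 0), (3, 1), (0, 0), (1, 1), (0, 0), (5, 1), (0, 0), (0, 1), (0, 0), (0, 0), (1, 1), (6, 1), (0, 0), (0, 0), (0, 1), (2, 1), (0, 1), (3, 1), (0, 0), (0, 0), (0, 1), (0, 0), (1, 1), (3, 1), (0, 1), (3, 1), (0, 0), (0, 0), (0, 1), (0, 1), (10, 1), (0, 0), (0, 0), (0, 0), (0, 0), (0, 1), (0, 0), (0, 0), (0, 1), (2, 1), (0, 0), (0, 0), (6, 1), (0, 0), (0, 0), (0, 1), (2, 1), (0, 0), (3, 1), (0, 0), (0, 0), (2, 1), (0, 0), (0, 1), (2, 1), (5, 1), (0, 0), (0, 1), (0, 0), (0, 0), (0, 1), (3, 1), (0, 0), (4, 1), (0, 0), (0, 0), (1, 1), (0, 0), (0, 0), (4, 1), (0, 1), (0, 1), (0, 0), (0, 0), (8, 1), (0, 1), (0, 0), (0, 1), (0, 0), (0, 1), (0, 0), (0, 0), (6, 1), (0, 0), (1, 1), (0, 0), (0, 0), (0, 1), (8, 1), (0, 0), (0, 0), (0, 1), (0, 0), (0, 0), (2, 1), (0, 1), (0, 0), (1, 1), (0, 1), (6, 1), (0,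 0), (0, 0), (0, 0), (0, 0), (0, 0), (1, 1), (2, 1), (2, 1), (0, 0), (0, 0), (0, 1), (8, 1), (0, 0), (0, 0), (0, 1), (2, 1), (0, 0), (0, 0), (0, 0), (0, 1), (0, 1), (4, 1), (0, 1), (0, 0), (4, 1), (0, 0), (0, 0), (2, 1), (0, 0), (0, 0), (0, 1), (3, 1), (0, 0), (6, 1), (0, 0), (0, 0), (0, 1), (2, 1), (0, 1), (0, 0), (1, 1), (4, 1), (0, 0), (0, 0), (1, 1), (8, 1), (0, 0), (0, 0), (0, 0), (0, 0), (0, 0), (0, 1), (2, 1), (0, 0), (0, 1), (0, 1), (0, 0), (4, 1), (0, 1), (0, 1), (0, 0), (1, 1), (0, 0), (8, 1), (0, 0), (0, 0), (0, 0), (0, 0), (0, 1), (0, 1), (3, 1), (0, 1), (0, 0), (4, 1), (0, 1), (0, 0), (0, 0), (5, 1), (0, 0), (0, 0), (0, 1), (0, 1), (3, 1), (0, 1), (3, 1), (0, 0), (0, 0), (5, 1), (0, 0), (0, 1), (0, 0), (0, 0), (0, 0), (0, 0), (2, 1), (0, 0), (3, 1), (0, 0), (5, 1), (0, 0), (0, 0), (6, 1), (0, 0), (0, 0), (0, 0), (0,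 1), (0, 0), (0, 1), (0, 1), (0, 0), (4, 1), (0, 0), (0, 1), (2, 1), (4, 1), (0, 0), (0, 0), (0, 0), (0, 0), (0, 0), (5, 1), (0, 1), (0, 0), (5, 1), (0, 0), (0, 0), (0, 1), (0, 0), (0, 0), (2, 1), (0, 0), (1, 1), (4, 1), (0, 0), (1, 1), (0, 0), (0, 0), (5, 1), (0, 0), (0, 0), (2, 1), (0, 0), (0, 1), (0, 0), (7, 1), (0, 0), (0, 0), (0, 1), (0, 1), (3, 1), (0, 0), (0, 1), (0, 0), (3, 1), (0, 1), (0, 1), (0, 0), (6, 1), (0, 0), (0, 0), (1, 1), (0, 0), (0, 0), (0, 0), (3, 1), (0, 0), (0, 1), (2, 1), (0, 1), (0, 1), (6, 1), (0, 0), (0, 0), (0, 1), (2, 1), (0, 0), (0, 1), (2, 1), (0, 0), (9, 1), (0, 0), (0, 0), (0, 1), (0, 0), (0, 0), (0, 1), (2, 1), (2, 1), (0, 0), (0, 0), (0, 1), (0, 1), (3, 1), (0, 0), (0, 0), (1, 1), (2, 1), (0, 0), (8, 1), (0, 0), (0, 0), (0, 1), (2, 1), (0, 0), (0, 0), (0, 0), (0, 1), (2, 1), (0, 0), (0, 0), (4,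 1), (0, 0), (1, 1), (0, 0), (0, 1), (7, 1), (0, 0), (0, 0), (0, 1), (0, 0), (0, 0), (0, 0), (2, 1), (2, 1), (3, 1), (0, 0), (0, 0), (0, 1), (0, 0), (1, 1), (4, 1), (0, 0), (0, 1), (0, 1), (6, 1), (0, 0), (0, 0), (0, 1)],
  [(0, 0), (0, 0), (0, 1), (0, 0), (0, 0), (0, 0), (0, 0), (6, 1), (0, 0), (0, 0), (0, 0), (0, 1), (0, 0), (3, 1), (0, 0), (0, 1), (4, 1), (0, 0), (0, 0), (0, 1), (7, 1), (0, 0), (0, 1), (0, 0), (0, 1), (2, 1), (0, 1), (0, 0), (5, 1)]]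

/-- Suborbit lengths. -/
def octadSize : Fin 4 → ℕ := ![1, 280, 448, 30]

/-- Label of a node. -/
def octadProj (L : ℕ) : ℕ := L % 4096

theorem octad_gens_ok : (octadGens.all fun t => moveOK imgTab (octadRoot 0) t (octadRoot 0)) = true := by
  decide +kernel

theorem octad_cert_ok : (List.finRange 4).all (fun i => distinctFrom
    ((orbitList imgTab octadGens (octadCert i) (octadRoot i)).map octadProj) 0 &&
    (orbitList imgTab octadGens (octadCert i) (octadRoot i)).length == octadSize i) = true := by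
  decide +kernel

theorem octad_mv_ok :
    (List.finRange 4).all (fun i => moveOK imgTab (octadRoot 0) (octadMv i) (octadRoot i)) = true := by
  decide +kernel

theorem octad_root_ok : ∀ i, octadRoot i < 2 ^ 24 := by decide +kernel

/-- The representatives. -/
def octadRep (i : Fin 4) : Finset GolayPt := maskSet (octadRoot i)

theorem octad_enc (i : Fin 4) : mask (octadRep i) = octadRoot i := mask_maskSet (octad_root_ok i)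

/-- Generators fixing the base triple. -/
def tripleGens : List ℕ := [731560318884856023937337225325577218, 684257128397517094173293273579653152]

/-- Suborbit roots. -/
def tripleRoot : Fin 5 → ℕ := ![7, 11, 25, 56, 152]

/-- Movers of the base triple. -/
def tripleMv : Fin 5 → ℕ := ![984818244535754528103549039458486304, 984493369334060478447889424982281248, 962222964510079199199620165741546500, 958020233522794296771657265635857539, 980106457146221389564379418514361479]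

/-- Search trees. -/
def tripleCert : Fin 5 → List (ℕ × ℕ) := ![
  [],
  [(0, 0), (0, 0), (0, 0), (0, 0), (0, 1), (0, 0), (0, 1), (0, 0), (3, 1), (3, 1), (0, 1), (0, 0), (0, 1), (2, 1), (4, 1), (0, 1), (0, 0), (0, 0), (0, 1), (2, 1), (0, 1), (3, 1), (4, 1), (0, 0), (0, 1), (0, 0), (1, 1), (0, 0), (1, 1), (6, 1), (0, 0), (0, 0), (0, 0), (0, 1), (0, 0), (3, 1), (0, 0), (0, 0), (2, 1), (0, 0), (1, 1), (4, 1), (0, 0), (0, 1), (2, 1), (0, 0), (0, 0), (2, 1), (4, 1), (0, 0), (0, 0), (0, 1), (2, 1), (0, 0), (0, 0), (2, 1), (0, 0), (1, 1), (4, 1), (0, 0), (1, 1), (0, 0)],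
  [(0, 0), (0, 0), (0, 0), (0, 0), (0, 0), (0, 0), (0, 0), (0, 0), (0, 1), (2, 1), (0, 0), (0, 0), (2, 1), (0, 0), (4, 1), (0, 0), (0, 1), (0, 0), (1, 1), (0, 0), (1, 1), (6, 1), (0, 0), (0, 0), (0, 0), (0, 1), (2, 1), (2, 1), (0, 0), (0, 0), (1, 1), (2, 1), (0, 0), (0, 0), (5, 1), (0, 0), (0, 1), (2, 1), (0, 1), (0, 1), (6, 1), (0, 0), (0, 0), (0, 1), (0, 1), (0, 1), (0, 0), (5, 1), (0, 0), (0, 0), (0, 1), (0, 0), (4, 1), (0, 0), (1, 1), (0, 1), (5, 1), (0, 0), (0, 0), (0, 1), (0, 1), (4, 1), (0, 1), (0, 0), (0, 1), (7, 1), (0, 0), (0, 0), (0, 0), (0, 0), (0, 1), (0, 0), (1, 1), (3, 1), (0, 1), (3, 1), (0, 0), (0, 1), (0, 0), (3, 1), (0, 0), (0, 0), (1, 1), (5, 1), (0, 0), (0, 0), (0, 0), (0, 0), (2, 1), (2, 1), (0, 1), (3, 1), (0, 0), (0, 0), (0, 1), (2, 1), (0, 0), (1, 1), (0, 1), (4, 1), (0, 0), (1, 1), (0, 1), (6, 1), (0,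 0), (0, 0), (0, 0), (0, 0), (1, 1), (0, 1), (3, 1), (0, 0), (1, 1), (3, 1), (0, 0), (0, 0), (1, 1), (0, 0), (1, 1), (3, 1), (0, 0), (0, 1), (2, 1), (4, 1), (0, 0), (0, 0), (1, 1), (0, 1), (0, 0), (4, 1), (0, 0), (0, 0), (0, 0), (2, 1), (2, 1), (6, 1), (0, 0), (0, 0), (0, 0), (0, 0), (0, 0), (0, 1), (2, 1), (0, 0), (0, 1), (4, 1), (0, 0), (0, 0), (0, 1), (2, 1), (4, 1), (0, 0), (0, 1), (0, 0), (0, 0), (2, 1), (3, 1), (0, 0), (0, 1), (0, 0), (3, 1), (0, 0), (0, 0), (6, 1), (0, 0), (0, 0), (0, 0), (0, 0), (1, 1), (0, 1), (3, 1), (2, 1), (0, 0), (0, 0), (0, 1), (0, 0), (6, 1), (0, 0), (0, 0), (0, 1), (2, 1), (0, 0), (6, 1), (0, 0), (0, 0), (0, 0), (0, 1), (0, 0), (0, 1), (2, 1), (0, 1), (4, 1), (0, 0), (0, 1), (2, 1), (3, 1), (0, 0), (0, 0), (1, 1), (0, 0), (3, 1), (3, 1), (0, 0), (0, 1), (0, 0), (0, 1), (2, 1), (0, 0), (8, 1), (0,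 0), (0, 0), (0, 0), (0, 0), (0, 0), (0, 0), (0, 0), (0, 0), (2, 1), (2, 1), (0, 0), (3, 1), (0, 0), (0, 1), (0, 1), (5, 1), (0, 0), (1, 1), (0, 1), (0, 0), (0, 1), (2, 1), (5, 1), (0, 0), (0, 0), (0, 1), (0, 0), (1, 1), (3, 1), (0, 0), (0, 1), (0, 0), (3, 1), (0, 0), (1, 1), (4, 1), (3, 1), (0, 1), (0, 0), (0, 0), (0, 0), (0, 0), (1, 1), (0, 1), (0, 0), (4, 1), (0, 0), (4, 1), (0, 0), (0, 1), (0, 0), (0, 1), (4, 1), (0, 0), (6, 1), (0, 0), (0, 0), (0, 0), (0, 1), (0, 0), (0, 0), (0, 0), (2, 1), (2, 1), (0, 1), (4, 1), (0, 0), (0, 0), (0, 0), (0, 0), (2, 1), (0, 0), (1, 1), (6, 1), (0, 0), (0, 0), (0, 0), (1, 1), (0, 0), (4, 1), (0, 0), (0, 0), (0, 1), (2, 1), (0, 0), (1, 1), (3, 1), (0, 0), (0, 1), (6, 1), (0, 0), (0, 0), (0, 0), (0, 0), (0, 0), (0, 1), (2, 1), (0, 0), (3, 1), (0, 0), (1, 1), (3, 1), (0, 1), (3, 1), (0, 0), (0,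 0), (0, 0), (1, 1), (2, 1), (0, 1), (0, 0), (1, 1), (4, 1), (0, 0), (1, 1), (4, 1), (0, 0), (0, 0), (0, 0), (0, 0), (2, 1), (3, 1), (0, 0), (0, 1), (0, 0), (1, 1), (3, 1), (0, 0), (0, 0), (0, 0), (10, 1), (0, 0), (0, 0), (0, 0), (0, 0), (0, 0), (0, 0), (0, 0), (1, 1), (0, 0), (1, 1), (0, 0), (4, 1), (0, 0), (0, 0), (0, 1), (2, 1), (4, 1), (0, 1), (0, 1), (0, 0), (1, 1), (5, 1), (0, 0), (0, 0), (0, 0), (0, 0), (0, 1), (2, 1), (0, 1), (3, 1), (0, 0), (0, 1), (4, 1), (0, 0), (0, 1), (2, 1), (0, 0), (0, 0), (5, 1), (0, 0), (0, 0), (0, 0), (1, 1), (2, 1), (0, 1), (3, 1), (0, 0), (5, 1), (0, 0), (0, 0), (0, 0), (0, 0), (0, 0), (0, 1), (3, 1), (0, 0), (0, 0), (0, 1), (5, 1), (0, 0), (0, 1), (0, 0), (1, 1), (5, 1), (0, 0), (0, 0), (0, 0), (2, 1), (2, 1), (0, 0), (0, 1), (0, 1), (3, 1), (0, 0), (1, 1), (0, 0), (0, 0), (7, 1), (0, 0), (0,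 0), (0, 0), (1, 1), (0, 0), (1, 1), (3, 1), (2, 1), (0, 0), (0, 0), (0, 0), (2, 1), (0, 0), (1, 1), (7, 1), (0, 0), (0, 0), (0, 0), (0, 0), (0, 0), (1, 1), (0, 0), (0, 1), (2, 1), (3, 1), (0, 0), (1, 1), (3, 1), (0, 0), (0, 0), (0, 0), (1, 1), (2, 1), (0, 1), (3, 1), (0, 0), (1, 1), (0, 0), (5, 1), (0, 0), (0, 1), (2, 1), (0, 0), (0, 0), (0, 0), (0, 0), (2, 1), (2, 1), (0, 0), (0, 0), (1, 1), (2, 1), (0, 1), (4, 1), (0, 0), (0, 1), (2, 1), (0, 0), (1, 1), (6, 1), (0, 0), (0, 0), (0, 0), (0, 0), (0, 0), (3, 1), (0, 1), (0, 0), (1, 1), (4, 1), (0, 0), (0, 1), (0, 0), (0, 0), (2, 1), (0, 1), (4, 1), (0, 1), (0, 0), (0, 1), (6, 1), (0, 0), (0, 0), (0, 1), (2, 1), (0, 0), (0, 1), (2, 1), (0, 0), (0, 1), (0, 1), (3, 1), (4, 1), (0, 0), (0, 0), (0, 1), (3, 1), (0, 1), (0, 0), (8, 1), (0, 0), (0, 0), (0, 0), (0, 0), (0, 0), (0, 0), (1,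 1), (0, 0), (0, 0), (6, 1), (0, 0), (0, 0), (0, 1), (0, 0), (1, 1), (3, 1), (0, 0), (0, 0), (1, 1), (2, 1), (0, 1), (6, 1), (0, 0), (0, 0), (0, 0), (0, 1), (0, 0), (0, 1), (2, 1), (3, 1), (2, 1), (0, 1), (3, 1), (0, 0), (0, 0), (0, 0), (0, 1), (0, 0), (3, 1), (0, 0), (3, 1), (0, 0), (1, 1), (3, 1), (0, 0), (0, 0), (0, 0), (1, 1), (0, 0), (3, 1), (0, 1), (3, 1), (0, 1), (0, 0), (1, 1), (0, 0), (8, 1), (0, 0), (0, 0), (0, 0), (0, 0), (0, 0), (0, 1), (2, 1), (2, 1), (0, 1), (3, 1), (0, 0), (0, 0), (0, 0), (0, 1), (2, 1), (2, 1), (0, 0), (3, 1), (0, 0), (4, 1), (0, 0), (0, 0), (0, 1), (0, 0), (1, 1), (0, 0), (4, 1), (0, 1), (0, 1), (0, 0), (5, 1), (0, 0), (0, 0), (1, 1), (0, 1), (0, 1), (4, 1), (0, 0), (0, 1), (2, 1), (0, 1), (6, 1), (0, 0), (0, 0), (0, 0), (0, 1), (0, 0), (0, 1), (5, 1), (0, 0), (1, 1), (3, 1), (0, 1), (0, 0)],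
  [(0, 0), (0, 0), (0, 0), (0, 0), (0, 0), (0, 0), (0, 0), (0, 0), (0, 0), (0, 0), (0, 0), (1, 1), (2, 1), (3, 1), (0, 0), (3, 1), (0, 0), (0, 0), (0, 0), (0, 0), (0, 1), (3, 1), (0, 1), (3, 1), (0, 0), (0, 0), (0, 0), (2, 1), (2, 1), (3, 1), (0, 0), (0, 1), (0, 0), (3, 1), (0, 0), (1, 1), (5, 1), (0, 0), (0, 0), (0, 0), (1, 1), (2, 1), (0, 1), (0, 0), (0, 1), (2, 1), (4, 1), (0, 0), (0, 1), (0, 0), (1, 1), (0, 1), (0, 0), (5, 1), (0, 0), (0, 0), (0, 1), (0, 1), (4, 1), (0, 0), (0, 0), (0, 0), (2, 1), (7, 1), (0, 0), (0, 1), (0, 0), (0, 0), (0, 0), (1, 1), (0, 0), (1, 1), (0, 0), (4, 1), (0, 0), (1, 1), (0, 0), (1, 1), (4, 1), (0, 0), (0, 0), (0, 0), (1, 1), (3, 1), (4, 1), (0, 0), (0, 0), (0, 0), (0, 0), (0, 1), (2, 1), (2, 1), (0, 0), (0, 1), (4, 1), (0, 0), (0, 1), (0, 0), (5, 1), (0, 0), (0, 1), (2, 1), (0, 0), (0, 1), (2,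 1), (6, 1), (0, 0), (0, 0), (0, 0), (0, 0), (0, 0), (0, 0), (3, 1), (0, 0), (0, 1), (2, 1), (0, 1), (0, 0), (5, 1), (0, 0), (0, 0), (0, 0), (2, 1), (0, 0), (1, 1), (0, 1), (4, 1), (0, 0), (0, 1), (2, 1), (0, 0), (1, 1), (0, 0), (6, 1), (0, 0), (0, 0), (0, 0), (0, 0), (0, 0), (1, 1), (2, 1), (2, 1), (0, 1), (0, 1), (4, 1), (0, 0), (0, 0), (0, 0), (1, 1), (2, 1), (2, 1), (0, 0), (1, 1), (0, 0), (0, 1), (8, 1), (0, 0), (0, 0), (0, 1), (0, 0), (0, 0), (2, 1), (0, 1), (4, 1), (0, 0), (0, 0), (0, 1), (2, 1), (0, 0), (0, 1), (2, 1), (0, 0), (4, 1), (0, 0), (4, 1), (0, 0), (0, 0), (0, 0), (1, 1), (0, 0), (1, 1), (0, 0), (4, 1), (0, 0), (0, 1), (0, 0), (3, 1), (0, 0), (0, 0), (5, 1), (0, 0), (0, 0), (0, 1), (2, 1), (0, 1), (0, 0), (4, 1), (0, 0), (0, 0), (2, 1), (7, 1), (0, 0), (0, 0), (0, 0), (0, 0), (0, 0), (0, 0), (0, 1), (2, 1), (0,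 0), (1, 1), (3, 1), (0, 1), (0, 0), (4, 1), (0, 0), (0, 0), (0, 0), (0, 1), (2, 1), (3, 1), (0, 0), (0, 0), (2, 1), (0, 0), (0, 1), (7, 1), (0, 0), (0, 0), (0, 0), (0, 0), (0, 0), (1, 1), (2, 1), (0, 0), (3, 1), (0, 0), (0, 0), (1, 1), (2, 1), (0, 0), (1, 1), (4, 1), (0, 0), (0, 0), (0, 0), (2, 1), (0, 1), (0, 0), (0, 1), (2, 1), (6, 1), (0, 0), (1, 1), (0, 0), (0, 0), (0, 0), (0, 0), (2, 1), (0, 1), (8, 1), (0, 0), (0, 0), (0, 0), (0, 0), (0, 0), (0, 0), (2, 1), (0, 0), (0, 0), (0, 1), (5, 1), (0, 1), (0, 0), (0, 0), (0, 1), (2, 1), (2, 1), (4, 1), (0, 0), (0, 0), (0, 1), (0, 0), (1, 1), (0, 0), (5, 1), (0, 0), (0, 0), (0, 0), (1, 1), (0, 1), (4, 1), (0, 1), (0, 0), (1, 1), (6, 1), (0, 0), (0, 0), (0, 1), (2, 1), (0, 0), (0, 0), (0, 0), (0, 1), (2, 1), (0, 0), (3, 1), (0, 0), (0, 1), (4, 1), (0, 0), (0, 0), (2, 1), (0, 0), (5,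 1), (0, 0), (0, 1), (2, 1), (0, 0), (0, 0), (0, 0), (1, 1), (3, 1), (0, 0), (1, 1), (0, 0), (1, 1), (7, 1), (0, 0), (0, 0), (0, 0), (0, 0), (0, 0), (1, 1), (0, 0), (0, 1), (4, 1), (0, 0), (0, 1), (2, 1), (4, 1), (0, 1), (0, 1), (0, 0), (1, 1), (0, 0), (1, 1), (6, 1), (0, 0), (0, 0), (0, 1), (2, 1), (0, 0), (0, 0), (1, 1), (0, 0), (1, 1), (3, 1), (3, 1), (0, 0), (0, 0), (0, 0), (1, 1), (2, 1), (0, 0), (0, 0), (10, 1), (0, 0), (0, 0), (0, 0), (0, 0), (0, 0), (0, 1), (0, 0), (1, 1), (0, 0), (0, 1), (2, 1), (0, 0), (5, 1), (0, 0), (0, 0), (0, 0), (1, 1), (2, 1), (0, 0), (0, 0), (2, 1), (5, 1), (0, 0), (0, 0), (0, 0), (0, 0), (2, 1), (0, 0), (1, 1), (0, 0), (1, 1), (4, 1), (0, 1), (0, 0), (4, 1), (0, 0), (1, 1), (0, 0), (0, 0), (1, 1), (0, 1), (3, 1), (0, 0), (0, 0), (2, 1), (6, 1), (0, 0), (0, 0), (0, 0), (0, 0), (0, 0), (0, 1), (3,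 1), (0, 0), (0, 1), (2, 1), (0, 0), (4, 1), (0, 0), (0, 0), (1, 1), (4, 1), (0, 0), (0, 0), (0, 0), (0, 0), (1, 1), (0, 0), (3, 1), (0, 0), (3, 1), (2, 1), (0, 0), (0, 1), (0, 1), (6, 1), (0, 0), (0, 0), (0, 1), (0, 0), (1, 1), (0, 0), (4, 1), (0, 0), (0, 0), (0, 0), (3, 1), (3, 1), (0, 0), (0, 0), (1, 1), (2, 1), (0, 0), (6, 1), (0, 0), (0, 0), (0, 0), (0, 0), (1, 1), (2, 1), (0, 0), (0, 1), (0, 0), (1, 1), (0, 0), (6, 1), (0, 0), (0, 0), (0, 0), (0, 1), (2, 1), (0, 0), (3, 1), (0, 0), (0, 1), (2, 1), (0, 0), (0, 1), (5, 1), (0, 0), (0, 1), (0, 0), (3, 1), (0, 0), (0, 0), (1, 1), (0, 1), (7, 1), (0, 0), (0, 0), (0, 1), (0, 0), (0, 0), (2, 1), (0, 0), (4, 1), (0, 0), (0, 0), (0, 0), (2, 1), (0, 0), (0, 0), (1, 1), (2, 1), (0, 1), (4, 1), (0, 1), (0, 1), (0, 1), (6, 1), (0, 0), (1, 1), (0, 1), (0, 0), (0, 0), (1, 1), (0, 0), (3,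 1), (7, 1), (0, 0), (0, 0), (0, 1), (0, 0), (0, 0), (0, 0), (0, 0), (2, 1), (0, 0), (0, 0), (2, 1), (3, 1), (0, 0), (0, 0), (0, 0), (0, 1), (3, 1), (2, 1), (0, 0), (1, 1), (0, 1), (7, 1), (0, 0), (0, 0), (0, 1), (0, 0), (0, 1), (2, 1), (0, 1), (0, 0), (0, 0), (6, 1), (0, 1), (0, 0), (4, 1), (0, 0), (0, 0), (0, 0), (0, 0), (1, 1), (0, 1), (3, 1), (0, 0), (3, 1), (0, 0), (1, 1), (0, 0), (0, 0), (1, 1), (0, 1), (6, 1), (0, 0), (0, 1), (2, 1), (0, 0), (1, 1), (0, 0), (7, 1), (0, 0), (0, 0), (0, 0), (0, 0), (0, 0), (0, 1), (2, 1), (2, 1), (0, 0), (0, 0), (0, 0), (1, 1), (3, 1), (0, 0), (1, 1), (4, 1), (0, 0), (0, 0), (0, 1), (2, 1), (0, 1), (3, 1), (0, 0), (0, 1), (2, 1), (4, 1), (0, 0), (0, 0), (0, 0), (0, 0), (2, 1), (0, 0), (0, 1), (2, 1), (0, 1), (4, 1), (0, 0), (1, 1), (0, 0), (0, 1), (2, 1), (4, 1), (0, 0), (0, 1), (0, 0), (0,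 0), (2, 1), (6, 1), (0, 0), (0, 1), (0, 0), (0, 0), (0, 1), (0, 1), (0, 0), (4, 1), (2, 1), (0, 1), (0, 1), (5, 1), (0, 0), (0, 0), (0, 0), (0, 1), (0, 0), (4, 1), (0, 1), (0, 0), (1, 1), (4, 1), (0, 0), (0, 1), (0, 1), (0, 0), (11, 1), (0, 0), (0, 0), (0, 0), (0, 0), (0, 0), (0, 0), (0, 0), (0, 1), (0, 1), (3, 1), (0, 0), (1, 1), (0, 1), (4, 1), (0, 0), (0, 0), (0, 0), (1, 1), (0, 0), (3, 1), (0, 0), (3, 1), (0, 0), (1, 1), (0, 0), (5, 1), (2, 1), (0, 0), (0, 0), (0, 0), (0, 0), (0, 0), (1, 1), (0, 0), (3, 1), (0, 0), (1, 1), (3, 1), (0, 0), (0, 1), (2, 1), (0, 0), (4, 1), (0, 0), (0, 1), (2, 1), (0, 0), (1, 1), (0, 0), (0, 0), (6, 1), (0, 0), (0, 0), (0, 0), (0, 0), (0, 1), (2, 1), (0, 0), (1, 1), (3, 1), (0, 1), (3, 1), (0, 0), (0, 0), (2, 1), (0, 0), (4, 1), (0, 0), (0, 1), (0, 0), (0, 0), (2, 1), (0, 0), (4, 1), (0, 1), (0,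 0), (7, 1), (0, 0), (0, 0), (0, 0), (0, 0), (0, 1), (0, 1), (3, 1), (0, 0), (0, 0), (2, 1), (0, 0), (4, 1), (0, 1), (0, 0), (0, 0), (2, 1), (0, 0), (6, 1), (0, 0), (0, 0), (0, 1), (0, 0), (0, 0), (0, 1), (2, 1), (0, 0), (1, 1), (5, 1), (0, 0), (0, 1), (0, 0), (3, 1), (0, 0), (0, 0), (2, 1), (0, 0), (5, 1), (0, 0), (0, 0), (0, 0), (0, 0), (2, 1), (0, 1), (0, 0), (4, 1), (0, 1), (3, 1), (0, 0), (0, 0), (0, 0), (0, 1), (2, 1), (3, 1), (0, 0), (0, 1), (0, 1), (3, 1), (7, 1), (0, 0), (0, 0), (0, 0), (0, 0), (0, 0), (0, 1), (0, 0), (0, 0), (4, 1), (2, 1), (0, 1), (0, 0), (0, 0), (0, 0), (2, 1), (0, 1), (3, 1), (4, 1), (0, 0), (0, 0), (0, 1), (0, 0), (0, 0), (1, 1), (4, 1), (2, 1), (0, 0), (0, 0), (0, 1), (3, 1), (0, 0), (1, 1), (0, 1), (0, 0), (7, 1), (0, 1), (0, 0), (0, 0), (0, 0), (0, 0), (1, 1), (0, 0), (3, 1), (0, 1), (0, 0), (4,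 1), (0, 1), (0, 1), (4, 1), (0, 0), (0, 0), (0, 0), (3, 1), (0, 0), (0, 0), (1, 1), (0, 1), (3, 1), (6, 1), (0, 0), (0, 0), (0, 0), (0, 0), (0, 0), (0, 0), (1, 1), (3, 1), (0, 1), (0, 0), (4, 1), (0, 1), (0, 0), (0, 0), (0, 1), (2, 1), (2, 1), (0, 0), (1, 1), (5, 1), (0, 0), (0, 0), (0, 0), (0, 0), (4, 1), (3, 1), (0, 0), (0, 0), (0, 0), (0, 0), (1, 1), (2, 1), (0, 1), (0, 0), (0, 1), (5, 1), (0, 0), (0, 0), (1, 1), (2, 1), (0, 0), (0, 1), (0, 1), (6, 1), (0, 0), (0, 0), (0, 1), (0, 0), (3, 1), (0, 0), (0, 0), (1, 1), (4, 1), (0, 0), (0, 1), (2, 1), (7, 1), (0, 0), (0, 0), (0, 0), (0, 0), (0, 1), (0, 0), (0, 1), (2, 1), (0, 0), (1, 1), (0, 0), (5, 1), (0, 0), (0, 0), (1, 1), (0, 0), (0, 1), (4, 1), (0, 0), (0, 0), (0, 0), (2, 1), (0, 0), (3, 1), (0, 0), (5, 1), (0, 0), (0, 0), (0, 0), (0, 0), (0, 0), (2, 1), (0, 0), (0, 0), (1,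 1), (4, 1), (0, 0), (3, 1), (0, 0), (0, 0), (1, 1), (2, 1), (0, 0), (0, 1), (5, 1), (0, 0), (0, 0), (0, 0), (0, 0), (3, 1), (0, 0), (0, 0), (0, 1), (2, 1), (4, 1), (0, 0), (0, 0), (0, 1), (0, 1), (3, 1), (0, 0), (1, 1), (3, 1), (0, 0), (0, 0), (0, 0), (3, 1), (6, 1), (0, 0), (0, 0), (0, 0), (0, 0), (0, 0), (1, 1), (3, 1), (0, 0), (0, 0), (0, 1), (0, 0), (4, 1), (0, 1), (4, 1), (0, 0), (0, 0), (0, 0), (0, 0), (1, 1), (3, 1), (0, 0), (1, 1), (0, 0), (0, 1), (5, 1), (0, 0), (0, 1), (0, 1), (0, 1), (4, 1), (0, 0), (0, 0), (1, 1), (6, 1), (0, 0), (0, 1), (0, 0), (0, 1), (0, 0), (3, 1), (0, 0), (0, 1), (2, 1), (0, 0), (0, 0), (6, 1), (0, 0), (0, 0), (0, 0), (0, 1), (2, 1), (0, 0), (3, 1), (0, 1), (0, 1), (4, 1), (0, 0), (0, 0), (0, 1), (2, 1), (0, 0), (1, 1), (3, 1), (0, 1), (7, 1), (0, 0), (0, 0), (0, 0), (0, 0), (0, 0), (0, 0), (0,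 0), (4, 1), (0, 0), (0, 0), (0, 0), (0, 1), (2, 1), (2, 1), (0, 0), (3, 1), (0, 0), (0, 1), (2, 1), (0, 0), (5, 1), (0, 0), (0, 0), (0, 0), (1, 1), (0, 1), (0, 1), (4, 1), (0, 0), (1, 1), (3, 1), (0, 0), (0, 0), (0, 1), (0, 0), (4, 1), (4, 1), (0, 1), (0, 0), (0, 0), (0, 0), (0, 0), (2, 1), (0, 1), (0, 1), (5, 1), (0, 0), (0, 0), (0, 0), (1, 1), (2, 1), (0, 0), (0, 0), (2, 1), (7, 1), (0, 0), (0, 1), (0, 1), (0, 1), (0, 0), (0, 1), (6, 1), (0, 0), (0, 0), (0, 1), (0, 1), (3, 1), (0, 1), (0, 0), (0, 0), (1, 1), (5, 1), (0, 0), (0, 1), (0, 0), (1, 1)],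
  [(0, 0), (0, 0), (0, 0), (0, 0), (0, 0), (0, 0), (0, 0), (0, 0), (0, 1), (2, 1), (2, 1), (2, 1), (0, 0), (0, 1), (2, 1), (0, 1), (0, 0), (5, 1), (0, 0), (0, 1), (0, 0), (1, 1), (3, 1), (0, 0), (0, 1), (0, 1), (3, 1), (0, 0), (1, 1), (5, 1), (0, 1), (0, 0), (0, 0), (1, 1), (0, 0), (0, 0), (7, 1), (0, 0), (0, 0), (0, 0), (0, 0), (0, 1), (3, 1), (0, 0), (3, 1), (0, 0), (0, 0), (1, 1), (0, 0), (0, 0), (2, 1), (0, 0), (4, 1), (0, 0), (0, 1), (2, 1), (4, 1), (0, 0), (0, 0), (0, 1), (2, 1), (0, 0), (0, 0), (4, 1), (0, 1), (0, 0), (0, 0), (0, 1), (2, 1), (2, 1), (0, 0), (7, 1), (0, 0), (0, 0), (0, 0), (0, 0), (1, 1), (0, 0), (0, 0), (1, 1), (2, 1), (3, 1), (0, 0), (1, 1), (3, 1), (0, 1), (0, 0), (1, 1), (0, 1), (0, 0), (6, 1), (0, 0), (0, 0), (0, 1), (0, 0), (0, 0), (1, 1), (2, 1), (3, 1), (0, 1), (0, 0), (1, 1), (4, 1), (0, 0), (0,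 0), (2, 1), (0, 0), (1, 1), (0, 1), (7, 1), (0, 0), (0, 0), (0, 0), (0, 0), (0, 1), (0, 0), (0, 1), (2, 1), (3, 1), (0, 0), (0, 0), (0, 1), (2, 1), (0, 1), (3, 1), (3, 1), (0, 0), (0, 0), (0, 0), (0, 0), (2, 1), (0, 0), (4, 1), (0, 1), (0, 1), (5, 1), (0, 0), (0, 0), (0, 1), (0, 1), (0, 1), (4, 1), (0, 0), (0, 0), (1, 1), (0, 1), (3, 1), (3, 1), (0, 0), (0, 0), (0, 0), (0, 1), (3, 1), (0, 1), (3, 1), (0, 0), (1, 1), (5, 1), (0, 0), (0, 0), (0, 0), (0, 0), (0, 0), (1, 1), (0, 0), (3, 1), (0, 1), (3, 1), (0, 0), (0, 0), (1, 1), (0, 0), (1, 1), (3, 1), (0, 0), (1, 1), (4, 1), (0, 0), (0, 1), (0, 1), (0, 0), (1, 1), (6, 1), (0, 0), (0, 0), (0, 0), (0, 0), (2, 1), (2, 1), (0, 0), (0, 0), (1, 1), (2, 1), (0, 0), (1, 1), (4, 1), (0, 0), (0, 0), (0, 0), (2, 1), (0, 0), (0, 1), (4, 1), (0, 0), (0, 0), (0, 0), (2, 1), (0, 0), (3, 1)]]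

/-- Suborbit lengths. -/
def tripleSize : Fin 5 → ℕ := ![1, 63, 630, 1120, 210]

/-- Label of a node. -/
def tripleProj (L : ℕ) : ℕ := L % 41171

theorem triple_gens_ok : (tripleGens.all fun t => moveOK imgTab (tripleRoot 0) t (tripleRoot 0)) = true := by
  decide +kernel

theorem triple_cert_ok : (List.finRange 5).all (fun i => distinctFrom
    ((orbitList imgTab tripleGens (tripleCert i) (tripleRoot i)).map tripleProj) 0 &&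
    (orbitList imgTab tripleGens (tripleCert i) (tripleRoot i)).length == tripleSize i) = true := by
  decide +kernel

theorem triple_mv_ok :
    (List.finRange 5).all (fun i => moveOK imgTab (tripleRoot 0) (tripleMv i) (tripleRoot i)) = true := by
  decide +kernel

theorem triple_root_ok : ∀ i, tripleRoot i < 2 ^ 24 := by decide +kernel

/-- The representatives. -/
def tripleRep (i : Fin 5) : Finset GolayPt := maskSet (tripleRoot i)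

theorem triple_enc (i : Fin 5) : mask (tripleRep i) = tripleRoot i := mask_maskSet (triple_root_ok i)

/-- Generators fixing the base pair. -/
def pairGens : List ℕ := [385094986242544527877737384388409376, 595072751100667703459044707431723009]

/-- Suborbit roots. -/
def pairRoot : Fin 3 → ℕ := ![3, 5, 12]

/-- Movers of the base pair. -/
def pairMv : Fin 3 → ℕ := ![984818244535754528103549039458486304, 969952412052033243847481939299780672, 956709441910203461498593497208492130]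

/-- Search trees. -/
def pairCert : Fin 3 → List (ℕ × ℕ) := ![
  [],
  [(0, 0), (0, 0), (0, 0), (0, 0), (0, 1), (0, 0), (3, 1), (0, 1), (0, 1), (4, 1), (2, 1), (0, 0), (0, 0), (0, 0), (1, 1), (0, 0), (3, 1), (0, 0), (0, 0), (4, 1), (0, 0), (1, 1), (0, 0), (1, 1), (5, 1), (0, 0), (0, 0), (0, 0), (0, 0), (1, 1), (2, 1), (0, 0), (1, 1), (0, 1), (5, 1), (0, 0), (0, 1), (2, 1), (0, 0), (0, 0), (0, 0), (2, 1), (2, 1)],
  [(0, 0), (0, 0), (0, 0), (0, 0), (0, 1), (0, 0), (0, 1), (2, 1), (0, 0), (0, 0), (0, 0), (3, 1), (0, 1), (5, 1), (0, 0), (0, 1), (0, 0), (0, 0), (0, 0), (1, 1), (3, 1), (0, 0), (0, 1), (2, 1), (0, 0), (5, 1), (0, 0), (0, 0), (0, 0), (1, 1), (2, 1), (0, 1), (0, 0), (4, 1), (0, 0), (1, 1), (0, 1), (6, 1), (0, 0), (0, 0), (0, 0), (0, 1), (0, 0), (1, 1), (0, 0), (1, 1), (4, 1), (2, 1), (0, 0), (0, 0), (0, 1), (0, 1), (3,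 1), (0, 0), (1, 1), (0, 0), (4, 1), (0, 0), (0, 0), (5, 1), (0, 0), (0, 0), (0, 0), (0, 0), (1, 1), (3, 1), (0, 1), (3, 1), (0, 0), (0, 0), (0, 0), (2, 1), (0, 1), (3, 1), (5, 1), (0, 0), (0, 0), (0, 0), (0, 0), (0, 1), (0, 1), (3, 1), (0, 0), (0, 0), (4, 1), (0, 0), (0, 1), (2, 1), (0, 1), (0, 0), (5, 1), (0, 1), (0, 0), (0, 0), (0, 0), (0, 0), (3, 1), (0, 0), (0, 0), (2, 1), (3, 1), (0, 0), (1, 1), (0, 0), (1, 1), (6, 1), (0, 0), (0, 0), (0, 0), (1, 1), (0, 0), (0, 1), (0, 1), (5, 1), (0, 0), (0, 0), (0, 0), (2, 1), (0, 1), (0, 0), (4, 1), (3, 1), (0, 0), (0, 0), (0, 1), (0, 1), (3, 1), (0, 0), (0, 0), (4, 1), (0, 1), (0, 1), (7, 1), (0, 0), (0, 0), (0, 0), (0, 0), (0, 1), (2, 1), (0, 0), (0, 0), (2, 1), (0, 0), (0, 1), (2, 1), (4, 1), (0, 0), (0, 0), (0, 0), (1, 1), (2, 1), (2, 1), (0, 0), (0, 0), (1, 1), (0, 1), (0, 0), (1,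 1), (4, 1), (4, 1), (0, 0), (0, 0), (0, 1), (0, 0), (0, 0), (2, 1), (3, 1), (0, 0), (0, 0), (0, 1), (0, 0), (3, 1), (2, 1), (0, 1), (4, 1), (0, 0), (0, 0), (0, 0), (0, 0), (2, 1), (2, 1), (0, 0), (1, 1), (3, 1), (0, 0), (0, 1), (2, 1), (0, 1), (0, 0), (7, 1), (0, 0), (0, 0), (0, 0), (0, 1), (0, 1), (3, 1), (0, 1), (0, 0), (1, 1), (0, 0), (5, 1), (0, 0), (0, 1), (0, 0), (3, 1), (0, 0), (0, 0), (0, 1), (2, 1), (0, 0), (3, 1), (0, 0), (0, 1), (2, 1), (0, 0), (6, 1), (0, 0), (0, 0), (0, 0), (0, 0), (0, 1), (3, 1), (0, 1), (3, 1), (2, 1), (0, 0), (0, 0), (0, 1), (2, 1), (0, 0)]]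

/-- Suborbit lengths. -/
def pairSize : Fin 3 → ℕ := ![1, 44, 231]

/-- Label of a node. -/
def pairProj (L : ℕ) : ℕ := L % 2067

theorem pair_gens_ok : (pairGens.all fun t => moveOK imgTab (pairRoot 0) t (pairRoot 0)) = true := by
  decide +kernel

theorem pair_cert_ok : (List.finRange 3).all (fun i => distinctFrom
    ((orbitList imgTab pairGens (pairCert i) (pairRoot i)).map pairProj) 0 &&
    (orbitList imgTab pairGens (pairCert i) (pairRoot i)).length == pairSize i) = true := by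
  decide +kernel

theorem pair_mv_ok :
    (List.finRange 3).all (fun i => moveOK imgTab (pairRoot 0) (pairMv i) (pairRoot i)) = true := by
  decide +kernel

theorem pair_root_ok : ∀ i, pairRoot i < 2 ^ 24 := by decide +kernel

/-- The representatives. -/
def pairRep (i : Fin 3) : Finset GolayPt := maskSet (pairRoot i)

theorem pair_enc (i : Fin 3) : mask (pairRep i) = pairRoot i := mask_maskSet (pair_root_ok i)

end Cfsg.Agent.Golay.SubData
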