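import Cfsg.Agent.Lib.Golay.Suborbit
import Cfsg.Agent.Lib.Golay.Sextet
import Cfsg.Agent.Lib.Golay.SetOrbit
import Cfsg.Agent.Lib.Golay.Coset

/-!
Suborbits of `M24` on trios.
-/

set_option autoImplicit false
set_option maxRecDepth 20000

namespace Cfsg.Agent.Golay.SubData

open Cfsg Cfsg.Agent.Golay.Basic Cfsg.Agent.Golay.Cert Cfsg.Agent.Golay.Orbit
  Cfsg.Agent.Golay.Suborbit Cfsg.Agent.Golay.M24 Cfsg.Agent.Golay.Trans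
open scoped Pointwise

/-- Generators fixing the base trio. -/
def trioGens : List ℕ := [720691958314279178809920068983488618, 731566719828736934709190774341947685]

/-- Suborbit roots. -/
def trioRoot : Fin 5 → List ℕ := ![[5279, 1009728, 15762208], [5279, 1256224, 15515712], [10558, 902657, 15864000], [10558, 1250945, 15515712], [90318, 2135601, 14551296]]

/-- Movers of the base trio. -/
def trioMv : Fin 5 → ℕ := ![984818244535754528103549039458486304, 137639305618923658433273709027090005, 48126859545553816621195500230096905, 127659672854699205030398124322244103, 19842590638663236572705264151121623]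

/-- Search trees. -/
def trioCert : Fin 5 → List (ℕ × ℕ) := ![
  [],
  [(0, 0), (0, 0), (0, 1), (0, 0), (1, 1), (0, 1), (0, 1), (5, 1), (0, 0), (0, 0), (0, 0), (0, 0), (2, 1), (2, 1), (0, 1), (0, 0), (4, 1), (0, 1), (0, 0), (0, 0), (2, 1), (5, 1), (0, 0), (0, 0), (0, 0), (0, 0), (0, 1), (2, 1), (0, 0), (1, 1), (3, 1), (0, 0), (1, 1), (3, 1), (0, 1), (0, 1), (4, 1), (0, 1), (0, 1), (0, 1), (0, 1)],
  [(0, 0), (0, 0), (0, 0), (0, 0), (0, 0), (0, 0), (0, 0), (0, 0), (3, 1), (0, 0), (0, 0), (0, 0), (0, 0), (0, 1), (0, 1), (3, 1), (0, 0), (3, 1), (0, 0), (0, 0), (1, 1), (4, 1), (0, 0), (0, 0), (1, 1), (0, 1), (0, 0), (0, 1), (5, 1), (0, 0), (0, 0), (0, 0), (3, 1), (0, 1), (5, 1), (0, 0), (0, 0), (0, 0), (0, 0), (0, 1), (0, 0), (3, 1), (3, 1), (0, 1), (0, 0), (0, 1), (2, 1), (0, 0), (5, 1), (0, 1), (0, 0), (0,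 0), (1, 1), (7, 1), (0, 0), (0, 0), (0, 0), (0, 0), (0, 0), (0, 1), (0, 0), (1, 1), (3, 1), (0, 0), (0, 0), (2, 1), (0, 0), (1, 1), (0, 0), (0, 1), (6, 1), (0, 0), (0, 0), (0, 0), (0, 1), (3, 1), (0, 0), (3, 1), (0, 0), (0, 0), (0, 0), (1, 1), (2, 1), (0, 0), (3, 1), (0, 0), (0, 1), (6, 1), (0, 0), (0, 0), (0, 1), (0, 0), (1, 1), (0, 0), (4, 1), (0, 0), (0, 1), (2, 1), (0, 0), (1, 1), (0, 1), (5, 1), (0, 1), (0, 0), (1, 1), (0, 0), (1, 1), (6, 1), (0, 0), (0, 0), (0, 1), (0, 0), (0, 0), (4, 1), (0, 0), (1, 1), (0, 0), (0, 0), (1, 1), (2, 1), (0, 1), (5, 1), (0, 0), (0, 0), (0, 0), (0, 0), (1, 1), (3, 1), (0, 0), (0, 1), (2, 1), (0, 0), (1, 1), (0, 1), (0, 0), (6, 1), (0, 0), (0, 0), (0, 0), (0, 0), (0, 0), (3, 1), (2, 1), (0, 1), (0, 0), (4, 1), (0, 1), (0, 0), (7, 1), (0, 0), (0, 0), (0, 0), (0, 0), (0,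 1), (0, 0), (0, 1), (4, 1), (0, 0), (0, 0), (0, 0), (2, 1), (4, 1), (0, 0), (0, 0), (0, 1), (2, 1), (0, 0), (0, 0), (0, 1), (7, 1), (0, 0), (0, 1), (0, 0), (0, 1), (0, 1), (0, 1), (4, 1), (3, 1), (0, 0), (0, 0), (0, 0), (1, 1), (2, 1), (0, 0), (0, 0), (4, 1), (0, 0), (0, 0), (0, 0), (3, 1), (0, 0), (1, 1), (6, 1), (0, 0), (0, 0), (1, 1), (0, 0), (0, 0), (0, 0), (2, 1), (0, 0), (1, 1), (0, 0), (4, 1), (0, 0), (0, 1), (2, 1), (0, 0), (5, 1), (0, 0), (0, 0), (0, 0), (0, 0), (0, 1), (2, 1), (2, 1), (2, 1), (0, 0), (0, 1), (2, 1), (0, 1), (0, 1), (5, 1), (0, 0), (0, 0), (8, 1), (0, 0), (0, 0), (0, 0), (0, 0), (0, 0), (0, 1), (0, 0), (3, 1), (0, 0), (0, 0), (2, 1), (0, 0), (0, 0), (5, 1), (0, 0), (0, 0), (0, 0), (0, 1), (0, 0), (0, 1), (4, 1), (0, 0), (0, 0), (0, 1), (3, 1), (3, 1), (0, 1), (0, 0), (4, 1), (0,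 0), (0, 0), (0, 0), (0, 0), (2, 1), (0, 1), (4, 1), (0, 0), (0, 1), (0, 0), (3, 1), (5, 1), (0, 0), (0, 0), (0, 0), (0, 1), (0, 0), (0, 0), (2, 1), (0, 1), (4, 1), (0, 0), (0, 1), (0, 0), (3, 1), (0, 1), (4, 1), (0, 0), (0, 0), (0, 1), (2, 1), (2, 1), (0, 1), (0, 0), (5, 1), (0, 0), (0, 0), (0, 0), (2, 1), (0, 0), (0, 0), (0, 0), (2, 1), (2, 1), (3, 1), (0, 0), (0, 0), (0, 1), (0, 0), (4, 1), (0, 0), (0, 0), (0, 0), (2, 1), (7, 1), (0, 0), (0, 0), (0, 1), (0, 0), (0, 0), (0, 0), (5, 1), (0, 0), (0, 0), (0, 0), (0, 0), (2, 1), (3, 1), (0, 0), (0, 0), (1, 1), (0, 0), (3, 1), (0, 1), (0, 1), (0, 0), (1, 1), (0, 1), (8, 1), (0, 0), (0, 0), (0, 0), (0, 1), (0, 1), (0, 1), (4, 1), (0, 0), (1, 1), (0, 1), (5, 1), (0, 0), (0, 0), (0, 0), (0, 0), (1, 1), (2, 1), (0, 1), (0, 0), (0, 0), (5, 1), (0, 0), (0, 0), (1,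 1), (4, 1), (0, 1), (6, 1), (0, 0), (0, 0), (0, 0), (0, 0), (0, 0), (0, 1), (2, 1), (0, 0), (1, 1), (0, 0), (4, 1), (0, 0), (0, 0), (0, 1), (0, 1), (4, 1), (0, 1), (0, 0), (5, 1), (0, 0), (0, 1), (2, 1), (0, 0), (0, 0), (5, 1), (0, 0), (0, 0), (0, 1), (0, 0), (0, 0), (4, 1), (0, 0), (0, 0), (2, 1), (0, 0), (1, 1), (0, 0), (0, 0), (2, 1), (5, 1), (0, 0), (0, 0), (0, 0), (0, 0), (0, 1), (0, 1), (3, 1), (0, 1), (3, 1), (0, 1), (3, 1), (5, 1), (0, 0), (0, 0), (0, 0), (0, 1), (0, 0), (0, 0), (0, 1), (2, 1), (0, 1), (3, 1), (0, 0), (0, 1), (2, 1), (4, 1), (0, 0), (0, 1), (2, 1), (0, 0), (0, 0), (0, 0), (6, 1), (0, 0), (0, 0), (0, 0), (0, 0), (0, 0), (2, 1), (0, 1), (3, 1), (2, 1), (0, 0), (0, 0), (1, 1), (4, 1), (0, 0), (1, 1), (0, 0), (0, 0), (0, 1), (7, 1), (0, 0), (0, 0), (0, 0), (0, 0), (1, 1), (0, 1), (3,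 1), (0, 0), (1, 1), (0, 0), (4, 1), (2, 1), (0, 0), (0, 0), (0, 1), (2, 1), (0, 0), (0, 0), (0, 0), (1, 1), (2, 1), (0, 1), (3, 1), (0, 0), (4, 1), (0, 0), (0, 0), (0, 1), (3, 1), (0, 0), (0, 0), (0, 0), (11, 1), (0, 0), (0, 0), (0, 0), (0, 0), (0, 0), (0, 1), (0, 0), (0, 0), (0, 1), (0, 1), (4, 1), (3, 1), (0, 0), (0, 0), (0, 0), (0, 1), (3, 1), (0, 1), (0, 1), (4, 1), (0, 0), (0, 0), (0, 0), (1, 1), (3, 1), (0, 1), (0, 0), (0, 0), (2, 1), (6, 1), (0, 0), (0, 0), (0, 0), (0, 0), (0, 0), (1, 1), (0, 0), (4, 1), (0, 1), (3, 1), (0, 0), (0, 0), (1, 1), (0, 0), (0, 0), (4, 1), (0, 0), (0, 0), (2, 1), (0, 0), (5, 1), (0, 0), (0, 1), (0, 0), (1, 1), (0, 0), (0, 0), (1, 1), (2, 1), (0, 0), (5, 1), (0, 0), (0, 0), (0, 0), (2, 1), (0, 0), (0, 0), (2, 1), (3, 1), (0, 0), (1, 1), (0, 0), (7, 1), (0, 0), (0, 0), (0,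 0), (0, 0), (0, 0), (0, 1), (3, 1), (0, 1), (3, 1), (0, 0), (0, 0), (0, 1), (2, 1), (2, 1), (0, 0), (0, 0), (0, 1), (0, 1), (3, 1), (2, 1), (0, 1), (5, 1), (0, 0), (0, 0), (0, 1), (2, 1), (0, 0), (0, 0), (4, 1), (0, 0), (0, 0), (0, 1), (0, 0), (3, 1), (0, 1), (0, 0), (4, 1), (0, 1), (5, 1), (0, 1), (0, 0), (0, 0), (0, 0), (0, 1), (3, 1), (0, 1), (0, 0), (0, 1), (5, 1), (0, 0), (0, 0), (0, 1), (2, 1), (0, 0), (3, 1), (0, 0), (7, 1), (0, 0), (0, 0), (0, 0), (0, 0), (0, 0), (0, 1), (2, 1), (0, 0), (3, 1), (0, 0), (0, 0), (0, 0), (0, 0), (2, 1), (3, 1), (0, 0), (1, 1), (4, 1), (0, 0), (0, 0), (4, 1), (4, 1), (0, 0), (0, 0), (0, 1), (0, 0), (0, 0), (0, 0), (0, 0), (0, 1), (2, 1), (0, 0), (3, 1), (0, 0), (0, 1), (2, 1), (3, 1), (0, 0), (0, 1), (0, 0), (0, 0), (2, 1), (3, 1), (0, 0), (0, 0), (2, 1), (0, 0), (0,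 0), (0, 1), (3, 1), (5, 1), (0, 0), (0, 0), (0, 0), (1, 1), (0, 0), (3, 1), (0, 1), (0, 1), (4, 1), (0, 0), (0, 0), (0, 0), (0, 0), (1, 1), (3, 1), (0, 1), (0, 1), (0, 0), (5, 1), (0, 1), (0, 1), (7, 1), (0, 0), (0, 0), (0, 1), (0, 0), (3, 1), (0, 0), (3, 1), (0, 0), (0, 0), (0, 0), (0, 0), (0, 0), (3, 1), (0, 0), (1, 1), (0, 0), (0, 1), (2, 1), (4, 1), (0, 1), (0, 0), (0, 0), (0, 0), (2, 1), (2, 1), (0, 0), (1, 1), (5, 1), (0, 0), (0, 0), (0, 0), (0, 1), (2, 1), (0, 0), (3, 1), (0, 0), (0, 0), (1, 1), (2, 1), (3, 1), (0, 0), (0, 1), (0, 0), (0, 1), (2, 1), (3, 1), (0, 0), (0, 1), (0, 1), (3, 1), (0, 0), (0, 0), (2, 1), (8, 1), (0, 0), (0, 0), (0, 0), (0, 0), (0, 1), (0, 0), (0, 1), (0, 0), (3, 1), (3, 1), (0, 0), (1, 1), (3, 1), (0, 0), (0, 0), (0, 0), (0, 0), (0, 1), (2, 1), (0, 1), (3, 1), (2, 1), (2,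 1), (0, 0), (0, 0), (0, 1), (0, 1), (4, 1), (0, 0), (0, 0), (0, 1), (7, 1), (0, 0), (0, 0), (0, 1), (0, 0), (3, 1), (0, 0), (1, 1), (0, 0), (0, 0), (0, 0), (1, 1), (3, 1), (0, 0), (5, 1), (0, 0), (0, 1), (0, 0), (1, 1), (0, 0), (1, 1), (4, 1), (0, 0), (0, 1), (0, 1), (3, 1), (0, 0), (0, 0), (1, 1), (0, 1), (3, 1), (0, 0), (0, 1), (2, 1), (7, 1), (0, 0), (0, 0), (0, 0), (0, 0), (0, 0), (0, 0), (2, 1), (0, 1), (3, 1), (0, 0), (0, 1), (0, 0), (3, 1), (0, 0), (1, 1), (0, 1), (5, 1), (0, 0), (0, 0), (1, 1), (2, 1), (0, 1), (0, 0), (0, 0), (6, 1), (0, 1), (0, 0), (0, 1), (2, 1), (0, 1), (0, 0), (1, 1), (6, 1), (0, 1), (0, 0), (0, 0), (0, 1), (0, 0), (3, 1), (0, 0), (10, 1), (0, 0), (0, 0), (0, 0), (0, 0), (0, 0), (0, 1), (0, 0), (0, 0), (0, 0), (0, 1), (0, 0), (3, 1), (2, 1), (0, 0), (0, 0), (4, 1), (0, 0), (0,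 0), (2, 1), (0, 0), (5, 1), (0, 1), (0, 0), (0, 0), (0, 0), (0, 0), (2, 1), (0, 1), (4, 1), (0, 0), (0, 0), (0, 0), (1, 1), (2, 1), (0, 0), (0, 0), (2, 1), (0, 0), (4, 1), (0, 0), (0, 0), (7, 1), (0, 0), (0, 0), (0, 0), (0, 0), (0, 0), (1, 1), (0, 0), (3, 1), (0, 0), (0, 0), (1, 1), (2, 1), (0, 1), (4, 1), (0, 0), (1, 1), (0, 0), (0, 0), (1, 1), (5, 1), (0, 0), (0, 0), (0, 1), (2, 1), (0, 0), (1, 1), (0, 1), (0, 0), (0, 1), (6, 1), (0, 0), (0, 0), (0, 0), (1, 1), (3, 1), (0, 0), (1, 1), (5, 1), (0, 0), (0, 0), (0, 0), (0, 0), (0, 0), (3, 1), (0, 0), (3, 1), (0, 0), (0, 0), (2, 1), (0, 0), (0, 0), (2, 1), (0, 1), (0, 1), (6, 1), (0, 0), (0, 0), (0, 1), (2, 1), (0, 0), (0, 0), (2, 1), (3, 1), (0, 0), (0, 0), (0, 1), (2, 1), (0, 0), (3, 1), (0, 1), (0, 0), (1, 1), (8, 1), (0, 0), (0, 0), (0, 0), (0, 0), (0,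 0), (0, 1), (3, 1), (0, 1), (0, 0), (0, 1), (0, 0), (0, 1), (7, 1), (0, 0), (0, 0), (0, 0), (0, 1), (0, 0), (1, 1), (3, 1), (0, 0), (0, 0), (4, 1), (0, 0), (1, 1), (3, 1), (0, 0), (0, 0), (0, 1), (0, 1), (4, 1), (0, 0), (0, 0), (2, 1), (5, 1), (0, 0), (0, 0), (0, 1), (2, 1), (2, 1), (0, 0), (0, 0), (2, 1), (0, 0), (0, 0), (2, 1), (5, 1), (0, 0), (0, 0), (0, 0), (0, 1), (0, 0), (1, 1), (0, 0), (4, 1), (2, 1), (0, 0), (0, 0), (0, 0), (0, 1), (0, 1), (3, 1), (0, 0), (3, 1), (2, 1), (0, 0), (0, 0), (0, 0), (2, 1), (2, 1), (0, 1), (0, 0), (6, 1), (0, 0), (0, 0), (0, 0), (0, 0), (2, 1), (0, 0), (0, 1), (4, 1), (0, 0), (0, 1), (2, 1), (0, 0), (1, 1), (4, 1), (0, 0), (0, 0), (0, 0), (0, 0), (2, 1), (8, 1), (0, 0), (0, 0), (0, 0), (0, 1), (0, 0), (0, 0), (0, 0), (0, 0), (0, 0), (1, 1), (3, 1), (2, 1), (2, 1), (0,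 0), (0, 1), (0, 1), (3, 1), (0, 1), (5, 1), (0, 0), (0, 0), (0, 0), (5, 1), (0, 0), (0, 0), (0, 1), (0, 0), (0, 0), (0, 0), (6, 1), (0, 0), (0, 0), (0, 0), (0, 0), (0, 0), (2, 1), (0, 0), (0, 1), (4, 1), (0, 0), (0, 1), (5, 1), (0, 0), (0, 0), (1, 1), (0, 1), (0, 1), (4, 1), (0, 0), (0, 1), (0, 1), (3, 1), (0, 0), (0, 0), (1, 1), (0, 0), (1, 1), (3, 1), (7, 1), (0, 0), (0, 0), (0, 0), (0, 0), (0, 0), (0, 0), (1, 1), (0, 0), (0, 0), (2, 1), (0, 1), (5, 1), (0, 0), (1, 1), (0, 0), (4, 1), (0, 0), (0, 0), (0, 0), (0, 0), (2, 1), (2, 1), (0, 0), (0, 1), (4, 1), (0, 1), (4, 1), (0, 0), (0, 1), (0, 0), (0, 0), (0, 0), (2, 1), (0, 1), (0, 0), (4, 1), (0, 0), (1, 1), (0, 0), (5, 1), (0, 0), (0, 0), (0, 0), (0, 1), (2, 1), (2, 1), (2, 1), (0, 1), (0, 0), (1, 1), (6, 1), (0, 0), (0, 0), (0, 0), (0, 0), (0, 0), (0,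 1), (2, 1), (2, 1), (0, 0), (1, 1), (0, 1), (5, 1), (0, 0), (1, 1), (0, 0), (0, 0), (1, 1), (5, 1), (0, 0), (0, 0), (0, 0), (0, 0), (0, 0), (0, 0), (5, 1), (0, 0), (1, 1), (0, 0), (1, 1), (0, 0), (1, 1), (0, 0), (1, 1), (6, 1), (0, 0), (0, 0), (0, 0), (0, 0), (1, 1), (0, 0), (3, 1), (0, 0), (1, 1), (3, 1), (0, 0), (0, 0), (1, 1), (0, 1), (5, 1), (0, 0), (0, 0), (2, 1), (0, 0), (0, 0), (0, 0), (2, 1), (0, 0), (1, 1), (3, 1), (0, 0), (10, 1), (0, 0), (0, 0), (0, 0), (0, 0), (0, 0), (0, 0), (1, 1), (0, 1), (0, 0), (0, 1), (0, 1), (3, 1), (0, 0), (1, 1), (0, 0), (6, 1), (0, 0), (0, 0), (0, 0), (0, 0), (4, 1), (0, 0), (0, 0), (1, 1), (0, 1), (3, 1), (4, 1), (0, 0), (0, 0), (0, 0), (0, 0), (0, 0), (0, 1), (2, 1), (2, 1), (2, 1), (0, 0), (3, 1), (0, 0), (1, 1), (0, 0), (0, 1), (2, 1), (0, 1), (5, 1), (0, 0), (0,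 1), (2, 1), (0, 0), (0, 0), (0, 0), (0, 0), (1, 1), (4, 1), (0, 0), (6, 1), (0, 0), (0, 0), (0, 0), (1, 1), (0, 0), (0, 1), (2, 1), (0, 0), (0, 0), (1, 1), (2, 1), (4, 1), (0, 0), (0, 0), (0, 0), (0, 0), (1, 1), (2, 1), (2, 1), (0, 1), (0, 0), (0, 1), (5, 1), (0, 0), (0, 1), (2, 1), (0, 1), (0, 0), (6, 1), (0, 0), (0, 1), (0, 1), (0, 0), (0, 1), (5, 1), (0, 0), (5, 1), (0, 0), (0, 0), (0, 0), (0, 0), (0, 0), (0, 1), (2, 1), (0, 1), (3, 1), (0, 0), (1, 1), (0, 1), (0, 1), (0, 1), (6, 1), (0, 0), (0, 0), (4, 1), (0, 0), (0, 0), (0, 0), (0, 1), (3, 1), (0, 1), (0, 0), (0, 0), (0, 1), (6, 1), (0, 0), (0, 0), (0, 0), (0, 1), (4, 1), (0, 0), (0, 0), (0, 1), (7, 1), (0, 0), (0, 0), (0, 0), (0, 0), (0, 0), (0, 1), (2, 1), (0, 0), (3, 1), (0, 1), (0, 1), (0, 0), (5, 1), (0, 1), (0, 1), (0, 1), (5, 1), (0, 1), (0,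 0), (0, 0), (1, 1), (0, 1), (0, 1), (4, 1), (0, 0), (0, 1), (2, 1), (5, 1), (0, 0), (0, 0), (0, 1), (0, 0), (0, 0), (4, 1), (0, 0), (0, 0), (2, 1), (0, 1), (0, 0), (5, 1), (0, 0), (0, 0), (1, 1), (0, 1), (0, 1), (0, 1), (5, 1), (0, 1), (0, 0), (0, 1), (2, 1), (8, 1), (0, 0), (0, 0), (0, 0), (0, 0), (0, 0), (0, 0), (1, 1), (0, 0), (0, 1), (2, 1), (0, 0), (4, 1), (0, 0), (0, 0), (0, 0), (3, 1), (3, 1), (2, 1), (0, 0), (0, 0), (0, 0), (1, 1), (0, 0), (0, 0), (0, 0), (3, 1), (0, 1), (4, 1), (0, 0), (0, 0), (0, 1), (2, 1), (0, 0), (1, 1), (3, 1), (0, 0), (6, 1), (0, 0), (0, 0), (0, 0), (0, 1), (0, 0), (0, 0), (4, 1), (0, 0), (0, 0), (4, 1), (0, 0), (0, 0), (0, 0), (3, 1), (0, 0), (0, 0), (0, 1), (3, 1), (0, 0), (0, 1), (2, 1), (0, 0), (1, 1), (6, 1), (0, 1), (0, 0), (0, 0), (0, 1), (3, 1), (0, 0), (1, 1), (0,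 1), (0, 0), (8, 1), (0, 0), (0, 0), (0, 0), (0, 0), (0, 0), (0, 1), (0, 0), (1, 1), (4, 1), (0, 0), (0, 0), (2, 1), (0, 0), (0, 1), (0, 0), (6, 1), (0, 0), (0, 0), (0, 0), (1, 1), (0, 1), (0, 0), (4, 1), (0, 0), (0, 0), (2, 1), (3, 1), (0, 0), (4, 1), (0, 0), (0, 0), (0, 0), (0, 0), (2, 1), (0, 0), (4, 1), (0, 0), (0, 0), (0, 1), (2, 1), (0, 0), (0, 0), (2, 1), (0, 0), (0, 0), (5, 1), (0, 1), (0, 1), (0, 1), (7, 1), (0, 0), (0, 0), (0, 0), (0, 1), (0, 1), (0, 1), (4, 1), (0, 1), (3, 1), (0, 0), (0, 0), (1, 1), (0, 1), (0, 1), (0, 1), (5, 1), (0, 0), (0, 0), (2, 1), (0, 1), (0, 1), (6, 1), (0, 0), (0, 0), (0, 0), (0, 0), (2, 1), (0, 1), (0, 1), (5, 1), (0, 0), (0, 0), (1, 1), (0, 0), (1, 1), (3, 1), (0, 0), (0, 0), (0, 0), (1, 1), (2, 1), (0, 1), (3, 1), (0, 0), (1, 1), (0, 0), (1, 1), (12, 1), (0, 0), (0,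 0), (0, 0), (0, 0), (0, 0), (0, 0), (0, 0), (0, 0), (0, 0), (4, 1), (0, 0), (0, 1), (0, 0), (0, 0), (1, 1), (0, 1), (5, 1), (0, 0), (0, 1), (0, 1), (0, 1), (0, 0), (5, 1), (0, 0), (0, 1), (0, 0), (0, 1), (0, 0), (9, 1), (0, 0), (0, 0), (0, 0), (0, 0), (0, 0), (1, 1), (0, 0), (5, 1), (0, 0), (0, 0), (0, 1), (2, 1), (0, 1), (0, 0), (1, 1), (6, 1), (0, 0), (0, 0), (0, 0), (0, 0), (0, 1), (4, 1), (0, 0), (0, 0), (2, 1), (0, 0), (0, 0), (1, 1), (2, 1), (4, 1), (0, 0), (0, 0), (0, 0), (1, 1), (0, 0), (0, 0), (4, 1), (0, 0), (0, 0), (2, 1), (0, 1), (4, 1), (0, 0), (0, 0), (2, 1), (0, 0), (0, 1), (8, 1), (0, 0), (0, 0), (0, 0), (0, 0), (0, 0), (0, 1), (0, 0), (1, 1), (3, 1), (0, 1), (3, 1), (0, 0), (0, 0), (1, 1), (2, 1), (0, 0), (0, 0), (1, 1), (2, 1), (4, 1), (0, 0), (0, 0), (0, 0), (1, 1), (0, 0), (3, 1), (0,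 1), (0, 0), (4, 1), (0, 1), (4, 1), (0, 0), (0, 0), (0, 1), (0, 0), (4, 1), (0, 0), (0, 1), (0, 0), (0, 1), (2, 1), (0, 0), (1, 1), (4, 1), (4, 1), (0, 0), (0, 0), (0, 0), (0, 0), (0, 0), (0, 0), (2, 1), (0, 0), (1, 1), (4, 1), (0, 0), (0, 0), (4, 1), (0, 0), (0, 0), (1, 1), (0, 0), (0, 1), (2, 1), (0, 0), (0, 0), (1, 1), (2, 1), (4, 1), (0, 0), (1, 1), (0, 0), (1, 1), (0, 0), (0, 1), (7, 1), (0, 0), (0, 0), (0, 0), (1, 1), (0, 0), (3, 1), (0, 0), (1, 1), (0, 1), (0, 0), (0, 0), (6, 1), (0, 0), (0, 0), (0, 0), (0, 1), (3, 1), (0, 0), (3, 1), (0, 0), (0, 0), (1, 1), (0, 1), (3, 1), (0, 0), (0, 0), (2, 1), (8, 1), (0, 0), (0, 0), (0, 0), (0, 0), (0, 0), (0, 1), (0, 1), (0, 0), (4, 1), (0, 0), (0, 0), (1, 1), (2, 1), (0, 0), (5, 1), (0, 0), (0, 0), (0, 0), (0, 1), (0, 1), (5, 1), (0, 0), (0, 0), (0, 0), (0,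 0), (3, 1), (0, 0), (1, 1), (3, 1), (0, 0), (0, 0), (1, 1), (2, 1), (0, 0), (6, 1), (0, 0), (0, 0), (0, 0), (0, 0), (0, 0), (1, 1), (0, 1), (3, 1), (0, 0), (0, 0), (0, 0), (5, 1), (0, 0), (3, 1), (0, 0), (0, 0), (0, 0), (0, 0), (1, 1), (0, 1), (0, 0), (6, 1), (3, 1), (0, 0), (0, 0), (0, 1), (0, 0), (3, 1), (0, 0), (0, 0), (4, 1), (0, 1), (0, 0), (0, 0), (1, 1), (7, 1), (0, 0), (0, 0), (0, 0), (0, 1), (0, 0), (0, 0), (1, 1), (0, 1), (3, 1), (0, 0), (0, 0), (1, 1), (5, 1), (0, 0), (0, 0), (0, 0), (3, 1), (0, 0), (0, 0), (1, 1), (5, 1), (0, 0), (0, 0), (0, 0), (0, 1), (0, 1), (3, 1), (0, 0), (0, 0), (5, 1), (0, 1), (0, 0), (0, 0), (6, 1), (0, 0), (0, 0), (0, 0), (0, 0), (0, 0), (3, 1), (0, 0), (0, 0), (0, 0), (0, 1), (2, 1), (2, 1), (0, 0), (1, 1), (3, 1), (0, 0), (4, 1), (0, 0), (0, 0), (0, 0), (1, 1), (3,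 1), (0, 0), (0, 0), (0, 1), (2, 1), (5, 1), (0, 0), (0, 1), (0, 1), (0, 0), (0, 1), (2, 1), (0, 0), (1, 1), (0, 0), (6, 1), (0, 0), (0, 0), (2, 1), (0, 0), (0, 0), (0, 0), (3, 1), (8, 1), (0, 0), (0, 0), (0, 0), (0, 0), (0, 0), (0, 1), (0, 1), (0, 0), (0, 1), (5, 1), (2, 1), (0, 0), (0, 0), (0, 0), (0, 0), (0, 1), (2, 1), (2, 1), (3, 1), (0, 0), (0, 0), (0, 0), (1, 1), (2, 1), (0, 1), (0, 0), (4, 1), (0, 1), (0, 0), (0, 0), (0, 0), (1, 1), (8, 1), (0, 0), (0, 0), (0, 0), (0, 0), (6, 1), (0, 0), (0, 0), (0, 0), (0, 1), (0, 0), (0, 0), (0, 0), (2, 1), (0, 1), (3, 1), (0, 1), (4, 1), (0, 0), (0, 0), (0, 0), (0, 0), (6, 1), (0, 1), (0, 0), (0, 1), (0, 0), (0, 0), (1, 1), (2, 1), (0, 1), (4, 1), (0, 0), (0, 0), (0, 0), (2, 1), (0, 1), (7, 1), (0, 0), (0, 0), (0, 0), (1, 1), (0, 0), (0, 0), (0, 0), (0, 0), (2,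 1), (3, 1), (0, 0), (0, 1), (5, 1), (0, 0), (0, 0), (1, 1), (0, 0), (3, 1), (0, 1), (0, 0), (0, 0), (6, 1), (0, 0), (0, 0), (0, 0), (0, 0), (1, 1), (0, 0), (1, 1), (0, 0), (1, 1), (4, 1), (2, 1), (0, 0), (0, 1), (8, 1), (0, 0), (0, 0), (0, 0), (0, 0), (0, 0), (0, 1), (0, 1), (0, 0), (4, 1), (0, 0), (0, 1), (0, 0), (5, 1), (0, 0), (0, 1), (0, 0), (1, 1), (0, 0), (0, 1), (5, 1), (0, 0), (0, 1), (0, 0), (6, 1), (0, 0), (0, 0), (0, 0), (1, 1), (0, 1), (3, 1), (2, 1), (0, 0), (1, 1), (0, 0), (5, 1), (0, 0), (0, 0), (0, 0), (0, 0), (0, 1), (2, 1), (0, 0), (1, 1), (0, 0), (1, 1), (4, 1), (0, 0), (3, 1), (0, 0), (0, 0), (0, 0), (0, 1), (0, 1), (4, 1), (0, 1), (3, 1), (0, 0), (0, 0), (5, 1), (0, 0), (0, 1), (0, 0), (0, 1), (4, 1), (0, 0), (0, 0), (0, 0), (0, 0), (4, 1), (0, 0), (6, 1), (0, 0), (0, 0), (0, 0), (0,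 0), (1, 1), (0, 0), (0, 0), (0, 0), (3, 1), (0, 0), (0, 0), (1, 1), (2, 1), (0, 0), (5, 1), (0, 0), (0, 0), (0, 1), (0, 0), (3, 1), (0, 0), (1, 1), (0, 0), (0, 0), (2, 1), (4, 1), (0, 0), (0, 0), (0, 0), (0, 0), (4, 1), (0, 0), (5, 1), (0, 0), (0, 0), (0, 0), (0, 0), (0, 1), (2, 1), (0, 0), (4, 1), (0, 0), (0, 0), (1, 1), (0, 1), (3, 1), (0, 1), (0, 0), (1, 1), (5, 1), (0, 0), (0, 0), (0, 1), (2, 1), (0, 0), (1, 1), (3, 1), (0, 1), (5, 1), (0, 0), (0, 0), (0, 0), (0, 0), (0, 0), (2, 1), (0, 0), (1, 1), (3, 1), (0, 1), (0, 0), (0, 0), (1, 1), (5, 1), (0, 0), (0, 0), (0, 1), (3, 1), (0, 0), (1, 1), (0, 0), (5, 1), (0, 0), (0, 0), (0, 0), (1, 1), (0, 1), (3, 1), (0, 0), (0, 0), (0, 1), (3, 1), (0, 0), (1, 1), (10, 1), (0, 0), (0, 0), (0, 0), (0, 0), (0, 0), (0, 0), (0, 0), (0, 0), (3, 1), (0, 1), (0, 0), (0,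 1), (5, 1), (0, 1), (0, 0), (0, 1), (0, 1), (3, 1), (0, 0), (1, 1), (0, 1), (6, 1), (0, 0), (0, 0), (0, 1), (0, 0), (0, 0), (2, 1), (0, 0), (0, 0), (2, 1), (0, 0), (5, 1), (0, 0), (0, 0), (0, 1), (2, 1), (0, 0), (1, 1), (0, 0), (1, 1), (4, 1), (0, 0), (0, 1), (2, 1), (0, 1), (0, 1), (6, 1), (3, 1), (0, 1), (0, 0), (0, 0), (0, 0), (0, 0), (0, 1), (2, 1), (0, 0), (0, 1), (0, 0), (3, 1), (3, 1), (0, 0), (0, 1), (0, 1), (3, 1), (0, 0), (1, 1), (4, 1), (0, 0), (0, 0), (0, 1), (2, 1), (0, 0), (5, 1), (0, 0), (0, 1), (0, 0), (3, 1), (0, 1), (0, 0), (0, 1), (0, 1), (0, 1), (4, 1), (0, 0), (0, 0), (2, 1), (8, 1), (0, 0), (0, 0), (0, 0), (0, 0), (0, 0), (0, 1), (0, 0), (1, 1), (4, 1), (2, 1), (0, 0), (0, 0), (4, 1), (0, 0), (0, 0), (0, 0), (0, 0), (0, 0), (1, 1), (3, 1), (0, 0), (0, 0), (4, 1), (0, 1), (0, 0), (1,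 1), (0, 1), (0, 1), (8, 1), (0, 0), (0, 0), (0, 0), (0, 0), (0, 0), (0, 1), (0, 0), (0, 1), (2, 1), (3, 1), (0, 0), (3, 1), (2, 1), (0, 0), (0, 0), (0, 0), (0, 1), (3, 1), (0, 0), (3, 1), (0, 1), (0, 1), (0, 0), (6, 1), (0, 0), (0, 0), (0, 0), (0, 0), (2, 1), (0, 0), (3, 1), (0, 0), (0, 1), (0, 1), (3, 1), (0, 0), (0, 0), (2, 1), (0, 1), (7, 1), (0, 0), (0, 0), (0, 0), (0, 0), (0, 0), (0, 0), (1, 1), (0, 0), (3, 1), (2, 1), (2, 1), (0, 0), (1, 1), (0, 1), (5, 1), (0, 0), (0, 0), (0, 0), (0, 0), (1, 1), (0, 0), (0, 1), (5, 1), (0, 0), (0, 0), (1, 1), (2, 1), (0, 0), (0, 0), (0, 1), (3, 1), (0, 0), (5, 1), (0, 0), (0, 1), (0, 0), (0, 0), (4, 1), (0, 0), (0, 0), (0, 1), (3, 1), (0, 0), (1, 1), (9, 1), (0, 0), (0, 0), (0, 0), (0, 0), (0, 0), (0, 0), (0, 0), (0, 0), (3, 1), (2, 1), (0, 0), (0, 0), (1, 1), (0,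 0), (1, 1), (5, 1), (0, 0), (0, 0), (0, 0), (2, 1), (0, 1), (0, 0), (1, 1), (4, 1), (0, 0), (0, 0), (0, 1), (0, 0), (4, 1), (0, 0), (0, 0), (2, 1), (0, 1), (0, 1), (0, 1), (8, 1), (0, 0), (0, 0), (0, 0), (0, 0), (1, 1), (0, 1), (0, 1), (4, 1), (0, 0), (0, 0), (0, 1), (2, 1), (0, 0), (5, 1), (0, 0), (0, 0), (0, 0), (0, 1), (0, 1), (3, 1), (0, 0), (3, 1), (0, 0), (0, 0), (2, 1), (3, 1), (0, 0), (0, 0), (0, 1), (3, 1), (0, 0), (1, 1), (5, 1), (0, 0), (0, 0), (0, 0), (0, 1), (0, 1), (5, 1), (0, 0), (0, 0), (0, 0), (0, 1), (2, 1), (0, 1), (0, 1), (4, 1), (2, 1), (0, 0), (0, 0), (7, 1), (0, 0), (0, 0), (0, 0), (0, 0), (0, 1), (0, 0), (0, 1), (4, 1), (0, 0), (0, 0), (1, 1), (0, 0), (1, 1), (3, 1), (0, 0), (0, 1), (5, 1), (0, 0), (0, 0), (4, 1), (0, 0), (0, 1), (0, 1), (3, 1), (0, 0), (0, 0), (0, 0), (0, 0), (1,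 1), (2, 1), (0, 1), (3, 1), (0, 0), (0, 1), (0, 1), (5, 1), (0, 0), (0, 0), (1, 1), (2, 1), (0, 1), (0, 0), (7, 1), (0, 0), (0, 0), (0, 0), (0, 0), (2, 1), (0, 0), (0, 0), (0, 0), (0, 0), (3, 1), (0, 0), (3, 1), (3, 1), (0, 0), (0, 0), (0, 0), (0, 0), (3, 1), (0, 0), (0, 1), (4, 1), (3, 1), (0, 0), (0, 0), (0, 0), (1, 1), (0, 1), (3, 1), (0, 0), (0, 1), (2, 1), (0, 0), (0, 0), (5, 1), (0, 0), (0, 0), (2, 1), (0, 1), (0, 0), (8, 1), (0, 0), (0, 0), (0, 0), (0, 0), (0, 1), (0, 1), (0, 0), (1, 1), (0, 0), (1, 1), (0, 1), (6, 1), (0, 0), (0, 0), (0, 0), (0, 1), (4, 1), (0, 0), (0, 0), (0, 1), (2, 1), (0, 1), (3, 1), (0, 1), (5, 1), (0, 0), (0, 0), (0, 0), (0, 0), (4, 1), (0, 0), (0, 0), (0, 0), (0, 0), (2, 1), (3, 1), (0, 0), (0, 1), (0, 1), (7, 1), (0, 0), (0, 0), (0, 0), (0, 0), (0, 1), (0, 0), (1, 1), (3,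 1), (0, 1), (0, 0), (4, 1), (0, 0), (0, 0), (4, 1), (2, 1), (0, 0), (0, 0), (0, 0), (0, 0), (0, 1), (3, 1), (2, 1), (2, 1), (0, 0), (0, 0), (0, 1), (0, 0), (4, 1), (0, 0), (0, 0), (2, 1), (0, 0), (0, 1), (8, 1), (0, 0), (0, 0), (0, 0), (0, 0), (0, 0), (0, 1), (0, 1), (3, 1), (2, 1), (0, 1), (3, 1), (0, 1), (0, 0), (0, 1), (0, 0), (3, 1), (0, 0), (5, 1), (0, 0), (0, 0), (0, 0), (1, 1), (0, 0), (3, 1), (0, 0), (1, 1), (0, 0), (1, 1), (0, 0), (5, 1), (0, 0), (0, 0), (1, 1), (0, 0), (0, 1), (7, 1), (0, 0), (0, 0), (0, 0), (0, 0), (0, 1), (2, 1), (0, 0), (1, 1), (4, 1), (0, 1), (0, 0), (0, 0), (1, 1), (2, 1), (0, 0), (5, 1), (0, 0), (0, 0), (0, 0), (0, 1), (3, 1), (0, 0), (1, 1)],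
  [(0, 0), (0, 0), (0, 0), (0, 0), (0, 0), (0, 0), (1, 1), (0, 0), (0, 0), (0, 0), (0, 0), (0, 0), (1, 1), (0, 0), (3, 1), (0, 1), (0, 0), (4, 1), (0, 1), (0, 1), (4, 1), (2, 1), (0, 0), (0, 0), (0, 0), (0, 0), (1, 1), (2, 1), (0, 1), (3, 1), (2, 1), (0, 0), (0, 0), (0, 1), (2, 1), (2, 1), (0, 0), (1, 1), (0, 1), (7, 1), (0, 0), (0, 0), (0, 0), (0, 0), (1, 1), (0, 0), (4, 1), (0, 0), (0, 1), (2, 1), (0, 0), (0, 0), (5, 1), (0, 1), (0, 0), (0, 1), (0, 1), (0, 0), (1, 1), (0, 0), (5, 1), (0, 0), (0, 0), (0, 1), (0, 1), (9, 1), (0, 0), (0, 0), (0, 0), (0, 0), (0, 1), (0, 1), (0, 0), (1, 1), (0, 0), (5, 1), (0, 0), (0, 0), (0, 1), (3, 1), (0, 0), (0, 0), (1, 1), (2, 1), (4, 1), (0, 0), (0, 0), (0, 0), (0, 0), (0, 0), (3, 1), (0, 0), (1, 1), (3, 1), (0, 0), (0, 1), (4, 1), (0, 1), (0, 1), (0, 1), (6, 1), (0, 0),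 (0, 1), (0, 0), (0, 0), (0, 1), (3, 1), (0, 1), (4, 1), (0, 0), (0, 0), (0, 0), (0, 0), (1, 1), (2, 1), (0, 1), (0, 1), (5, 1), (0, 0), (0, 0), (2, 1), (0, 0), (0, 1), (2, 1), (0, 0), (1, 1), (7, 1), (0, 0), (0, 0), (0, 0), (0, 0), (0, 1), (0, 0), (1, 1), (3, 1), (0, 0), (3, 1), (0, 0), (0, 0), (4, 1), (0, 0), (0, 0), (1, 1), (2, 1), (0, 0), (0, 0), (0, 1), (0, 0), (3, 1), (0, 0), (0, 1), (2, 1), (3, 1), (4, 1), (0, 0), (0, 1), (0, 1), (0, 0), (0, 0), (2, 1), (4, 1), (0, 0), (0, 0), (0, 0), (2, 1), (0, 0), (0, 1), (2, 1), (3, 1), (0, 1), (0, 0), (0, 0), (1, 1), (0, 1), (3, 1), (0, 0), (9, 1), (0, 0), (0, 0), (0, 0), (0, 0), (0, 0), (0, 1), (0, 1), (0, 1), (0, 0), (5, 1), (0, 0), (0, 0), (0, 0), (3, 1), (3, 1), (0, 0), (0, 1), (0, 0), (0, 0), (2, 1), (3, 1), (0, 0), (0, 0), (0, 0), (0, 0), (2, 1), (2, 1),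 (0, 1), (3, 1), (0, 0), (0, 0), (1, 1), (6, 1), (0, 1), (0, 0), (0, 0), (0, 0), (1, 1), (0, 0), (1, 1), (4, 1), (0, 0), (1, 1), (0, 0), (0, 0), (0, 0), (3, 1), (0, 1), (7, 1), (0, 0), (0, 0), (1, 1), (0, 1), (0, 0), (0, 0), (0, 0), (0, 0), (3, 1), (0, 1), (0, 1), (4, 1), (0, 0), (0, 0), (1, 1), (2, 1), (0, 1), (0, 1), (7, 1), (0, 0), (0, 0), (0, 0), (0, 1), (0, 0), (5, 1), (0, 1), (0, 1), (0, 0), (0, 0), (2, 1), (7, 1), (0, 0), (0, 0), (0, 0), (0, 0), (0, 1), (0, 0), (3, 1), (0, 1), (0, 0), (0, 0), (0, 1), (2, 1), (0, 1), (6, 1), (0, 0), (0, 0), (0, 0), (0, 0), (2, 1), (0, 0), (0, 1), (2, 1), (4, 1), (0, 0), (0, 0), (2, 1), (0, 1), (0, 0), (1, 1), (0, 0), (7, 1), (0, 1), (0, 0), (0, 0), (0, 0), (0, 0), (0, 0), (2, 1), (2, 1), (2, 1), (2, 1), (0, 0), (0, 0), (1, 1), (0, 0), (1, 1), (3, 1), (0, 1), (0, 0),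 (1, 1), (7, 1), (0, 0), (0, 0), (0, 0), (0, 0), (0, 0), (0, 0), (1, 1), (2, 1), (3, 1), (0, 0), (0, 0), (0, 0), (1, 1), (5, 1), (0, 0), (0, 0), (0, 0), (0, 0), (2, 1), (2, 1), (0, 0), (0, 1), (0, 1), (3, 1), (0, 0), (0, 1), (7, 1), (0, 0), (0, 0), (0, 0), (0, 0), (1, 1), (0, 0), (3, 1), (0, 0), (0, 0), (0, 1), (5, 1), (2, 1), (0, 1), (0, 0), (0, 0), (0, 0), (3, 1), (8, 1), (0, 0), (0, 0), (0, 0), (0, 0), (0, 0), (0, 1), (0, 0), (0, 0), (2, 1), (0, 0), (0, 0), (5, 1), (0, 0), (0, 0), (0, 0), (2, 1), (2, 1), (0, 0), (0, 0), (0, 1), (6, 1), (0, 0), (0, 0), (0, 0), (0, 0), (1, 1), (0, 0), (1, 1), (3, 1), (0, 1), (4, 1), (0, 0), (0, 1), (0, 0), (0, 0), (2, 1), (0, 1), (0, 1), (5, 1), (0, 1), (0, 0), (0, 1), (2, 1), (6, 1), (0, 0), (0, 0), (0, 0), (0, 0), (0, 0), (2, 1), (0, 0), (0, 0), (4, 1), (0, 0), (0, 0),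 (2, 1), (0, 1), (4, 1), (0, 0), (0, 1), (0, 0), (0, 0), (8, 1), (0, 0), (0, 0), (0, 0), (0, 1), (0, 0), (0, 0), (0, 1), (5, 1), (0, 0), (0, 0), (4, 1), (0, 0), (0, 0), (0, 0), (1, 1), (0, 0), (6, 1), (0, 0), (0, 0), (0, 0), (0, 0), (0, 1), (0, 1), (0, 1), (4, 1), (0, 0), (1, 1), (3, 1), (0, 0), (0, 0), (0, 0), (0, 1), (4, 1), (0, 0), (0, 0), (1, 1), (2, 1), (4, 1), (0, 0), (1, 1), (0, 1), (0, 0), (1, 1), (0, 1), (9, 1), (0, 0), (0, 0), (0, 0), (0, 0), (0, 0), (0, 0), (1, 1), (0, 1), (0, 0), (4, 1), (0, 0), (3, 1), (0, 0), (0, 0), (1, 1), (4, 1), (0, 1), (0, 0), (0, 0), (0, 1), (0, 1), (0, 1), (4, 1), (0, 1), (0, 1), (4, 1), (4, 1), (0, 1), (0, 0), (0, 0), (0, 1), (2, 1), (0, 1), (0, 1), (0, 0), (1, 1), (5, 1), (0, 0), (1, 1), (0, 0), (6, 1), (0, 0), (0, 0), (0, 1), (0, 0), (3, 1), (0, 0), (0, 1), (0, 0),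 (0, 0), (0, 0), (3, 1), (0, 0), (0, 0), (5, 1), (0, 0), (0, 0), (0, 1), (3, 1), (0, 0), (0, 1), (2, 1), (0, 0), (0, 1), (7, 1), (0, 0), (0, 0), (0, 1), (0, 0), (1, 1), (0, 0), (0, 0), (2, 1), (0, 0), (6, 1), (0, 0), (0, 0), (0, 0), (1, 1), (0, 0), (0, 0), (0, 1), (3, 1), (3, 1), (0, 0), (0, 0), (2, 1), (3, 1), (0, 0), (0, 0), (0, 0), (0, 0), (1, 1), (0, 0), (3, 1), (0, 0), (1, 1), (4, 1), (8, 1), (0, 0), (0, 0), (0, 0), (0, 0), (0, 1), (0, 1), (0, 0), (0, 0), (0, 0), (0, 0), (0, 0), (2, 1), (4, 1), (0, 0), (0, 0), (0, 1), (2, 1), (0, 0), (3, 1), (5, 1), (0, 0), (0, 0), (0, 0), (0, 0), (1, 1), (2, 1), (0, 0), (0, 1), (0, 0), (5, 1), (0, 0), (0, 0), (0, 1), (2, 1), (2, 1), (0, 0), (0, 0), (0, 0), (1, 1), (3, 1), (4, 1), (0, 0), (0, 0), (0, 0), (0, 0), (3, 1), (0, 0), (0, 0), (2, 1), (0, 0), (4, 1), (0, 0),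 (0, 1), (0, 0), (1, 1), (3, 1), (0, 0), (0, 0), (7, 1), (0, 0), (0, 0), (0, 0), (0, 0), (0, 0), (0, 1), (4, 1), (0, 0), (0, 1), (0, 0), (3, 1), (0, 0), (4, 1), (0, 0), (0, 0), (0, 0), (0, 0), (2, 1), (0, 0), (0, 0), (4, 1), (0, 0), (0, 0), (2, 1), (0, 1), (4, 1), (0, 1), (4, 1), (0, 1), (0, 0), (0, 0), (0, 0), (0, 1), (2, 1), (2, 1), (0, 0), (0, 1), (0, 0), (3, 1), (0, 1), (4, 1), (0, 0), (0, 0), (0, 0), (0, 1), (2, 1), (2, 1), (2, 1), (0, 0), (0, 0), (8, 1), (0, 0), (0, 0), (0, 0), (0, 1), (0, 1), (0, 0), (0, 0), (0, 0), (1, 1), (2, 1), (0, 1), (3, 1), (0, 0), (0, 0), (2, 1), (0, 0), (1, 1), (6, 1), (0, 0), (0, 0), (0, 0), (5, 1), (0, 0), (0, 0), (0, 0), (0, 0), (0, 1), (2, 1), (2, 1), (0, 0), (0, 0), (0, 0), (5, 1), (0, 1), (0, 1), (0, 0), (5, 1), (0, 0), (0, 0), (0, 0), (0, 1), (2, 1), (0, 0), (0, 0),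 (2, 1), (0, 0), (4, 1), (0, 0), (0, 0), (0, 0), (2, 1), (2, 1), (0, 0), (1, 1), (0, 1), (5, 1), (0, 0), (0, 0), (1, 1), (0, 1), (3, 1), (5, 1), (0, 0), (0, 0), (0, 0), (0, 0), (0, 0), (0, 1), (3, 1), (0, 0), (1, 1), (0, 0), (1, 1), (4, 1), (0, 0), (0, 1), (0, 0), (3, 1), (0, 0), (0, 0), (1, 1), (2, 1), (0, 0), (0, 0), (2, 1), (0, 0), (0, 0), (7, 1), (0, 0), (0, 0), (1, 1), (0, 1), (0, 0), (0, 0), (2, 1), (6, 1), (0, 0), (0, 0), (1, 1), (0, 1), (0, 1), (0, 1), (5, 1), (0, 0), (0, 0), (1, 1), (0, 1), (0, 0), (1, 1), (0, 0), (5, 1), (0, 0), (0, 1), (0, 1), (3, 1), (0, 0), (8, 1), (0, 0), (0, 0), (0, 0), (0, 0), (0, 0), (0, 0), (0, 0), (0, 0), (3, 1), (0, 0), (0, 0), (1, 1), (0, 1), (0, 0), (4, 1), (0, 1), (4, 1), (0, 0), (1, 1), (0, 0), (1, 1), (0, 1), (0, 0), (6, 1), (0, 0), (0, 0), (0, 0), (1, 1), (3, 1),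 (3, 1), (0, 0), (0, 0), (0, 0), (0, 0), (0, 0), (2, 1), (0, 0), (1, 1), (4, 1), (0, 0), (0, 0), (0, 0), (3, 1), (0, 1), (4, 1), (0, 0), (0, 0), (0, 0), (0, 0), (0, 0), (2, 1), (0, 1), (3, 1), (0, 0), (1, 1), (0, 0), (4, 1), (0, 0), (0, 0), (0, 0), (2, 1), (4, 1), (0, 0), (0, 0), (0, 0), (0, 1), (3, 1), (0, 0), (3, 1), (5, 1), (0, 0), (0, 0), (0, 0), (0, 0), (0, 0), (4, 1), (0, 0), (0, 0), (0, 0), (1, 1), (0, 0), (0, 0), (4, 1), (0, 1), (0, 0), (0, 1), (5, 1), (0, 1), (0, 1), (5, 1), (0, 0), (0, 0), (0, 0), (0, 0), (0, 1), (2, 1), (2, 1), (0, 0), (0, 0), (0, 1), (0, 1), (3, 1), (0, 0), (5, 1), (0, 0), (0, 1), (0, 0), (3, 1), (0, 0), (0, 1), (5, 1), (0, 0), (0, 0), (0, 0), (0, 0), (0, 0), (2, 1), (0, 1), (3, 1), (0, 0), (3, 1), (0, 1), (3, 1), (0, 0), (0, 0), (0, 0), (3, 1), (0, 0), (1, 1), (0, 0), (1, 1),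 (8, 1), (0, 0), (0, 0), (0, 0), (0, 1), (2, 1), (0, 0), (0, 0), (0, 0), (1, 1), (0, 0), (3, 1), (2, 1), (0, 0), (0, 0), (0, 1), (0, 1), (3, 1), (5, 1), (0, 1), (0, 0), (0, 0), (0, 0), (0, 0), (2, 1), (2, 1), (0, 1), (3, 1), (0, 0), (0, 0), (0, 0), (1, 1), (0, 0), (3, 1), (0, 1), (7, 1), (0, 0), (0, 0), (0, 0), (0, 0), (0, 1), (0, 1), (0, 0), (4, 1), (0, 1), (4, 1), (0, 0), (0, 1), (0, 1), (0, 1), (4, 1), (0, 0), (0, 0), (0, 1), (0, 1), (7, 1), (0, 0), (0, 0), (0, 0), (0, 0), (0, 0), (0, 0), (1, 1), (0, 0), (4, 1), (3, 1), (0, 1), (0, 1), (0, 0), (1, 1), (0, 1), (6, 1), (0, 0), (0, 0), (0, 0), (2, 1), (0, 1), (0, 0), (1, 1), (0, 0), (5, 1), (0, 0), (0, 0), (0, 1), (3, 1), (0, 0), (0, 1), (2, 1), (0, 1)],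
  [(0, 0), (0, 0), (0, 0), (0, 0), (1, 1), (0, 0), (0, 0), (0, 1), (3, 1), (3, 1), (0, 0), (0, 0), (0, 0), (0, 1), (2, 1), (2, 1), (2, 1), (0, 1), (0, 0), (0, 0), (6, 1), (0, 0), (0, 1), (0, 0), (0, 1), (4, 1), (0, 1), (0, 0), (0, 0), (2, 1), (5, 1), (0, 0), (0, 0), (0, 0), (0, 1), (2, 1), (0, 0), (0, 0), (2, 1), (3, 1), (0, 1), (0, 0), (0, 0), (0, 1), (3, 1), (0, 1), (5, 1), (0, 0), (0, 0), (2, 1), (0, 0), (1, 1), (0, 0), (0, 0), (1, 1)]]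

/-- Suborbit lengths. -/
def trioSize : Fin 5 → ℕ := ![1, 42, 2688, 1008, 56]

/-- Label of a node. -/
def trioProj (L : List ℕ) : ℕ := ((L.getD 0 0 % 4096) * 3841 + L.getD 1 0 % 4096) % 1000003

theorem trio_gens_ok : (trioGens.all fun t => moveOK actFam (trioRoot 0) t (trioRoot 0)) = true := by
  decide +kernel

theorem trio_cert_ok : (List.finRange 5).all (fun i => distinctFrom
    ((orbitList actFam trioGens (trioCert i) (trioRoot i)).map trioProj) 0 &&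
    (orbitList actFam trioGens (trioCert i) (trioRoot i)).length == trioSize i) = true := by
  decide +kernel

theorem trio_mv_ok :
    (List.finRange 5).all (fun i => moveOK actFam (trioRoot 0) (trioMv i) (trioRoot i)) = true := by
  decide +kernel

theorem trio_root_ok : ∀ i, (trioRoot i).Pairwise (· < ·) ∧ ∀ m ∈ trioRoot i, m < 2 ^ 24 := by
  decide +kernel

/-- The representatives. -/
def trioRep (i : Fin 5) : Finset (Finset GolayPt) := famSet (trioRoot i)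

theorem trio_enc (i : Fin 5) : encFam (trioRep i) = trioRoot i :=
  encFam_famSet (trio_root_ok i).1 (trio_root_ok i).2

theorem trio_phi : Function.Injective fun i => overlap (trioRep 0) (trioRep i) := by
  decide +kernel

end Cfsg.Agent.Golay.SubData
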