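import Cfsg.Agent.Lib.Golay.SubSextet
import Cfsg.Agent.Lib.Golay.SubTrio
import Cfsg.Agent.Lib.Golay.SubOther

/-!
Suborbits and maximality of the stabilisers of pairs, triples, octads, duums, sextets, trios.
-/

set_option autoImplicit false
set_option maxRecDepth 30000

namespace Cfsg.Agent.Golay.Suborbits

open Cfsg Cfsg.Agent.Golay.Basic Cfsg.Agent.Golay.Cert Cfsg.Agent.Golay.Orbit
  Cfsg.Agent.Golay.Suborbit Cfsg.Agent.Golay.SubData Cfsg.Agent.Golay.M24 Cfsg.Agent.Golay.Trans
  Cfsg.Agent.Golay.Design Cfsg.Agent.Golay.Steiner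
open scoped Pointwise

/-- Conclusion of a suborbit computation on a set `X`. -/
def HasSuborbits {β : Type*} [MulAction (Equiv.Perm GolayPt) β] (X : Set β) {n : ℕ}
    (i₀ : Fin n) (sz : Fin n → ℕ) (x : β) : Prop :=
  ∃ r : Fin n → β, r i₀ = x ∧
    (∀ i, (MulAction.orbit (MulAction.stabilizer Cfsg.M24 x) (r i)).ncard = sz i) ∧
    X = ⋃ i, MulAction.orbit (MulAction.stabilizer Cfsg.M24 x) (r i) ∧
    MulAction.orbit Cfsg.M24 x = X

theorem hasSuborbits_of {β : Type*} [MulAction (Equiv.Perm GolayPt) β] {X : Set β} {n : ℕ}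
    {r : Fin n → β} {i₀ : Fin n} {sz : Fin n → ℕ}
    (h : (∀ i, (MulAction.orbit (MulAction.stabilizer Cfsg.M24 (r i₀)) (r i)).ncard = sz i) ∧
      X = ⋃ i, MulAction.orbit (MulAction.stabilizer Cfsg.M24 (r i₀)) (r i) ∧
      MulAction.orbit Cfsg.M24 (r i₀) = X)
    {x : β} (hx : x ∈ X) : HasSuborbits X i₀ sz x := by
  obtain ⟨h1, h2, h3⟩ := h
  obtain ⟨r', e0, e1, e2⟩ := suborbits_at (h3.symm ▸ hx) r sz i₀ rfl h1 (h3.trans h2)
  exact ⟨r', e0, e1, h3.symm.trans e2,
    (MulAction.orbit_eq_iff.2 (h3.symm ▸ hx)).trans h3⟩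

theorem HasSuborbits.isCoatom {β : Type*} [MulAction (Equiv.Perm GolayPt) β] {X : Set β} {n : ℕ}
    {i₀ : Fin n} {sz : Fin n → ℕ} {x : β} (h : HasSuborbits X i₀ sz x) (hsum : X.ncard = ∑ i, sz i)
    (hne : 1 < ∑ i, sz i) (hP : PrimSizes i₀ sz) : IsCoatom (MulAction.stabilizer Cfsg.M24 x) := by
  obtain ⟨r, h0, h1, h2, h3⟩ := h
  exact isCoatom_stabilizer x r sz i₀ h0 h1 (h3.trans h2) (by rw [h3, hsum]) hne hP

theorem smul_fam (g : Equiv.Perm GolayPt) (S : Finset (Finset GolayPt)) :
    g • S = S.image fun t => g • t := rfl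

theorem smul_mem_sextets {g : Equiv.Perm GolayPt} (hg : g ∈ Cfsg.M24) {S : Finset (Finset GolayPt)}
    (hS : S ∈ sextets) : g • S ∈ sextets := by
  obtain ⟨h1, h2, h3⟩ := hS
  refine ⟨by rw [Finset.card_smul_finset, h1], fun t ht => ?_, fun t ht u hu hne => ?_⟩
  · obtain ⟨t', ht', rfl⟩ := Finset.mem_smul_finset.1 ht
    rw [Finset.card_smul_finset, h2 t' ht']
  · obtain ⟨t', ht', rfl⟩ := Finset.mem_smul_finset.1 ht
    obtain ⟨u', hu', rfl⟩ := Finset.mem_smul_finset.1 hu
    rw [← Finset.smul_finset_union]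
    exact smul_mem_octads hg (h3 t' ht' u' hu' fun e => hne (by rw [e]))

theorem smul_mem_trios {g : Equiv.Perm GolayPt} (hg : g ∈ Cfsg.M24) {T : Finset (Finset GolayPt)}
    (hT : T ∈ trios) : g • T ∈ trios := by
  obtain ⟨h1, h2, h3⟩ := hT
  refine ⟨by rw [Finset.card_smul_finset, h1], fun t ht => ?_, fun t ht u hu hne => ?_⟩
  · obtain ⟨t', ht', rfl⟩ := Finset.mem_smul_finset.1 ht
    exact smul_mem_octads hg (h2 t' ht')
  · obtain ⟨t', ht', rfl⟩ := Finset.mem_smul_finset.1 ht
    obtain ⟨u', hu', rfl⟩ := Finset.mem_smul_finset.1 hu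
    exact (SetOrbit.disjoint_smul_iff g).2 (h3 t' ht' u' hu' fun e => hne (by rw [e]))

theorem mem_famSet {L : List ℕ} {t : Finset GolayPt} : t ∈ famSet L ↔ ∃ m ∈ L, maskSet m = t := by
  simp [famSet]

theorem sextetRep_mem : sextetRep 0 ∈ sextets := by
  have h2 : (sextetRoot 0).all (fun m => pc m == 4) = true := by decide +kernel
  have h3 : (sextetRoot 0).all (fun m => (sextetRoot 0).all fun m' =>
      m == m' || (isCode (m ||| m') && pc (m ||| m') == 8)) = true := by decide +kernel
  simp only [List.all_eq_true, beq_iff_eq, Bool.or_eq_true, Bool.and_eq_true] at h2 h3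
  refine ⟨by decide +kernel, fun t ht => ?_, fun t ht u hu hne => ?_⟩
  · obtain ⟨m, hm, rfl⟩ := mem_famSet.1 ht
    rw [card_maskSet, h2 m hm]
  · obtain ⟨m, hm, rfl⟩ := mem_famSet.1 ht
    obtain ⟨m', hm', rfl⟩ := mem_famSet.1 hu
    rcases h3 m hm m' hm' with h | h
    · exact absurd (by rw [h]) hne
    · rw [mem_octads_iff, card_eq_pc, mask_union, mask_maskSet ((sextet_root_ok 0).2 m hm),
        mask_maskSet ((sextet_root_ok 0).2 m' hm')]
      exact h

theorem trioRep_mem : trioRep 0 ∈ trios := by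
  have h2 : (trioRoot 0).all (fun m => isCode m && pc m == 8) = true := by decide +kernel
  have h3 : (trioRoot 0).all (fun m => (trioRoot 0).all fun m' =>
      m == m' || m &&& m' == 0) = true := by decide +kernel
  simp only [List.all_eq_true, beq_iff_eq, Bool.or_eq_true, Bool.and_eq_true] at h2 h3
  refine ⟨by decide +kernel, fun t ht => ?_, fun t ht u hu hne => ?_⟩
  · obtain ⟨m, hm, rfl⟩ := mem_famSet.1 ht
    rw [mem_octads_iff, card_maskSet, mask_maskSet ((trio_root_ok 0).2 m hm)]
    exact h2 m hm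
  · obtain ⟨m, hm, rfl⟩ := mem_famSet.1 ht
    obtain ⟨m', hm', rfl⟩ := mem_famSet.1 hu
    rcases h3 m hm m' hm' with h | h
    · exact absurd (by rw [h]) hne
    · rw [SetOrbit.disjoint_iff_and, mask_maskSet ((trio_root_ok 0).2 m hm),
        mask_maskSet ((trio_root_ok 0).2 m' hm')]
      exact h

theorem overlap_fix {g : Equiv.Perm GolayPt} {S x : Finset (Finset GolayPt)} (h : g • S = S) :
    overlap S (g • x) = overlap S x := by
  conv_lhs => rw [← h]
  exact overlap_smul g S x

theorem inter_fix {g : Equiv.Perm GolayPt} {s x : Finset GolayPt} (h : g • s = s) :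
    ((g • x) ∩ s).card = (x ∩ s).card := by
  conv_lhs => rw [← h]
  exact inter_smul_card g x s

theorem sextet_suborbits {S : Finset (Finset GolayPt)} (hS : S ∈ sextets) :
    HasSuborbits sextets 0 sextetSize S :=
  hasSuborbits_of (suborbits_M24 actFam encFam sextetProj encFam_injective
    (fun tab g h x => actFam_enc tab g h x) sextets (fun g hg x hx => smul_mem_sextets hg hx)
    sextetRep 0 sextetRep_mem sextetRoot sextet_enc (overlap (sextetRep 0))
    (fun g _ h x _ => overlap_fix h) sextet_phi sextetGens sextet_gens_ok sextetCert sextetSize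
    sextet_cert_ok sextetMv sextet_mv_ok
    (by rw [Cfsg.Agent.Golay.Sextet.sextets_ncard]; rfl)) hS

theorem trio_suborbits {T : Finset (Finset GolayPt)} (hT : T ∈ trios) :
    HasSuborbits trios 0 trioSize T :=
  hasSuborbits_of (suborbits_M24 actFam encFam trioProj encFam_injective
    (fun tab g h x => actFam_enc tab g h x) trios (fun g hg x hx => smul_mem_trios hg hx)
    trioRep 0 trioRep_mem trioRoot trio_enc (overlap (trioRep 0))
    (fun g _ h x _ => overlap_fix h) trio_phi trioGens trio_gens_ok trioCert trioSize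
    trio_cert_ok trioMv trio_mv_ok
    (by rw [Cfsg.Agent.Golay.Sextet.trios_ncard]; rfl)) hT

theorem isCoatom_sextet {S : Finset (Finset GolayPt)} (hS : S ∈ sextets) :
    IsCoatom (MulAction.stabilizer Cfsg.M24 S) :=
  (sextet_suborbits hS).isCoatom (by rw [Cfsg.Agent.Golay.Sextet.sextets_ncard]; rfl)
    (by decide +kernel) (by decide +kernel)

theorem isCoatom_trio {T : Finset (Finset GolayPt)} (hT : T ∈ trios) :
    IsCoatom (MulAction.stabilizer Cfsg.M24 T) :=
  (trio_suborbits hT).isCoatom (by rw [Cfsg.Agent.Golay.Sextet.trios_ncard]; rfl)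
    (by decide +kernel) (by decide +kernel)

/-- The duums. -/
def duums : Set (Finset (Finset GolayPt)) := (fun d => ({d, dᶜ} : Finset _)) '' dodecads

theorem compl_mem_dodecads {d : Finset GolayPt} (h : d ∈ dodecads) : dᶜ ∈ dodecads := by
  rw [mem_dodecads_iff] at h ⊢
  exact ⟨by rw [mask_compl]; exact isCode_xor h.1 (by decide +kernel),
    by rw [Finset.card_compl, h.2, Sextet.card_pts]⟩

theorem duums_ncard : duums.ncard = 1288 := by
  classical
  have hfin : dodecads.Finite := Set.toFinite _
  have h := Finset.card_eq_sum_card_image (fun d => ({d, dᶜ} : Finset _)) hfin.toFinset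
  rw [Finset.sum_const_nat (m := 2) (fun D hD => ?_), ← Set.ncard_eq_toFinset_card _ hfin,
    dodecads_ncard] at h
  · rw [duums, ← hfin.coe_toFinset, ← Finset.coe_image, Set.ncard_coe_finset]
    omega
  · obtain ⟨d, hd, rfl⟩ := Finset.mem_image.1 hD
    rw [hfin.mem_toFinset] at hd
    have : (hfin.toFinset.filter fun e => ({e, eᶜ} : Finset (Finset GolayPt)) = {d, dᶜ}) = {d, dᶜ} := by
      ext e
      simp only [Finset.mem_filter, hfin.mem_toFinset, Finset.mem_insert, Finset.mem_singleton]
      constructor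
      · rintro ⟨-, he⟩
        have : e ∈ ({d, dᶜ} : Finset (Finset GolayPt)) := he ▸ Finset.mem_insert_self _ _
        simpa using this
      · rintro (rfl | rfl)
        · exact ⟨hd, rfl⟩
        · exact ⟨compl_mem_dodecads hd, by rw [compl_compl, Finset.pair_comm]⟩
    rw [this, Finset.card_pair]
    intro e
    have h1 := congrArg (fun s => none ∈ s) e
    simp only [Finset.mem_compl, eq_iff_iff] at h1
    exact iff_not_self h1

theorem isCoatom_duum {d : Finset GolayPt} (hd : d ∈ dodecads) :
    IsCoatom (MulAction.stabilizer Cfsg.M24 ({d, dᶜ} : Finset (Finset GolayPt))) := by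
  have hinv : ∀ g ∈ Cfsg.M24, ∀ x ∈ duums, g • x ∈ duums := by
    rintro g hg _ ⟨e, he, rfl⟩
    refine ⟨g • e, smul_mem_dodecads hg he, ?_⟩
    show ({g • e, (g • e)ᶜ} : Finset (Finset GolayPt)) = g • ({e, eᶜ} : Finset (Finset GolayPt))
    rw [smul_fam, Finset.image_insert, Finset.image_singleton]
    congr 2
    rw [smul_finset_def, smul_finset_def]
    ext x
    obtain ⟨y, rfl⟩ := g.surjective x
    simp
  have h0 : duumRep 0 ∈ duums := by
    refine ⟨maskSet baseDodecad, baseDodecad_mem, ?_⟩
    decide +kernel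
  exact (hasSuborbits_of (suborbits_M24 actFam encFam duumProj encFam_injective
    (fun tab g h x => actFam_enc tab g h x) duums hinv
    duumRep 0 h0 duumRoot duum_enc (overlap (duumRep 0))
    (fun g _ h x _ => overlap_fix h) duum_phi duumGens duum_gens_ok duumCert duumSize
    duum_cert_ok duumMv duum_mv_ok (by rw [duums_ncard]; rfl)) ⟨d, hd, rfl⟩).isCoatom
    (by rw [duums_ncard]; rfl) (by decide +kernel) (by decide +kernel)

theorem isCoatom_octad {o : Finset GolayPt} (ho : o ∈ octads) :
    IsCoatom (MulAction.stabilizer Cfsg.M24 o) :=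
  (hasSuborbits_of (suborbits_M24 imgTab mask octadProj mask_injective
    (fun tab g h x => imgTab_mask h x) octads (fun g hg x hx => smul_mem_octads hg hx)
    octadRep 0 (mem_octads_iff.2 (by decide +kernel)) octadRoot octad_enc
    (fun x => (x ∩ octadRep 0).card) (fun g _ h x _ => inter_fix h) (by decide +kernel)
    octadGens octad_gens_ok octadCert octadSize
    octad_cert_ok octadMv octad_mv_ok (by rw [octads_ncard]; rfl)) ho).isCoatom
    (by rw [octads_ncard]; rfl) (by decide +kernel) (by decide +kernel)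

theorem ncard_card_eq (k : ℕ) : {s : Finset GolayPt | s.card = k}.ncard = Nat.choose 24 k := by
  rw [show {s : Finset GolayPt | s.card = k} = ↑((Finset.univ : Finset GolayPt).powersetCard k) by
      ext; simp,
    Set.ncard_coe_finset, Finset.card_powersetCard, Finset.card_univ, Sextet.card_pts]

theorem isCoatom_pair {s : Finset GolayPt} (hs : s.card = 2) :
    IsCoatom (MulAction.stabilizer Cfsg.M24 s) :=
  (hasSuborbits_of (suborbits_M24 imgTab mask pairProj mask_injective
    (fun tab g h x => imgTab_mask h x) {s : Finset GolayPt | s.card = 2}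
    (fun g _ x hx => (Finset.card_smul_finset g x).trans hx)
    pairRep 0 (show (pairRep 0).card = 2 by decide +kernel) pairRoot pair_enc
    (fun x => (x ∩ pairRep 0).card) (fun g _ h x _ => inter_fix h) (by decide +kernel)
    pairGens pair_gens_ok pairCert pairSize
    pair_cert_ok pairMv pair_mv_ok (by rw [ncard_card_eq]; decide +kernel)) hs).isCoatom
    (by rw [ncard_card_eq]; decide +kernel) (by decide +kernel) (by decide +kernel)

theorem isCoatom_triple {s : Finset GolayPt} (hs : s.card = 3) :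
    IsCoatom (MulAction.stabilizer Cfsg.M24 s) := by
  classical
  let φ : Finset GolayPt → ℕ := fun x => 2 * (x ∩ maskSet 7).card +
    if ∃ o ∈ blocks octads, x ∪ maskSet 7 ⊆ o then 1 else 0
  have hrep : tripleRep 0 = maskSet 7 := by decide +kernel
  have hflag : ∀ x : Finset GolayPt, (∃ o ∈ blocks octads, x ∪ maskSet 7 ⊆ o) ↔
      SetOrbit.inAny SetOrbit.octThrough3 (mask x ||| 7) = true := by
    intro x
    simp only [Steiner.mem_blocks]
    rw [SetOrbit.exists_octad_iff SetOrbit.octThrough3_eq (by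
      rw [mask_union, mask_maskSet (by norm_num), Nat.and_or_distrib_left]
      apply Nat.eq_of_testBit_eq
      intro i
      simp only [Nat.testBit_or, Nat.testBit_and]
      cases (7 : ℕ).testBit i <;> simp), mask_union, mask_maskSet (by norm_num)]
  have hphi : ∀ i, φ (tripleRep i) = ![7, 5, 3, 0, 1] i := by
    intro i
    simp only [φ, hflag]
    revert i
    decide +kernel
  exact (hasSuborbits_of (suborbits_M24 imgTab mask tripleProj mask_injective
    (fun tab g h x => imgTab_mask h x) {s : Finset GolayPt | s.card = 3}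
    (fun g _ x hx => (Finset.card_smul_finset g x).trans hx)
    tripleRep 0 (show (tripleRep 0).card = 3 by decide +kernel) tripleRoot triple_enc φ
    (fun g hg h x _ => by
      rw [hrep] at h
      have e : (∃ o ∈ blocks octads, g • x ∪ maskSet 7 ⊆ o) ↔
          ∃ o ∈ blocks octads, x ∪ maskSet 7 ⊆ o := by
        simp only [Steiner.mem_blocks]
        conv_lhs => rw [← h, ← Finset.smul_finset_union]
        exact (SetOrbit.exists_octad_smul hg _).symm
      simp only [φ, inter_fix h, e])
    (fun i j h => by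
      simp only [hphi] at h
      exact (show Function.Injective (![7, 5, 3, 0, 1] : Fin 5 → ℕ) by decide +kernel) h)
    tripleGens triple_gens_ok tripleCert tripleSize
    triple_cert_ok tripleMv triple_mv_ok (by rw [ncard_card_eq]; decide +kernel)) hs).isCoatom
    (by rw [ncard_card_eq]; decide +kernel) (by decide +kernel) (by decide +kernel)

end Cfsg.Agent.Golay.Suborbits
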