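import Cfsg.Agent.Lib.Golay.M11Sub

/-!
Moving a dodecad, an inner point and outer points to standard position.
-/

set_option autoImplicit false
set_option maxRecDepth 20000

namespace Cfsg.Agent.Golay.M11Sub

open Cfsg Cfsg.Agent.Golay.Basic Cfsg.Agent.Golay.M24 Cfsg.Agent.Golay.Cert Cfsg.Agent.Golay.Perm
  Cfsg.Agent.Golay.Small Cfsg.Agent.Golay.SmallData Cfsg.Agent.Golay.Trans
open scoped Pointwise

theorem mem_compl_of {a : Equiv.Perm GolayPt} {d : Finset GolayPt} (had : a • d = d0) {x : GolayPt}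
    (hx : x ∉ d) : a x ∈ d0ᶜ := by
  rw [Finset.mem_compl, ← had, mem_smul_iff]; exact hx

theorem exists_norm {d : Finset GolayPt} (hd : d ∈ dodecads) {p q : GolayPt} (hp : p ∈ d)
    (hq : q ∉ d) : ∃ a ∈ Cfsg.M24, a • d = d0 ∧ a p = pt 0 ∧ a q = pt 7 := by
  obtain ⟨a, ha, had, hap⟩ := exists_conj_dodecad_point hd hp
  obtain ⟨T, ws, rest, e, hT⟩ : ∃ T ws rest, m11Outer = (7, T, ws) :: rest ∧ maskSet T = d0ᶜ :=
    ⟨_, _, _, rfl, by decide +kernel⟩
  have hok := m11Outer_ok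
  rw [e] at hok
  obtain ⟨g, hg, -, hgb⟩ := chain_trans m11Tabs_ok (by simp) hok (t := a q)
    (by rw [hT]; exact mem_compl_of had hq)
  have hg' : g ∈ M11K := m11_eq ▸ hg
  refine ⟨g⁻¹ * a, Cfsg.M24.mul_mem (Cfsg.M24.inv_mem hg'.1.1) ha, ?_, ?_, ?_⟩
  · rw [mul_smul, had, inv_smul_eq_iff, (mem_M12K.1 hg'.1).2]
  · rw [Equiv.Perm.mul_apply, hap, Equiv.Perm.inv_eq_iff_eq, fix_pt0 hg']
  · rw [Equiv.Perm.mul_apply, Equiv.Perm.inv_eq_iff_eq, hgb]

theorem exists_norm_pair {d : Finset GolayPt} (hd : d ∈ dodecads) {p q q' : GolayPt} (hp : p ∈ d)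
    (hq : q ∉ d) (hq' : q' ∉ d) (hne : q ≠ q') :
    ∃ a ∈ Cfsg.M24, a • d = d0 ∧ a p = pt 0 ∧ a • ({q, q'} : Finset GolayPt) = {pt 7, pt 11} := by
  obtain ⟨a, ha, had, hap, haq⟩ := exists_norm hd hp hq
  obtain ⟨T₁, ws₁, T, ws, rest, e, hT⟩ : ∃ T₁ ws₁ T ws rest,
      m11Outer = (7, T₁, ws₁) :: (11, T, ws) :: rest ∧
        maskSet T = d0ᶜ \ {pt 7} := ⟨_, _, _, _, _, rfl, by decide +kernel⟩
  have hok := m11Outer_ok
  rw [e, chainOK] at hok
  simp only [Bool.and_eq_true] at hok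
  obtain ⟨g, hg, hfix, hgb⟩ := chain_trans m11Tabs_ok (pre := [7]) (by simp) hok.2 (t := a q') (by
    rw [hT, Finset.mem_sdiff, Finset.mem_singleton]
    exact ⟨mem_compl_of had hq', fun h => hne (a.injective (haq.trans h.symm))⟩)
  have hg' : g ∈ M11K := m11_eq ▸ hg
  refine ⟨g⁻¹ * a, Cfsg.M24.mul_mem (Cfsg.M24.inv_mem hg'.1.1) ha, ?_, ?_, ?_⟩
  · rw [mul_smul, had, inv_smul_eq_iff, (mem_M12K.1 hg'.1).2]
  · rw [Equiv.Perm.mul_apply, hap, Equiv.Perm.inv_eq_iff_eq, fix_pt0 hg']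
  · rw [mul_smul, inv_smul_eq_iff, smul_finset_def, smul_finset_def, Finset.image_insert,
      Finset.image_singleton, Finset.image_insert, Finset.image_singleton, haq, hfix 7 (by simp), hgb]

theorem OutK_le : OutK ≤ Cfsg.M24 := fun _ h => M11K_le h.1

theorem PairK_le : PairK ≤ Cfsg.M24 := fun _ h => M11K_le h.1

theorem mem_OutK_conj {a : Equiv.Perm GolayPt} (ha : a ∈ Cfsg.M24) {d : Finset GolayPt} {p q : GolayPt}
    (had : a • d = d0) (hap : a p = pt 0) (haq : a q = pt 7) (g : Cfsg.M24) :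
    g ∈ MulAction.stabilizer Cfsg.M24 d ⊓ MulAction.stabilizer Cfsg.M24 p ⊓
      MulAction.stabilizer Cfsg.M24 q ↔ a * (g : Equiv.Perm GolayPt) * a⁻¹ ∈ OutK := by
  rw [Subgroup.mem_inf, mem_M11K_conj ha had hap, OutK, mem_fixers]
  refine and_congr_right fun _ => ?_
  simp only [List.mem_singleton, forall_eq, ← haq, Equiv.Perm.mul_apply,
    show ∀ z, a⁻¹ (a z) = z from a.symm_apply_apply, a.injective.eq_iff]
  rfl

theorem mem_PairK_conj {a : Equiv.Perm GolayPt} (ha : a ∈ Cfsg.M24) {d : Finset GolayPt}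
    {p q q' : GolayPt} (had : a • d = d0) (hap : a p = pt 0)
    (haq : a • ({q, q'} : Finset GolayPt) = {pt 7, pt 11}) (g : Cfsg.M24) :
    g ∈ MulAction.stabilizer Cfsg.M24 d ⊓ MulAction.stabilizer Cfsg.M24 p ⊓
      MulAction.stabilizer Cfsg.M24 ({q, q'} : Finset GolayPt) ↔
        a * (g : Equiv.Perm GolayPt) * a⁻¹ ∈ PairK := by
  rw [Subgroup.mem_inf, mem_M11K_conj ha had hap, PairK, Subgroup.mem_inf]
  refine and_congr_right fun _ => ?_
  show g • ({q, q'} : Finset GolayPt) = {q, q'} ↔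
    (a * (g : Equiv.Perm GolayPt) * a⁻¹) • ({pt 7, pt 11} : Finset GolayPt) = {pt 7, pt 11}
  rw [← haq, mul_smul, mul_smul, inv_smul_smul, smul_left_cancel_iff]
  rfl

theorem centralizer_equiv {G : Type*} [Group G] (e : G ≃* M11K) {x : G} (hx : orderOf x = 2) :
    Nonempty (↥(Subgroup.centralizer ({x} : Set G)) ≃* GL (Fin 2) (ZMod 3)) := by
  obtain ⟨k, hk⟩ := isConj_iff.1 (involution_conj (e x) (by rw [MulEquiv.orderOf_eq, hx]))
  let f : G ≃* M11K := e.trans (MulAut.conj k)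
  have hf : f x = x0 := hk
  have hmem : ∀ g : G, g ∈ Subgroup.centralizer ({x} : Set G) ↔
      ((f g : M11K) : Equiv.Perm GolayPt) ∈ CentK := by
    intro g
    rw [Subgroup.mem_centralizer_singleton_iff, CentK, Subgroup.mem_inf,
      Subgroup.mem_centralizer_singleton_iff, ← f.injective.eq_iff, map_mul, map_mul, hf,
      Subtype.ext_iff]
    exact (and_iff_right (f g).2).symm
  refine ⟨MulEquiv.trans ?_ CentK_equiv.some⟩
  exact
    { toFun := fun g => ⟨((f g.1 : M11K) : Equiv.Perm GolayPt), (hmem g.1).1 g.2⟩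
      invFun := fun h => ⟨f.symm ⟨h.1, h.2.1⟩, (hmem _).2 (by rw [MulEquiv.apply_symm_apply]; exact h.2)⟩
      left_inv := fun g => Subtype.ext (f.symm_apply_apply _)
      right_inv := fun h => Subtype.ext (by
        show ((f (f.symm ⟨h.1, h.2.1⟩) : M11K) : Equiv.Perm GolayPt) = h.1
        rw [MulEquiv.apply_symm_apply])
      map_mul' := fun g h => Subtype.ext (by
        show ((f (g.1 * h.1) : M11K) : Equiv.Perm GolayPt) =
          ((f g.1 : M11K) : Equiv.Perm GolayPt) * ((f h.1 : M11K) : Equiv.Perm GolayPt)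
        rw [map_mul]; rfl) }

end Cfsg.Agent.Golay.M11Sub
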