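import Cfsg.Agent.Lib.Golay.AutBig
import Cfsg.Agent.Lib.Golay.M11SubUse

/-!
The outer automorphism group of the Mathieu group on 12 points has order two: the subgroups of
index 12 are the stabilisers of the 24 points, and a permutation normalising the group and the
dodecad lies in the group.
-/

set_option autoImplicit false
set_option maxRecDepth 20000

namespace Cfsg.Agent.Golay.AutM12

open Cfsg Cfsg.Agent.Golay.Basic Cfsg.Agent.Golay.Design Cfsg.Agent.Golay.M24Data
  Cfsg.Agent.Golay.Perm Cfsg.Agent.Golay.M24 Cfsg.Agent.Golay.Trans Cfsg.Agent.Golay.Cert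
  Cfsg.Agent.Golay.Small Cfsg.Agent.Golay.M11SubData Cfsg.Agent.Golay.AutBig
open scoped Pointwise

local notation "pG" => Equiv.Perm GolayPt

theorem apply_mem_iff {g : pG} (hg : g ∈ M12K) (p : GolayPt) : g p ∈ d0 ↔ p ∈ d0 := by
  refine ⟨fun h => ?_, M12K_maps hg⟩
  by_contra hp
  exact M12K_maps_compl hg hp h

theorem compl_mem_dodecads : d0ᶜ ∈ dodecads := by
  refine mem_dodecads_iff.2 ?_
  decide +kernel

theorem exists_swap : ∃ w : pG, w ∈ Cfsg.M24 ∧ ∀ p, w p ∈ d0 ↔ p ∉ d0 := by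
  obtain ⟨w, hw, he⟩ := dodecads_transitive compl_mem_dodecads baseDodecad_mem
  refine ⟨w, hw, fun p => ?_⟩
  rw [← Finset.mem_compl]
  conv_lhs => rw [show d0 = w • d0ᶜ from he.symm]
  exact mem_smul_iff w d0ᶜ p

theorem conj_mem {w : pG} (hw : w ∈ Cfsg.M24) (hs : ∀ p, w p ∈ d0 ↔ p ∉ d0) {g : pG} (hg : g ∈ M12K) :
    w * g * w⁻¹ ∈ M12K ∧ w⁻¹ * g * w ∈ M12K := by
  have hgM := (mem_M12K.1 hg).1
  have hinv : ∀ p, w⁻¹ p ∈ d0 ↔ p ∉ d0 := fun p => by
    have h := hs (w⁻¹ p)
    rw [Equiv.Perm.coe_inv, Equiv.apply_symm_apply] at h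
    rw [Equiv.Perm.coe_inv, ← not_iff_comm.1 h.symm]
  have key : ∀ h : pG, (∀ p, h p ∈ d0 ↔ p ∈ d0) → h • d0 = d0 := fun h hh => by
    refine Finset.eq_of_subset_of_card_le ?_ (by rw [Finset.card_smul_finset])
    intro z hz
    obtain ⟨y, hy, rfl⟩ := Finset.mem_smul_finset.1 hz
    exact (hh y).2 hy
  refine ⟨mem_M12K.2 ⟨Cfsg.M24.mul_mem (Cfsg.M24.mul_mem hw hgM) (Cfsg.M24.inv_mem hw),
    key _ fun p => ?_⟩, mem_M12K.2 ⟨Cfsg.M24.mul_mem (Cfsg.M24.mul_mem (Cfsg.M24.inv_mem hw) hgM) hw,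
    key _ fun p => ?_⟩⟩
  · rw [Equiv.Perm.mul_apply, Equiv.Perm.mul_apply, hs, apply_mem_iff hg, hinv, not_not]
  · rw [Equiv.Perm.mul_apply, Equiv.Perm.mul_apply, hinv, apply_mem_iff hg, hs, not_not]

theorem exists_inner {x y : List GolayPt} (hx : x.Nodup) (hy : y.Nodup)
    (hl : x.length = y.length) (h5 : x.length ≤ 5) (hxd : ∀ t ∈ x, t ∈ d0) (hyd : ∀ t ∈ y, t ∈ d0) :
    ∃ g ∈ M12K, ∀ (i : ℕ) (h : i < x.length), g x[i] = y[i]'(hl ▸ h) := by
  obtain ⟨g₁, hg₁, e₁⟩ := M12K_exists_tuple x h5 hx hxd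
  obtain ⟨g₂, hg₂, e₂⟩ := M12K_exists_tuple y (hl ▸ h5) hy hyd
  refine ⟨g₂ * g₁⁻¹, M12K.mul_mem hg₂ (M12K.inv_mem hg₁), fun i h => ?_⟩
  have h1 : g₁ (pt i) = x[i] := by
    have := List.getElem_of_eq e₁.symm h
    simp only [List.getElem_map, List.getElem_take] at this
    rw [this]
    congr 2
    rcases (show i = 0 ∨ i = 1 ∨ i = 2 ∨ i = 3 ∨ i = 4 by omega) with rfl | rfl | rfl | rfl | rfl <;> rfl
  have h2 : g₂ (pt i) = y[i]'(hl ▸ h) := by
    have := List.getElem_of_eq e₂.symm (hl ▸ h : i < y.length)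
    simp only [List.getElem_map, List.getElem_take] at this
    rw [this]
    congr 2
    rcases (show i = 0 ∨ i = 1 ∨ i = 2 ∨ i = 3 ∨ i = 4 by omega) with rfl | rfl | rfl | rfl | rfl <;> rfl
  rw [Equiv.Perm.mul_apply, ← h1, Equiv.Perm.coe_inv, Equiv.symm_apply_apply, h2]

theorem exists_cross {a c : GolayPt} (ha : a ∈ d0) (hc : c ∉ d0) :
    ∃ k ∈ M12K, k a = pt 0 ∧ k c = pt 7 := by
  obtain ⟨k, hk, hkd, h1, h2⟩ := M11Sub.exists_norm baseDodecad_mem ha hc
  exact ⟨k, mem_M12K.2 ⟨hk, hkd⟩, h1, h2⟩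

theorem pt7_not : pt 7 ∉ d0 := by decide +kernel
theorem card_d0 : d0.card = 12 := by decide +kernel
theorem card_d0c : (d0ᶜ).card = 12 := by decide +kernel

theorem card_one (a : GolayPt) : Nat.card (fixers M12K [a]) = 7920 := by
  by_cases ha : a ∈ d0
  · have h := card_fixers_step M12K [] a d0 (fun g hg => M12K_maps hg.1 ha) (fun t ht => by
      obtain ⟨g, hg, e⟩ := exists_inner (x := [a]) (y := [t]) (by simp) (by simp) rfl (by simp)
        (by simpa using ha) (by simpa using ht)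
      exact ⟨g, ⟨hg, by simp⟩, e 0 (by simp)⟩)
    rw [fixers_nil, card_M12K, card_d0] at h
    omega
  · have h := card_fixers_step M12K [] a d0ᶜ
      (fun g hg => Finset.mem_compl.2 (M12K_maps_compl hg.1 ha)) (fun t ht => by
      obtain ⟨k, hk, -, hka⟩ := exists_cross pt0_mem_d0 ha
      obtain ⟨l, hl, -, hlt⟩ := exists_cross pt0_mem_d0 (Finset.mem_compl.1 ht)
      refine ⟨l⁻¹ * k, ⟨M12K.mul_mem (M12K.inv_mem hl) hk, by simp⟩, ?_⟩
      rw [Equiv.Perm.mul_apply, hka, ← hlt, Equiv.Perm.coe_inv, Equiv.symm_apply_apply])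
    rw [fixers_nil, card_M12K, card_d0c] at h
    omega

theorem card_cross {a c : GolayPt} (ha : a ∈ d0) (hc : c ∉ d0) :
    Nat.card (fixers M12K [c, a]) = 660 := by
  have h := card_fixers_step M12K [a] c d0ᶜ
    (fun g hg => Finset.mem_compl.2 (M12K_maps_compl hg.1 hc)) (fun t ht => by
    obtain ⟨k, hk, hka, hkc⟩ := exists_cross ha hc
    obtain ⟨l, hl, hla, hlt⟩ := exists_cross ha (Finset.mem_compl.1 ht)
    refine ⟨l⁻¹ * k, ⟨M12K.mul_mem (M12K.inv_mem hl) hk, fun x hx => ?_⟩, ?_⟩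
    · obtain rfl := List.mem_singleton.1 hx
      rw [Equiv.Perm.mul_apply, hka, ← hla, Equiv.Perm.coe_inv, Equiv.symm_apply_apply]
    · rw [Equiv.Perm.mul_apply, hkc, ← hlt, Equiv.Perm.coe_inv, Equiv.symm_apply_apply])
  rw [card_one, card_d0c] at h
  omega

/-! ### Subgroups of index twelve -/

/-- Two elements fixing two inner points and an outer one, with no further common outer fixed
point. -/
def crossTabs : List ℕ := [527766890763955535865790786317894688, 519989864302537959783048022530180128]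

theorem crossTabs_ok : (crossTabs.all fun t =>
      M11Sub.in11 t && tabAt t 7 == 7 && tabAt t 1 == 1) = true ∧
    ((List.range 24).all fun q => baseDodecad.testBit q || q == 7 ||
      crossTabs.any fun t => !(tabAt t q == q)) = true := by decide +kernel

theorem invTab_fix : tabAt invTab 7 = 7 := by decide +kernel

theorem no_double (H : Subgroup pG) (hH : H ≤ M12K) (hc : Nat.card H = 7920)
    (hin : ∀ t ∈ d0, ∃ h ∈ H, h (pt 0) = t) (hout : ∀ t, t ∉ d0 → ∃ h ∈ H, h (pt 7) = t) : False := by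
  classical
  have horbit : ∀ (p : GolayPt) (T : Finset GolayPt), T.card = 12 → (∀ g ∈ H, g p ∈ T) →
      (∀ t ∈ T, ∃ h ∈ H, h p = t) → Nat.card (fixers H [p]) = 660 := by
    intro p T hT h1 h2
    have h := card_fixers_step H [] p T (fun g hg => h1 g hg.1) (fun t ht => by
      obtain ⟨g, hg, e⟩ := h2 t ht
      exact ⟨g, ⟨hg, by simp⟩, e⟩)
    rw [fixers_nil, hc, hT] at h
    omega
  have h0 : Nat.card (fixers H [pt 0]) = 660 :=
    horbit _ d0 card_d0 (fun g hg => M12K_maps (hH hg) pt0_mem_d0) hin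
  have hout' : ∀ c, c ∉ d0 → Nat.card (fixers H [c]) = 660 := by
    intro c hcd
    refine horbit c d0ᶜ card_d0c (fun g hg => Finset.mem_compl.2 (M12K_maps_compl (hH hg) hcd)) ?_
    intro t ht
    obtain ⟨h₁, hh₁, e₁⟩ := hout c hcd
    obtain ⟨h₂, hh₂, e₂⟩ := hout t (Finset.mem_compl.1 ht)
    exact ⟨h₂ * h₁⁻¹, H.mul_mem hh₂ (H.inv_mem hh₁), by
      rw [Equiv.Perm.mul_apply, ← e₁, Equiv.Perm.coe_inv, Equiv.symm_apply_apply, e₂]⟩
  by_cases hfix : ∃ c, c ∉ d0 ∧ fixers H [pt 0] ≤ fixers H [c]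
  · obtain ⟨c, hcd, hle⟩ := hfix
    have heq : fixers H [pt 0] = fixers H [c] :=
      Subgroup.eq_of_le_of_card_ge hle (by rw [h0, hout' c hcd])
    have hsub : ∀ g ∈ fixers M12K [c, pt 0], g ∈ H := by
      have hle' : fixers H [pt 0] ≤ fixers M12K [c, pt 0] := fun g hg => by
        refine ⟨hH hg.1, fun y hy => ?_⟩
        rcases List.mem_cons.1 hy with rfl | hy
        · exact (hle hg).2 _ List.mem_cons_self
        · obtain rfl := List.mem_singleton.1 hy; exact hg.2 _ List.mem_cons_self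
      have := Subgroup.eq_of_le_of_card_ge hle' (by rw [h0, card_cross pt0_mem_d0 hcd])
      exact fun g hg => (this.symm ▸ hg : g ∈ fixers H [pt 0]).1
    obtain ⟨k, hk, hk0, hkc⟩ := exists_cross pt0_mem_d0 hcd
    set e : GolayPt := k⁻¹ (pt 1) with he
    have hed : e ∈ d0 := (apply_mem_iff (M12K.inv_mem hk) _).2 (by decide +kernel)
    obtain ⟨h, hh, hhe⟩ := hin e hed
    have hne : e ≠ pt 0 := by
      intro e0
      rw [he, Equiv.Perm.inv_eq_iff_eq, hk0] at e0
      exact absurd e0 (by decide +kernel)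
    have hmove : h c ≠ c := fun e0 => by
      have : h ∈ fixers H [c] := ⟨hh, by simpa using e0⟩
      rw [← heq] at this
      exact hne (hhe.symm.trans (this.2 _ List.mem_cons_self))
    have key : ∀ g ∈ fixers M12K [c, pt 0], g e = e → g (h c) = h c := by
      intro g hg hge
      have hg' : h⁻¹ * g * h ∈ fixers H [pt 0] :=
        ⟨H.mul_mem (H.mul_mem (H.inv_mem hh) (hsub g hg)) hh, fun y hy => by
          obtain rfl := List.mem_singleton.1 hy
          rw [Equiv.Perm.mul_apply, Equiv.Perm.mul_apply, hhe, hge, ← hhe, Equiv.Perm.coe_inv,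
            Equiv.symm_apply_apply]⟩
      have h' := (hle hg').2 c List.mem_cons_self
      rw [Equiv.Perm.mul_apply, Equiv.Perm.mul_apply, Equiv.Perm.inv_eq_iff_eq] at h'
      exact h'
    set q : GolayPt := k (h c) with hq
    have hqd : q ∉ d0 := fun h' =>
      hcd ((apply_mem_iff (hH hh) c).1 ((apply_mem_iff hk _).1 h'))
    have hq7 : q ≠ pt 7 := fun h' => hmove (k.injective (h'.trans hkc.symm))
    obtain ⟨hall, hno⟩ := crossTabs_ok
    have hscan := List.all_eq_true.1 hno (ix q) (List.mem_range.2 (ix_lt q))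
    simp only [Bool.or_eq_true, beq_iff_eq, List.any_eq_true, Bool.not_eq_eq_eq_not, Bool.not_true,
      beq_eq_false_iff_ne, ne_eq] at hscan
    rcases hscan with (hs | hs) | ⟨t, ht, hs⟩
    · exact hqd (mem_maskSet.2 hs)
    · exact hq7 (by rw [← hs, pt_ix])
    · have h3 := List.all_eq_true.1 hall t ht
      simp only [Bool.and_eq_true, beq_iff_eq] at h3
      obtain ⟨⟨h11, h7⟩, h1⟩ := h3
      have hm := M11Sub.tabPerm_mem_M11K h11
      have hT := isTab_tabPerm (show tabOK t = true by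
        simp only [M11Sub.in11, Bool.and_eq_true] at h11; exact h11.1.1)
      have f7 : tabPerm t (pt 7) = pt 7 := ix_injective (by rw [hT, ix_pt (by norm_num), h7])
      have f1 : tabPerm t (pt 1) = pt 1 := ix_injective (by rw [hT, ix_pt (by norm_num), h1])
      have hg : k⁻¹ * tabPerm t * k ∈ fixers M12K [c, pt 0] := by
        refine ⟨M12K.mul_mem (M12K.mul_mem (M12K.inv_mem hk) hm.1) hk, fun y hy => ?_⟩
        rw [Equiv.Perm.mul_apply, Equiv.Perm.mul_apply, Equiv.Perm.inv_eq_iff_eq]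
        rcases List.mem_cons.1 hy with rfl | hy
        · rw [hkc, f7]
        · obtain rfl := List.mem_singleton.1 hy; rw [hk0, M11Sub.fix_pt0 hm]
      have hge : (k⁻¹ * tabPerm t * k) e = e := by
        rw [he, Equiv.Perm.mul_apply, Equiv.Perm.mul_apply, Equiv.Perm.coe_inv,
          Equiv.apply_symm_apply, f1]
      have h4 := key _ hg hge
      rw [Equiv.Perm.mul_apply, Equiv.Perm.mul_apply, Equiv.Perm.inv_eq_iff_eq, ← hq] at h4
      apply hs
      rw [← hT q, h4]
  · push Not at hfix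
    haveI : Fact (Nat.Prime 11) := ⟨by norm_num⟩
    haveI : Fact (Nat.Prime 2) := ⟨by norm_num⟩
    obtain ⟨x, hx⟩ := exists_prime_orderOf_dvd_card' (G := fixers H [pt 0]) 11 (by rw [h0]; norm_num)
    obtain ⟨y, hy, hyx⟩ : ∃ y, y ∉ d0 ∧ (x : pG) y ≠ y := by
      by_contra hall
      push Not at hall
      have hlist : ([pt 7, pt 11, pt 12, pt 13, pt 14] : List GolayPt).Nodup ∧
          ∀ z ∈ ([pt 7, pt 11, pt 12, pt 13, pt 14] : List GolayPt), z ∉ d0 := by decide +kernel
      have hmem : (x : pG) ∈ fixers Cfsg.M24 [pt 7, pt 11, pt 12, pt 13, pt 14] :=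
        ⟨M12K_le (hH x.2.1), fun z hz => hall z (hlist.2 z hz)⟩
      have hd := Subgroup.orderOf_dvd_natCard _ hmem
      rw [card_fixers hlist.1 (by simp), Subgroup.orderOf_coe, hx] at hd
      norm_num at hd
    obtain ⟨S, hyS, hinv, horb⟩ := exists_orbit_set (H := fixers H [pt 0]) y
    have hSd : ∀ z ∈ S, z ∉ d0 := fun z hz => by
      obtain ⟨g, hg, rfl⟩ := horb z hz
      exact M12K_maps_compl (hH hg.1) hy
    have horbS : MulAction.orbit (fixers H [pt 0]) y = (S : Set GolayPt) := by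
      ext z
      constructor
      · rintro ⟨g, rfl⟩
        show (g : pG) y ∈ S
        rw [← hinv g g.2]
        exact (mem_smul_iff _ _ _).2 hyS
      · intro hz
        obtain ⟨g, hg, rfl⟩ := horb z hz
        exact ⟨⟨g, hg⟩, rfl⟩
    have h11 : 11 ≤ S.card := by
      have hper : Function.minimalPeriod (x • ·) y = 11 := by
        have hdvd : Function.minimalPeriod (x • ·) y ∣ 11 := hx ▸
          Function.IsPeriodicPt.minimalPeriod_dvd (by
            show (x • ·)^[orderOf x] y = y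
            rw [smul_iterate_apply, pow_orderOf_eq_one, one_smul])
        rcases (Nat.dvd_prime (by norm_num)).1 hdvd with h | h
        · exact absurd (Function.minimalPeriod_eq_one_iff_isFixedPt.1 h) hyx
        · exact h
      have hsub : MulAction.orbit (Subgroup.zpowers x) y ⊆ (S : Set GolayPt) := by
        rw [← horbS]
        rintro _ ⟨g, rfl⟩
        exact ⟨(g : fixers H [pt 0]), rfl⟩
      have h := Set.ncard_le_ncard hsub (Set.toFinite _)
      rw [Set.ncard_coe_finset, ← Nat.card_coe_set_eq] at h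
      haveI : Fintype (MulAction.orbit (Subgroup.zpowers x) y) := Fintype.ofFinite _
      rw [Nat.card_eq_fintype_card, ← MulAction.minimalPeriod_eq_card, hper] at h
      exact h
    have hS12 : S = d0ᶜ := by
      refine Finset.eq_of_subset_of_card_le (fun z hz => Finset.mem_compl.2 (hSd z hz)) ?_
      rw [card_d0c]
      by_contra hlt
      obtain ⟨c, hc1⟩ := Finset.card_eq_one.1 (show (d0ᶜ \ S).card = 1 by
        rw [Finset.card_sdiff_of_subset (fun z hz => Finset.mem_compl.2 (hSd z hz)), card_d0c]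
        omega)
      have hcm := Finset.mem_sdiff.1 (hc1 ▸ Finset.mem_singleton_self c)
      refine hfix c (Finset.mem_compl.1 hcm.1) fun g hg => ⟨hg.1, fun z hz => ?_⟩
      obtain rfl := List.mem_singleton.1 hz
      have hgz : g z ∈ d0ᶜ \ S := Finset.mem_sdiff.2
        ⟨Finset.mem_compl.2 (M12K_maps_compl (hH hg.1) (Finset.mem_compl.1 hcm.1)), fun h' => hcm.2
          (by rwa [← hinv g hg, mem_smul_iff] at h')⟩
      exact Finset.mem_singleton.1 (hc1 ▸ hgz)
    obtain ⟨g, hg⟩ := exists_prime_orderOf_dvd_card' (G := fixers H [pt 0]) 2 (by rw [h0]; norm_num)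
    let g' : M11K := ⟨g, hH g.2.1, g.2.2⟩
    have hg' : orderOf g' = 2 := by
      rw [← Subgroup.orderOf_coe, show (g' : pG) = (g : pG) from rfl, Subgroup.orderOf_coe, hg]
    obtain ⟨u, hu⟩ := isConj_iff.1 (M11Sub.involution_conj g' hg')
    have hT := isTab_tabPerm (show tabOK invTab = true by
      have := M11Sub.invTab_ok.1
      simp only [M11Sub.in11, Bool.and_eq_true] at this; exact this.1.1)
    have h07 : ((M11Sub.x0 : M11K) : pG) (pt 7) = pt 7 :=
      ix_injective (by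
        show ix (tabPerm invTab (pt 7)) = _
        rw [hT, ix_pt (by norm_num), invTab_fix])
    set z : GolayPt := (u : pG)⁻¹ (pt 7) with hz
    have hgz : (g : pG) z = z := by
      have h' : ((u * g' * u⁻¹ : M11K) : pG) (pt 7) = pt 7 := by rw [hu, h07]
      simp only [Subgroup.coe_mul, InvMemClass.coe_inv, Equiv.Perm.mul_apply] at h'
      rw [hz, Equiv.Perm.eq_inv_iff_eq]
      exact h'
    have hzd : z ∉ d0 := fun h' =>
      pt7_not ((apply_mem_iff (M12K.inv_mem u.2.1) _).1 h')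
    have hzS : z ∈ MulAction.orbit (fixers H [pt 0]) y := by
      rw [horbS, hS12]; exact Finset.mem_compl.2 hzd
    have hst := Subgroup.index_mul_card (MulAction.stabilizer (fixers H [pt 0]) z)
    rw [MulAction.index_stabilizer, MulAction.orbit_eq_iff.2 hzS, horbS, hS12, Set.ncard_coe_finset,
      card_d0c, h0] at hst
    have hd := Subgroup.orderOf_dvd_natCard (MulAction.stabilizer (fixers H [pt 0]) z)
      (show g ∈ MulAction.stabilizer _ z from hgz)
    rw [hg, show Nat.card (MulAction.stabilizer (fixers H [pt 0]) z) = 55 by omega] at hd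
    norm_num at hd

theorem inner_orbit (H : Subgroup pG) (hH : H ≤ M12K) (hc : Nat.card H = 7920) :
    (∃ e, H ≤ fixers M12K [e]) ∨ ∀ t ∈ d0, ∃ h ∈ H, h (pt 0) = t := by
  classical
  have hidx : H.relIndex M12K = 12 := by
    have := Subgroup.card_mul_index (H.subgroupOf M12K)
    rw [Nat.card_congr (Subgroup.subgroupOfEquivOfLe hH).toEquiv, hc, card_M12K] at this
    simp only [Subgroup.relIndex]; omega
  obtain ⟨S, hpS, hinv, horb⟩ := exists_orbit_set (H := H) (pt 0)
  have hSU : S ⊆ d0 := fun z hz => by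
    obtain ⟨g, hg, rfl⟩ := horb z hz
    exact M12K_maps (hH hg) pt0_mem_d0
  have ht : ∀ T T' : Finset GolayPt, T ⊆ d0 → T' ⊆ d0 → T.card = min S.card 5 →
      T'.card = min S.card 5 → ∃ g ∈ M12K, g • T = T' := by
    intro T T' hT hT' h1 h2
    obtain ⟨g, hg, he⟩ := exists_inner T.nodup_toList T'.nodup_toList (by simp [h1, h2])
      (by simp [h1]) (fun t ht => hT (Finset.mem_toList.1 ht))
      (fun t ht => hT' (Finset.mem_toList.1 ht))
    refine ⟨g, hg, Finset.eq_of_subset_of_card_le ?_ (by rw [Finset.card_smul_finset, h1, h2])⟩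
    intro z hz
    obtain ⟨w, hw, rfl⟩ := Finset.mem_smul_finset.1 hz
    obtain ⟨i, hi, rfl⟩ := List.getElem_of_mem (Finset.mem_toList.2 hw)
    rw [Equiv.Perm.smul_def, he i hi]
    exact Finset.mem_toList.1 (List.getElem_mem _)
  obtain ⟨b, hb, hdiv⟩ := invariant_set d0 (fun g hg => (mem_M12K.1 hg).2) (min S.card 5) ht hH S
    hSU hinv
  rw [hidx] at hb
  rw [card_d0] at hdiv
  have key : ∀ k ≤ 12, ∀ b ∈ Nat.divisors 12,
      (12 : ℕ).choose (min k 5) ∣ b * k.choose (min k 5) → k ≤ 1 ∨ 11 ≤ k := by decide +kernel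
  have hk12 : S.card ≤ 12 := card_d0 ▸ Finset.card_le_card hSU
  have hpos : 0 < S.card := Finset.card_pos.2 ⟨_, hpS⟩
  rcases key _ hk12 b (Nat.mem_divisors.2 ⟨hb, by norm_num⟩) hdiv with hk | hk
  · obtain ⟨x, rfl⟩ := Finset.card_eq_one.1 (le_antisymm hk hpos)
    obtain rfl := Finset.mem_singleton.1 hpS
    refine Or.inl ⟨pt 0, fun g hg => ⟨hH hg, fun y hy => ?_⟩⟩
    obtain rfl := List.mem_singleton.1 hy
    have := hinv g hg
    rw [Finset.smul_finset_singleton, Finset.singleton_inj] at this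
    exact this
  rcases Nat.eq_or_lt_of_le hk with hk | hk
  · obtain ⟨x, hx⟩ := Finset.card_eq_one.1 (show (d0 \ S).card = 1 by
      rw [Finset.card_sdiff_of_subset hSU, card_d0, ← hk])
    have hxm := Finset.mem_sdiff.1 (hx ▸ Finset.mem_singleton_self x)
    refine Or.inl ⟨x, fun g hg => ⟨hH hg, fun y hy => ?_⟩⟩
    obtain rfl := List.mem_singleton.1 hy
    have hgy : g y ∈ d0 \ S := Finset.mem_sdiff.2
      ⟨M12K_maps (hH hg) hxm.1, fun h => hxm.2 (by rwa [← hinv g hg, mem_smul_iff] at h)⟩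
    exact Finset.mem_singleton.1 (hx ▸ hgy)
  · exact Or.inr fun t ht' => horb t <| by
      rwa [Finset.eq_of_subset_of_card_le hSU (by rw [card_d0]; omega)]

theorem exists_fixed12 (H : Subgroup pG) (hH : H ≤ M12K) (hc : Nat.card H = 7920) :
    ∃ e, H ≤ fixers M12K [e] := by
  rcases inner_orbit H hH hc with he | hin
  · exact he
  obtain ⟨w, hw, hs⟩ := exists_swap
  have hH' : H.map (MulAut.conj w⁻¹).toMonoidHom ≤ M12K := by
    rintro _ ⟨g, hg, rfl⟩
    simpa [MulAut.conj_apply] using (conj_mem hw hs (hH hg)).2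
  rcases inner_orbit _ hH' (by rw [Subgroup.card_map_of_injective (MulAut.conj w⁻¹).injective, hc])
    with ⟨e, he⟩ | hin'
  · refine ⟨w e, fun g hg => ⟨hH hg, fun y hy => ?_⟩⟩
    obtain rfl := List.mem_singleton.1 hy
    have h := (he (Subgroup.mem_map.2 ⟨g, hg, rfl⟩)).2 e List.mem_cons_self
    simp [MulAut.conj_apply, Equiv.Perm.inv_eq_iff_eq] at h
    first | exact h | exact h.symm | (rw [Equiv.symm_apply_eq] at h; exact h)
  refine (no_double H hH hc hin fun t ht => ?_).elim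
  have h7 : w⁻¹ (pt 7) ∈ d0 := by
    by_contra h
    exact pt7_not (by have := (hs _).2 h; rwa [Equiv.Perm.coe_inv, Equiv.apply_symm_apply] at this)
  have ht' : w⁻¹ t ∈ d0 := by
    by_contra h
    exact ht (by have := (hs _).2 h; rwa [Equiv.Perm.coe_inv, Equiv.apply_symm_apply] at this)
  obtain ⟨_, ⟨h₁, hh₁, rfl⟩, e₁⟩ := hin' _ h7
  obtain ⟨_, ⟨h₂, hh₂, rfl⟩, e₂⟩ := hin' _ ht'
  simp only [MulEquiv.coe_toMonoidHom, MulAut.conj_apply, inv_inv, Equiv.Perm.mul_apply,
    (w⁻¹).injective.eq_iff] at e₁ e₂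
  refine ⟨h₂ * h₁⁻¹, H.mul_mem hh₂ (H.inv_mem hh₁), ?_⟩
  rw [Equiv.Perm.mul_apply, ← e₁, Equiv.Perm.coe_inv, Equiv.symm_apply_apply, e₂]

/-! ### Normalising permutations -/

theorem stab12 (a : GolayPt) :
    (MulAction.stabilizer M12K a).map M12K.subtype = fixers M12K [a] := by
  ext g
  constructor
  · rintro ⟨⟨x, hx⟩, hb, rfl⟩
    exact ⟨hx, fun y hy => by obtain rfl := List.mem_singleton.1 hy; exact hb⟩
  · intro hg
    exact ⟨⟨g, hg.1⟩, hg.2 a List.mem_cons_self, rfl⟩

theorem inner_third : ∀ u v : GolayPt, ∃ c : GolayPt, c ∈ d0 ∧ c ≠ u ∧ c ≠ v := by decide +kernel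
theorem outer_second : ∀ u : GolayPt, ∃ c : GolayPt, c ∉ d0 ∧ c ≠ u := by decide +kernel

theorem inj12 (a b : GolayPt) (h : MulAction.stabilizer M12K a = MulAction.stabilizer M12K b) :
    a = b := by
  have hh : ∀ g ∈ M12K, g a = a ↔ g b = b := fun g hg => by
    have h' := SetLike.ext_iff.1 h ⟨g, hg⟩
    exact h'
  have cross : ∀ u v : GolayPt, u ∈ d0 → v ∉ d0 → (∀ g ∈ M12K, g u = u → g v = v) → False := by
    intro u v hu hv huv
    obtain ⟨c, hc, hcv⟩ := outer_second v
    obtain ⟨k, hk, hku, hkv⟩ := exists_cross hu hv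
    obtain ⟨l, hl, hlu, hlc⟩ := exists_cross hu hc
    have h1 : (l⁻¹ * k) u = u := by
      rw [Equiv.Perm.mul_apply, hku, ← hlu, Equiv.Perm.coe_inv, Equiv.symm_apply_apply]
    have h2 := huv _ (M12K.mul_mem (M12K.inv_mem hl) hk) h1
    rw [Equiv.Perm.mul_apply, hkv, ← hlc, Equiv.Perm.coe_inv, Equiv.symm_apply_apply] at h2
    exact hcv h2
  have inner : ∀ u v : GolayPt, u ∈ d0 → v ∈ d0 → u ≠ v → (∀ g ∈ M12K, g u = u → g v = v) → False := by
    intro u v hu hv hne huv
    obtain ⟨c, hc, hcu, hcv⟩ := inner_third u v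
    obtain ⟨g, hg, he⟩ := exists_inner (x := [u, v]) (y := [u, c]) (by simp [hne])
      (by simp [Ne.symm hcu]) rfl (by simp) (by intro t ht; simp only [List.mem_cons, List.not_mem_nil, or_false] at ht; rcases ht with rfl | rfl <;> assumption)
      (by intro t ht; simp only [List.mem_cons, List.not_mem_nil, or_false] at ht; rcases ht with rfl | rfl <;> assumption)
    exact hcv ((he 1 (by simp)).symm.trans (huv g hg (he 0 (by simp))))
  by_contra hne
  by_cases ha : a ∈ d0 <;> by_cases hb : b ∈ d0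
  · exact inner a b ha hb hne fun g hg => (hh g hg).1
  · exact cross a b ha hb fun g hg => (hh g hg).1
  · exact cross b a hb ha fun g hg => (hh g hg).2
  · obtain ⟨w, hw, hs⟩ := exists_swap
    refine inner (w a) (w b) ((hs a).2 ha) ((hs b).2 hb) (fun e => hne (w.injective e)) ?_
    intro g hg hga
    have h' := (hh _ (conj_mem hw hs hg).2).1 (by
      rw [Equiv.Perm.mul_apply, Equiv.Perm.mul_apply, hga, Equiv.Perm.coe_inv, Equiv.symm_apply_apply])
    rwa [Equiv.Perm.mul_apply, Equiv.Perm.mul_apply, Equiv.Perm.inv_eq_iff_eq] at h'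

theorem perm_of_aut (φ : M12K ≃* M12K) : ∃ σ : pG, ∀ g : M12K, σ * g * σ⁻¹ = (φ g : pG) := by
  refine exists_perm inj12 ?_ φ
  intro ψ a
  have hle : ((MulAction.stabilizer M12K a).map ψ.toMonoidHom).map M12K.subtype ≤ M12K :=
    Subgroup.map_subtype_le _
  have hc := (map_stab_card ψ a).trans (by rw [stab12, card_one])
  obtain ⟨b, hb⟩ := exists_fixed12 _ hle hc
  refine ⟨b, Subgroup.map_injective M12K.subtype_injective ?_⟩
  rw [stab12]
  exact Subgroup.eq_of_le_of_card_ge hb (by rw [hc, card_one])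

/-- Elements of the stabiliser of the first five points. -/
def fiveTabs : List ℕ :=
  [481164225824718981274622345972058212, 817233604254894068940632278541797476,
   480844778219110427690498008296753156, 682359308254828127846727227417920580,
   931467971481146985947034762723033156, 682314940056806084799410788154573828]

/-- The other points of the dodecad. -/
def restPts : List ℕ := [5, 6, 8, 9, 10, 15, 17]

theorem fiveTabs_ok : (fiveTabs.all fun t => tabOK t && imgTab t baseDodecad == baseDodecad &&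
      [0, 1, 2, 3, 4].all fun i => decide (tabAt t i < 5) ) = true ∧
    (restPts.all fun x => restPts.all fun y => x == y ||
      (fiveTabs.any fun t => tabAt t x == x && !(tabAt t y == y)) || (x != 10 && y == 10)) = true ∧
    (fiveTabs.all fun t => tabAt t 10 == 10) = true := by decide +kernel

theorem rest_cases : ∀ p ∈ d0, ix p < 5 ∨ ix p ∈ restPts := by decide +kernel

theorem eq_of_agree {g h : pG} (hg : g ∈ M12K) (hh : h ∈ M12K)
    (he : ∀ i < 5, g (pt i) = h (pt i)) : g = h := by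
  refine (inv_mul_eq_one.1 (five_fix_d0 (M12K.mul_mem (M12K.inv_mem hg) hh) fun b hb => ?_))
  have hb' : ∀ b ∈ basePre 5, ∃ i < 5, b = pt i := by decide +kernel
  obtain ⟨i, hi, rfl⟩ := hb' b hb
  rw [Equiv.Perm.mul_apply, ← he i hi, Equiv.Perm.coe_inv, Equiv.symm_apply_apply]

theorem eq_one_of_fix {τ : pG} (hd : ∀ p ∈ d0, τ p ∈ d0) (h5 : ∀ i < 5, τ (pt i) = pt i)
    (hn : ∀ g ∈ M12K, τ * g * τ⁻¹ ∈ M12K) : τ = 1 := by
  have hinv5 : ∀ i < 5, τ⁻¹ (pt i) = pt i := fun i hi =>
    Equiv.Perm.inv_eq_iff_eq.2 (h5 i hi).symm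
  obtain ⟨hall, hsep, hten⟩ := fiveTabs_ok
  have hfacts : ∀ t ∈ fiveTabs, IsTab t (tabPerm t) ∧ (∀ p, τ (tabPerm t p) = tabPerm t (τ p)) := by
    intro t ht
    have h := List.all_eq_true.1 hall t ht
    simp only [Bool.and_eq_true, beq_iff_eq, List.all_eq_true, decide_eq_true_eq] at h
    obtain ⟨⟨hok, himg⟩, h5'⟩ := h
    have hT := isTab_tabPerm hok
    have hm : tabPerm t ∈ M12K := mem_M12K.2 ⟨tabPerm_mem hok, mask_injective (by
      rw [← imgTab_mask hT, mask_maskSet (by decide +kernel), himg])⟩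
    have e : τ * tabPerm t * τ⁻¹ = tabPerm t := eq_of_agree (hn _ hm) hm fun i hi => by
      rw [Equiv.Perm.mul_apply, Equiv.Perm.mul_apply, hinv5 i hi]
      have hj : ∃ j < 5, tabPerm t (pt i) = pt j := by
        refine ⟨tabAt t i, h5' i (by
          rcases (show i = 0 ∨ i = 1 ∨ i = 2 ∨ i = 3 ∨ i = 4 by omega) with rfl | rfl | rfl | rfl | rfl <;>
            simp), ?_⟩
        rw [← pt_ix (tabPerm t (pt i)), hT, ix_pt (by omega)]
      obtain ⟨j, hj, ej⟩ := hj
      rw [ej, h5 j hj]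
    refine ⟨hT, fun p => ?_⟩
    conv_rhs => rw [← e]
    simp
  have hlt : ∀ x ∈ restPts, x < 24 ∧ 5 ≤ x := by decide
  have himg' : ∀ x ∈ restPts, ix (τ (pt x)) ∈ restPts := by
    intro x hx
    rcases rest_cases _ (hd _ (mem_maskSet.2 (by
      rw [ix_pt (hlt x hx).1]
      revert x; decide +kernel))) with h | h
    · exfalso
      have e2 : τ (pt x) = τ (pt (ix (τ (pt x)))) := by
        rw [h5 _ h, pt_ix]
      have e3 := congrArg ix (τ.injective e2)
      rw [ix_pt (hlt x hx).1, ix_pt (by omega)] at e3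
      have := (hlt x hx).2
      omega
    · exact h
  have hcomm : ∀ x ∈ restPts, ∀ t ∈ fiveTabs, tabAt t x = x →
      tabAt t (ix (τ (pt x))) = ix (τ (pt x)) := by
    intro x hx t ht he
    obtain ⟨hT, hc⟩ := hfacts t ht
    have e : tabPerm t (pt x) = pt x :=
      ix_injective (by rw [hT, ix_pt (hlt x hx).1, he])
    rw [← hT, ← hc, e]
  have h10 : τ (pt 10) = pt 10 := by
    have h := List.all_eq_true.1 (List.all_eq_true.1 hsep 10 (by decide)) _ (himg' 10 (by decide))
    simp only [Bool.or_eq_true, beq_iff_eq, List.any_eq_true, Bool.and_eq_true,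
      Bool.not_eq_eq_eq_not, Bool.not_true, beq_eq_false_iff_ne, ne_eq, bne_iff_ne,
      not_true_eq_false, false_and, or_false] at h
    rcases h with h | ⟨t, ht, -, h2⟩
    · rw [← pt_ix (τ (pt 10)), ← h]
    · exact absurd (hcomm 10 (by decide) t ht (by simpa using List.all_eq_true.1 hten t ht)) h2
  have hrest : ∀ x ∈ restPts, τ (pt x) = pt x := by
    intro x hx
    have h := List.all_eq_true.1 (List.all_eq_true.1 hsep x hx) _ (himg' x hx)
    simp only [Bool.or_eq_true, beq_iff_eq, List.any_eq_true, Bool.and_eq_true,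
      Bool.not_eq_eq_eq_not, Bool.not_true, beq_eq_false_iff_ne, ne_eq, bne_iff_ne] at h
    rcases h with (h | ⟨t, ht, h1, h2⟩) | ⟨h1, h2⟩
    · rw [← pt_ix (τ (pt x)), ← h]
    · exact absurd (hcomm x hx t ht h1) h2
    · exfalso
      have e : τ (pt x) = pt 10 := by rw [← pt_ix (τ (pt x)), h2]
      have := congrArg ix (τ.injective (e.trans h10.symm))
      rw [ix_pt (hlt x hx).1, ix_pt (by norm_num)] at this
      exact h1 this
  have hfix : ∀ p ∈ d0, τ p = p := fun p hp => by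
    rcases rest_cases p hp with h | h
    · have := h5 _ h; rwa [pt_ix] at this
    · have := hrest _ h; rwa [pt_ix] at this
  have hcent : ∀ g ∈ M12K, τ * g * τ⁻¹ = g := fun g hg => eq_of_agree (hn g hg) hg fun i hi => by
    rw [Equiv.Perm.mul_apply, Equiv.Perm.mul_apply, hinv5 i hi, hfix]
    refine M12K_maps hg (mem_maskSet.2 ?_)
    rw [ix_pt (by omega)]
    revert i; decide +kernel
  refine Equiv.ext fun u => (inj12 _ _ ?_).symm
  ext g
  simp only [MulAction.mem_stabilizer_iff, Equiv.Perm.one_apply]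
  show (g : pG) u = u ↔ (g : pG) (τ u) = τ u
  have e : τ * (g : pG) = (g : pG) * τ := mul_inv_eq_iff_eq_mul.1 (hcent g g.2)
  rw [← Equiv.Perm.mul_apply, ← e, Equiv.Perm.mul_apply, τ.injective.eq_iff]

theorem mem_of_inner_image {φ : M12K ≃* M12K} {σ : pG}
    (hσ : ∀ g : M12K, σ * g * σ⁻¹ = (φ g : pG)) (h0 : σ (pt 0) ∈ d0) : φ ∈ Inn M12K := by
  have hd : ∀ p ∈ d0, σ p ∈ d0 := by
    intro p hp
    obtain ⟨g, hg, he⟩ := exists_inner (x := [pt 0]) (y := [p]) (by simp) (by simp) rfl (by simp)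
      (by simpa using pt0_mem_d0) (by simpa using hp)
    have e : g (pt 0) = p := he 0 (by simp)
    have : σ p = (φ ⟨g, hg⟩ : pG) (σ (pt 0)) := by
      rw [← hσ, ← e]; simp
    rw [this]
    exact M12K_maps (φ ⟨g, hg⟩).2 h0
  have hfive : (([0, 1, 2, 3, 4] : List ℕ).map pt).Nodup ∧
      ∀ t ∈ ([0, 1, 2, 3, 4] : List ℕ).map pt, t ∈ d0 := by decide +kernel
  obtain ⟨k, hk, he⟩ := exists_inner (x := (([0, 1, 2, 3, 4] : List ℕ).map pt).map σ)
    (y := ([0, 1, 2, 3, 4] : List ℕ).map pt) (hfive.1.map σ.injective) hfive.1 (by simp) (by simp)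
    (fun t ht => by
      obtain ⟨y, hy, rfl⟩ := List.mem_map.1 ht
      exact hd y (hfive.2 y hy)) hfive.2
  have hone : k * σ = 1 := by
    refine eq_one_of_fix (fun p hp => M12K_maps hk (hd p hp)) (fun i hi => ?_) (fun g hg => ?_)
    · have h := he i (by simpa using hi)
      simp only [List.getElem_map] at h
      have e : ([0, 1, 2, 3, 4] : List ℕ)[i]'(by simpa using hi) = i := by
        rcases (show i = 0 ∨ i = 1 ∨ i = 2 ∨ i = 3 ∨ i = 4 by omega) with rfl | rfl | rfl | rfl | rfl <;> rfl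
      rw [e] at h
      exact h
    · have := M12K.mul_mem (M12K.mul_mem hk (φ ⟨g, hg⟩).2) (M12K.inv_mem hk)
      rw [← hσ] at this
      convert this using 1
      group
  have hσm : σ ∈ M12K := by
    rw [eq_inv_of_mul_eq_one_right hone]; exact M12K.inv_mem hk
  exact ⟨⟨σ, hσm⟩, MulEquiv.ext fun g => Subtype.ext (hσ g)⟩

/-- Conjugation by an element interchanging the dodecad and its complement. -/
noncomputable def outer (w : pG) (hw : w ∈ Cfsg.M24) (hs : ∀ p, w p ∈ d0 ↔ p ∉ d0) : MulAut M12K where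
  toFun k := ⟨w * k * w⁻¹, (conj_mem hw hs k.2).1⟩
  invFun k := ⟨w⁻¹ * k * w, (conj_mem hw hs k.2).2⟩
  left_inv k := by apply Subtype.ext; simp [mul_assoc]
  right_inv k := by apply Subtype.ext; simp [mul_assoc]
  map_mul' k l := by apply Subtype.ext; simp [mul_assoc]

theorem index_inn_M12K : (Inn M12K).index = 2 := by
  obtain ⟨w, hw, hs⟩ := exists_swap
  let ψ : MulAut M12K := outer w hw hs
  have hψ : ψ ∉ Inn M12K := by
    rintro ⟨m, hm⟩
    have hcomm : ∀ k : M12K, ((m : pG)⁻¹ * w) * k = k * ((m : pG)⁻¹ * w) := by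
      intro k
      have h1 : (m : pG) * k * (m : pG)⁻¹ = w * k * w⁻¹ :=
        congrArg (fun f : MulAut M12K => ((f k : M12K) : pG)) hm
      calc ((m : pG)⁻¹ * w) * k = (m : pG)⁻¹ * (w * k * w⁻¹) * w := by group
        _ = k * ((m : pG)⁻¹ * w) := by rw [← h1]; group
    have e : pt 0 = ((m : pG)⁻¹ * w) (pt 0) := by
      refine inj12 _ _ ?_
      ext g
      simp only [MulAction.mem_stabilizer_iff]
      show (g : pG) (pt 0) = pt 0 ↔ (g : pG) (((m : pG)⁻¹ * w) (pt 0)) = ((m : pG)⁻¹ * w) (pt 0)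
      rw [← Equiv.Perm.mul_apply (g : pG), ← hcomm, Equiv.Perm.mul_apply,
        ((m : pG)⁻¹ * w).injective.eq_iff]
    have h' := pt0_mem_d0
    rw [e, Equiv.Perm.mul_apply, apply_mem_iff (M12K.inv_mem m.2)] at h'
    exact (hs _).1 h' pt0_mem_d0
  rw [Subgroup.index_eq_two_iff]
  refine ⟨ψ, fun φ => ?_⟩
  suffices φ ∈ Inn M12K ∨ φ * ψ ∈ Inn M12K by
    have hno : ¬ (φ * ψ ∈ Inn M12K ∧ φ ∈ Inn M12K) := fun h =>
      hψ (by simpa using (Inn M12K).mul_mem ((Inn M12K).inv_mem h.2) h.1)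
    by_cases h : φ ∈ Inn M12K
    · exact Or.inr ⟨h, fun h' => hno ⟨h', h⟩⟩
    · exact Or.inl ⟨this.resolve_left h, h⟩
  obtain ⟨σ, hσ⟩ := perm_of_aut φ
  by_cases h0 : σ (pt 0) ∈ d0
  · exact Or.inl (mem_of_inner_image hσ h0)
  right
  have hall : ∀ u, u ∈ d0 → σ u ∉ d0 := by
    intro u hu
    obtain ⟨g, hg, he⟩ := exists_inner (x := [pt 0]) (y := [u]) (by simp) (by simp) rfl (by simp)
      (by simpa using pt0_mem_d0) (by simpa using hu)
    have e : g (pt 0) = u := he 0 (by simp)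
    have : σ u = (φ ⟨g, hg⟩ : pG) (σ (pt 0)) := by rw [← hσ, ← e]; simp
    rw [this]
    exact M12K_maps_compl (φ ⟨g, hg⟩).2 h0
  have hwout : w (pt 0) ∉ d0 := fun h => (hs _).1 h pt0_mem_d0
  refine mem_of_inner_image (σ := σ * w) (fun g => ?_) ?_
  · show σ * w * g * (σ * w)⁻¹ = (φ (ψ g) : pG)
    rw [← hσ]
    show σ * w * g * (σ * w)⁻¹ = σ * (w * g * w⁻¹) * σ⁻¹
    group
  · rw [Equiv.Perm.mul_apply]
    by_contra hcon
    have hsub : d0.image σ = d0ᶜ := Finset.eq_of_subset_of_card_le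
      (fun z hz => by
        obtain ⟨u, hu, rfl⟩ := Finset.mem_image.1 hz
        exact Finset.mem_compl.2 (hall u hu))
      (by rw [Finset.card_image_of_injective _ σ.injective, card_d0, card_d0c])
    have hm : σ (w (pt 0)) ∈ d0.image σ := by rw [hsub]; exact Finset.mem_compl.2 hcon
    obtain ⟨u, hu, e⟩ := Finset.mem_image.1 hm
    exact hwout (σ.injective e ▸ hu)

/-! ### Transport to the official group -/

theorem index_inn_congr {A B : Type*} [Group A] [Group B] (e : A ≃* B) :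
    (Inn A).index = (Inn B).index := by
  have h : (Inn A).map (MulAut.congr e).toMonoidHom = Inn B := by
    ext f
    constructor
    · rintro ⟨_, ⟨a, rfl⟩, rfl⟩
      exact ⟨e a, MulEquiv.ext fun b => by simp [MulAut.conj_apply]⟩
    · rintro ⟨b, rfl⟩
      exact ⟨MulAut.conj (e.symm b), ⟨e.symm b, rfl⟩, MulEquiv.ext fun c => by simp [MulAut.conj_apply]⟩
  rw [← h]
  exact (Subgroup.index_map_equiv (Inn A) (MulAut.congr e)).symm

theorem index_inn_M12 : (Inn Spor.M12).index = 2 := by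
  obtain ⟨a, ha, had⟩ := dodecads_transitive (d := Spor.squareDodecad) (d' := d0)
    (mem_dodecads_iff.2 (by decide +kernel)) baseDodecad_mem
  let e : Spor.M12 ≃* M12K :=
    { toFun := fun g => ⟨a * g * a⁻¹, mem_M12K.2 ⟨Cfsg.M24.mul_mem (Cfsg.M24.mul_mem ha g.2.1)
        (Cfsg.M24.inv_mem ha), by
          rw [mul_smul, mul_smul, inv_smul_eq_iff.2 had.symm, show (g : pG) • Spor.squareDodecad = Spor.squareDodecad from g.2.2, had]⟩⟩
      invFun := fun k => ⟨a⁻¹ * k * a, Cfsg.M24.mul_mem (Cfsg.M24.mul_mem (Cfsg.M24.inv_mem ha)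
        (mem_M12K.1 k.2).1) ha, by
          show (a⁻¹ * (k : pG) * a) • Spor.squareDodecad = Spor.squareDodecad
          rw [mul_smul, mul_smul, had, (mem_M12K.1 k.2).2, inv_smul_eq_iff, had]⟩
      left_inv := fun g => by apply Subtype.ext; simp [mul_assoc]
      right_inv := fun g => by apply Subtype.ext; simp [mul_assoc]
      map_mul' := fun g h => by apply Subtype.ext; simp [mul_assoc] }
  rw [index_inn_congr e]
  exact index_inn_M12K

end Cfsg.Agent.Golay.AutM12
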