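import Cfsg.Agent.Lib.Golay.AutBig
import Cfsg.Agent.Lib.Golay.Coset

/-!
The outer automorphism group of the Mathieu group on 22 points has order two: an automorphism is
conjugation by a permutation fixing the two extra points, which preserves the octads through both,
hence lies in the stabiliser of the pair up to the transposition of the two points.
-/

set_option autoImplicit false

namespace Cfsg.Agent.Golay.AutM22

open Cfsg Cfsg.Agent.Golay.Basic Cfsg.Agent.Golay.Design Cfsg.Agent.Golay.M24Data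
  Cfsg.Agent.Golay.Perm Cfsg.Agent.Golay.M24 Cfsg.Agent.Golay.Trans Cfsg.Agent.Golay.AutBig
open scoped Pointwise

local notation "pG" => Equiv.Perm GolayPt

/-- The first extra point. -/
abbrev ea : GolayPt := none
/-- The second extra point. -/
abbrev eb : GolayPt := some 0

/-- The stabiliser of both extra points. -/
abbrev K22 : Subgroup pG := fixers M24 [ea, eb]

theorem M22_eq : Spor.M22 = K22 := by
  ext g
  simp [Spor.M22, Spor.M23, mem_fixers, Equiv.Perm.smul_def, and_assoc]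

theorem mem_K22 {g : pG} : g ∈ K22 ↔ g ∈ M24 ∧ g ea = ea ∧ g eb = eb := by
  simp [mem_fixers]

theorem exists_image22 {T T' : Finset GolayPt} (hT : ea ∉ T ∧ eb ∉ T) (hT' : ea ∉ T' ∧ eb ∉ T')
    (hc : T.card = T'.card) (h3 : T.card ≤ 3) :
    ∃ g ∈ K22, g • T = T' := by
  obtain ⟨g, hg, he⟩ := exists_map_injOn (x := ea :: eb :: T.toList) (y := ea :: eb :: T'.toList)
    (List.nodup_cons.2 ⟨by simpa using hT.1, List.nodup_cons.2 ⟨by simpa using hT.2, T.nodup_toList⟩⟩)
    (List.nodup_cons.2 ⟨by simpa using hT'.1,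
      List.nodup_cons.2 ⟨by simpa using hT'.2, T'.nodup_toList⟩⟩) (by simp [hc]) (by simp; omega)
  refine ⟨g, mem_K22.2 ⟨hg, he 0 (by simp), he 1 (by simp)⟩,
    Finset.eq_of_subset_of_card_le ?_ (by rw [Finset.card_smul_finset, hc])⟩
  intro z hz
  obtain ⟨w, hw, rfl⟩ := Finset.mem_smul_finset.1 hz
  obtain ⟨i, hi, rfl⟩ := List.getElem_of_mem (Finset.mem_toList.2 hw)
  have := he (i + 2) (by simpa using hi)
  simp only [List.getElem_cons_succ] at this
  rw [Equiv.Perm.smul_def, this]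
  exact Finset.mem_toList.1 (List.getElem_mem _)

theorem card_K22 : Nat.card K22 = 443520 := card_two (by decide)

/-- Subgroups of index 22 fix a third point. -/
theorem exists_fixed22 (H : Subgroup pG) (hH : H ≤ K22) (hc : Nat.card H = 20160) :
    ∃ d, d ≠ ea ∧ d ≠ eb ∧ H ≤ fixers M24 [ea, eb, d] := by
  classical
  have hidx : H.relIndex K22 = 22 := by
    have := Subgroup.card_mul_index (H.subgroupOf K22)
    rw [Nat.card_congr (Subgroup.subgroupOfEquivOfLe hH).toEquiv, hc, card_K22] at this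
    simp only [Subgroup.relIndex]; omega
  by_contra hno
  push Not at hno
  obtain ⟨S, hpS, hinv, horb⟩ := exists_orbit_set (H := H) (some 1 : GolayPt)
  have hSa : ∀ {e : GolayPt}, e = ea ∨ e = eb → e ∉ S := by
    intro e he h
    obtain ⟨g, hg, h1⟩ := horb e h
    have hge : g e = e := by
      rcases he with rfl | rfl
      · exact (mem_K22.1 (hH hg)).2.1
      · exact (mem_K22.1 (hH hg)).2.2
    have := g.injective (h1.trans hge.symm)
    rcases he with rfl | rfl <;> revert this <;> decide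
  let U : Finset GolayPt := {ea, eb}ᶜ
  have hUmem : ∀ z, z ∈ U ↔ z ≠ ea ∧ z ≠ eb := fun z => by simp [U]
  have hU : ∀ g ∈ K22, g • U = U := by
    intro g hg
    refine Finset.eq_of_subset_of_card_le ?_ (by rw [Finset.card_smul_finset])
    intro z hz
    obtain ⟨w, hw, rfl⟩ := Finset.mem_smul_finset.1 hz
    rw [hUmem] at hw ⊢
    rw [Equiv.Perm.smul_def]
    exact ⟨fun h => hw.1 (g.injective (h.trans (mem_K22.1 hg).2.1.symm)),
      fun h => hw.2 (g.injective (h.trans (mem_K22.1 hg).2.2.symm))⟩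
  have hsub : ∀ {T : Finset GolayPt}, T ⊆ U → ea ∉ T ∧ eb ∉ T := fun h =>
    ⟨fun ha => ((hUmem _).1 (h ha)).1 rfl, fun ha => ((hUmem _).1 (h ha)).2 rfl⟩
  have hSU : S ⊆ U := fun z hz =>
    (hUmem z).2 ⟨fun h => hSa (Or.inl h) hz, fun h => hSa (Or.inr h) hz⟩
  have h22 : U.card = 22 := by decide +kernel
  obtain ⟨b₂, hb₂, hdiv₂⟩ := invariant_set U hU (min S.card 2)
    (fun T T' hT hT' h1 h2 => exists_image22 (hsub hT) (hsub hT') (h1.trans h2.symm) (by omega))
    hH S hSU hinv
  obtain ⟨b₃, hb₃, hdiv₃⟩ := invariant_set U hU (min S.card 3)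
    (fun T T' hT hT' h1 h2 => exists_image22 (hsub hT) (hsub hT') (h1.trans h2.symm) (by omega))
    hH S hSU hinv
  rw [hidx] at hb₂ hb₃
  rw [h22] at hdiv₂ hdiv₃
  have key : ∀ k ≤ 22, ∀ d ∈ Nat.divisors 22, ∀ e ∈ Nat.divisors 22,
      (22 : ℕ).choose (min k 2) ∣ d * k.choose (min k 2) →
      (22 : ℕ).choose (min k 3) ∣ e * k.choose (min k 3) → k ≤ 1 ∨ 21 ≤ k := by
    decide +kernel
  have hk22 : S.card ≤ 22 := h22 ▸ Finset.card_le_card hSU
  have hpos : 0 < S.card := Finset.card_pos.2 ⟨_, hpS⟩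
  have mem3 : ∀ {d : GolayPt}, (∀ g ∈ H, g d = d) → H ≤ fixers M24 [ea, eb, d] := by
    intro d hd g hg
    refine ⟨(hH hg).1, fun y hy => ?_⟩
    rcases List.mem_cons.1 hy with rfl | hy
    · exact (mem_K22.1 (hH hg)).2.1
    rcases List.mem_cons.1 hy with rfl | hy
    · exact (mem_K22.1 (hH hg)).2.2
    · obtain rfl := List.mem_singleton.1 hy; exact hd g hg
  rcases key _ hk22 b₂ (Nat.mem_divisors.2 ⟨hb₂, by norm_num⟩) b₃
    (Nat.mem_divisors.2 ⟨hb₃, by norm_num⟩) hdiv₂ hdiv₃ with hk | hk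
  · obtain ⟨x, rfl⟩ := Finset.card_eq_one.1 (le_antisymm hk hpos)
    obtain rfl := Finset.mem_singleton.1 hpS
    refine hno (some 1) (by decide) (by decide) (mem3 fun g hg => ?_)
    have := hinv g hg
    rw [Finset.smul_finset_singleton, Finset.singleton_inj] at this
    exact this
  have horbit : MulAction.orbit H (some 1 : GolayPt) = (S : Set GolayPt) := by
    ext x
    constructor
    · rintro ⟨g, rfl⟩
      show (g : pG) (some 1) ∈ S
      rw [← hinv g g.2]
      exact (mem_smul_iff _ _ _).2 hpS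
    · intro hx
      obtain ⟨g, hg, rfl⟩ := horb x hx
      exact ⟨⟨g, hg⟩, rfl⟩
  have hk21 : S.card = 21 := by
    have hdvd : S.card ∣ 20160 := by
      have := Subgroup.index_mul_card (MulAction.stabilizer H (some 1 : GolayPt))
      rw [MulAction.index_stabilizer, horbit, Set.ncard_coe_finset, hc] at this
      exact Dvd.intro _ this
    rcases Nat.lt_or_ge S.card 22 with h | h
    · omega
    · rw [show S.card = 22 by omega] at hdvd; norm_num at hdvd
  obtain ⟨x, hx⟩ := Finset.card_eq_one.1 (show (U \ S).card = 1 by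
    rw [Finset.card_sdiff_of_subset hSU, h22, hk21])
  have hxU := Finset.mem_sdiff.1 (hx ▸ Finset.mem_singleton_self x)
  refine hno x ((hUmem x).1 hxU.1).1 ((hUmem x).1 hxU.1).2 (mem3 fun g hg => ?_)
  have hgx : g x ∈ U \ S := by
    refine Finset.mem_sdiff.2 ⟨?_, fun h => hxU.2 ?_⟩
    · rw [← hU g (hH hg)]; exact (mem_smul_iff _ _ _).2 hxU.1
    · rwa [← hinv g hg, mem_smul_iff] at h
  exact Finset.mem_singleton.1 (hx ▸ hgx)

theorem card_three {d : GolayPt} (h1 : d ≠ ea) (h2 : d ≠ eb) :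
    Nat.card (fixers M24 [ea, eb, d]) = 20160 :=
  card_fixers (by simp [Ne.symm h1, Ne.symm h2]) (by simp)

/-! ### Octads through both points -/

theorem smul_octad_two {σ : pG} (ha : σ ea = ea) (hb : σ eb = eb)
    (hn : ∀ g ∈ K22, σ * g * σ⁻¹ ∈ K22) {o : Finset GolayPt}
    (ho : o ∈ octads) (hao : ea ∈ o) (hbo : eb ∈ o) : σ • o ∈ octads := by
  classical
  obtain ⟨t, hat, hto, ht⟩ := Finset.exists_subsuperset_card_eq (s := {ea, eb}) (t := o) (n := 5)
    (by simp [Finset.insert_subset_iff, hao, hbo]) (by decide)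
    (by rw [octad_card ho]; norm_num)
  obtain ⟨a₀, ha₀, hmem⟩ := exists_five (s := t) ht.ge
  have hbp : (basePre 5).toFinset.card = 5 := by decide +kernel
  have hall : ∀ y ∈ t, a₀ y ∈ basePre 5 := by
    have e : (basePre 5).toFinset.image a₀.symm = t := Finset.eq_of_subset_of_card_le
      (fun z hz => by
        obtain ⟨w, hw, rfl⟩ := Finset.mem_image.1 hz
        exact hmem w (List.mem_toFinset.1 hw))
      (by rw [Finset.card_image_of_injective _ a₀.symm.injective, hbp, ht])
    intro y hy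
    rw [← e] at hy
    obtain ⟨w, hw, rfl⟩ := Finset.mem_image.1 hy
    simpa using List.mem_toFinset.1 hw
  obtain ⟨h, hh, he⟩ := exists_map_injOn (x := t.toList.map σ) (y := t.toList)
    (List.Nodup.map σ.injective t.nodup_toList) t.nodup_toList (by simp) (by simp [ht])
  have hτ : ∀ y ∈ t, (h * σ) y = y := by
    intro y hy
    obtain ⟨i, hi, rfl⟩ := List.getElem_of_mem (Finset.mem_toList.2 hy)
    have := he i (by simpa using hi)
    simpa using this
  have hat' : ea ∈ t := hat (by simp)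
  have hbt' : eb ∈ t := hat (by simp)
  have hm : h ∈ K22 := by
    have h1 := hτ ea hat'
    have h2 := hτ eb hbt'
    rw [Equiv.Perm.mul_apply, ha] at h1
    rw [Equiv.Perm.mul_apply, hb] at h2
    exact mem_K22.2 ⟨hh, h1, h2⟩
  have hconj : ∀ g ∈ K22, (h * σ) * g * (h * σ)⁻¹ ∈ K22 := by
    intro g hg
    have := Subgroup.mul_mem _ (Subgroup.mul_mem _ hm (hn g hg)) (Subgroup.inv_mem _ hm)
    convert this using 1
    group
  have key : (a₀ * (h * σ) * a₀⁻¹) • maskSet baseOctad = maskSet baseOctad := by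
    refine base_octad (fun x hx => ?_) (fun g hg => ?_)
    · show a₀ ((h * σ) (a₀⁻¹ x)) = x
      rw [hτ _ (hmem x hx)]; simp
    · have hfix : ∀ y ∈ t, (a₀⁻¹ * g * a₀) y = y := fun y hy => by
        rw [Equiv.Perm.mul_apply, Equiv.Perm.mul_apply, hg.2 _ (hall y hy)]; simp
      have hk : a₀⁻¹ * g * a₀ ∈ K22 :=
        mem_K22.2 ⟨M24.mul_mem (M24.mul_mem (M24.inv_mem ha₀) hg.1) ha₀, hfix _ hat', hfix _ hbt'⟩
      have hk' := hconj _ hk
      refine ⟨?_, fun x hx => ?_⟩
      · have := M24.mul_mem (M24.mul_mem ha₀ hk'.1) (M24.inv_mem ha₀)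
        convert this using 1
        group
      · have h1 : (h * σ) (a₀⁻¹ x) = a₀⁻¹ x := hτ _ (hmem x hx)
        have h2 : (a₀ * (h * σ) * a₀⁻¹) x = x := by
          show a₀ ((h * σ) (a₀⁻¹ x)) = x
          rw [h1]; simp
        have h3 : (a₀ * (h * σ) * a₀⁻¹)⁻¹ x = x := Equiv.Perm.inv_eq_iff_eq.2 h2.symm
        rw [Equiv.Perm.mul_apply, Equiv.Perm.mul_apply, h3, hg.2 x hx, h2]
  have hbase : a₀ • o = maskSet baseOctad :=
    octads_eq_of_subset (s := (basePre 5).toFinset) (by decide +kernel) (smul_mem_octads ha₀ ho)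
      (mem_octads_iff.2 (by decide +kernel))
      (fun x hx => by
        have := (mem_smul_iff a₀ o (a₀⁻¹ x)).2 (hto (hmem x (List.mem_toFinset.1 hx)))
        simpa using this)
      (by decide +kernel)
  rw [← hbase, ← mul_smul, inv_mul_cancel_right, mul_smul, smul_left_cancel_iff, mul_smul] at key
  rw [eq_inv_smul_iff.2 key]
  exact smul_mem_octads (M24.inv_mem hh) ho

/-! ### Parity -/

/-- The parity of the intersection of two masks. -/
def par (x y : ℕ) : ℕ := pc (x &&& y) % 2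

theorem par_xor (x y b : ℕ) : par (x ^^^ y) b = (par x b + par y b) % 2 := by
  simp only [par, Nat.and_xor_distrib_right, ← card_maskSet, mask_maskSet_xor]
  have := card_symmDiff_eq (maskSet (x &&& b)) (maskSet (y &&& b))
  omega

theorem par_enc : ∀ (L : List ℕ) (a b : ℕ), (∀ c ∈ L, par c b = 0) → par (enc L a) b = 0
  | [], _, b, _ => by
    simp only [enc, par, Nat.zero_and]
    decide
  | c :: cs, a, b, h => by
    simp only [enc]
    rw [par_xor, par_enc cs _ b fun d hd => h d (List.mem_cons_of_mem _ hd)]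
    rcases Nat.mod_two_eq_zero_or_one a with ha | ha <;> rw [ha]
    · simp only [zero_mul, par, Nat.zero_and, add_zero]; decide
    · rw [one_mul, h c List.mem_cons_self]

/-- Eleven independent octads through both points. -/
def gen11 : List ℕ :=
  [8391797, 8398155, 8412681, 8421811, 8471941, 8524371, 8657159, 8922769, 9440193, 10486557,
    12587685]

/-- An octad through exactly the first point. -/
def oct1 : ℕ := 8394986

theorem gen11_spec : ∀ m ∈ gen11, isCode m = true ∧ pc m = 8 ∧ m < 2 ^ 24 ∧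
    m.testBit (ix ea) = true ∧ m.testBit (ix eb) = true := by decide +kernel

theorem oct1_spec : isCode oct1 = true ∧ pc oct1 = 8 ∧ oct1 < 2 ^ 24 ∧
    oct1.testBit (ix ea) = true ∧ oct1.testBit (ix eb) = false := by decide +kernel

theorem basis_eq_gen12 : basisMasks =
    ([1137, 1176, 3403, 1761, 2485, 2918, 3791, 495, 989, 1971, 2840, 3647] : List ℕ).map
      (enc (gen11 ++ [oct1])) := by decide +kernel

theorem basis_orth : ∀ c ∈ basisMasks, ∀ b ∈ gen11 ++ [oct1], par c b = 0 := by decide +kernel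

theorem code_orth {m b : ℕ} (hm : isCode m = true) (hb : b ∈ gen11 ++ [oct1]) : par m b = 0 := by
  simp only [isCode, beq_iff_eq] at hm
  rw [← hm]
  exact par_enc _ _ _ fun c hc => basis_orth c hc b hb

/-- The mask of the pair of extra points. -/
def pm : ℕ := 8388609

theorem perp_check : ((List.range 4096).all fun r =>
    !(gen11.all fun b => par (r * 4096) b == 0) || r == 0 ||
      r * 4096 == pm ^^^ enc basisMasks pm) = true := by decide +kernel

theorem code_or_pair {m : ℕ} (hlt : m < 2 ^ 24) (h : ∀ b ∈ gen11, par m b = 0) :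
    isCode m = true ∨ isCode (m ^^^ pm) = true := by
  have hencl : enc basisMasks m < 2 ^ 24 := by
    have hc : isCode (enc basisMasks m) = true := by simp [isCode, Coset.enc_idem]
    exact of_decide_eq_true (forall_code (P := fun x => decide (x < 2 ^ 24)) (by decide +kernel) hc)
  have hlow : (m ^^^ enc basisMasks m) % 4096 = 0 := by
    rw [show 4096 = 2 ^ 12 by norm_num, Nat.xor_mod_two_pow]
    have hs : ((List.range 4096).all fun a => enc basisMasks a % 4096 == a) = true := by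
      decide +kernel
    have h' : enc basisMasks (m % 4096) % 4096 = m % 4096 := by
      simpa using List.all_eq_true.1 hs (m % 4096) (List.mem_range.2 (Nat.mod_lt _ (by norm_num)))
    rw [show 4096 = 2 ^ basisMasks.length by rfl, enc_mod] at h'
    rw [show (2 : ℕ) ^ 12 = 2 ^ basisMasks.length by rfl, h', Nat.xor_self]
  set r := (m ^^^ enc basisMasks m) / 4096 with hr
  have hrm : r * 4096 = m ^^^ enc basisMasks m := by
    have := Nat.div_add_mod (m ^^^ enc basisMasks m) 4096
    omega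
  have hr4 : r < 4096 := Nat.div_lt_of_lt_mul (Nat.xor_lt_two_pow (n := 24) hlt hencl)
  have hall : (gen11.all fun b => par (r * 4096) b == 0) = true := by
    rw [List.all_eq_true]
    intro b hb
    rw [hrm, par_xor, h b hb, code_orth (by simp [isCode, Coset.enc_idem])
      (List.mem_append_left _ hb)]
    rfl
  have hc := List.all_eq_true.1 perp_check r (List.mem_range.2 hr4)
  simp only [hall, Bool.not_true, Bool.false_or, Bool.or_eq_true, beq_iff_eq] at hc
  rcases hc with hc | hc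
  · left
    rw [hc, zero_mul] at hrm
    simp only [isCode, beq_iff_eq]
    exact (Nat.xor_eq_zero_iff.1 hrm.symm).symm
  · right
    rw [hrm] at hc
    simp only [isCode, beq_iff_eq, enc_xor]
    calc enc basisMasks m ^^^ enc basisMasks pm
        = (m ^^^ (m ^^^ enc basisMasks m)) ^^^ enc basisMasks pm := by
          rw [← Nat.xor_assoc, Nat.xor_self, Nat.zero_xor]
      _ = (m ^^^ (pm ^^^ enc basisMasks pm)) ^^^ enc basisMasks pm := by rw [hc]
      _ = m ^^^ pm := by
          rw [← Nat.xor_assoc, Nat.xor_assoc (m ^^^ pm), Nat.xor_self, Nat.xor_zero]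

/-- A permutation fixing both points and normalising their stabiliser is, up to their transposition,
in the Mathieu group. -/
theorem mem_or_swap {σ : pG} (ha : σ ea = ea) (hb' : σ eb = eb)
    (hn : ∀ g ∈ K22, σ * g * σ⁻¹ ∈ K22) : σ ∈ M24 ∨ Equiv.swap ea eb * σ ∈ M24 := by
  classical
  have hn' : ∀ g ∈ K22, σ⁻¹ * g * σ ∈ K22 := by
    have heq : K22.map (MulAut.conj σ).toMonoidHom = K22 := by
      refine Subgroup.eq_of_le_of_card_ge ?_
        (Subgroup.card_map_of_injective (MulAut.conj σ).injective).ge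
      rintro _ ⟨g, hg, rfl⟩
      exact hn g hg
    intro g hg
    rw [← heq] at hg
    obtain ⟨k, hk, rfl⟩ := hg
    convert hk using 1
    simp [MulAut.conj_apply]; group
  have hai : σ⁻¹ ea = ea := Equiv.Perm.inv_eq_iff_eq.2 ha.symm
  have hbi : σ⁻¹ eb = eb := Equiv.Perm.inv_eq_iff_eq.2 hb'.symm
  obtain ⟨oc, o8, olt, oa, ob⟩ := oct1_spec
  have hgen : ∀ m ∈ gen11, maskSet m ∈ octads ∧ ea ∈ maskSet m ∧ eb ∈ maskSet m := fun m hm => by
    obtain ⟨hc, h8, hlt, hma, hmb⟩ := gen11_spec m hm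
    exact ⟨mem_octads_iff.2 ⟨by rwa [mask_maskSet hlt], by rw [card_maskSet]; exact h8⟩,
      mem_maskSet.2 hma, mem_maskSet.2 hmb⟩
  set X : Finset GolayPt := σ • maskSet oct1 with hX
  have hpar : ∀ b ∈ gen11, par (mask X) b = 0 := by
    intro b hb
    obtain ⟨hbo, hba, hbb⟩ := hgen b hb
    have h8 : σ⁻¹ • maskSet b ∈ octads := smul_octad_two hai hbi
      (fun g hg => by simpa using hn' g hg) hbo hba hbb
    have hcode : isCode (mask (σ⁻¹ • maskSet b)) = true := (mem_octads_iff.1 h8).1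
    have h0 := code_orth hcode (List.mem_append_right gen11 (List.mem_singleton_self oct1))
    have hblt := (gen11_spec b hb).2.2.1
    rw [par, ← mask_maskSet olt, ← mask_inter, ← card_eq_pc] at h0
    rw [par, ← mask_maskSet hblt, ← mask_inter, ← card_eq_pc]
    have e : X ∩ maskSet b = σ • ((σ⁻¹ • maskSet b) ∩ maskSet oct1) := by
      rw [Finset.smul_finset_inter, smul_inv_smul, Finset.inter_comm]
    rwa [e, Finset.card_smul_finset]
  have finish : ∀ ρ : pG, (∀ b ∈ gen11, ρ • maskSet b ∈ codeSets) →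
      ρ • maskSet oct1 ∈ codeSets → ρ ∈ M24 := by
    intro ρ h11 h1
    refine M24.mem_M24_of_basis fun b hb => ?_
    rw [basis_eq_gen12] at hb
    obtain ⟨a, -, rfl⟩ := List.mem_map.1 hb
    refine M24.smul_enc_mem ρ _ (fun m hm => ?_) a
    rcases List.mem_append.1 hm with hm | hm
    · exact h11 m hm
    · rw [List.mem_singleton.1 hm]; exact h1
  have hσ11 : ∀ b ∈ gen11, σ • maskSet b ∈ octads := fun b hb =>
    smul_octad_two ha hb' hn (hgen b hb).1 (hgen b hb).2.1 (hgen b hb).2.2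
  rcases code_or_pair (mask_lt X) hpar with hc | hc
  · exact Or.inl (finish σ (fun b hb => (hσ11 b hb).1) (mem_supports_iff.2 hc))
  · refine Or.inr (finish _ (fun b hb => ?_) ?_)
    · rw [mul_smul]
      suffices Equiv.swap ea eb • (σ • maskSet b) = σ • maskSet b by rw [this]; exact (hσ11 b hb).1
      refine Finset.eq_of_subset_of_card_le ?_ (by simp only [Finset.card_smul_finset, le_refl])
      intro z hz
      obtain ⟨w, hw, rfl⟩ := Finset.mem_smul_finset.1 hz
      have e1 : ea ∈ σ • maskSet b := by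
        have := (mem_smul_iff σ (maskSet b) ea).2 (hgen b hb).2.1
        rwa [ha] at this
      have e2 : eb ∈ σ • maskSet b := by
        have := (mem_smul_iff σ (maskSet b) eb).2 (hgen b hb).2.2
        rwa [hb'] at this
      rw [Equiv.Perm.smul_def, Equiv.swap_apply_def]
      split_ifs with h1 h2
      · exact e2
      · exact e1
      · exact hw
    · rw [mul_smul, ← hX]
      have e1 : ea ∈ X := by
        have := (mem_smul_iff σ (maskSet oct1) ea).2 (mem_maskSet.2 oa)
        rwa [ha] at this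
      have e2 : eb ∉ X := by
        intro h
        rw [hX] at h
        have := (mem_smul_iff σ⁻¹ _ eb).2 h
        rw [hbi, inv_smul_smul, mem_maskSet, ob] at this
        exact absurd this (by decide)
      have e : Equiv.swap ea eb • X = symmDiff X (maskSet pm) := by
        ext z
        have hz : z ∈ Equiv.swap ea eb • X ↔ Equiv.swap ea eb z ∈ X := by
          rw [← mem_smul_iff (Equiv.swap ea eb) X (Equiv.swap ea eb z), Equiv.swap_apply_self]
        have hp : ∀ z : GolayPt, z ∈ maskSet pm ↔ z = ea ∨ z = eb := by decide +kernel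
        rw [hz, Finset.mem_symmDiff, hp]
        by_cases h1 : z = ea
        · subst h1; simp [e1, e2]
        by_cases h2 : z = eb
        · subst h2; simp [e1, e2]
        · simp [Equiv.swap_apply_of_ne_of_ne h1 h2, h1, h2]
      rw [e, mem_supports_iff, mask_symmDiff, mask_maskSet (by norm_num [pm])]
      exact hc

/-! ### The outer automorphism group -/

theorem stab22 (d : GolayPt) :
    (MulAction.stabilizer Spor.M22 d).map Spor.M22.subtype = fixers M24 [ea, eb, d] := by
  ext g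
  constructor
  · rintro ⟨⟨x, hx⟩, hd, rfl⟩
    rw [M22_eq] at hx
    refine ⟨hx.1, fun y hy => ?_⟩
    rcases List.mem_cons.1 hy with rfl | hy
    · exact hx.2 _ (by simp)
    rcases List.mem_cons.1 hy with rfl | hy
    · exact hx.2 _ (by simp)
    · obtain rfl := List.mem_singleton.1 hy; exact hd
  · intro hg
    refine ⟨⟨g, ?_⟩, hg.2 d (by simp), rfl⟩
    rw [M22_eq]
    exact mem_K22.2 ⟨hg.1, hg.2 _ (by simp), hg.2 _ (by simp)⟩

theorem mem22 (g : Spor.M22) : (g : pG) ∈ K22 := (SetLike.ext_iff.1 M22_eq (g : pG)).1 g.2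

theorem fixed_iff {g : pG} {y : GolayPt} (hg : g ∈ K22) :
    (g y = ea ↔ y = ea) ∧ (g y = eb ↔ y = eb) :=
  ⟨⟨fun h => g.injective (h.trans (mem_K22.1 hg).2.1.symm), fun h => h ▸ (mem_K22.1 hg).2.1⟩,
    ⟨fun h => g.injective (h.trans (mem_K22.1 hg).2.2.symm), fun h => h ▸ (mem_K22.1 hg).2.2⟩⟩

theorem exists_fourth : ∀ u v : GolayPt, ∃ c : GolayPt, c ≠ ea ∧ c ≠ eb ∧ c ≠ u ∧ c ≠ v := by
  decide +kernel

theorem inj22 {u v : GolayPt} (hu : u ≠ ea ∧ u ≠ eb) (hv : v ≠ ea ∧ v ≠ eb)
    (h : MulAction.stabilizer Spor.M22 u = MulAction.stabilizer Spor.M22 v) : u = v := by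
  by_contra hne
  obtain ⟨c, hca, hcb, hcu, hcv⟩ := exists_fourth u v
  obtain ⟨g, hg, he⟩ := exists_map_injOn (x := [ea, eb, u, v]) (y := [ea, eb, u, c])
    (by simp [Ne.symm hu.1, Ne.symm hu.2, Ne.symm hv.1, Ne.symm hv.2, hne])
    (by simp [Ne.symm hu.1, Ne.symm hu.2, Ne.symm hca, Ne.symm hcb, Ne.symm hcu]) rfl (by simp)
  have hgm : g ∈ Spor.M22 := by
    rw [M22_eq]; exact mem_K22.2 ⟨hg, he 0 (by simp), he 1 (by simp)⟩
  have hga : (⟨g, hgm⟩ : Spor.M22) ∈ MulAction.stabilizer Spor.M22 u := he 2 (by simp)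
  rw [h] at hga
  exact hcv ((he 3 (by simp)).symm.trans hga)

/-- An automorphism is conjugation by a permutation fixing both extra points. -/
theorem exists_perm22 (φ : Spor.M22 ≃* Spor.M22) :
    ∃ σ : pG, σ ea = ea ∧ σ eb = eb ∧ ∀ g : Spor.M22, σ * g * σ⁻¹ = (φ g : pG) := by
  classical
  have himg : ∀ u : GolayPt, ∃ w : GolayPt, (u ≠ ea ∧ u ≠ eb) → (w ≠ ea ∧ w ≠ eb) ∧
      (MulAction.stabilizer Spor.M22 u).map φ.toMonoidHom = MulAction.stabilizer Spor.M22 w := by
    intro u
    by_cases hu : u ≠ ea ∧ u ≠ eb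
    · have hle : ((MulAction.stabilizer Spor.M22 u).map φ.toMonoidHom).map Spor.M22.subtype ≤ K22 :=
        M22_eq ▸ Subgroup.map_subtype_le _
      have hc := (map_stab_card φ u).trans (by rw [stab22, card_three hu.1 hu.2])
      obtain ⟨w, hw1, hw2, hw⟩ := exists_fixed22 _ hle hc
      refine ⟨w, fun _ => ⟨⟨hw1, hw2⟩, Subgroup.map_injective Spor.M22.subtype_injective ?_⟩⟩
      rw [stab22]
      exact Subgroup.eq_of_le_of_card_ge hw (by rw [hc, card_three hw1 hw2])
    · exact ⟨u, fun h => absurd h hu⟩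
  choose s hs using himg
  let s' : GolayPt → GolayPt := fun u => if u ≠ ea ∧ u ≠ eb then s u else u
  have hsinj : Function.Injective s' := by
    intro u v huv
    simp only [s'] at huv
    by_cases hu : u ≠ ea ∧ u ≠ eb <;> by_cases hv : v ≠ ea ∧ v ≠ eb
    · rw [if_pos hu, if_pos hv] at huv
      refine inj22 hu hv (Subgroup.map_injective (f := φ.toMonoidHom) φ.injective ?_)
      rw [(hs u hu).2, (hs v hv).2, huv]
    · rw [if_pos hu, if_neg hv] at huv
      exact absurd (huv ▸ (hs u hu).1) hv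
    · rw [if_neg hu, if_pos hv] at huv
      exact absurd (huv ▸ (hs v hv).1) hu
    · rwa [if_neg hu, if_neg hv] at huv
  let σ : pG := Equiv.ofBijective s' (Finite.injective_iff_bijective.1 hsinj)
  have h0 : σ ea = ea := by simp [σ, s', Equiv.ofBijective]
  have h1 : σ eb = eb := by simp [σ, s', Equiv.ofBijective]
  have heq : ∀ (g : Spor.M22) (u : GolayPt), σ ((g : pG) u) = (φ g : pG) (σ u) := by
    intro g u
    show s' (g • u) = φ g • s' u
    by_cases hu : u ≠ ea ∧ u ≠ eb
    · have hgu : g • u ≠ ea ∧ g • u ≠ eb :=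
        ⟨fun h => hu.1 ((fixed_iff (mem22 g)).1.1 h), fun h => hu.2 ((fixed_iff (mem22 g)).2.1 h)⟩
      have hw := (hs u hu).1
      have hpw : φ g • s u ≠ ea ∧ φ g • s u ≠ eb :=
        ⟨fun h => hw.1 ((fixed_iff (mem22 _)).1.1 h), fun h => hw.2 ((fixed_iff (mem22 _)).2.1 h)⟩
      simp only [s', if_pos hu, if_pos hgu]
      apply inj22 (hs _ hgu).1 hpw
      rw [← (hs _ hgu).2, MulAction.stabilizer_smul_eq_stabilizer_map_conj,
        MulAction.stabilizer_smul_eq_stabilizer_map_conj, ← (hs u hu).2, Subgroup.map_map,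
        Subgroup.map_map]
      congr 1
      ext h
      simp
    · have hfix : ∀ k : Spor.M22, k • u = u := fun k => by
        by_cases ha : u = ea
        · subst ha; exact (mem_K22.1 (mem22 k)).2.1
        · obtain rfl : u = eb := not_not.1 fun hb => hu ⟨ha, hb⟩
          exact (mem_K22.1 (mem22 k)).2.2
      rw [hfix g]
      simp only [s', if_neg hu]
      exact (hfix (φ g)).symm
  refine ⟨σ, h0, h1, fun g => Equiv.ext fun x => ?_⟩
  rw [Equiv.Perm.mul_apply, Equiv.Perm.mul_apply, heq, Equiv.Perm.coe_inv, Equiv.apply_symm_apply]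

theorem conj_mem22 {g k : pG} (hg : g ∈ M24) (ha : g ea = eb) (hb : g eb = ea) (hk : k ∈ K22) :
    g * k * g⁻¹ ∈ K22 := by
  obtain ⟨hkm, hka, hkb⟩ := mem_K22.1 hk
  refine mem_K22.2 ⟨M24.mul_mem (M24.mul_mem hg hkm) (M24.inv_mem hg), ?_, ?_⟩
  · rw [Equiv.Perm.mul_apply, Equiv.Perm.mul_apply, Equiv.Perm.inv_eq_iff_eq.2 hb.symm, hkb, hb]
  · rw [Equiv.Perm.mul_apply, Equiv.Perm.mul_apply, Equiv.Perm.inv_eq_iff_eq.2 ha.symm, hka, ha]

/-- Conjugation by an element of the Mathieu group interchanging the two points. -/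
noncomputable def outer (g : pG) (hg : g ∈ M24) (ha : g ea = eb) (hb : g eb = ea) :
    Spor.M22 ≃* Spor.M22 where
  toFun k := ⟨g * k * g⁻¹, (SetLike.ext_iff.1 M22_eq _).2 (conj_mem22 hg ha hb (mem22 k))⟩
  invFun k := ⟨g⁻¹ * k * g⁻¹⁻¹, (SetLike.ext_iff.1 M22_eq _).2 (conj_mem22 (M24.inv_mem hg)
    (Equiv.Perm.inv_eq_iff_eq.2 hb.symm) (Equiv.Perm.inv_eq_iff_eq.2 ha.symm) (mem22 k))⟩
  left_inv k := by apply Subtype.ext; simp; group
  right_inv k := by apply Subtype.ext; simp; group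
  map_mul' k l := by apply Subtype.ext; simp [mul_assoc]

theorem swap_not_mem : Equiv.swap ea eb ∉ M24 := by
  intro h
  have h1 := smul_mem_supports h (s := maskSet oct1)
    (mem_supports_iff.2 (by rw [mask_maskSet oct1_spec.2.2.1]; exact oct1_spec.1))
  rw [mem_supports_iff] at h1
  revert h1
  decide +kernel

theorem inner_of_mem {φ : Spor.M22 ≃* Spor.M22} {σ : pG} (h : ∀ g : Spor.M22, σ * g * σ⁻¹ = (φ g : pG))
    (hσ : σ ∈ K22) : φ ∈ Inn Spor.M22 :=
  ⟨⟨σ, (SetLike.ext_iff.1 M22_eq σ).2 hσ⟩, MulEquiv.ext fun g => Subtype.ext (h g)⟩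

theorem index_inn : (Inn Spor.M22).index = 2 := by
  obtain ⟨g₀, hg₀, he⟩ := exists_map_injOn (x := [ea, eb]) (y := [eb, ea]) (by decide) (by decide)
    rfl (by simp)
  have ha₀ : g₀ ea = eb := he 0 (by simp)
  have hb₀ : g₀ eb = ea := he 1 (by simp)
  let ψ : MulAut Spor.M22 := outer g₀ hg₀ ha₀ hb₀
  have hψc : ∀ g : Spor.M22, g₀ * g * g₀⁻¹ = (ψ g : pG) := fun g => rfl
  have hψ : ψ ∉ Inn Spor.M22 := by
    rintro ⟨m, hm⟩
    obtain ⟨hmm, hma, hmb⟩ := mem_K22.1 (mem22 m)
    set τ : pG := (m : pG)⁻¹ * g₀ with hτ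
    have hcomm : ∀ k : Spor.M22, τ * k = k * τ := by
      intro k
      have h1 : ((MulAut.conj m k : Spor.M22) : pG) = (ψ k : pG) := by rw [hm]
      rw [← hψc] at h1
      simp only [MulAut.conj_apply, Subgroup.coe_mul, InvMemClass.coe_inv] at h1
      calc τ * k = (m : pG)⁻¹ * (g₀ * k * g₀⁻¹) * g₀ := by rw [hτ]; group
        _ = k * τ := by rw [← h1, hτ]; group
    have hta : τ ea = eb := by
      rw [hτ, Equiv.Perm.mul_apply, ha₀, Equiv.Perm.inv_eq_iff_eq, hmb]
    have htb : τ eb = ea := by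
      rw [hτ, Equiv.Perm.mul_apply, hb₀, Equiv.Perm.inv_eq_iff_eq, hma]
    have htu : ∀ u : GolayPt, u ≠ ea → u ≠ eb → τ u = u := by
      intro u hua hub
      have hw : τ u ≠ ea ∧ τ u ≠ eb :=
        ⟨fun h => hub (τ.injective (h.trans htb.symm)), fun h => hua (τ.injective (h.trans hta.symm))⟩
      refine (inj22 ⟨hua, hub⟩ hw ?_).symm
      ext k
      simp only [MulAction.mem_stabilizer_iff]
      show (k : pG) u = u ↔ (k : pG) (τ u) = τ u
      rw [← Equiv.Perm.mul_apply, ← hcomm, Equiv.Perm.mul_apply, τ.injective.eq_iff]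
    refine swap_not_mem ?_
    have : Equiv.swap ea eb = τ := by
      ext u : 1
      by_cases hua : u = ea
      · subst hua; rw [Equiv.swap_apply_left, hta]
      by_cases hub : u = eb
      · subst hub; rw [Equiv.swap_apply_right, htb]
      rw [Equiv.swap_apply_of_ne_of_ne hua hub, htu u hua hub]
    rw [this]
    exact M24.mul_mem (M24.inv_mem hmm) hg₀
  rw [Subgroup.index_eq_two_iff]
  refine ⟨ψ, fun φ => ?_⟩
  suffices φ ∈ Inn Spor.M22 ∨ φ * ψ ∈ Inn Spor.M22 by
    have hno : ¬ (φ * ψ ∈ Inn Spor.M22 ∧ φ ∈ Inn Spor.M22) := fun h =>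
      hψ (by simpa using (Inn Spor.M22).mul_mem ((Inn Spor.M22).inv_mem h.2) h.1)
    by_cases h : φ ∈ Inn Spor.M22
    · exact Or.inr ⟨h, fun h' => hno ⟨h', h⟩⟩
    · exact Or.inl ⟨this.resolve_left h, h⟩
  obtain ⟨σ, ha, hb, hσ⟩ := exists_perm22 φ
  have hn : ∀ g ∈ K22, σ * g * σ⁻¹ ∈ K22 := fun g hg => by
    have := mem22 (φ ⟨g, (SetLike.ext_iff.1 M22_eq g).2 hg⟩)
    rwa [← hσ] at this
  rcases mem_or_swap ha hb hn with hm | hm
  · exact Or.inl (inner_of_mem hσ (mem_K22.2 ⟨hm, ha, hb⟩))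
  · right
    set τ : pG := Equiv.swap ea eb with hτ
    refine inner_of_mem (σ := τ * σ * g₀) (fun g => ?_) (mem_K22.2 ⟨M24.mul_mem hm hg₀, ?_, ?_⟩)
    · have hcomm : τ * (φ (ψ g) : pG) * τ⁻¹ = (φ (ψ g) : pG) := by
        obtain ⟨-, hka, hkb⟩ := mem_K22.1 (mem22 (φ (ψ g)))
        rw [mul_inv_eq_iff_eq_mul]
        rw [Equiv.mul_swap_eq_swap_mul (φ (ψ g) : pG) ea eb, hka, hkb]
      show τ * σ * g₀ * g * (τ * σ * g₀)⁻¹ = (φ (ψ g) : pG)
      calc τ * σ * g₀ * g * (τ * σ * g₀)⁻¹ = τ * (σ * (g₀ * g * g₀⁻¹) * σ⁻¹) * τ⁻¹ := by group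
        _ = (φ (ψ g) : pG) := by rw [hψc, hσ, hcomm]
    · rw [Equiv.Perm.mul_apply, ha₀, Equiv.Perm.mul_apply, hb, hτ, Equiv.swap_apply_right]
    · rw [Equiv.Perm.mul_apply, hb₀, Equiv.Perm.mul_apply, ha, hτ, Equiv.swap_apply_left]

end Cfsg.Agent.Golay.AutM22
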