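import Mathlib

/-!
Uniqueness of the biplane on eleven points: eleven 5-sets, two common points for any two.
-/

set_option autoImplicit false
set_option maxRecDepth 20000

namespace Cfsg.Agent.Golay.Biplane

/-- The pairs of the five points of the first block. -/
def pairs : List (ℕ × ℕ) := [(0, 1), (2, 3), (0, 2), (0, 3), (0, 4), (1, 2), (1, 3), (1, 4), (2, 4), (3, 4)]

/-- The standard blocks. -/
def stdBlocks : List ℕ := [31, 227, 364, 1413, 1609, 817, 1574, 906, 1362, 724, 1208]

/-- Relabellings bringing each solution to standard form. -/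
def relabels : List (List ℕ) := [[0, 1, 2, 4, 3, 7, 6, 5, 9, 8, 10], [0, 1, 2, 4, 3, 7, 6, 5, 9, 10, 8], [0, 1, 2, 4, 3, 6, 7, 5, 9, 8, 10], [0, 1, 2, 4, 3, 6, 7, 5, 9, 10, 8], [0, 1, 2, 3, 4, 6, 5, 7, 8, 10, 9], [0, 1, 2, 3, 4, 5, 6, 7, 8, 10, 9], [0, 1, 2, 3, 4, 6, 5, 7, 8, 9, 10], [0, 1, 2, 3, 4, 5, 6, 7, 8, 9, 10]]

/-- The mask of a set of labels. -/
def msk11 (s : Finset (Fin 11)) : ℕ := Nat.ofBits fun i : Fin 11 => decide (i ∈ s)

/-- The number of bits among the low eleven. -/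
def wt11 (m : ℕ) : ℕ := ((List.range 11).filter fun i => m.testBit i).length

theorem testBit_msk11 (s : Finset (Fin 11)) (i : Fin 11) : (msk11 s).testBit i.1 = decide (i ∈ s) := by
  rw [msk11, Nat.testBit_ofBits_lt _ _ i.2]

theorem msk11_lt (s : Finset (Fin 11)) : msk11 s < 2048 := Nat.ofBits_lt_two_pow _

theorem msk11_inter (s t : Finset (Fin 11)) : msk11 (s ∩ t) = msk11 s &&& msk11 t := by
  apply Nat.eq_of_testBit_eq
  intro i
  rcases Nat.lt_or_ge i 11 with hi | hi
  · simp only [msk11, Nat.testBit_and, Nat.testBit_ofBits_lt _ _ hi, Finset.mem_inter,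
      Bool.decide_and]
  · simp only [msk11, Nat.testBit_and, Nat.testBit_ofBits_ge _ _ hi, Bool.and_false]

theorem card_eq_wt11 (s : Finset (Fin 11)) : s.card = wt11 (msk11 s) := by
  have hs : s = Finset.univ.filter fun i : Fin 11 => (msk11 s).testBit i.1 = true := by
    ext i; simp [testBit_msk11]
  have hall : ∀ m < 2048, (Finset.univ.filter fun i : Fin 11 => m.testBit i.1 = true).card = wt11 m := by
    decide +kernel
  conv_lhs => rw [hs]
  exact hall _ (msk11_lt s)

/-- The mask of pair number `k`. -/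
def pairMask (k : ℕ) : ℕ := 1 <<< (pairs.getD k (0, 0)).1 ||| 1 <<< (pairs.getD k (0, 0)).2

/-- Candidates for block `k`. -/
def cands (k : ℕ) : List ℕ :=
  ((List.range 64).map fun t => pairMask k ||| t <<< 5).filter fun m => wt11 m == 5

/-- Partial solutions, newest first. -/
def grow : ℕ → List (List ℕ)
  | 0 => [[]]
  | k + 1 => (grow k).flatMap fun l => ((cands k).filter fun m =>
      (l.all fun p => wt11 (p &&& m) == 2) &&
        (decide (2 ≤ k) || stdBlocks.getD (k + 1) 0 == m)).map (· :: l)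

/-- Every solution is a relabelling of the standard one. -/
def solutionsOK : Bool :=
  (grow 10).all fun l => relabels.any fun p =>
    (decide p.Nodup && decide (p.length = 11) && p.all fun x => decide (x < 11)) &&
    ((31 :: l).all fun m => stdBlocks.contains
      (((List.range 11).map fun i => if m.testBit i then 2 ^ p.getD i 0 else 0).sum))

theorem solutionsOK_true : solutionsOK = true := by decide +kernel

theorem cands_mem {k : ℕ} (hk : k < 10) {s : Finset (Fin 11)} (hc : s.card = 5)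
    (hp : msk11 s &&& 31 = pairMask k) : msk11 s ∈ cands k := by
  refine List.mem_filter.2 ⟨List.mem_map.2 ⟨msk11 s >>> 5, List.mem_range.2 ?_, ?_⟩, ?_⟩
  · rw [Nat.shiftRight_eq_div_pow]; have := msk11_lt s; omega
  · rw [← hp]
    apply Nat.eq_of_testBit_eq
    intro i
    have h31 : (31 : ℕ) = 2 ^ 5 - 1 := rfl
    simp only [Nat.testBit_or, Nat.testBit_and, Nat.testBit_shiftLeft, Nat.testBit_shiftRight, h31,
      Nat.testBit_two_pow_sub_one]
    rcases Nat.lt_or_ge i 5 with h | h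
    · simp [h]
    · simp [h, show ¬ i < 5 by omega, Nat.add_sub_cancel' h]
  · rw [← card_eq_wt11, hc]; rfl

theorem grow_mem (m : Fin 10 → ℕ) (hmem : ∀ k : Fin 10, m k ∈ cands k.1)
    (hint : ∀ k l : Fin 10, k ≠ l → wt11 (m k &&& m l) = 2)
    (h0 : m 0 = stdBlocks.getD 1 0) (h1 : m 1 = stdBlocks.getD 2 0) :
    ∀ k, (hk : k ≤ 10) → ∃ l ∈ grow k, ∀ x, x ∈ l ↔ ∃ j : Fin 10, j.1 < k ∧ m j = x
  | 0, _ => ⟨[], by simp [grow], by simp⟩
  | k + 1, hk => by
    obtain ⟨l, hl, hiff⟩ := grow_mem m hmem hint h0 h1 k (by omega)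
    refine ⟨m ⟨k, by omega⟩ :: l, ?_, fun x => ?_⟩
    · simp only [grow, List.mem_flatMap, List.mem_map, List.mem_filter, Bool.and_eq_true,
        List.all_eq_true, beq_iff_eq, Bool.or_eq_true, decide_eq_true_eq]
      refine ⟨l, hl, _, ⟨hmem ⟨k, by omega⟩, fun p hp => ?_, ?_⟩, rfl⟩
      · obtain ⟨j, hj, rfl⟩ := (hiff p).1 hp
        exact hint _ _ fun e => by rw [e] at hj; exact lt_irrefl k hj
      · match k, hk with
        | 0, _ => exact Or.inr h0.symm
        | 1, _ => exact Or.inr h1.symm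
        | k + 2, _ => exact Or.inl (by omega)
    · rw [List.mem_cons, hiff]
      constructor
      · rintro (rfl | ⟨j, hj, rfl⟩)
        · exact ⟨⟨k, by omega⟩, Nat.lt_succ_self k, rfl⟩
        · exact ⟨j, by omega, rfl⟩
      · rintro ⟨j, hj, rfl⟩
        rcases Nat.lt_succ_iff_lt_or_eq.1 hj with h | h
        · exact Or.inr ⟨j, h, rfl⟩
        · exact Or.inl (congrArg m (Fin.ext h))

/-- A family on labels, with the first block and the first two others in standard form. -/
theorem exists_relabel (s : Fin 10 → Finset (Fin 11)) (hc : ∀ k, (s k).card = 5)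
    (hp : ∀ k, msk11 (s k) &&& 31 = pairMask k.1)
    (hint : ∀ k l, k ≠ l → (s k ∩ s l).card = 2)
    (h0 : msk11 (s 0) = stdBlocks.getD 1 0) (h1 : msk11 (s 1) = stdBlocks.getD 2 0) :
    ∃ π : Equiv.Perm (Fin 11), msk11 ((Finset.univ.filter fun i : Fin 11 => i.1 < 5).image π) ∈ stdBlocks ∧
      ∀ k, msk11 ((s k).image π) ∈ stdBlocks := by
  obtain ⟨l, hl, hiff⟩ := grow_mem (fun k => msk11 (s k)) (fun k => cands_mem k.2 (hc k) (hp k))
    (fun k l h => by rw [← msk11_inter, ← card_eq_wt11, hint k l h]) h0 h1 10 le_rfl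
  obtain ⟨p, -, hp⟩ := List.any_eq_true.1 (List.all_eq_true.1 solutionsOK_true l hl)
  simp only [Bool.and_eq_true, decide_eq_true_eq, List.all_eq_true, List.contains_eq_mem] at hp
  obtain ⟨⟨⟨hnd, hlen⟩, hlt⟩, himg⟩ := hp
  let f : Fin 11 → Fin 11 := fun i =>
    ⟨p.getD i.1 0, by rw [List.getD_eq_getElem _ _ (by omega)]; exact hlt _ (List.getElem_mem _)⟩
  have hf : Function.Injective f := fun i j h => by
    have h' := congrArg Fin.val h
    simp only [f, List.getD_eq_getElem _ _ (show i.1 < p.length by omega),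
      List.getD_eq_getElem _ _ (show j.1 < p.length by omega)] at h'
    exact Fin.ext (hnd.getElem_inj_iff.1 h')
  let π : Equiv.Perm (Fin 11) := Equiv.ofBijective f (Finite.injective_iff_bijective.1 hf)
  have himgmask : ∀ t : Finset (Fin 11), msk11 (t.image π) =
      ((List.range 11).map fun i => if (msk11 t).testBit i then 2 ^ p.getD i 0 else 0).sum := by
    intro t
    have hsum : ∀ u : Finset (Fin 11), msk11 u = ∑ i ∈ u, 2 ^ i.1 := by decide +kernel
    rw [hsum, Finset.sum_image fun a _ b _ h => π.injective h]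
    rw [show ((List.range 11).map fun i => if (msk11 t).testBit i then 2 ^ p.getD i 0 else 0).sum =
        ∑ i : Fin 11, if (msk11 t).testBit i.1 then 2 ^ p.getD i.1 0 else 0 by
      rw [Fin.sum_univ_def, ← List.map_coe_finRange_eq_range, List.map_map]; rfl]
    simp only [testBit_msk11, decide_eq_true_eq, Finset.sum_ite_mem, Finset.univ_inter]
    exact Finset.sum_congr rfl fun i _ => rfl
  refine ⟨π, ?_, fun k => ?_⟩
  · rw [himgmask]
    have e : msk11 (Finset.univ.filter fun i : Fin 11 => i.1 < 5) = 31 := by decide +kernel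
    exact himg _ (by rw [e]; exact List.mem_cons_self)
  · rw [himgmask]
    exact himg _ (List.mem_cons_of_mem _ ((hiff _).2 ⟨k, k.2, rfl⟩))

section Abstract

variable {ι α : Type*} [Fintype ι] [DecidableEq ι] [Fintype α] [DecidableEq α]

theorem point_pair_counts (hι : Fintype.card ι = 11) (hα : Fintype.card α = 11) (f : ι → Finset α)
    (h5 : ∀ i, (f i).card = 5) (h2 : ∀ i j, i ≠ j → (f i ∩ f j).card = 2) :
    ∀ p q : α, p ≠ q → (Finset.univ.filter fun i => p ∈ f i ∧ q ∈ f i).card = 2 := by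
  classical
  let O : Finset (α × α) := Finset.univ.offDiag
  let lam : α × α → ℤ := fun z => ∑ i, if z ∈ (f i).offDiag then 1 else 0
  have hO : O.card = 110 := by
    simp [O, Finset.offDiag_card, hα]
  have hs1 : ∑ z ∈ O, lam z = 220 := by
    simp only [lam]
    rw [Finset.sum_comm]
    have : ∀ i, ∑ z ∈ O, (if z ∈ (f i).offDiag then (1 : ℤ) else 0) = 20 := fun i => by
      rw [Finset.sum_ite_mem, Finset.inter_eq_right.2 (fun z hz => by
        simp only [O, Finset.mem_offDiag] at hz ⊢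
        exact ⟨Finset.mem_univ _, Finset.mem_univ _, hz.2.2⟩)]
      simp [Finset.offDiag_card, h5 i]
    rw [Finset.sum_congr rfl fun i _ => this i]
    simp [hι]
  have hs2 : ∑ z ∈ O, lam z ^ 2 = 440 := by
    simp only [lam, sq, Finset.sum_mul_sum]
    rw [Finset.sum_comm]
    have key : ∀ i j, ∑ z ∈ O, ((if z ∈ (f i).offDiag then (1 : ℤ) else 0) *
        (if z ∈ (f j).offDiag then 1 else 0)) = if i = j then 20 else 2 := by
      intro i j
      have e : ∀ z, (if z ∈ (f i).offDiag then (1 : ℤ) else 0) *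
          (if z ∈ (f j).offDiag then 1 else 0) = if z ∈ (f i ∩ f j).offDiag then 1 else 0 := fun z => by
        by_cases a : z ∈ (f i).offDiag <;> by_cases b : z ∈ (f j).offDiag <;>
          simp_all [Finset.mem_offDiag]
      simp only [e]
      rw [Finset.sum_ite_mem, Finset.inter_eq_right.2 (fun z hz => by
        simp only [O, Finset.mem_offDiag] at hz ⊢
        exact ⟨Finset.mem_univ _, Finset.mem_univ _, hz.2.2⟩)]
      split_ifs with h
      · subst h; simp [Finset.offDiag_card, h5 i]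
      · simp [Finset.offDiag_card, h2 i j h]
    have : ∀ i, ∑ z ∈ O, ∑ j, ((if z ∈ (f i).offDiag then (1 : ℤ) else 0) *
        (if z ∈ (f j).offDiag then 1 else 0)) = 40 := fun i => by
      rw [Finset.sum_comm]
      simp only [key, Finset.sum_ite, Finset.filter_eq, Finset.mem_univ, if_true, Finset.sum_const,
        Finset.card_singleton, Finset.filter_ne, Finset.card_erase_of_mem, Finset.card_univ, hι]
      norm_num
    rw [Finset.sum_congr rfl fun i _ => this i]
    simp [hι]
  have hzero : ∑ z ∈ O, (lam z - 2) ^ 2 = 0 := by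
    simp only [sub_sq, Finset.sum_add_distrib, Finset.sum_sub_distrib, ← Finset.sum_mul,
      ← Finset.mul_sum, Finset.sum_const, hO, hs1, hs2]
    norm_num
  intro p q hpq
  have h := (Finset.sum_eq_zero_iff_of_nonneg fun z _ => sq_nonneg _).1 hzero (p, q)
    (by simp [O, hpq])
  have h' : lam (p, q) = 2 := sub_eq_zero.1 (pow_eq_zero_iff two_ne_zero |>.1 h)
  simp only [lam, Finset.mem_offDiag, hpq, ne_eq, not_false_eq_true, and_true] at h'
  rw [Finset.sum_boole] at h'
  exact_mod_cast h'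

theorem exists_std (hι : Fintype.card ι = 11) (hα : Fintype.card α = 11) (f : ι → Finset α)
    (h5 : ∀ i, (f i).card = 5) (h2 : ∀ i j, i ≠ j → (f i ∩ f j).card = 2) :
    ∃ σ : α ≃ Fin 11, ∀ i, msk11 ((f i).image σ) ∈ stdBlocks := by
  classical
  have hlam := point_pair_counts hι hα f h5 h2
  obtain ⟨i₀⟩ : Nonempty ι := Fintype.card_pos_iff.1 (by omega)
  let fv : Fin 5 → α := fun j => ((f i₀).equivFinOfCardEq (h5 i₀)).symm j
  have hfv : Function.Injective fv := fun a b h => by simpa [fv, Subtype.ext_iff] using h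
  have hfvmem : ∀ j, fv j ∈ f i₀ := fun j => (((f i₀).equivFinOfCardEq (h5 i₀)).symm j).2
  let pa : Fin 10 → Fin 5 := fun k => Fin.ofNat 5 (pairs.getD k.1 (0, 0)).1
  let pb : Fin 10 → Fin 5 := fun k => Fin.ofNat 5 (pairs.getD k.1 (0, 0)).2
  have hpair : ∀ k, pa k ≠ pb k ∧ ∀ l, k ≠ l →
      ({pa k, pb k} : Finset (Fin 5)) ≠ {pa l, pb l} := by decide +kernel
  have hg : ∀ k, ∃ i, i ≠ i₀ ∧ fv (pa k) ∈ f i ∧ fv (pb k) ∈ f i := by
    intro k
    obtain ⟨i, hi, hne⟩ := Finset.exists_mem_ne (show 1 < (Finset.univ.filter fun i =>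
      fv (pa k) ∈ f i ∧ fv (pb k) ∈ f i).card by
        rw [hlam _ _ fun e => (hpair k).1 (hfv e)]; norm_num) i₀
    exact ⟨i, hne, (Finset.mem_filter.1 hi).2⟩
  choose g hg0 hga hgb using hg
  have hinterB : ∀ k, f (g k) ∩ f i₀ = {fv (pa k), fv (pb k)} := fun k => by
    refine (Finset.eq_of_subset_of_card_le ?_ ?_).symm
    · intro x hx
      simp only [Finset.mem_insert, Finset.mem_singleton] at hx
      rcases hx with rfl | rfl <;> simp [hga k, hgb k, hfvmem]
    · rw [h2 _ _ (hg0 k), Finset.card_pair fun e => (hpair k).1 (hfv e)]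
  have hginj : Function.Injective g := fun k l h => by
    by_contra hne
    refine (hpair k).2 l hne (Finset.image_injective hfv ?_)
    rw [Finset.image_insert, Finset.image_singleton, Finset.image_insert, Finset.image_singleton,
      ← hinterB, ← hinterB, h]
  have hcover : ∀ i, i ≠ i₀ → ∃ k, g k = i := by
    intro i hi
    have : Finset.univ.image g = Finset.univ.erase i₀ := by
      refine Finset.eq_of_subset_of_card_le (fun x hx => ?_) ?_
      · obtain ⟨k, -, rfl⟩ := Finset.mem_image.1 hx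
        exact Finset.mem_erase.2 ⟨hg0 k, Finset.mem_univ _⟩
      · rw [Finset.card_image_of_injective _ hginj, Finset.card_erase_of_mem (Finset.mem_univ _),
          Finset.card_univ, hι, Finset.card_univ, Fintype.card_fin]
    obtain ⟨k, -, hk⟩ := Finset.mem_image.1
      (this ▸ Finset.mem_erase.2 ⟨hi, Finset.mem_univ i⟩ : i ∈ Finset.univ.image g)
    exact ⟨k, hk⟩
  -- labels
  let O : Fin 10 → Finset α := fun k => f (g k) \ f i₀
  have hO : ∀ k, (O k).card = 3 := fun k => by
    have := Finset.card_sdiff_add_card_inter (f (g k)) (f i₀)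
    rw [h2 _ _ (hg0 k), h5] at this
    show (f (g k) \ f i₀).card = 3
    omega
  have h01 : (f (g 0) ∩ f (g 1)) ∩ f i₀ = ∅ := by
    ext x
    simp only [Finset.mem_inter, Finset.notMem_empty, iff_false, not_and]
    rintro ⟨hx0, hx1⟩ hx
    have a : x ∈ f (g 0) ∩ f i₀ := Finset.mem_inter.2 ⟨hx0, hx⟩
    have b : x ∈ f (g 1) ∩ f i₀ := Finset.mem_inter.2 ⟨hx1, hx⟩
    rw [hinterB] at a b
    have hne : pa 0 ≠ pa 1 ∧ pa 0 ≠ pb 1 ∧ pb 0 ≠ pa 1 ∧ pb 0 ≠ pb 1 := by decide +kernel
    simp only [Finset.mem_insert, Finset.mem_singleton] at a b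
    rcases a with rfl | rfl <;> rcases b with b | b
    exacts [hne.1 (hfv b), hne.2.1 (hfv b), hne.2.2.1 (hfv b), hne.2.2.2 (hfv b)]
  have hXcard : (O 0 ∩ O 1).card = 2 := by
    have e : O 0 ∩ O 1 = f (g 0) ∩ f (g 1) := by
      refine Finset.Subset.antisymm (fun x hx => ?_) (fun x hx => ?_)
      · simp only [O, Finset.mem_inter, Finset.mem_sdiff] at hx ⊢; exact ⟨hx.1.1, hx.2.1⟩
      · have hn : x ∉ f i₀ := fun h =>
          (Finset.eq_empty_iff_forall_notMem.1 h01 x) (Finset.mem_inter.2 ⟨hx, h⟩)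
        simp only [O, Finset.mem_inter, Finset.mem_sdiff] at hx ⊢; exact ⟨⟨hx.1, hn⟩, hx.2, hn⟩
    rw [e, h2 _ _ fun h => absurd (hginj h) (by decide)]
  obtain ⟨x, y, hxy, hX⟩ := Finset.card_eq_two.1 hXcard
  obtain ⟨z, hz⟩ := Finset.card_eq_one.1 (show (O 0 \ O 1).card = 1 by
    have := Finset.card_sdiff_add_card_inter (O 0) (O 1); rw [hXcard, hO] at this; omega)
  obtain ⟨w, hw⟩ := Finset.card_eq_one.1 (show (O 1 \ O 0).card = 1 by
    have := Finset.card_sdiff_add_card_inter (O 1) (O 0)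
    rw [Finset.inter_comm, hXcard, hO] at this; omega)
  have mx : x ∈ O 0 ∧ x ∈ O 1 := Finset.mem_inter.1 (by rw [hX]; simp)
  have my : y ∈ O 0 ∧ y ∈ O 1 := Finset.mem_inter.1 (by rw [hX]; simp)
  have mz : z ∈ O 0 ∧ z ∉ O 1 := Finset.mem_sdiff.1 (by rw [hz]; simp)
  have mw : w ∈ O 1 ∧ w ∉ O 0 := Finset.mem_sdiff.1 (by rw [hw]; simp)
  have hout : ∀ k t, t ∈ O k → t ∉ f i₀ := fun k t h => (Finset.mem_sdiff.1 h).2
  obtain ⟨u, v, huv, hrest⟩ := Finset.card_eq_two.1 (show ((f i₀)ᶜ \ (O 0 ∪ O 1)).card = 2 by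
    have hsub : O 0 ∪ O 1 ⊆ (f i₀)ᶜ := fun t ht => Finset.mem_compl.2 (by
      rcases Finset.mem_union.1 ht with h | h <;> exact hout _ t h)
    rw [Finset.card_sdiff_of_subset hsub, Finset.card_compl, hα, h5]
    have := Finset.card_union_add_card_inter (O 0) (O 1)
    rw [hXcard, hO, hO] at this; omega)
  have mu : u ∉ f i₀ ∧ u ∉ O 0 ∧ u ∉ O 1 := by
    have h : u ∈ (f i₀)ᶜ \ (O 0 ∪ O 1) := by rw [hrest]; simp
    simpa using h
  have mv : v ∉ f i₀ ∧ v ∉ O 0 ∧ v ∉ O 1 := by
    have h : v ∈ (f i₀)ᶜ \ (O 0 ∪ O 1) := by rw [hrest]; simp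
    simpa using h
  let τ : Fin 11 → α := ![fv 0, fv 1, fv 2, fv 3, fv 4, x, y, z, w, u, v]
  have hτ : Function.Surjective τ := by
    intro t
    by_cases ht : t ∈ f i₀
    · obtain ⟨j, hj⟩ := ((f i₀).equivFinOfCardEq (h5 i₀)).symm.surjective ⟨t, ht⟩
      have hj' : fv j = t := congrArg Subtype.val hj
      fin_cases j
      exacts [⟨0, hj'⟩, ⟨1, hj'⟩, ⟨2, hj'⟩, ⟨3, hj'⟩, ⟨4, hj'⟩]
    · by_cases h0 : t ∈ O 0
      · by_cases h1 : t ∈ O 1
        · have : t ∈ ({x, y} : Finset α) := hX ▸ Finset.mem_inter.2 ⟨h0, h1⟩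
          simp only [Finset.mem_insert, Finset.mem_singleton] at this
          rcases this with rfl | rfl
          exacts [⟨5, rfl⟩, ⟨6, rfl⟩]
        · have : t ∈ ({z} : Finset α) := hz ▸ Finset.mem_sdiff.2 ⟨h0, h1⟩
          exact ⟨7, (Finset.mem_singleton.1 this).symm⟩
      · by_cases h1 : t ∈ O 1
        · have : t ∈ ({w} : Finset α) := hw ▸ Finset.mem_sdiff.2 ⟨h1, h0⟩
          exact ⟨8, (Finset.mem_singleton.1 this).symm⟩
        · have : t ∈ ({u, v} : Finset α) := hrest ▸ Finset.mem_sdiff.2 ⟨Finset.mem_compl.2 ht,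
            fun h => (Finset.mem_union.1 h).elim h0 h1⟩
          simp only [Finset.mem_insert, Finset.mem_singleton] at this
          rcases this with rfl | rfl
          exacts [⟨9, rfl⟩, ⟨10, rfl⟩]
  have hτb : Function.Bijective τ :=
    (Fintype.bijective_iff_surjective_and_card τ).2 ⟨hτ, by rw [hα, Fintype.card_fin]⟩
  let e : α ≃ Fin 11 := (Equiv.ofBijective τ hτb).symm
  have heval : ∀ (s : Finset α) (i : Fin 11), i ∈ s.image e ↔ τ i ∈ s := fun s i => by
    simp only [Finset.mem_image]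
    exact ⟨fun ⟨a, ha, he⟩ => by
      rw [← he, show τ (e a) = a from (Equiv.ofBijective τ hτb).apply_symm_apply a]; exact ha,
      fun h => ⟨τ i, h, (Equiv.ofBijective τ hτb).symm_apply_apply i⟩⟩
  have himg0 : (f i₀).image e = Finset.univ.filter fun i : Fin 11 => i.1 < 5 := by
    ext i
    rw [heval]
    fin_cases i <;>
      simp [τ, hfvmem, hout 0 x mx.1, hout 0 y my.1, hout 0 z mz.1, hout 1 w mw.1, mu.1, mv.1]
  have hfib : ∀ k (j : Fin 5), fv j ∈ f (g k) ↔ j = pa k ∨ j = pb k := fun k j => by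
    have h := Finset.ext_iff.1 (hinterB k) (fv j)
    simp only [Finset.mem_inter, hfvmem, and_true, Finset.mem_insert, Finset.mem_singleton,
      hfv.eq_iff] at h
    exact h
  obtain ⟨π, hπ0, hπ⟩ := exists_relabel (fun k => (f (g k)).image e)
    (fun k => by rw [Finset.card_image_of_injective _ e.injective, h5])
    (fun k => by
      apply Nat.eq_of_testBit_eq
      intro i
      rw [Nat.testBit_and]
      rcases Nat.lt_or_ge i 5 with hi | hi
      · have hcast : τ ⟨i, by omega⟩ = fv ⟨i, hi⟩ := by interval_cases i <;> rfl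
        rw [testBit_msk11 _ ⟨i, by omega⟩]
        simp only [heval, hcast, hfib]
        have hall : ∀ (k : Fin 10) (j : Fin 5),
            (decide (j = pa k ∨ j = pb k) && (31 : ℕ).testBit j.1) = (pairMask k.1).testBit j.1 := by
          decide +kernel
        exact hall k ⟨i, hi⟩
      · have h31 : (31 : ℕ).testBit i = false :=
          Nat.testBit_lt_two_pow (lt_of_lt_of_le (by norm_num : 31 < 2 ^ 5)
            (Nat.pow_le_pow_right (by norm_num) hi))
        have hall : ∀ k : Fin 10, pairMask k.1 < 2 ^ 5 := by decide +kernel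
        rw [h31, Bool.and_false, Nat.testBit_lt_two_pow (lt_of_lt_of_le (hall k)
          (Nat.pow_le_pow_right (by norm_num) hi))])
    (fun k l h => by
      rw [← Finset.image_inter _ _ e.injective, Finset.card_image_of_injective _ e.injective,
        h2 _ _ (hginj.ne h)])
    (by
      rw [show stdBlocks.getD 1 0 = msk11 ({0, 1, 5, 6, 7} : Finset (Fin 11)) by decide +kernel]
      congr 1
      have hf0 : ∀ t, t ∉ f i₀ → (t ∈ f (g 0) ↔ t ∈ O 0) := fun t ht => by simp [O, ht]
      ext i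
      rw [heval]
      fin_cases i <;>
        simp [τ, hfib, hf0 _ (hout 0 x mx.1), hf0 _ (hout 0 y my.1), hf0 _ (hout 0 z mz.1),
          hf0 _ (hout 1 w mw.1), hf0 _ mu.1, hf0 _ mv.1, mx.1, my.1, mz.1, mw.2, mu.2.1, mv.2.1,
          pa, pb, pairs] <;> decide)
    (by
      rw [show stdBlocks.getD 2 0 = msk11 ({2, 3, 5, 6, 8} : Finset (Fin 11)) by decide +kernel]
      congr 1
      have hf0 : ∀ t, t ∉ f i₀ → (t ∈ f (g 1) ↔ t ∈ O 1) := fun t ht => by simp [O, ht]
      ext i
      rw [heval]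
      fin_cases i <;>
        simp [τ, hfib, hf0 _ (hout 0 x mx.1), hf0 _ (hout 0 y my.1), hf0 _ (hout 0 z mz.1),
          hf0 _ (hout 1 w mw.1), hf0 _ mu.1, hf0 _ mv.1, mx.2, my.2, mz.2, mw.1, mu.2.2, mv.2.2,
          pa, pb, pairs] <;> decide)
  refine ⟨e.trans π, fun i => ?_⟩
  rw [Equiv.coe_trans, ← Finset.image_image]
  by_cases hi : i = i₀
  · subst hi; rw [himg0]; exact hπ0
  · obtain ⟨k, rfl⟩ := hcover i hi
    exact hπ k

end Abstract

end Cfsg.Agent.Golay.Biplane
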