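import Cfsg.Agent.Lib.Golay.Trans

/-!
Certificates for subgroups of `M24` given by packed image tables: membership, transversal chains,
orbit lists.

A table is `∑ i, (image of i) * 32^i`; `IsTab tab g` says that `g` acts as `tab`.
-/

set_option autoImplicit false
set_option maxRecDepth 10000

namespace Cfsg.Agent.Golay.Cert

open Cfsg Cfsg.Agent.Golay.Basic Cfsg.Agent.Golay.Design Cfsg.Agent.Golay.Perm Cfsg.Agent.Golay.M24
open scoped Pointwise

/-- `g` acts on indices as the table `tab`. -/
def IsTab (tab : ℕ) (g : Equiv.Perm GolayPt) : Prop := ∀ p, ix (g p) = tabAt tab (ix p)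

/-- The identity table. -/
def idTab : ℕ := 984818244535754528103549039458486304

theorem isTab_one : IsTab idTab 1 := by
  intro p
  rw [Equiv.Perm.one_apply]
  revert p; decide +kernel

theorem IsTab.unique {tab : ℕ} {g h : Equiv.Perm GolayPt} (hg : IsTab tab g) (hh : IsTab tab h) :
    g = h := Equiv.ext fun p => ix_injective (by rw [hg p, hh p])

/-- Image of a mask: `n` counts the remaining points. -/
def imgAux : ℕ → ℕ → ℕ → ℕ → ℕ
  | 0, _, _, acc => acc
  | n + 1, tab, m, acc => imgAux n (tab >>> 5) (m >>> 1) (acc ||| ((m % 2) <<< (tab % 32)))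

/-- Image of a mask under a table. -/
def imgTab (tab m : ℕ) : ℕ := imgAux 24 tab m 0

theorem testBit_imgAux : ∀ (n tab m acc j : ℕ), (imgAux n tab m acc).testBit j =
    (acc.testBit j || (List.range n).any fun i => m.testBit i && tabAt tab i == j)
  | 0, _, _, _, _ => by simp [imgAux]
  | n + 1, tab, m, acc, j => by
    have h1 : ((m % 2) <<< (tab % 32)).testBit j = (m.testBit 0 && tabAt tab 0 == j) := by
      rcases Nat.mod_two_eq_zero_or_one m with h | h
      · simp [h, Nat.zero_shiftLeft]
      · rw [h, Nat.one_shiftLeft, Nat.testBit_two_pow]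
        simp [h, tabAt, beq_eq_decide]
    have h2 : ∀ i, (m >>> 1).testBit i = m.testBit (i + 1) := fun i => by
      rw [Nat.testBit_shiftRight, Nat.add_comm]
    have h3 : ∀ i, tabAt (tab >>> 5) i = tabAt tab (i + 1) := fun i => by
      rw [tabAt, tabAt, ← Nat.shiftRight_add, show 5 + 5 * i = 5 * (i + 1) by omega]
    rw [imgAux, testBit_imgAux n, Nat.testBit_or, h1, List.range_succ_eq_map, List.any_cons,
      List.any_map, Bool.or_assoc]
    simp only [Function.comp_def, h2, h3]

theorem imgTab_mask {tab : ℕ} {g : Equiv.Perm GolayPt} (h : IsTab tab g) (s : Finset GolayPt) :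
    imgTab tab (mask s) = mask (g • s) := by
  apply Nat.eq_of_testBit_eq
  intro j
  rw [imgTab, testBit_imgAux, Nat.zero_testBit, Bool.false_or, Bool.eq_iff_iff]
  simp only [List.any_eq_true, List.mem_range, Bool.and_eq_true, beq_iff_eq]
  constructor
  · rintro ⟨i, hi, h1, rfl⟩
    rw [← ix_pt hi, testBit_mask] at h1
    rw [← ix_pt hi, ← h, testBit_mask]
    simpa using (mem_smul_iff g s _).2 (of_decide_eq_true h1)
  · intro hj
    rcases Nat.lt_or_ge j 24 with hj' | hj'
    · rw [← ix_pt hj', testBit_mask, decide_eq_true_eq, smul_finset_def, Finset.mem_image] at hj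
      obtain ⟨p, hp, hpe⟩ := hj
      exact ⟨ix p, ix_lt p, by simpa using hp, by rw [← h, hpe, ix_pt hj']⟩
    · rw [testBit_mask_ge _ hj'] at hj; cases hj

/-- A table of an element of `M24`. -/
def tabOK (tab : ℕ) : Bool :=
  ((List.range 24).all fun i => decide (tabAt tab i < 24)) &&
  imgTab tab 16777215 == 16777215 &&
  basisMasks.all fun b => isCode (imgTab tab b)

/-- The permutation of a table (the identity if the table is not one of a permutation). -/
noncomputable def tabPerm (tab : ℕ) : Equiv.Perm GolayPt :=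
  open Classical in
  if h : Function.Bijective (fun p => pt (tabAt tab (ix p))) then Equiv.ofBijective _ h else 1

theorem isTab_tabPerm {tab : ℕ} (h : tabOK tab = true) : IsTab tab (tabPerm tab) := by
  simp only [tabOK, Bool.and_eq_true, List.all_eq_true, List.mem_range, decide_eq_true_eq,
    beq_iff_eq] at h
  obtain ⟨⟨h1, h2⟩, -⟩ := h
  have hsurj : Function.Surjective (fun p => pt (tabAt tab (ix p))) := by
    intro q
    have hq : (imgTab tab 16777215).testBit (ix q) = true := by
      rw [h2]
      have : ∀ j < 24, (16777215 : ℕ).testBit j = true := by decide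
      exact this _ (ix_lt q)
    rw [imgTab, testBit_imgAux] at hq
    simp only [Nat.zero_testBit, Bool.false_or, List.any_eq_true, List.mem_range, Bool.and_eq_true,
      beq_iff_eq] at hq
    obtain ⟨i, hi, -, he⟩ := hq
    exact ⟨pt i, by simp only [ix_pt hi, he, pt_ix]⟩
  have hbij := hsurj.bijective_of_finite
  intro p
  rw [tabPerm, dif_pos hbij]
  show ix (pt (tabAt tab (ix p))) = _
  rw [ix_pt (h1 _ (ix_lt p))]

theorem tabPerm_mem {tab : ℕ} (h : tabOK tab = true) : tabPerm tab ∈ M24 := by
  have ht := isTab_tabPerm h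
  simp only [tabOK, Bool.and_eq_true, List.all_eq_true] at h
  refine mem_M24_of_basis fun b hb => mem_supports_iff.2 ?_
  have hlt : ∀ b ∈ basisMasks, b < 2 ^ 24 := by decide +kernel
  rw [← imgTab_mask ht, mask_maskSet (hlt b hb)]
  exact h.2 b hb

/-- The table in position `k` of a list. -/
def genTab (X : List ℕ) (k : ℕ) : ℕ := X.getD k idTab

/-- The product of a word in the tables `X` (first letter applied last). -/
noncomputable def evalT (X : List ℕ) : List ℕ → Equiv.Perm GolayPt
  | [] => 1
  | k :: w => tabPerm (genTab X k) * evalT X w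

/-- The action of a word in the tables `X` on indices. -/
def runT (X : List ℕ) : List ℕ → ℕ → ℕ
  | [], i => i
  | k :: w, i => tabAt (genTab X k) (runT X w i)

/-- The group generated by the tables. -/
noncomputable def tabGroup (X : List ℕ) : Subgroup (Equiv.Perm GolayPt) :=
  Subgroup.closure {g | ∃ x ∈ X, g = tabPerm x}

theorem isTab_genTab {X : List ℕ} (h : X.all tabOK = true) (k : ℕ) :
    IsTab (genTab X k) (tabPerm (genTab X k)) := by
  refine isTab_tabPerm ?_
  rcases Nat.lt_or_ge k X.length with hk | hk
  · rw [genTab, List.getD_eq_getElem _ _ hk]; exact List.all_eq_true.1 h _ (List.getElem_mem hk)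
  · rw [genTab, List.getD_eq_default _ _ hk]; decide +kernel

theorem ix_evalT {X : List ℕ} (h : X.all tabOK = true) : ∀ (w : List ℕ) (p : GolayPt),
    ix (evalT X w p) = runT X w (ix p)
  | [], _ => rfl
  | k :: w, p => by
    show ix (tabPerm (genTab X k) (evalT X w p)) = _
    rw [isTab_genTab h k, ix_evalT h w p]; rfl

theorem evalT_mem {X : List ℕ} : ∀ w, evalT X w ∈ tabGroup X
  | [] => Subgroup.one_mem _
  | k :: w => by
    refine Subgroup.mul_mem _ ?_ (evalT_mem w)
    rcases Nat.lt_or_ge k X.length with hk | hk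
    · rw [genTab, List.getD_eq_getElem _ _ hk]
      exact Subgroup.subset_closure ⟨_, List.getElem_mem hk, rfl⟩
    · rw [genTab, List.getD_eq_default _ _ hk]
      have : tabPerm idTab = 1 := (isTab_tabPerm (by decide +kernel)).unique isTab_one
      rw [this]; exact Subgroup.one_mem _

theorem tabGroup_le_of {X : List ℕ} {K : Subgroup (Equiv.Perm GolayPt)}
    (h : ∀ x ∈ X, tabPerm x ∈ K) : tabGroup X ≤ K := by
  rw [tabGroup, Subgroup.closure_le]
  rintro g ⟨x, hx, rfl⟩
  exact h x hx

theorem tabGroup_le_M24 {X : List ℕ} (h : X.all tabOK = true) : tabGroup X ≤ M24 :=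
  tabGroup_le_of fun x hx => tabPerm_mem (List.all_eq_true.1 h x hx)

/-- A transversal chain: base point, mask of points it can be moved to, words doing so. -/
def chainOK (X : List ℕ) : List ℕ → List (ℕ × ℕ × List (List ℕ)) → Bool
  | _, [] => true
  | pre, (b, T, ws) :: rest =>
    decide (b < 24) && (ws.all fun w => pre.all fun x => runT X w x == x) &&
    ((List.range 24).all fun t => !T.testBit t || ws.any fun w => runT X w b == t) &&
    chainOK X (b :: pre) rest

/-- The product of the orbit lengths of a chain. -/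
def chainProd : List (ℕ × ℕ × List (List ℕ)) → ℕ
  | [] => 1
  | (_, T, _) :: rest => pc T * chainProd rest

theorem chain_trans {X : List ℕ} (hX : X.all tabOK = true) {pre : List ℕ}
    {b T : ℕ} {ws : List (List ℕ)} {rest : List (ℕ × ℕ × List (List ℕ))}
    (hpre : ∀ x ∈ pre, x < 24) (h : chainOK X pre ((b, T, ws) :: rest) = true) {t : GolayPt}
    (ht : t ∈ maskSet T) :
    ∃ g ∈ tabGroup X, (∀ x ∈ pre, g (pt x) = pt x) ∧ g (pt b) = t := by
  simp only [chainOK, Bool.and_eq_true, List.all_eq_true, List.mem_range, Bool.or_eq_true,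
    Bool.not_eq_eq_eq_not, Bool.not_true, List.any_eq_true, beq_iff_eq, decide_eq_true_eq] at h
  obtain ⟨⟨⟨hb, h1⟩, h2⟩, -⟩ := h
  rcases h2 (ix t) (ix_lt t) with hn | ⟨w, hw, hwt⟩
  · rw [mem_maskSet.1 ht] at hn; cases hn
  refine ⟨evalT X w, evalT_mem w, fun x hx => ?_, ?_⟩
  · apply ix_injective
    rw [ix_evalT hX, ix_pt (hpre x hx), h1 w hw x hx]
  · apply ix_injective
    rw [ix_evalT hX, ix_pt hb, hwt]

/-- A chain bounds the order of the generated group from below. -/
theorem chainProd_le {X : List ℕ} (hX : X.all tabOK = true) :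
    ∀ {pre : List ℕ} {L : List (ℕ × ℕ × List (List ℕ))}, (∀ x ∈ pre, x < 24) →
    chainOK X pre L = true → chainProd L ≤ Nat.card (fixers (tabGroup X) (pre.map pt))
  | pre, [], _, _ => Nat.card_pos
  | pre, (b, T, ws) :: rest, hpre, h => by
    have hb : b < 24 := by
      simp only [chainOK, Bool.and_eq_true, decide_eq_true_eq] at h; exact h.1.1.1
    have hrest : chainOK X (b :: pre) rest = true := by
      simp only [chainOK, Bool.and_eq_true] at h; exact h.2
    have hpre' : ∀ x ∈ b :: pre, x < 24 := by
      intro x hx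
      rcases List.mem_cons.1 hx with rfl | hx
      · exact hb
      · exact hpre x hx
    classical
    let H := fixers (tabGroup X) (pre.map pt)
    let O : Finset GolayPt := (Set.toFinite (MulAction.orbit H (pt b))).toFinset
    have hstep := card_fixers_step (tabGroup X) (pre.map pt) (pt b) O
      (fun g hg => (Set.Finite.mem_toFinset _).2 ⟨⟨g, hg⟩, rfl⟩)
      (fun t ht => by
        obtain ⟨⟨g, hg⟩, rfl⟩ := (Set.Finite.mem_toFinset _).1 ht
        exact ⟨g, hg, rfl⟩)
    have hsub : maskSet T ⊆ O := by
      intro t ht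
      obtain ⟨g, hg, hfix, rfl⟩ := chain_trans hX hpre h ht
      refine (Set.Finite.mem_toFinset _).2 ⟨⟨g, hg, ?_⟩, rfl⟩
      intro x hx
      obtain ⟨i, hi, rfl⟩ := List.mem_map.1 hx
      exact hfix i hi
    rw [hstep, chainProd, ← card_maskSet]
    exact Nat.mul_le_mul (Finset.card_le_card hsub) (by simpa using chainProd_le hX hpre' hrest)

/-- A subgroup containing the tables, of order at most the chain product, is generated by them. -/
theorem tabGroup_eq {X : List ℕ} (hX : X.all tabOK = true) {L : List (ℕ × ℕ × List (List ℕ))}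
    (hL : chainOK X [] L = true) {K : Subgroup (Equiv.Perm GolayPt)}
    (hsub : ∀ x ∈ X, tabPerm x ∈ K) (hcard : Nat.card K ≤ chainProd L) : tabGroup X = K := by
  have h := chainProd_le hX (pre := []) (by simp) hL
  rw [List.map_nil, fixers_nil] at h
  exact Subgroup.eq_of_le_of_card_ge (tabGroup_le_of hsub) (hcard.trans h)

end Cfsg.Agent.Golay.Cert
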