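import Cfsg.Agent.Lib.ThreeTransp.CodeCover

/-!
Orthogonal complements of binary codes of length 24 and the criterion `hyp_of_perp`: a
self-orthogonal code whose orthogonal complement has minimum weight 8 is self-dual.
-/

set_option autoImplicit false

namespace Cfsg.Agent.Golay.Perp

open Cfsg.Agent.ThreeTransp

/-- The orthogonal complement. -/
noncomputable def perp (C : Submodule (ZMod 2) CodeCover.W) : Submodule (ZMod 2) CodeCover.W :=
  C.dualAnnihilator.comap (dotProductEquiv (ZMod 2) (Fin 24)).toLinearMap

theorem mem_perp {C : Submodule (ZMod 2) CodeCover.W} {v : CodeCover.W} :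
    v ∈ perp C ↔ ∀ w ∈ C, ∑ i, v i * w i = 0 := by
  simp [perp, Submodule.mem_dualAnnihilator, dotProduct]

theorem finrank_perp (C : Submodule (ZMod 2) CodeCover.W) :
    Module.finrank (ZMod 2) C + Module.finrank (ZMod 2) (perp C) = 24 := by
  have h : Module.finrank (ZMod 2) (perp C) = Module.finrank (ZMod 2) C.dualAnnihilator := by
    rw [perp, Submodule.comap_equiv_eq_map_symm]
    exact LinearEquiv.finrank_map_eq _ _
  rw [h, Subspace.finrank_add_finrank_dualAnnihilator_eq, Module.finrank_fin_fun]

theorem perp_eq (C : Submodule (ZMod 2) CodeCover.W) (h : CodeCover.Hyp C) : perp C = C := by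
  refine (Submodule.eq_of_le_of_finrank_le (fun v hv => mem_perp.2 (h.orth v hv)) ?_).symm
  have := finrank_perp C
  have := h.dim
  omega

theorem word_univ_mem {C : Submodule (ZMod 2) CodeCover.W} (h : CodeCover.Hyp C) :
    CodeCover.word Finset.univ ∈ C := by
  rw [← perp_eq C h, mem_perp]
  intro w hw
  rw [← CodeCover.word_supp w, CodeCover.sum_word_mul, ZMod.natCast_eq_zero_iff_even,
    Finset.univ_inter]
  exact CodeCover.even_card h (by rw [CodeCover.word_supp]; exact hw)

/-- A code with minimum weight 8 on its complement has dimension at least 12. -/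
theorem finrank_le_of_minw (K : Submodule (ZMod 2) CodeCover.W)
    (hmin : ∀ w ∈ K, w ≠ 0 → 8 ≤ hammingNorm w) : Module.finrank (ZMod 2) K ≤ 12 := by
  classical
  haveI : Fintype (CodeCover.W ⧸ K) := Fintype.ofFinite _
  let π : Finset (Fin 24) → CodeCover.W ⧸ K := fun T => Submodule.Quotient.mk (CodeCover.word T)
  have hinj : Set.InjOn π (CodeCover.smallSets : Set (Finset (Fin 24))) := by
    intro S hS T hT e
    rw [Finset.mem_coe, CodeCover.mem_smallSets] at hS hT
    have hc := (Submodule.Quotient.eq K).1 e
    by_contra hne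
    rw [CodeCover.word_sub] at hc
    have h8 := hmin _ hc (fun e0 => hne (by
      have := congrArg CodeCover.supp e0
      rw [CodeCover.supp_word] at this
      have : symmDiff S T = ⊥ := by rw [this]; simp [CodeCover.supp]
      exact symmDiff_eq_bot.1 this))
    rw [CodeCover.norm_word] at h8
    have := CodeCover.card_symmDiff S T
    omega
  have hle := Finset.card_image_of_injOn hinj ▸ Finset.card_le_univ (CodeCover.smallSets.image π)
  rw [CodeCover.card_smallSets, Fintype.card_eq_nat_card,
    Module.natCard_eq_pow_finrank (K := ZMod 2), Nat.card_zmod] at hle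
  have h2 := K.finrank_quotient_add_finrank
  rw [Module.finrank_fin_fun] at h2
  by_contra hlt
  have : 2 ^ Module.finrank (ZMod 2) (CodeCover.W ⧸ K) ≤ 2 ^ 11 :=
    Nat.pow_le_pow_right (by norm_num) (by omega)
  omega

theorem hyp_of_perp {C : Submodule (ZMod 2) CodeCover.W}
    (horth : ∀ v ∈ C, ∀ w ∈ C, ∑ i, v i * w i = 0)
    (hmin : ∀ w ∈ perp C, w ≠ 0 → 8 ≤ hammingNorm w) : CodeCover.Hyp C := by
  have hle : C ≤ perp C := fun v hv => mem_perp.2 (horth v hv)
  have h1 := finrank_le_of_minw _ hmin
  have h2 := Submodule.finrank_mono hle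
  have h3 := finrank_perp C
  exact ⟨by omega, horth, fun w hw => hmin w (hle hw)⟩

end Cfsg.Agent.Golay.Perp
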