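import Cfsg.Agent.Lib.Golay.Biplane
import Cfsg.Agent.Lib.Golay.Design
import Cfsg.Agent.Lib.Golay.Steiner
import Cfsg.Agent.Lib.Golay.Perp
import Cfsg.Agent.Lib.ThreeTransp.CodeCover

/-!
Uniqueness of the binary Golay code: a self-dual code of length 24 with minimum weight 8 is
`golayCode` up to a relabelling of the coordinates.
-/

set_option autoImplicit false
set_option maxRecDepth 20000

namespace Cfsg.Agent.Golay.CodeUnique

open Cfsg Cfsg.Agent.Golay.Basic Cfsg.Agent.Golay.Biplane
open Cfsg.Agent.ThreeTransp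

variable {C : Submodule (ZMod 2) CodeCover.W}

theorem word_symmDiff_mem {S T : Finset (Fin 24)} (hS : CodeCover.word S ∈ C)
    (hT : CodeCover.word T ∈ C) : CodeCover.word (symmDiff S T) ∈ C := by
  rw [← CodeCover.word_sub]; exact sub_mem hS hT

theorem exists_dodecad (h : CodeCover.Hyp C) :
    ∃ D : Finset (Fin 24), CodeCover.word D ∈ C ∧ D.card = 12 := by
  obtain ⟨b, hb⟩ := CodeCover.octs_nonempty h
  have hn := Steiner.ncard_inter_card (CodeCover.steiner h) (by norm_num) (Fintype.card_fin 24)
    Steiner.interNums_5824 hb 2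
  have hne : {c : Finset (Fin 24) | c ∈ CodeCover.octs C ∧ (b ∩ c).card = 2}.ncard ≠ 0 := by
    rw [hn]; decide
  obtain ⟨c, hc, h2⟩ := Set.nonempty_of_ncard_ne_zero hne
  rw [CodeCover.mem_octs] at hb hc
  have := CodeCover.card_symmDiff b c
  exact ⟨_, word_symmDiff_mem hb.1 hc.1, by omega⟩

/-- The marked data: the words through a fixed point of a dodecad and one further point of it. -/
theorem exists_word (h : CodeCover.Hyp C) {D : Finset (Fin 24)} (hD : CodeCover.word D ∈ C)
    (hD12 : D.card = 12) {p q j : Fin 24} (hp : p ∈ D) (hq : q ∉ D) (hj : j ∈ D) (hjp : j ≠ p) :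
    ∃ T : Finset (Fin 24), CodeCover.word T ∈ C ∧ T ∩ D = {p, j} ∧ q ∉ T := by
  classical
  have hu := Perp.word_univ_mem h
  have hDc : CodeCover.word Dᶜ ∈ C := by
    rw [show Dᶜ = symmDiff Finset.univ D by ext z; simp [Finset.mem_symmDiff]]
    exact word_symmDiff_mem hu hD
  have hker : ∀ T : Finset (Fin 24), CodeCover.word T ∈ C → T ∩ D = ∅ → T = ∅ ∨ T = Dᶜ := by
    intro T hT hTD
    have hsub : T ⊆ Dᶜ := fun z hz => Finset.mem_compl.2 fun hz' =>
      Finset.eq_empty_iff_forall_notMem.1 hTD z (Finset.mem_inter.2 ⟨hz, hz'⟩)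
    rcases T.eq_empty_or_nonempty with e | hne
    · exact Or.inl e
    refine Or.inr ((Finset.eq_of_subset_of_card_le hsub ?_))
    have h8 := CodeCover.eight_le h hT hne
    have h2 := word_symmDiff_mem hT hDc
    rcases (symmDiff T Dᶜ).eq_empty_or_nonempty with e | hne2
    · rw [symmDiff_eq_bot.1 (show symmDiff T Dᶜ = ⊥ from e)]
    have h8' := CodeCover.eight_le h h2 hne2
    have hcs := CodeCover.card_symmDiff T Dᶜ
    rw [Finset.inter_eq_left.2 hsub, Finset.card_compl, Fintype.card_fin, hD12] at hcs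
    omega
  let 𝒞 : Finset (Finset (Fin 24)) := Finset.univ.filter fun T => CodeCover.word T ∈ C
  have hcard : 𝒞.card = 4096 := by
    have e : Nat.card C = 𝒞.card := by
      rw [← Nat.card_eq_finsetCard]
      exact Nat.card_congr
        { toFun := fun v => ⟨CodeCover.supp v.1, by simp [𝒞, CodeCover.word_supp]⟩
          invFun := fun T => ⟨CodeCover.word T.1, (Finset.mem_filter.1 T.2).2⟩
          left_inv := fun v => Subtype.ext (CodeCover.word_supp _)
          right_inv := fun T => Subtype.ext (CodeCover.supp_word _) }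
    rw [← e, Module.natCard_eq_pow_finrank (K := ZMod 2), h.dim, Nat.card_zmod]; norm_num
  let E : Finset (Finset (Fin 24)) := D.powerset.filter fun S => Even S.card
  have hE : E.card ≤ 2048 := by
    have h1 : E.card ≤ (D.erase p).powerset.card := by
      refine Finset.card_le_card_of_injOn (fun S => S.erase p) (fun S hS => ?_) ?_
      · simp only [E, Finset.coe_filter, Set.mem_ofPred_eq, Finset.mem_powerset] at hS
        simp only [Finset.mem_coe, Finset.mem_powerset]
        exact Finset.erase_subset_erase p hS.1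
      · intro S hS T hT e
        simp only [E, Finset.coe_filter, Set.mem_ofPred_eq, Finset.mem_powerset] at hS hT
        have e' : (S.erase p).card = (T.erase p).card := congrArg Finset.card e
        rw [Finset.card_erase_eq_ite, Finset.card_erase_eq_ite] at e'
        obtain ⟨a, ha⟩ := hS.2
        obtain ⟨b, hb⟩ := hT.2
        by_cases h1 : p ∈ S <;> by_cases h2 : p ∈ T
        · rw [← Finset.insert_erase h1, ← Finset.insert_erase h2]; exact congrArg _ e
        · have := Finset.card_pos.2 ⟨p, h1⟩; simp [h1, h2] at e'; omega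
        · have := Finset.card_pos.2 ⟨p, h2⟩; simp [h1, h2] at e'; omega
        · simpa [h1, h2] using e
    rw [Finset.card_powerset, Finset.card_erase_of_mem hp, hD12] at h1
    exact h1
  have hmaps : ∀ T ∈ 𝒞, T ∩ D ∈ E := fun T hT => Finset.mem_filter.2
    ⟨Finset.mem_powerset.2 Finset.inter_subset_right,
      CodeCover.even_inter h (Finset.mem_filter.1 hT).2 hD⟩
  have hfib : ∀ S ∈ E, (𝒞.filter fun T => T ∩ D = S).card ≤ 2 := by
    intro S _
    rcases (𝒞.filter fun T => T ∩ D = S).eq_empty_or_nonempty with e | ⟨T₀, hT₀⟩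
    · simp [e]
    refine le_trans (Finset.card_le_card (t := {T₀, symmDiff T₀ Dᶜ}) fun T hT => ?_)
      Finset.card_le_two
    simp only [𝒞, Finset.mem_filter, Finset.mem_univ, true_and] at hT hT₀
    have hz : symmDiff T₀ T ∩ D = ∅ := by
      ext z
      have := (Finset.ext_iff.1 (hT.2.trans hT₀.2.symm) z)
      simp only [Finset.mem_inter, Finset.mem_symmDiff, Finset.notMem_empty, iff_false] at this ⊢
      tauto
    rcases hker _ (word_symmDiff_mem hT₀.1 hT.1) hz with e | e
    · exact Finset.mem_insert.2 (Or.inl (symmDiff_eq_bot.1 e).symm)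
    · exact Finset.mem_insert.2 (Or.inr (Finset.mem_singleton.2
        (by rw [← e, symmDiff_symmDiff_cancel_left])))
  have hsurj : ∀ S ∈ E, ∃ T ∈ 𝒞, T ∩ D = S := by
    by_contra hcon
    push Not at hcon
    obtain ⟨S, hS, hno⟩ := hcon
    have h1 := Finset.card_le_mul_card_image_of_maps_to (t := E.erase S) (f := fun T => T ∩ D)
      (s := 𝒞) (fun T hT => Finset.mem_erase.2 ⟨hno T hT, hmaps T hT⟩) 2
      (fun S' hS' => hfib S' (Finset.mem_of_mem_erase hS'))
    rw [hcard, Finset.card_erase_of_mem hS] at h1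
    have := Finset.card_pos.2 ⟨S, hS⟩
    omega
  obtain ⟨T, hT, hTD⟩ := hsurj {p, j} (Finset.mem_filter.2 ⟨Finset.mem_powerset.2 (by
    simp [Finset.insert_subset_iff, hp, hj]), by rw [Finset.card_pair hjp.symm]; exact even_two⟩)
  simp only [𝒞, Finset.mem_filter, Finset.mem_univ, true_and] at hT
  by_cases hqT : q ∈ T
  · refine ⟨symmDiff T Dᶜ, word_symmDiff_mem hT hDc, ?_, ?_⟩
    · rw [← hTD]; ext z; simp [Finset.mem_symmDiff]; tauto
    · simp [Finset.mem_symmDiff, hqT, hq]
  · exact ⟨T, hT, hTD, hqT⟩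

theorem card_outside (h : CodeCover.Hyp C) {D T : Finset (Fin 24)} (hD : CodeCover.word D ∈ C)
    (hD12 : D.card = 12) (hT : CodeCover.word T ∈ C) (h2 : (T ∩ D).card = 2) :
    (T \ D).card = 6 := by
  have e := Finset.card_sdiff_add_card_inter T D
  have hne : T.Nonempty := Finset.card_pos.1 (by
    have := Finset.card_le_card (Finset.inter_subset_left (s₁ := T) (s₂ := D)); omega)
  have h8 := CodeCover.eight_le h hT hne
  have hDc : CodeCover.word Dᶜ ∈ C := by
    rw [show Dᶜ = symmDiff Finset.univ D by ext z; simp [Finset.mem_symmDiff]]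
    exact word_symmDiff_mem (Perp.word_univ_mem h) hD
  have hne2 : (symmDiff T Dᶜ).Nonempty := by
    obtain ⟨z, hz⟩ := Finset.card_pos.1 (show 0 < (T ∩ D).card by omega)
    rw [Finset.mem_inter] at hz
    exact ⟨z, by simp [Finset.mem_symmDiff, hz.1, hz.2]⟩
  have h8' := CodeCover.eight_le h (word_symmDiff_mem hT hDc) hne2
  have hcs := CodeCover.card_symmDiff T Dᶜ
  rw [show T ∩ Dᶜ = T \ D by ext z; simp, Finset.card_compl, Fintype.card_fin, hD12] at hcs
  omega

/-- The images of the standard generators beside the all-one word. -/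
def rowWords : List ℕ :=
  [7145475, 15747077, 13121601, 9776129, 11100169, 6053905, 12325377, 13062145, 1661185, 7417889, 2422785]

/-- Images of the points of the dodecad. -/
def rowPts : List ℕ := [1, 2, 6, 10, 3, 4, 9, 17, 8, 5, 15]

/-- Images of the points outside the dodecad. -/
def colPts : List ℕ := [12, 13, 14, 20, 23, 16, 18, 19, 21, 11, 22]

theorem basis_eq_enc' : basisMasks =
    ([256, 2050, 2052, 288, 320, 1280, 2056, 1791, 2560, 384, 2064, 2304] : List ℕ).map
      (enc (16777215 :: rowWords)) := by decide +kernel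

theorem enc_mem_of {P : Submodule (ZMod 2) (GolayPt → ZMod 2)} : ∀ (L : List ℕ),
    (∀ b ∈ L, word (maskSet b) ∈ P) → ∀ a, word (maskSet (enc L a)) ∈ P
  | [], _, _ => by
    have : word (maskSet 0) = 0 := by decide
    simp only [enc]; rw [this]; exact zero_mem _
  | c :: cs, h, a => by
    simp only [enc]
    rw [mask_maskSet_xor, word_symmDiff]
    refine add_mem ?_ (enc_mem_of cs (fun b hb => h b (List.mem_cons_of_mem _ hb)) _)
    rcases Nat.mod_two_eq_zero_or_one a with ha | ha
    rotate_left
    · rw [ha, one_mul]; exact h c List.mem_cons_self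
    · rw [ha, zero_mul]
      have : word (maskSet 0) = 0 := by decide
      rw [this]; exact zero_mem _

theorem rowWords_bits : ∀ k : Fin 11,
    (rowWords.getD k.1 0).testBit (ix (pt 0)) = true ∧
    (rowWords.getD k.1 0).testBit (ix (pt 7)) = false ∧
    (∀ k' : Fin 11, (rowWords.getD k.1 0).testBit (ix (pt (rowPts.getD k'.1 0))) = decide (k' = k)) ∧
    ∀ c : Fin 11, (rowWords.getD k.1 0).testBit (ix (pt (colPts.getD c.1 0))) =
      !(stdBlocks.getD k.1 0).testBit c.1 := by decide +kernel

theorem points_cover : ∀ g : GolayPt, g = pt 0 ∨ g = pt 7 ∨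
    (∃ k : Fin 11, g = pt (rowPts.getD k.1 0)) ∨ ∃ c : Fin 11, g = pt (colPts.getD c.1 0) := by
  decide +kernel

/-- Uniqueness of the binary Golay code. -/
theorem exists_equiv (h : CodeCover.Hyp C) : ∃ e : Fin 24 ≃ GolayPt,
    ∀ w : GolayPt → ZMod 2, w ∈ golayCode ↔ (fun i => w (e i)) ∈ C := by
  classical
  obtain ⟨D, hD, hD12⟩ := exists_dodecad h
  obtain ⟨p, hp⟩ := Finset.card_pos.1 (show 0 < D.card by omega)
  obtain ⟨q, hq⟩ := Finset.card_pos.1 (show 0 < Dᶜ.card by
    rw [Finset.card_compl, Fintype.card_fin]; omega)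
  rw [Finset.mem_compl] at hq
  have hw : ∀ j : {j // j ∈ D.erase p}, ∃ T : Finset (Fin 24),
      CodeCover.word T ∈ C ∧ T ∩ D = {p, j.1} ∧ q ∉ T := fun j =>
    exists_word h hD hD12 hp hq (Finset.mem_of_mem_erase j.2) (Finset.mem_erase.1 j.2).1
  choose T hT hTD hqT using hw
  have hι : Fintype.card {j // j ∈ D.erase p} = 11 := by
    rw [Fintype.card_coe, Finset.card_erase_of_mem hp, hD12]
  have hα : Fintype.card {x // x ∈ Dᶜ.erase q} = 11 := by
    rw [Fintype.card_coe, Finset.card_erase_of_mem (Finset.mem_compl.2 hq), Finset.card_compl,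
      Fintype.card_fin, hD12]
  let f : {j // j ∈ D.erase p} → Finset {x // x ∈ Dᶜ.erase q} := fun j =>
    Finset.univ.filter fun x => x.1 ∉ T j
  have hcount : ∀ S : Finset (Fin 24), q ∉ S →
      (Finset.univ.filter fun x : {x // x ∈ Dᶜ.erase q} => x.1 ∈ S).card = (S \ D).card := by
    intro S hS
    refine Finset.card_bij (fun x _ => x.1) (fun x hx => ?_) (fun a _ b _ e => Subtype.ext e)
      (fun z hz => ?_)
    · have := x.2
      simp only [Finset.mem_erase, Finset.mem_compl] at this
      simp [(Finset.mem_filter.1 hx).2, this.2]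
    · rw [Finset.mem_sdiff] at hz
      exact ⟨⟨z, Finset.mem_erase.2 ⟨fun e => hS (e ▸ hz.1), Finset.mem_compl.2 hz.2⟩⟩,
        Finset.mem_filter.2 ⟨Finset.mem_univ _, hz.1⟩, rfl⟩
  have hsix : ∀ j, (T j \ D).card = 6 := fun j => card_outside h hD hD12 (hT j) (by
    rw [hTD, Finset.card_pair (Finset.mem_erase.1 j.2).1.symm])
  have h5 : ∀ j, (f j).card = 5 := fun j => by
    have e := Finset.card_filter_add_card_filter_not
      (s := (Finset.univ : Finset {x // x ∈ Dᶜ.erase q})) (fun x => x.1 ∈ T j)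
    rw [Finset.card_univ, hα, hcount _ (hqT j), hsix] at e
    show (Finset.univ.filter fun x : {x // x ∈ Dᶜ.erase q} => x.1 ∉ T j).card = 5
    omega
  have h2 : ∀ i j, i ≠ j → (f i ∩ f j).card = 2 := by
    intro i j hij
    have hi := Finset.mem_erase.1 i.2
    have hj := Finset.mem_erase.1 j.2
    have hne : i.1 ≠ j.1 := fun e => hij (Subtype.ext e)
    have hSD : symmDiff (T i) (T j) ∩ D = {i.1, j.1} := by
      ext z
      have a := Finset.ext_iff.1 (hTD i) z
      have b := Finset.ext_iff.1 (hTD j) z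
      simp only [Finset.mem_inter, Finset.mem_insert, Finset.mem_singleton] at a b
      simp only [Finset.mem_inter, Finset.mem_symmDiff, Finset.mem_insert, Finset.mem_singleton]
      constructor
      · rintro ⟨h1 | h1, hz⟩
        · rcases a.1 ⟨h1.1, hz⟩ with r | r
          · exact absurd (b.2 (Or.inl r)).1 h1.2
          · exact Or.inl r
        · rcases b.1 ⟨h1.1, hz⟩ with r | r
          · exact absurd (a.2 (Or.inl r)).1 h1.2
          · exact Or.inr r
      · rintro (r | r)
        · refine ⟨Or.inl ⟨(a.2 (Or.inr r)).1, fun hz => ?_⟩, (a.2 (Or.inr r)).2⟩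
          rcases b.1 ⟨hz, (a.2 (Or.inr r)).2⟩ with s | s
          exacts [hi.1 (r ▸ s), hne (r.symm.trans s)]
        · refine ⟨Or.inr ⟨(b.2 (Or.inr r)).1, fun hz => ?_⟩, (b.2 (Or.inr r)).2⟩
          rcases a.1 ⟨hz, (b.2 (Or.inr r)).2⟩ with s | s
          exacts [hj.1 (r ▸ s), hne (s.symm.trans r)]
    have h6 := card_outside h hD hD12 (word_symmDiff_mem (hT i) (hT j))
      (by rw [hSD, Finset.card_pair hne])
    rw [show symmDiff (T i) (T j) \ D = symmDiff (T i \ D) (T j \ D) by
      ext z; simp [Finset.mem_symmDiff]; tauto] at h6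
    have hcs := CodeCover.card_symmDiff (T i \ D) (T j \ D)
    rw [h6, hsix, hsix] at hcs
    have e1 := hcount (T i ∩ T j) fun hz => hqT i (Finset.mem_inter.1 hz).1
    rw [show (T i ∩ T j) \ D = (T i \ D) ∩ (T j \ D) by ext z; simp; tauto] at e1
    have e2 := Finset.card_union_add_card_inter (f i) (f j)
    have e3 : f i ∪ f j = Finset.univ.filter fun x : {x // x ∈ Dᶜ.erase q} => ¬ x.1 ∈ T i ∩ T j := by
      ext x; simp [f]; tauto
    have e4 := Finset.card_filter_add_card_filter_not
      (s := (Finset.univ : Finset {x // x ∈ Dᶜ.erase q})) (fun x => x.1 ∈ T i ∩ T j)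
    rw [e3, h5, h5] at e2
    rw [Finset.card_univ, hα, e1] at e4
    omega
  obtain ⟨σ, hσ⟩ := Biplane.exists_std hι hα f h5 h2
  have hidx : ∀ j, ∃ k : Fin 11, stdBlocks.getD k.1 0 = msk11 ((f j).image σ) := fun j => by
    obtain ⟨k, hk, e⟩ := List.getElem_of_mem (hσ j)
    exact ⟨⟨k, hk⟩, by rw [List.getD_eq_getElem _ _ hk]; exact e⟩
  choose idx hidx using hidx
  have hidxinj : Function.Injective idx := fun i j e => by
    by_contra hne
    have e' : msk11 ((f i).image σ) = msk11 ((f j).image σ) := by rw [← hidx, ← hidx, e]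
    have h' := h2 i j hne
    rw [← Finset.card_image_of_injective _ σ.injective,
      Finset.image_inter _ _ σ.injective, Biplane.card_eq_wt11, Biplane.msk11_inter, e',
      Nat.and_self, ← Biplane.card_eq_wt11, Finset.card_image_of_injective _ σ.injective, h5] at h'
    omega
  have hidxbij : Function.Bijective idx :=
    (Fintype.bijective_iff_injective_and_card idx).2 ⟨hidxinj, by rw [hι, Fintype.card_fin]⟩
  let e₀ : Fin 24 → GolayPt := fun z =>
    if hz : z ∈ D.erase p then pt (rowPts.getD (idx ⟨z, hz⟩).1 0)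
    else if hz' : z ∈ Dᶜ.erase q then pt (colPts.getD (σ ⟨z, hz'⟩).1 0)
    else if z = p then pt 0 else pt 7
  have ep : e₀ p = pt 0 := by simp [e₀, hp]
  have eq' : e₀ q = pt 7 := by
    have : q ≠ p := fun e => hq (e ▸ hp)
    simp [e₀, hq, this]
  have ej : ∀ j, e₀ j.1 = pt (rowPts.getD (idx j).1 0) := fun j => by
    simp only [e₀]; rw [dif_pos j.2]
  have ex : ∀ x : {x // x ∈ Dᶜ.erase q}, e₀ x.1 = pt (colPts.getD (σ x).1 0) := fun x => by
    simp only [e₀]
    have hx := x.2
    rw [dif_neg (fun h' => by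
      simp only [Finset.mem_erase, Finset.mem_compl] at hx h'; exact hx.2 h'.2), dif_pos x.2]
  have he : Function.Bijective e₀ := by
    refine (Fintype.bijective_iff_surjective_and_card e₀).2 ⟨fun g => ?_, by simp⟩
    rcases points_cover g with r | r | ⟨k, r⟩ | ⟨c, r⟩
    · exact ⟨p, ep.trans r.symm⟩
    · exact ⟨q, eq'.trans r.symm⟩
    · obtain ⟨j, rfl⟩ := hidxbij.2 k
      exact ⟨j.1, (ej j).trans r.symm⟩
    · exact ⟨(σ.symm c).1, by rw [ex, σ.apply_symm_apply]; exact r.symm⟩
  let e : Fin 24 ≃ GolayPt := Equiv.ofBijective e₀ he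
  have hrow : ∀ j z, (rowWords.getD (idx j).1 0).testBit (ix (e z)) = true ↔ z ∈ T j := by
    intro j z
    obtain ⟨b1, b2, b3, b4⟩ := rowWords_bits (idx j)
    change (rowWords.getD (idx j).1 0).testBit (ix (e₀ z)) = true ↔ z ∈ T j
    have hTj := Finset.ext_iff.1 (hTD j) z
    simp only [Finset.mem_inter, Finset.mem_insert, Finset.mem_singleton] at hTj
    by_cases hzD : z ∈ D
    · by_cases hzp : z = p
      · subst hzp
        rw [ep, b1]
        exact iff_of_true rfl (hTj.2 (Or.inl rfl)).1
      · have hz : z ∈ D.erase p := Finset.mem_erase.2 ⟨hzp, hzD⟩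
        rw [show e₀ z = _ from ej ⟨z, hz⟩, b3, decide_eq_true_eq, hidxinj.eq_iff]
        constructor
        · intro h'; exact (hTj.2 (Or.inr (congrArg Subtype.val h'))).1
        · intro h'
          rcases hTj.1 ⟨h', hzD⟩ with r | r
          exacts [absurd r hzp, Subtype.ext r]
    · by_cases hzq : z = q
      · subst hzq
        rw [eq', b2]
        exact iff_of_false (by simp) (hqT j)
      · have hz : z ∈ Dᶜ.erase q := Finset.mem_erase.2 ⟨hzq, Finset.mem_compl.2 hzD⟩
        rw [show e₀ z = _ from ex ⟨z, hz⟩, b4, hidx, Biplane.testBit_msk11]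
        simp [f, hzD, hzq]
  let φ : (GolayPt → ZMod 2) ≃ₗ[ZMod 2] CodeCover.W := LinearEquiv.funCongrLeft (ZMod 2) (ZMod 2) e
  let P : Submodule (ZMod 2) (GolayPt → ZMod 2) := C.comap φ.toLinearMap
  have hgen : ∀ b ∈ 16777215 :: rowWords, word (maskSet b) ∈ P := by
    intro b hb
    show φ (word (maskSet b)) ∈ C
    rcases List.mem_cons.1 hb with rfl | hb
    · have : φ (word (maskSet 16777215)) = CodeCover.word Finset.univ := by
        have h1 : maskSet 16777215 = Finset.univ := by decide
        funext z; simp [φ, word, CodeCover.word, h1, LinearEquiv.funCongrLeft_apply,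
          LinearMap.funLeft_apply]
      rw [this]; exact Perp.word_univ_mem h
    · obtain ⟨k, hk, rfl⟩ := List.getElem_of_mem hb
      obtain ⟨j, hj⟩ := hidxbij.2 ⟨k, hk⟩
      have : φ (word (maskSet rowWords[k])) = CodeCover.word (T j) := by
        funext z
        have := hrow j z
        rw [hj, List.getD_eq_getElem _ _ hk] at this
        simp [φ, word, CodeCover.word, LinearEquiv.funCongrLeft_apply, LinearMap.funLeft_apply, this]
      rw [this]; exact hT j
  have hle : golayCode ≤ P := by
    intro w hw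
    have hm := isCode_mask_of_mem hw
    rw [← word_support₂ w, ← maskSet_mask (support₂ w)]
    have h' : enc basisMasks (mask (support₂ w)) = mask (support₂ w) := by simpa [isCode] using hm
    rw [← h']
    refine enc_mem_of _ (fun b hb => ?_) _
    rw [basis_eq_enc'] at hb
    obtain ⟨a, -, rfl⟩ := List.mem_map.1 hb
    exact enc_mem_of _ hgen a
  have hP : golayCode = P := by
    refine Submodule.eq_of_le_of_finrank_le hle ?_
    have : Module.finrank (ZMod 2) P = 12 := by
      rw [show P = C.map φ.symm.toLinearMap from Submodule.comap_equiv_eq_map_symm _ _,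
        LinearEquiv.finrank_map_eq, h.dim]
    rw [this, Design.finrank_golayCode]
  exact ⟨e, fun w => by rw [hP]; rfl⟩

end Cfsg.Agent.Golay.CodeUnique
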