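import Mathlib

/-!
A group with a normal elementary abelian subgroup of order 9 on which it induces all of `GL(2,3)`.
-/

set_option autoImplicit false

namespace Cfsg.Agent.Golay.GLQuot

variable {G : Type*} [Group G]

theorem pow_val_add {x : G} (h : x ^ 3 = 1) (i j : ZMod 3) :
    x ^ (i + j).val = x ^ i.val * x ^ j.val := by
  rw [← pow_add, ZMod.val_add]
  exact (pow_eq_pow_mod _ h).symm

/-- The map `(i, j) ↦ a ^ i * b ^ j`. -/
def coord (a b : G) (v : Fin 2 → ZMod 3) : G := a ^ (v 0).val * b ^ (v 1).val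

theorem coord_add {a b : G} (ha : a ^ 3 = 1) (hb : b ^ 3 = 1) (hab : Commute a b)
    (u v : Fin 2 → ZMod 3) : coord a b (u + v) = coord a b u * coord a b v := by
  simp only [coord, Pi.add_apply, pow_val_add ha, pow_val_add hb]
  exact (hab.pow_pow _ _).mul_mul_mul_comm _ _

/-- The subgroup spanned by two commuting elements of order dividing three. -/
def span2 (a b : G) (ha : a ^ 3 = 1) (hb : b ^ 3 = 1) (hab : Commute a b) : Subgroup G where
  carrier := Set.range (coord a b)
  one_mem' := ⟨0, by simp [coord]⟩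
  mul_mem' := by
    rintro _ _ ⟨u, rfl⟩ ⟨v, rfl⟩
    exact ⟨u + v, coord_add ha hb hab u v⟩
  inv_mem' := by
    rintro _ ⟨u, rfl⟩
    refine ⟨-u, eq_inv_of_mul_eq_one_left ?_⟩
    rw [← coord_add ha hb hab, neg_add_cancel]
    simp [coord]

variable {a b : G}

theorem coord_zero : coord a b 0 = 1 := by simp [coord]

theorem coord_e0 : coord a b ![1, 0] = a := by
  simp [coord, ZMod.val_one]

theorem coord_e1 : coord a b ![0, 1] = b := by
  simp [coord, ZMod.val_one]

/-- The conclusion: `G` modulo the subgroup is `GL(2,3)`. -/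
theorem quotient_GL [Finite G] (ha : a ^ 3 = 1) (hb : b ^ 3 = 1) (hab : Commute a b)
    (hinj : Function.Injective (coord a b)) {n : ℕ} (gen : Fin n → G)
    (hgen : Subgroup.closure (Set.range gen) = ⊤)
    (M : Fin n → Matrix (Fin 2) (Fin 2) (ZMod 3))
    (hMa : ∀ k, gen k * a * (gen k)⁻¹ = coord a b (Matrix.mulVec (M k) ![1, 0]))
    (hMb : ∀ k, gen k * b * (gen k)⁻¹ = coord a b (Matrix.mulVec (M k) ![0, 1]))
    (hsurj : ∀ A : Matrix (Fin 2) (Fin 2) (ZMod 3), A.det ≠ 0 → ∃ w : List (Fin n), (w.map M).prod = A)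
    (hcard : Nat.card G = 432) :
    ∃ (N : Subgroup G) (_ : N.Normal), Nat.card N = 9 ∧ Nonempty (G ⧸ N ≃* GL (Fin 2) (ZMod 3)) := by
  classical
  let S := span2 a b ha hb hab
  have hrel : ∀ k, ∀ v, gen k * coord a b v * (gen k)⁻¹ = coord a b (Matrix.mulVec (M k) v) := by
    intro k v
    have hv : v = (v 0).val • ![1, 0] + (v 1).val • ![0, 1] := by
      funext i; fin_cases i <;> simp
    have e : gen k * coord a b v * (gen k)⁻¹ =
        (gen k * a * (gen k)⁻¹) ^ (v 0).val * (gen k * b * (gen k)⁻¹) ^ (v 1).val := by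
      rw [coord, conj_pow, conj_pow]; group
    rw [e, hMa, hMb]
    have hnat : ∀ (m : ℕ) (u : Fin 2 → ZMod 3), coord a b u ^ m = coord a b (m • u) := by
      intro m u
      induction m with
      | zero => simp [coord]
      | succ m ih => rw [pow_succ, ih, succ_nsmul, coord_add ha hb hab]
    rw [hnat, hnat, ← coord_add ha hb hab]
    conv_rhs => rw [hv, Matrix.mulVec_add, Matrix.mulVec_smul, Matrix.mulVec_smul]
  have hall : ∀ g : G, ∃ A : Matrix (Fin 2) (Fin 2) (ZMod 3),
      ∀ v, g * coord a b v * g⁻¹ = coord a b (Matrix.mulVec A v) := by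
    intro g
    have hg : g ∈ Subgroup.closure (Set.range gen) := hgen ▸ Subgroup.mem_top g
    rw [← Subgroup.mem_toSubmonoid, Subgroup.closure_toSubmonoid_of_finite] at hg
    induction hg using Submonoid.closure_induction with
    | mem x hx => obtain ⟨k, rfl⟩ := hx; exact ⟨M k, hrel k⟩
    | one => exact ⟨1, fun v => by simp⟩
    | mul x y _ _ hx hy =>
      obtain ⟨A, hA⟩ := hx
      obtain ⟨B, hB⟩ := hy
      refine ⟨A * B, fun v => ?_⟩
      rw [← Matrix.mulVec_mulVec, ← hA, ← hB]; group
  choose A hA using hall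
  have huniq : ∀ g (B : Matrix (Fin 2) (Fin 2) (ZMod 3)),
      (∀ v, g * coord a b v * g⁻¹ = coord a b (Matrix.mulVec B v)) → A g = B := by
    intro g B hB
    refine Matrix.ext_of_mulVec_single fun i => hinj ?_
    rw [← hA, hB]
  have hmul : ∀ g h, A (g * h) = A g * A h := fun g h => huniq _ _ fun v => by
    rw [← Matrix.mulVec_mulVec, ← hA, ← hA]; group
  have h1 : A 1 = 1 := huniq _ _ fun v => by simp
  let φ : G →* GL (Fin 2) (ZMod 3) :=
    MonoidHom.toHomUnits { toFun := A, map_one' := h1, map_mul' := hmul }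
  have hφ : Function.Surjective φ := by
    intro u
    obtain ⟨w, hw⟩ := hsurj u.1 (Matrix.isUnit_iff_isUnit_det _ |>.1 u.isUnit).ne_zero
    refine ⟨(w.map gen).prod, Units.ext ?_⟩
    show A (w.map gen).prod = u.1
    rw [← hw]
    induction w with
    | nil => simpa using h1
    | cons k w ih => rw [List.map_cons, List.prod_cons, hmul, List.map_cons, List.prod_cons,
        huniq _ _ (hrel k)]; exact congrArg (M k * ·) (by
          clear hw
          exact List.recOn w (by simpa using h1) (fun x xs ihx => by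
            rw [List.map_cons, List.prod_cons, hmul, List.map_cons, List.prod_cons, huniq _ _ (hrel x), ihx]))
  have hS : S ≤ φ.ker := by
    rintro _ ⟨u, rfl⟩
    refine MonoidHom.mem_ker.2 (Units.ext ?_)
    show A (coord a b u) = 1
    refine huniq _ _ fun v => ?_
    rw [Matrix.one_mulVec, mul_inv_eq_iff_eq_mul, ← coord_add ha hb hab, ← coord_add ha hb hab,
      add_comm]
  have hScard : Nat.card S = 9 := by
    show Nat.card (Set.range (coord a b)) = 9
    rw [Nat.card_range_of_injective hinj]
    simp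
  have hGL : Nat.card (GL (Fin 2) (ZMod 3)) = 48 := by
    rw [Matrix.card_GL_field, Fin.prod_univ_two, ZMod.card]; decide +kernel
  have hker : Nat.card φ.ker = 9 := by
    have h := Subgroup.card_eq_card_quotient_mul_card_subgroup φ.ker
    rw [Nat.card_congr (QuotientGroup.quotientKerEquivOfSurjective φ hφ).toEquiv, hGL, hcard] at h
    omega
  exact ⟨φ.ker, inferInstance, hker, ⟨QuotientGroup.quotientKerEquivOfSurjective φ hφ⟩⟩

end Cfsg.Agent.Golay.GLQuot
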