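import Mathlib
import Cfsg.Prelude.Def_SporadicCombinatorics

/-!
The hexacode: a model over four symbols, weights, monomial automorphisms.
-/

set_option autoImplicit false
set_option maxRecDepth 20000

namespace Cfsg.Agent.Golay.Hexacode

open Cfsg

/-- Addition of the four symbols `0, 1, ω, ω²`. -/
def addT (a b : Fin 4) : Fin 4 := ![![0, 1, 2, 3], ![1, 0, 3, 2], ![2, 3, 0, 1], ![3, 2, 1, 0]] a b

/-- Multiplication of the four symbols. -/
def mulT (a b : Fin 4) : Fin 4 := ![![0, 0, 0, 0], ![0, 1, 2, 3], ![0, 2, 3, 1], ![0, 3, 1, 2]] a b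

/-- The three rows. -/
def row : Fin 3 → Fin 6 → Fin 4 :=
  ![![2, 3, 3, 2, 3, 2], ![3, 2, 2, 3, 3, 2], ![3, 2, 3, 2, 2, 3]]

/-- The word with given coefficients. -/
def word (n : Fin 4 × Fin 4 × Fin 4) : Fin 6 → Fin 4 := fun i =>
  addT (addT (mulT n.1 (row 0 i)) (mulT n.2.1 (row 1 i))) (mulT n.2.2 (row 2 i))

/-- Membership in the model code: the first three entries determine a word. -/
def wordNum (w : Fin 6 → Fin 4) : Bool := decide (∃ n, word n = w)

/-- Multiplier number `m`: the nonzero symbols of its digits. -/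
def mult (m : ℕ) (i : Fin 6) : Fin 4 := Fin.ofNat 4 (m / 3 ^ i.1 % 3 + 1)

/-- Certificates for the products of two transpositions with a common point. -/
def cycleCert : List ℕ := [0, 0, 0, 0, 0, 0, 0, 0, 161, 202, 45, 63, 0, 202, 0, 161, 140, 146, 0, 161, 202, 0, 178, 226, 0, 63, 132, 210, 0, 45, 0, 45, 106, 194, 63, 0, 0, 0, 202, 161, 63, 45, 0, 0, 0, 0, 0, 0, 161, 0, 0, 202, 194, 210, 202, 0, 161, 0, 106, 132, 45, 0, 226, 146, 0, 63, 63, 0, 178, 140, 45, 0, 0, 161, 0, 202, 132, 106, 202, 0, 0, 161, 226, 178, 0, 0, 0, 0, 0, 0, 161, 202, 0, 0, 5, 7, 140, 194, 0, 7, 0, 5, 146, 210, 0, 5, 7, 0, 0, 202, 161, 0, 210, 194, 161, 0, 202, 0, 146, 140, 202, 161, 0, 0, 7, 5, 0, 0, 0, 0, 0, 0, 178, 106, 5, 0, 0, 7, 226, 132, 7, 0, 5, 0, 0, 45, 140, 178, 0, 63, 63, 0, 194, 106, 0, 45, 132, 226, 0, 5, 0, 7, 210, 146, 7, 0, 0, 5, 0, 0, 0, 0, 0, 0, 45, 63, 5, 7, 0, 0, 0, 63, 146, 226, 45, 0, 45, 0, 210, 132, 63, 0, 106, 178, 0, 7, 5, 0, 194, 140, 5, 0, 7, 0, 63, 45, 7, 5, 0, 0, 0, 0, 0, 0, 0,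 0]

/-- Test of a monomial map. -/
def monoOK (σinv : Fin 6 → Fin 6) (m : ℕ) : Bool :=
  (List.finRange 3).all fun j => wordNum fun i => mulT (mult m i) (row j (σinv i))

theorem cycleCert_ok : ∀ a b c : Fin 6, a ≠ b → b ≠ c → a ≠ c →
    monoOK (fun i => Equiv.swap b c (Equiv.swap a b i)) (cycleCert.getD (36 * a.1 + 6 * b.1 + c.1) 0)
      = true := by decide +kernel

theorem threeCycle_cases : ∀ σ : Equiv.Perm (Fin 6), σ.support.card = 3 →
    ∃ a b c : Fin 6, a ≠ b ∧ b ≠ c ∧ a ≠ c ∧ ∀ x, σ x = Equiv.swap a b (Equiv.swap b c x) := by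
  decide +kernel

theorem swap01_bad : ∀ m < 729, monoOK (fun i => Equiv.swap (0 : Fin 6) 1 i) m = false := by
  decide +kernel

theorem scalar_check : ∀ m < 729, monoOK (fun i => i) m = true → ∀ i j, mult m i = mult m j := by
  decide +kernel

/-- The number of six ternary digits. -/
def digits6 (f : Fin 6 → Fin 3) : ℕ := ((List.finRange 6).map fun i => (f i).1 * 3 ^ i.1).sum

theorem digits6_spec : ∀ f : Fin 6 → Fin 3,
    digits6 f < 729 ∧ ∀ i, (mult (digits6 f) i).1 = (f i).1 + 1 := by decide +kernel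

theorem mult_surj (v : Fin 6 → Fin 4) (hv : ∀ i, v i ≠ 0) : ∃ m < 729, mult m = v := by
  have h : ∀ i, 1 ≤ (v i).1 := fun i => by
    have := hv i
    rw [ne_eq, Fin.ext_iff, Fin.val_zero] at this
    omega
  obtain ⟨h1, h2⟩ := digits6_spec fun i => ⟨(v i).1 - 1, by omega⟩
  exact ⟨_, h1, funext fun i => Fin.ext (by rw [h2]; have := h i; show (v i).1 - 1 + 1 = _; omega)⟩

variable {F : Type*} [Field F] [Fintype F] {ω : F}

section
variable (hF : Fintype.card F = 4) (hω : ω ^ 2 + ω + 1 = 0)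
include hF hω

theorem two_eq_zero : (2 : F) = 0 := by
  have h : ((4 : ℕ) : F) = 0 := by rw [← hF]; exact Nat.cast_card_eq_zero F
  have : (2 : F) * 2 = 0 := by norm_num at h ⊢; linear_combination h
  exact mul_self_eq_zero.1 this

/-- The symbols as field elements. -/
noncomputable def val (_ : Fintype.card F = 4) (ω : F) : Fin 4 → F := ![0, 1, ω, ω ^ 2]

theorem ne_zero : ω ≠ 0 ∧ ω ≠ 1 := by
  refine ⟨?_, ?_⟩
  · rintro rfl; simp at hω
  · rintro rfl
    exact one_ne_zero (by linear_combination hω - two_eq_zero hF hω : (1 : F) = 0)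

theorem cube_eq : ω ^ 3 = 1 := by linear_combination (ω - 1) * hω

theorem val_injective : Function.Injective (val hF ω) := by
  have h2 := two_eq_zero hF hω
  obtain ⟨h0, h1⟩ := ne_zero hF hω
  have hne : ω ^ 2 ≠ 1 := fun e => h0 (by linear_combination hω - e - h2)
  have hne' : ω ^ 2 ≠ ω := fun e => h1 (mul_left_cancel₀ h0 (by linear_combination e))
  have hne0 : ω ^ 2 ≠ 0 := pow_ne_zero 2 h0
  intro a b h
  fin_cases a <;> fin_cases b <;>
    simp [val, h0, h1, hne, hne', Ne.symm h0, Ne.symm h1, hne.symm, hne'.symm, hne0, hne0.symm] at h ⊢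

theorem val_bijective : Function.Bijective (val hF ω) :=
  (Fintype.bijective_iff_injective_and_card _).2 ⟨val_injective hF hω, by simp [hF]⟩

theorem val_add (a b : Fin 4) : val hF ω (addT a b) = val hF ω a + val hF ω b := by
  have h2 := two_eq_zero hF hω
  have hw : ω ^ 2 = ω + 1 := by linear_combination hω - (ω + 1) * h2
  fin_cases a <;> fin_cases b <;> simp [val, addT, hw] <;>
    first
      | linear_combination ((0 : F) + (0 : F) * ω) * h2
      | linear_combination ((0 : F) + (1 : F) * ω) * h2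
      | linear_combination ((0 : F) + (-1 : F) * ω) * h2
      | linear_combination ((1 : F) + (0 : F) * ω) * h2
      | linear_combination ((1 : F) + (1 : F) * ω) * h2
      | linear_combination ((1 : F) + (-1 : F) * ω) * h2
      | linear_combination ((-1 : F) + (0 : F) * ω) * h2
      | linear_combination ((-1 : F) + (1 : F) * ω) * h2
      | linear_combination ((-1 : F) + (-1 : F) * ω) * h2

theorem val_mul (a b : Fin 4) : val hF ω (mulT a b) = val hF ω a * val hF ω b := by
  have h3 := cube_eq hF hω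
  fin_cases a <;> fin_cases b <;> simp [val, mulT] <;>
    first
      | linear_combination (1 : F) * 0
      | linear_combination -h3
      | linear_combination -ω * h3
      | ring

theorem mem_iff {x : Fin 6 → F} :
    x ∈ hexacode F ω ↔ ∃ n, x = fun i => val hF ω (word n i) := by
  have hrow : ∀ i, (![ω, ω ^ 2, ω ^ 2, ω, ω ^ 2, ω] : Fin 6 → F) i = val hF ω (row 0 i) ∧
      (![ω ^ 2, ω, ω, ω ^ 2, ω ^ 2, ω] : Fin 6 → F) i = val hF ω (row 1 i) ∧
      (![ω ^ 2, ω, ω ^ 2, ω, ω, ω ^ 2] : Fin 6 → F) i = val hF ω (row 2 i) := by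
    intro i; fin_cases i <;> exact ⟨rfl, rfl, rfl⟩
  rw [hexacode, Submodule.mem_span_triple]
  constructor
  · rintro ⟨a, b, c, rfl⟩
    obtain ⟨a', rfl⟩ := (val_bijective hF hω).2 a
    obtain ⟨b', rfl⟩ := (val_bijective hF hω).2 b
    obtain ⟨c', rfl⟩ := (val_bijective hF hω).2 c
    refine ⟨(a', b', c'), funext fun i => ?_⟩
    simp only [word, val_add hF hω, val_mul hF hω, Pi.add_apply, Pi.smul_apply, smul_eq_mul,
      (hrow i).1, (hrow i).2.1, (hrow i).2.2]
  · rintro ⟨⟨a, b, c⟩, rfl⟩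
    refine ⟨val hF ω a, val hF ω b, val hF ω c, funext fun i => ?_⟩
    simp only [word, val_add hF hω, val_mul hF hω, Pi.add_apply, Pi.smul_apply, smul_eq_mul,
      (hrow i).1, (hrow i).2.1, (hrow i).2.2]

theorem word_val_injective : Function.Injective fun n => fun i => val hF ω (word n i) := by
  intro m n h
  have hw : word m = word n := funext fun i => val_injective hF hω (congrFun h i)
  have : Function.Injective word := by decide +kernel
  exact this hw

theorem card_code : Nat.card (hexacode F ω) = 64 := by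
  have e : (hexacode F ω : Set (Fin 6 → F)) = Set.range fun n => fun i => val hF ω (word n i) := by
    ext x
    rw [SetLike.mem_coe, mem_iff hF hω, Set.mem_range]
    exact exists_congr fun n => eq_comm
  show Nat.card (hexacode F ω : Set (Fin 6 → F)) = 64
  rw [e, Nat.card_range_of_injective (word_val_injective hF hω)]
  simp

variable [DecidableEq F]

theorem weight_word (n : Fin 4 × Fin 4 × Fin 4) :
    (Finset.univ.filter fun i => val hF ω (word n i) ≠ 0).card =
      (Finset.univ.filter fun i => word n i ≠ 0).card := by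
  congr 1
  refine Finset.filter_congr fun i _ => ?_
  rw [ne_eq, ne_eq, ← (val_injective hF hω).eq_iff (b := 0)]
  rfl

theorem ncard_weight (k c : ℕ)
    (hc : (Finset.univ.filter fun n => (Finset.univ.filter fun i => word n i ≠ 0).card = k).card = c) :
    {x : Fin 6 → F | x ∈ hexacode F ω ∧ (Finset.univ.filter fun i => x i ≠ 0).card = k}.ncard = c := by
  have e : {x : Fin 6 → F | x ∈ hexacode F ω ∧ (Finset.univ.filter fun i => x i ≠ 0).card = k} =
      (fun n => fun i => val hF ω (word n i)) ''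
        ↑(Finset.univ.filter fun n => (Finset.univ.filter fun i => word n i ≠ 0).card = k) := by
    ext x
    simp only [Set.mem_setOf_eq, mem_iff hF hω, Set.mem_image, Finset.coe_filter, Finset.mem_univ,
      true_and]
    constructor
    · rintro ⟨⟨n, rfl⟩, hk⟩; exact ⟨n, (weight_word hF hω n).symm.trans hk, rfl⟩
    · rintro ⟨n, hk, rfl⟩; exact ⟨⟨n, rfl⟩, (weight_word hF hω n).trans hk⟩
  rw [e, Set.ncard_image_of_injective _ (word_val_injective hF hω), Set.ncard_coe_finset, hc]

end

/-- A monomial automorphism. -/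
def IsMono (ω : F) (σ : Equiv.Perm (Fin 6)) (c : Fin 6 → Fˣ) : Prop :=
  ∀ x ∈ hexacode F ω, monomialMap σ c x ∈ hexacode F ω

omit [Fintype F] in
theorem monomialMap_comp (σ τ : Equiv.Perm (Fin 6)) (c d : Fin 6 → Fˣ) (x : Fin 6 → F) :
    monomialMap σ c (monomialMap τ d x) = monomialMap (σ * τ) (fun i => c i * d (σ.symm i)) x := by
  funext i
  simp [monomialMap, mul_assoc, Equiv.Perm.mul_def]

omit [Fintype F] in
theorem isMono_one : IsMono ω 1 (fun _ => 1) := fun x hx => by
  have : monomialMap (1 : Equiv.Perm (Fin 6)) (fun _ => (1 : Fˣ)) x = x := by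
    funext i; simp [monomialMap]; rfl
  rwa [this]

/-- The underlying permutations. -/
def permGroup (ω : F) : Subgroup (Equiv.Perm (Fin 6)) where
  carrier := {σ | ∃ c, IsMono ω σ c}
  one_mem' := ⟨_, isMono_one⟩
  mul_mem' := by
    rintro σ τ ⟨c, hc⟩ ⟨d, hd⟩
    exact ⟨_, fun x hx => by rw [← monomialMap_comp]; exact hc _ (hd x hx)⟩
  inv_mem' := by
    rintro σ ⟨c, hc⟩
    have hpow : ∀ k : ℕ, ∃ d, IsMono ω (σ ^ k) d := by
      intro k
      induction k with
      | zero => exact ⟨_, isMono_one⟩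
      | succ k ih =>
        obtain ⟨d, hd⟩ := ih
        refine ⟨fun i => c i * d (σ.symm i), fun x hx => ?_⟩
        rw [pow_succ', ← monomialMap_comp]
        exact hc _ (hd x hx)
    obtain ⟨d, hd⟩ := hpow (orderOf σ - 1)
    refine ⟨d, ?_⟩
    have e : σ⁻¹ = σ ^ (orderOf σ - 1) := by
      rw [inv_eq_iff_mul_eq_one, ← pow_succ', Nat.sub_add_cancel (orderOf_pos σ), pow_orderOf_eq_one]
    rwa [e]

section
variable (hF : Fintype.card F = 4) (hω : ω ^ 2 + ω + 1 = 0)
include hF hω

theorem exists_mult (c : Fin 6 → Fˣ) : ∃ m < 729, ∀ i, val hF ω (mult m i) = c i := by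
  have hb := val_bijective hF hω
  choose v hv using fun i => hb.2 (c i : F)
  obtain ⟨m, hm, rfl⟩ := mult_surj v fun i e => (c i).ne_zero (by rw [← hv i, e]; rfl)
  exact ⟨m, hm, hv⟩

theorem monoOK_iff {σ : Equiv.Perm (Fin 6)} {f : Fin 6 → Fin 6} (hf : ∀ i, σ.symm i = f i)
    {c : Fin 6 → Fˣ} {m : ℕ} (hc : ∀ i, val hF ω (mult m i) = c i) :
    monoOK f m = true ↔ IsMono ω σ c := by
  have hmap : ∀ w : Fin 6 → Fin 4, monomialMap σ c (fun i => val hF ω (w i)) =
      fun i => val hF ω (mulT (mult m i) (w (f i))) := fun w => funext fun i => by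
    rw [monomialMap, hf, val_mul hF hω, hc]
  simp only [monoOK, wordNum, List.all_eq_true, List.mem_finRange, true_implies, decide_eq_true_eq]
  constructor
  · intro h x hx
    obtain ⟨⟨a, b, e⟩, rfl⟩ := (mem_iff hF hω).1 hx
    have hj : ∀ j, (fun i => val hF ω (mulT (mult m i) (row j (f i)))) ∈ hexacode F ω := fun j => by
      obtain ⟨n, hn⟩ := h j
      exact (mem_iff hF hω).2 ⟨n, funext fun i => congrArg _ (congrFun hn i).symm⟩
    have : monomialMap σ c (fun i => val hF ω (word (a, b, e) i)) =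
        val hF ω a • (fun i => val hF ω (mulT (mult m i) (row 0 (f i)))) +
        val hF ω b • (fun i => val hF ω (mulT (mult m i) (row 1 (f i)))) +
        val hF ω e • (fun i => val hF ω (mulT (mult m i) (row 2 (f i)))) := by
      rw [hmap]
      funext i
      simp only [word, val_add hF hω, val_mul hF hω, Pi.add_apply, Pi.smul_apply, smul_eq_mul]
      ring
    rw [this]
    exact Submodule.add_mem _ (Submodule.add_mem _ (Submodule.smul_mem _ _ (hj 0))
      (Submodule.smul_mem _ _ (hj 1))) (Submodule.smul_mem _ _ (hj 2))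
  · intro h j
    have hmem : (fun i => val hF ω (row j i)) ∈ hexacode F ω := by
      have : ∀ j, ∃ n, word n = row j := by decide +kernel
      obtain ⟨n, hn⟩ := this j
      exact (mem_iff hF hω).2 ⟨n, by rw [hn]⟩
    obtain ⟨n, hn⟩ := (mem_iff hF hω).1 (h _ hmem)
    rw [hmap] at hn
    exact ⟨n, funext fun i => (val_injective hF hω (congrFun hn i)).symm⟩

theorem scalars {c : Fin 6 → Fˣ} (h : IsMono ω 1 c) (i j : Fin 6) : c i = c j := by
  obtain ⟨m, hm, hc⟩ := exists_mult hF hω c
  have := scalar_check m hm ((monoOK_iff hF hω (f := fun i => i) (fun i => rfl) hc).2 h) i j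
  exact Units.ext (by rw [← hc, ← hc, this])

theorem permGroup_eq : permGroup ω = alternatingGroup (Fin 6) := by
  refine le_antisymm ?_ ?_
  · intro σ hσ
    by_contra hodd
    have hA : alternatingGroup (Fin 6) ≤ permGroup ω := by
      rw [← Equiv.Perm.closure_three_cycles_eq_alternating, Subgroup.closure_le]
      intro τ hτ
      obtain ⟨a, b, c, hab, hbc, hac, he⟩ := threeCycle_cases τ (Equiv.Perm.IsThreeCycle.card_support hτ)
      have hok := cycleCert_ok a b c hab hbc hac
      generalize cycleCert.getD (36 * a.1 + 6 * b.1 + c.1) 0 = m at hok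
      have hnz : ∀ i, mult m i ≠ 0 := by
        intro i
        simp only [mult, ne_eq, Fin.ext_iff, Fin.val_ofNat, Fin.val_zero]
        have := Nat.mod_lt (m / 3 ^ i.1) (show 3 > 0 by norm_num)
        omega
      refine ⟨fun i => Units.mk0 (val hF ω (mult m i)) (fun e => hnz i ?_),
        (monoOK_iff hF hω (σ := τ) (f := fun i => Equiv.swap b c (Equiv.swap a b i)) ?_
          (fun i => rfl)).1 hok⟩
      · exact val_injective hF hω (e.trans rfl)
      · intro i; rw [Equiv.symm_apply_eq, he]; simp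
    have hs : Equiv.swap (0 : Fin 6) 1 ∈ permGroup ω := by
      have hmem : σ⁻¹ * Equiv.swap (0 : Fin 6) 1 ∈ alternatingGroup (Fin 6) := by
        rw [Equiv.Perm.mem_alternatingGroup] at hodd ⊢
        rcases Int.units_eq_one_or (Equiv.Perm.sign σ) with h | h
        · exact absurd h hodd
        · rw [map_mul, map_inv, h, Equiv.Perm.sign_swap (by decide)]; decide
      simpa using (permGroup ω).mul_mem hσ (hA hmem)
    obtain ⟨c, hc⟩ := hs
    obtain ⟨m, hm, hcm⟩ := exists_mult hF hω c
    have h1 := (monoOK_iff hF hω (f := fun i => Equiv.swap (0 : Fin 6) 1 i) (fun i => rfl) hcm).2 hc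
    rw [swap01_bad m hm] at h1
    cases h1
  · rw [← Equiv.Perm.closure_three_cycles_eq_alternating, Subgroup.closure_le]
    intro τ hτ
    obtain ⟨a, b, c, hab, hbc, hac, he⟩ := threeCycle_cases τ (Equiv.Perm.IsThreeCycle.card_support hτ)
    have hok := cycleCert_ok a b c hab hbc hac
    generalize cycleCert.getD (36 * a.1 + 6 * b.1 + c.1) 0 = m at hok
    have hnz : ∀ i, mult m i ≠ 0 := by
      intro i
      simp only [mult, ne_eq, Fin.ext_iff, Fin.val_ofNat, Fin.val_zero]
      have := Nat.mod_lt (m / 3 ^ i.1) (show 3 > 0 by norm_num)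
      omega
    refine ⟨fun i => Units.mk0 (val hF ω (mult m i)) (fun e => hnz i ?_),
      (monoOK_iff hF hω (σ := τ) (f := fun i => Equiv.swap b c (Equiv.swap a b i)) ?_
        (fun i => rfl)).1 hok⟩
    · exact val_injective hF hω (e.trans rfl)
    · intro i; rw [Equiv.symm_apply_eq, he]; simp

theorem card_monomial : Nat.card {f : Equiv.Perm (Fin 6) × (Fin 6 → Fˣ) // IsMono ω f.1 f.2} = 1080 := by
  have hbij : Function.Bijective (fun f : {f : Equiv.Perm (Fin 6) × (Fin 6 → Fˣ) // IsMono ω f.1 f.2}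
      => ((⟨f.1.1, f.1.2, f.2⟩ : permGroup ω), f.1.2 0)) := by
    constructor
    · rintro ⟨⟨σ, c⟩, hc⟩ ⟨⟨τ, d⟩, hd⟩ h
      have h1 : σ = τ := congrArg (fun z => (z.1 : Equiv.Perm (Fin 6))) h
      have h0 : c 0 = d 0 := congrArg Prod.snd h
      subst h1
      obtain ⟨e, he⟩ := (permGroup ω).inv_mem (show σ ∈ permGroup ω from ⟨c, hc⟩)
      have hσ : IsMono ω 1 (fun i => c i * e (σ.symm i)) := fun x hx => by
        have := hc _ (he x hx)
        rwa [monomialMap_comp, mul_inv_cancel] at this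
      have hτ : IsMono ω 1 (fun i => d i * e (σ.symm i)) := fun x hx => by
        have := hd _ (he x hx)
        rwa [monomialMap_comp, mul_inv_cancel] at this
      have key : ∀ p, c p * e (σ.symm p) = d p * e (σ.symm p) := fun p => by
        rw [scalars hF hω hσ p 0, scalars hF hω hτ p 0, h0]
      exact Subtype.ext (Prod.ext rfl (funext fun p => mul_right_cancel (key p)))
    · rintro ⟨⟨σ, c, hc⟩, u⟩
      refine ⟨⟨(σ, fun p => u * (c 0)⁻¹ * c p), fun x hx => ?_⟩, ?_⟩
      · have e : monomialMap σ (fun p => u * (c 0)⁻¹ * c p) x =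
            ((u * (c 0)⁻¹ : Fˣ) : F) • monomialMap σ c x := by
          funext p; simp [monomialMap, mul_assoc]
        rw [e]; exact Submodule.smul_mem _ _ (hc x hx)
      · exact Prod.ext rfl (by simp)
  rw [Nat.card_eq_of_bijective _ hbij, Nat.card_prod, permGroup_eq hF hω, Nat.card_units,
    Nat.card_eq_fintype_card (α := F), hF, nat_card_alternatingGroup, Nat.card_fin]
  decide +kernel

end

end Cfsg.Agent.Golay.Hexacode
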