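import Cfsg.Agent.Lib.Golay.Steiner
import Mathlib.Combinatorics.SimpleGraph.StronglyRegular

/-!
Counting disjoint blocks in an S(3, 6, 22): the 77-vertex graph and the 100-vertex graph built from it.
-/

set_option autoImplicit false
set_option linter.all false

namespace Cfsg.Agent.Golay.HigmanSimsGraph

open Finset Cfsg Cfsg.Agent.Golay.Steiner

variable {α : Type*} [Fintype α] [DecidableEq α] {B : Set (Finset α)}

theorem inter_cases (hB : IsSteinerSystem 3 6 B) (hα : Fintype.card α = 22) {b c : Finset α}
    (hb : b ∈ B) (hc : c ∈ B) (hbc : b ≠ c) : (b ∩ c).card = 0 ∨ (b ∩ c).card = 2 := by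
  have h1 := inter_card_lt hB hb hc hbc
  have h2 := inter_num_ne_zero hB (by norm_num) hα interNums_3622 hb hc
  generalize (b ∩ c).card = m at h1 h2
  interval_cases m <;> simp [n3622] at h2 ⊢

theorem card_block_set (hB : IsSteinerSystem 3 6 B) (hα : Fintype.card α = 22) : B.ncard = 77 := by
  have h := block_count hB
  rw [hα] at h
  have e1 : Nat.choose 6 3 = 20 := by decide
  have e2 : Nat.choose 22 3 = 1540 := by decide
  rw [e1, e2] at h
  omega

theorem card_point (hB : IsSteinerSystem 3 6 B) (hα : Fintype.card α = 22) (a : α) :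
    {d : Finset α | d ∈ B ∧ a ∈ d}.ncard = 21 := by
  have h := ncard_through hB (by norm_num : 3 ≤ 6) hα (s := {a}) (by simp)
  simp only [singleton_subset_iff, card_singleton] at h
  rw [h]; decide

theorem card_two_points (hB : IsSteinerSystem 3 6 B) (hα : Fintype.card α = 22) {a a' : α} (hne : a ≠ a') :
    {d : Finset α | d ∈ B ∧ a ∈ d ∧ a' ∈ d}.ncard = 5 := by
  have h := ncard_through hB (by norm_num : 3 ≤ 6) hα (s := {a, a'}) (by simp [hne])
  simp only [insert_subset_iff, singleton_subset_iff, card_pair hne] at h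
  rw [h]; decide

theorem card_disjoint (hB : IsSteinerSystem 3 6 B) (hα : Fintype.card α = 22) {b : Finset α} (hb : b ∈ B) :
    {d : Finset α | d ∈ B ∧ Disjoint b d}.ncard = 16 := by
  have h := ncard_inter_card hB (by norm_num : 3 ≤ 6) hα interNums_3622 hb 0
  simp only [card_eq_zero, ← disjoint_iff_inter_eq_empty] at h
  rw [h]; decide

/-- A function with values in `{0, 2}` sums to twice the size of its support. -/
theorem sum_zero_two {ι : Type*} [DecidableEq ι] (F : Finset ι) (f : ι → ℕ) (hf : ∀ i ∈ F, f i = 0 ∨ f i = 2) :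
    ∑ i ∈ F, f i + 2 * (F.filter fun i => f i = 0).card = 2 * F.card := by
  rw [card_filter, mul_sum, ← sum_add_distrib, mul_comm 2 F.card]
  refine sum_const_nat fun i hi => ?_
  rcases hf i hi with h | h <;> simp [h]

/-- Double counting incidences of a point set with a family of blocks. -/
theorem sum_inter {F : Finset (Finset α)} {s : Finset α} {r : ℕ}
    (h : ∀ a ∈ s, (F.filter fun d => a ∈ d).card = r) : ∑ d ∈ F, (s ∩ d).card = s.card * r := by
  have h1 : ∀ d, (s ∩ d).card = ∑ a ∈ s, if a ∈ d then 1 else 0 := fun d => by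
    rw [← card_filter, filter_mem_eq_inter]
  simp only [h1]
  rw [sum_comm]
  refine sum_const_nat fun a ha => ?_
  rw [← card_filter]
  exact h a ha

theorem card_point_disjoint (hB : IsSteinerSystem 3 6 B) (hα : Fintype.card α = 22) {b : Finset α}
    (hb : b ∈ B) {a : α} (ha : a ∉ b) : {d : Finset α | d ∈ B ∧ a ∈ d ∧ Disjoint b d}.ncard = 6 := by
  set F := (blocks B).filter fun d => a ∈ d with hF
  have h21 : F.card = 21 := by rw [hF, ← ncard_eq_filter, card_point hB hα a]
  have hsum : ∑ d ∈ F, (b ∩ d).card = 6 * 5 := by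
    rw [sum_inter (r := 5) fun x hx => ?_, hB.1 b hb]
    rw [hF, filter_filter, ← ncard_eq_filter, card_two_points hB hα (fun e => ha (by rwa [e]))]
  have h := sum_zero_two F (fun d => (b ∩ d).card) fun d hd => by
    simp only [hF, mem_filter, mem_blocks] at hd
    exact inter_cases hB hα hb hd.1 (fun e => ha (e ▸ hd.2))
  rw [hsum, h21, hF, filter_filter] at h
  rw [ncard_eq_filter]
  simp only [card_eq_zero, ← disjoint_iff_inter_eq_empty] at h
  omega

/-- Blocks disjoint from two blocks `b`, `c`. -/
theorem card_common (hB : IsSteinerSystem 3 6 B) (hα : Fintype.card α = 22) {b c : Finset α}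
    (hb : b ∈ B) (hc : c ∈ B) (hbc : b ≠ c) :
    {d : Finset α | d ∈ B ∧ Disjoint b d ∧ Disjoint c d}.ncard = if Disjoint b c then 0 else 4 := by
  set F := (blocks B).filter fun d => Disjoint b d with hF
  have h16 : F.card = 16 := by rw [hF, ← ncard_eq_filter, card_disjoint hB hα hb]
  have hsum : ∑ d ∈ F, ((c \ b) ∩ d).card = (c \ b).card * 6 := by
    refine sum_inter fun x hx => ?_
    rw [hF, filter_filter, ← ncard_eq_filter]
    simp only [and_comm (a := Disjoint b _)]
    exact card_point_disjoint hB hα hb (Finset.mem_sdiff.mp hx).2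
  have hcongr : ∀ d ∈ F, ((c \ b) ∩ d).card = (c ∩ d).card := fun d hd => by
    simp only [hF, mem_filter] at hd
    congr 1; ext x
    simp only [mem_inter, Finset.mem_sdiff]
    exact ⟨fun h => ⟨h.1.1, h.2⟩, fun h => ⟨⟨h.1, fun hxb => disjoint_left.mp hd.2 hxb h.2⟩, h.2⟩⟩
  rw [sum_congr rfl hcongr] at hsum
  rw [ncard_eq_filter, ← filter_filter, ← hF]
  have hfil : ∀ E : Finset (Finset α), (E.filter fun d => Disjoint c d) = E.filter fun d => (c ∩ d).card = 0 := by
    intro E; refine filter_congr fun d _ => ?_; rw [card_eq_zero, disjoint_iff_inter_eq_empty]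
  rw [hfil]
  split_ifs with hd
  · have hcF : c ∈ F := by simp [hF, mem_blocks, hc, hd]
    have h := sum_zero_two (F.erase c) (fun d => (c ∩ d).card) fun d hd' => by
      obtain ⟨hne, hd'⟩ := mem_erase.mp hd'
      simp only [hF, mem_filter, mem_blocks] at hd'
      exact inter_cases hB hα hc hd'.1 (Ne.symm hne)
    have he := add_sum_erase F (fun d => (c ∩ d).card) hcF
    rw [hsum, inter_self, hB.1 c hc, sdiff_eq_self_of_disjoint hd.symm, hB.1 c hc] at he
    rw [card_erase_of_mem hcF, h16] at h
    have hz : F.filter (fun d => (c ∩ d).card = 0) = (F.erase c).filter (fun d => (c ∩ d).card = 0) := by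
      ext d
      simp only [mem_filter, mem_erase]
      exact ⟨fun h => ⟨⟨fun e => by rw [e, inter_self, hB.1 c hc] at h; exact absurd h.2 (by norm_num), h.1⟩, h.2⟩,
        fun h => ⟨h.1.2, h.2⟩⟩
    rw [hz]
    omega
  · have h := sum_zero_two F (fun d => (c ∩ d).card) fun d hd' => by
      simp only [hF, mem_filter, mem_blocks] at hd'
      exact inter_cases hB hα hc hd'.1 (fun e => hd (e ▸ hd'.2))
    have h2 : (c ∩ b).card = 2 := (inter_cases hB hα hc hb hbc.symm).resolve_left (fun h0 => hd
      (by rw [disjoint_iff_inter_eq_empty, inter_comm]; exact card_eq_zero.mp h0))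
    have h4 : (c \ b).card = 4 := by
      have := card_sdiff_add_card_inter c b
      rw [hB.1 c hc] at this; omega
    rw [hsum, h16, h4] at h
    omega

/-- Transfer a count on the subtype `B`. -/
theorem ncard_subtype (P : Finset α → Prop) : {d : B | P d}.ncard = {d : Finset α | d ∈ B ∧ P d}.ncard := by
  rw [← Set.ncard_image_of_injective _ Subtype.val_injective]
  congr 1; ext d; simp [and_comm]

end Cfsg.Agent.Golay.HigmanSimsGraph
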