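import Cfsg.Agent.Lib.Golay.Orbit

/-!
Lists of the masks of the `k`-subsets of the twenty-four points.
-/

set_option autoImplicit false

namespace Cfsg.Agent.Golay.KSubsets

open Cfsg Cfsg.Agent.Golay.Basic

/-- The masks with exactly `k` bits among the low `n`. -/
def ksub : ℕ → ℕ → List ℕ
  | _, 0 => [0]
  | 0, _ + 1 => []
  | n + 1, k + 1 => ksub n (k + 1) ++ (ksub n k).map fun x => x ||| 1 <<< n

theorem maskSet_or_pow {x n : ℕ} (hx : x < 2 ^ n) (hn : n < 24) :
    maskSet (x ||| 1 <<< n) = insert (pt n) (maskSet x) ∧ pt n ∉ maskSet x := by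
  refine ⟨?_, ?_⟩
  · ext p
    simp only [mem_maskSet, Finset.mem_insert, Nat.testBit_or, Bool.or_eq_true, Nat.one_shiftLeft,
      Nat.testBit_two_pow, decide_eq_true_eq]
    constructor
    · rintro (h | h)
      · exact Or.inr h
      · exact Or.inl (by rw [h, pt_ix])
    · rintro (rfl | h)
      · exact Or.inr (ix_pt hn).symm
      · exact Or.inl h
  · rw [mem_maskSet, ix_pt hn, Nat.testBit_lt_two_pow hx]
    exact Bool.false_ne_true

theorem mem_ksub : ∀ n ≤ 24, ∀ k m, m ∈ ksub n k ↔ m < 2 ^ n ∧ (maskSet m).card = k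
  | 0, _, k, m => by
    have h0 : (maskSet 0).card = 0 := by decide
    cases k with
    | zero =>
      simp only [ksub, List.mem_singleton, pow_zero, Nat.lt_one_iff]
      exact ⟨fun h => ⟨h, h ▸ h0⟩, fun h => h.1⟩
    | succ k =>
      simp only [ksub, List.not_mem_nil, pow_zero, Nat.lt_one_iff, false_iff, not_and]
      rintro rfl; omega
  | n + 1, hn, 0, m => by
    simp only [ksub, List.mem_singleton]
    constructor
    · rintro rfl; exact ⟨by positivity, by decide⟩
    · rintro ⟨h1, h2⟩
      apply Nat.eq_of_testBit_eq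
      intro i
      rw [Nat.zero_testBit]
      rcases Nat.lt_or_ge i 24 with hi | hi
      · rw [Finset.card_eq_zero] at h2
        by_contra hc
        have : pt i ∈ maskSet m := by rw [mem_maskSet, ix_pt hi]; simpa using hc
        simp [h2] at this
      · exact Nat.testBit_lt_two_pow (h1.trans_le (Nat.pow_le_pow_right (by norm_num) (by omega)))
  | n + 1, hn, k + 1, m => by
    have ih := mem_ksub n (by omega)
    simp only [ksub, List.mem_append, List.mem_map, ih]
    constructor
    · rintro (⟨h1, h2⟩ | ⟨x, ⟨h1, h2⟩, rfl⟩)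
      · exact ⟨h1.trans_le (Nat.pow_le_pow_right (by norm_num) (by omega)), h2⟩
      · obtain ⟨e, hni⟩ := maskSet_or_pow h1 (by omega)
        refine ⟨Nat.or_lt_two_pow (h1.trans_le (Nat.pow_le_pow_right (by norm_num) (by omega))) ?_, ?_⟩
        · rw [Nat.one_shiftLeft]; exact Nat.pow_lt_pow_right (by norm_num) (by omega)
        · rw [e, Finset.card_insert_of_notMem hni, h2]
    · rintro ⟨h1, h2⟩
      cases hb : m.testBit n with
      | false =>
        refine Or.inl ⟨Nat.lt_pow_two_of_testBit m fun i hi => ?_, h2⟩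
        rcases Nat.eq_or_lt_of_le hi with rfl | hi'
        · exact hb
        · exact Nat.testBit_lt_two_pow (h1.trans_le (Nat.pow_le_pow_right (by norm_num) hi'))
      | true =>
        have hx : m ^^^ 1 <<< n < 2 ^ n := Nat.lt_pow_two_of_testBit _ fun i hi => by
          rw [Nat.testBit_xor, Nat.one_shiftLeft, Nat.testBit_two_pow]
          rcases Nat.eq_or_lt_of_le hi with rfl | hi'
          · simp [hb]
          · rw [Nat.testBit_lt_two_pow (h1.trans_le (Nat.pow_le_pow_right (by norm_num) hi'))]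
            simp [hi'.ne]
        have hm : (m ^^^ 1 <<< n) ||| 1 <<< n = m := by
          apply Nat.eq_of_testBit_eq
          intro i
          simp only [Nat.testBit_or, Nat.testBit_xor, Nat.one_shiftLeft, Nat.testBit_two_pow]
          by_cases hi : n = i
          · subst hi; simp [hb]
          · simp [hi]
        obtain ⟨e, hni⟩ := maskSet_or_pow hx (by omega : n < 24)
        rw [hm] at e
        rw [e, Finset.card_insert_of_notMem hni] at h2
        exact Or.inr ⟨_, ⟨hx, by omega⟩, hm⟩

theorem mask_mem_ksub {s : Finset GolayPt} {k : ℕ} (h : s.card = k) : mask s ∈ ksub 24 k :=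
  (mem_ksub 24 le_rfl k _).2 ⟨mask_lt s, by rw [maskSet_mask, h]⟩

theorem ksub_nodup : ∀ n ≤ 24, ∀ k, (ksub n k).Nodup
  | 0, _, 0 | n + 1, _, 0 => by simp [ksub]
  | 0, _, k + 1 => by simp [ksub]
  | n + 1, hn, k + 1 => by
    refine List.nodup_append.2 ⟨ksub_nodup n (by omega) _, (ksub_nodup n (by omega) k).map_on ?_, ?_⟩
    · intro x hx y hy h
      have hx := ((mem_ksub n (by omega) k x).1 hx).1
      have hy := ((mem_ksub n (by omega) k y).1 hy).1
      apply Nat.eq_of_testBit_eq
      intro i
      have := congrArg (fun z => z.testBit i) h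
      simp only [Nat.testBit_or, Nat.one_shiftLeft, Nat.testBit_two_pow] at this
      by_cases hi : n = i
      · subst hi; rw [Nat.testBit_lt_two_pow hx, Nat.testBit_lt_two_pow hy]
      · simpa [hi] using this
    · intro a ha b hb hab
      obtain ⟨x, -, rfl⟩ := List.mem_map.1 hb
      have := Nat.testBit_lt_two_pow ((mem_ksub n (by omega) (k + 1) a).1 ha).1
      rw [hab, Nat.testBit_or, Nat.one_shiftLeft, Nat.testBit_two_pow] at this
      simp at this

/-- Count the `k`-subsets passing a test. -/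
theorem ncard_ksub (k : ℕ) (P : Finset GolayPt → Prop) (Q : ℕ → Bool)
    (h : ∀ s : Finset GolayPt, s.card = k → (P s ↔ Q (mask s) = true)) {n : ℕ}
    (hn : ((ksub 24 k).filter Q).length = n) : {s : Finset GolayPt | s.card = k ∧ P s}.ncard = n := by
  have hinj : Set.InjOn maskSet {m | m ∈ (ksub 24 k).filter Q} := by
    intro a ha b hb hab
    simp only [Set.mem_setOf_eq, List.mem_filter, mem_ksub 24 le_rfl] at ha hb
    rw [← mask_maskSet ha.1.1, hab, mask_maskSet hb.1.1]
  have himg : {s : Finset GolayPt | s.card = k ∧ P s} = maskSet '' {m | m ∈ (ksub 24 k).filter Q} := by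
    ext s
    simp only [Set.mem_setOf_eq, Set.mem_image, List.mem_filter, mem_ksub 24 le_rfl]
    constructor
    · rintro ⟨hc, hP⟩
      exact ⟨mask s, ⟨⟨mask_lt s, by rw [maskSet_mask, hc]⟩, (h s hc).1 hP⟩, maskSet_mask s⟩
    · rintro ⟨m, ⟨⟨hm, hc⟩, hQ⟩, rfl⟩
      exact ⟨hc, (h _ hc).2 (by rwa [mask_maskSet hm])⟩
  rw [himg, Set.ncard_image_of_injOn hinj, ← hn,
    ← List.toFinset_card_of_nodup ((ksub_nodup 24 le_rfl k).filter Q),
    show {m | m ∈ (ksub 24 k).filter Q} = ↑((ksub 24 k).filter Q).toFinset by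
      ext; rw [Finset.mem_coe, List.mem_toFinset]; rfl,
    Set.ncard_coe_finset]

end Cfsg.Agent.Golay.KSubsets
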