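import Cfsg.Agent.Lib.Golay.M11SubData
import Cfsg.Agent.Lib.SmallSimple.PrimeChecks

/-!
Subgroups of the stabiliser of a dodecad and one of its points: the fixer of an outer point, the
stabiliser of an outer pair, an involution centraliser.
-/

set_option autoImplicit false
set_option maxRecDepth 20000

namespace Cfsg.Agent.Golay.M11Sub

open Cfsg Cfsg.Agent.Golay.Basic Cfsg.Agent.Golay.M24 Cfsg.Agent.Golay.Cert Cfsg.Agent.Golay.Perm
  Cfsg.Agent.Golay.Small Cfsg.Agent.Golay.SmallData Cfsg.Agent.Golay.M11SubData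
  Cfsg.Agent.Golay.SimpleCrit Cfsg.Agent.Golay.Trans
open scoped Pointwise

/-- The fixer of an outer point. -/
def OutK : Subgroup (Equiv.Perm GolayPt) := fixers M11K [pt 7]

/-- The stabiliser of an outer pair. -/
def PairK : Subgroup (Equiv.Perm GolayPt) :=
  M11K ⊓ MulAction.stabilizer (Equiv.Perm GolayPt) ({pt 7, pt 11} : Finset GolayPt)

theorem fix_pt0 {g : Equiv.Perm GolayPt} (hg : g ∈ M11K) : g (pt 0) = pt 0 :=
  hg.2 _ List.mem_cons_self

theorem maps_outer {g : Equiv.Perm GolayPt} (hg : g ∈ M11K) {p : GolayPt} (hp : p ∈ d0ᶜ) :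
    g p ∈ d0ᶜ := by
  rw [Finset.mem_compl] at hp ⊢
  exact M12K_maps_compl hg.1 hp

theorem outer_step {k : ℕ} {b T : ℕ} {ws : List (List ℕ)} {rest : List (ℕ × ℕ × List (List ℕ))}
    {pre : List ℕ} (hpre : ∀ x ∈ pre, x < 24)
    (hchain : chainOK m11Tabs pre ((b, T, ws) :: rest) = true) (hb : pt b ∈ d0ᶜ)
    (hnot : pt b ∉ pre.map pt) (hT : maskSet T = d0ᶜ \ (pre.map pt).toFinset)
    (hk : (maskSet T).card = k) :
    Nat.card (fixers M11K (pre.map pt)) = k * Nat.card (fixers M11K (pt b :: pre.map pt)) := by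
  rw [← hk]
  refine card_fixers_step M11K _ _ _ (fun g hg => ?_) (fun t ht => ?_)
  · rw [hT, Finset.mem_sdiff, List.mem_toFinset]
    refine ⟨maps_outer hg.1 hb, fun h => hnot ?_⟩
    have := g.injective (hg.2 _ h)
    rwa [this] at h
  · obtain ⟨g, hg, hfix, hgb⟩ := chain_trans m11Tabs_ok hpre hchain ht
    refine ⟨g, ⟨m11_eq ▸ hg, fun x hx => ?_⟩, hgb⟩
    obtain ⟨i, hi, rfl⟩ := List.mem_map.1 hx
    exact hfix i hi

theorem card_OutK : Nat.card OutK = 660 := by
  obtain ⟨T, ws, rest, e, hT⟩ : ∃ T ws rest, m11Outer = (7, T, ws) :: rest ∧ maskSet T = d0ᶜ :=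
    ⟨_, _, _, rfl, by decide +kernel⟩
  have hok := m11Outer_ok
  rw [e] at hok
  have h := outer_step (k := 12) (pre := []) (by simp) hok (by decide +kernel) (by simp)
    (by simpa using hT) (by rw [hT]; decide +kernel)
  rw [List.map_nil, fixers_nil, card_M11K, ← OutK] at h
  omega

theorem card_two : Nat.card (fixers M11K [pt 11, pt 7]) = 60 := by
  obtain ⟨T₁, ws₁, T, ws, rest, e, hT⟩ : ∃ T₁ ws₁ T ws rest,
      m11Outer = (7, T₁, ws₁) :: (11, T, ws) :: rest ∧
        maskSet T = d0ᶜ \ ([7].map pt).toFinset := ⟨_, _, _, _, _, rfl, by decide +kernel⟩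
  have hok := m11Outer_ok
  rw [e, chainOK] at hok
  simp only [Bool.and_eq_true] at hok
  have h := outer_step (k := 11) (pre := [7]) (by simp) hok.2 (by decide +kernel) (by decide +kernel)
    hT (by rw [hT]; decide +kernel)
  have h660 := card_OutK
  rw [OutK] at h660
  simp only [List.map_cons, List.map_nil] at h
  omega

/-- A table of an element fixing the base dodecad and the first point. -/
def in11 (t : ℕ) : Bool := tabOK t && imgTab t baseDodecad == baseDodecad && tabAt t 0 == 0

theorem tabPerm_mem_M11K {t : ℕ} (h : in11 t = true) : tabPerm t ∈ M11K := by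
  simp only [in11, Bool.and_eq_true, beq_iff_eq] at h
  refine ⟨mem_M12K.2 ⟨tabPerm_mem h.1.1, mask_injective ?_⟩, fun x hx => ?_⟩
  · rw [← imgTab_mask (isTab_tabPerm h.1.1), mask_maskSet (by decide +kernel), h.1.2]
  · obtain rfl := List.mem_singleton.1 hx
    apply ix_injective
    rw [isTab_tabPerm h.1.1, ix_pt (by norm_num), h.2]

theorem outTabs_ok : outTabs.all (fun t => in11 t && tabAt t 7 == 7) = true ∧
    outTabs.all tabOK = true ∧ chainOK outTabs [] outChain = true ∧ chainProd outChain = 660 := by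
  decide +kernel

theorem out_eq : tabGroup outTabs = OutK :=
  tabGroup_eq outTabs_ok.2.1 outTabs_ok.2.2.1 (fun x hx => by
    have h := List.all_eq_true.1 outTabs_ok.1 x hx
    simp only [Bool.and_eq_true, beq_iff_eq] at h
    refine ⟨tabPerm_mem_M11K h.1, fun p hp => ?_⟩
    obtain rfl := List.mem_singleton.1 hp
    apply ix_injective
    rw [isTab_tabPerm (List.all_eq_true.1 outTabs_ok.2.1 x hx), ix_pt (by norm_num), h.2])
    (by rw [card_OutK, outTabs_ok.2.2.2])

theorem fix_inner_eq_one {g : Equiv.Perm GolayPt} (hg : g ∈ M11K) {ts : List GolayPt}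
    (hnd : ts.Nodup) (hlen : ts.length = 4) (hts : ∀ t ∈ ts, t ∈ d0 ∧ t ≠ pt 0)
    (hfix : ∀ t ∈ ts, g t = t) : g = 1 := by
  obtain ⟨k, hk, e⟩ := M12K_exists_tuple (pt 0 :: ts) (by simp [hlen])
    (List.nodup_cons.2 ⟨fun h => (hts _ h).2 rfl, hnd⟩) (fun t ht => by
      rcases List.mem_cons.1 ht with rfl | ht
      · exact pt0_mem_d0
      · exact (hts t ht).1)
  have hgk : k⁻¹ * g * k = 1 := by
    refine five_fix_d0 (M12K.mul_mem (M12K.mul_mem (M12K.inv_mem hk) hg.1) hk) fun b hb => ?_
    have hb' : ∀ b, b ∈ basePre 5 → ix b ∈ ([0, 1, 2, 3, 4] : List ℕ) := by decide +kernel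
    have hmem : k b ∈ pt 0 :: ts := by
      rw [← e, List.mem_map]
      exact ⟨ix b, by simpa [hlen] using hb' b hb, by rw [pt_ix]⟩
    have : g (k b) = k b := by
      rcases List.mem_cons.1 hmem with h | h
      · rw [h]; exact fix_pt0 hg
      · exact hfix _ h
    rw [Equiv.Perm.mul_apply, Equiv.Perm.mul_apply, this]
    exact k.symm_apply_apply b
  calc g = k * (k⁻¹ * g * k) * k⁻¹ := by group
    _ = 1 := by rw [hgk]; group

theorem inner_four {g : Equiv.Perm GolayPt} (hg : g ∈ M11K) {s : List ℕ} (hlen : s.length = 4)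
    (hs : (s.all fun i => decide (i < 24) && decide (i ≠ 0) && baseDodecad.testBit i) = true)
    (hnd : s.Nodup) (hfix : ∀ i ∈ s, g (pt i) = pt i) : g = 1 := by
  simp only [List.all_eq_true, Bool.and_eq_true, decide_eq_true_eq] at hs
  refine fix_inner_eq_one hg (ts := s.map pt) (hnd.map_on fun a ha b hb h => ?_)
    (by simpa using hlen) (fun t ht => ?_) (fun t ht => ?_)
  · rw [← ix_pt (hs a ha).1.1, h, ix_pt (hs b hb).1.1]
  · obtain ⟨i, hi, rfl⟩ := List.mem_map.1 ht
    refine ⟨by rw [mem_maskSet, ix_pt (hs i hi).1.1]; exact (hs i hi).2, fun h => (hs i hi).1.2 ?_⟩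
    have h' := congrArg ix h
    rwa [ix_pt (hs i hi).1.1, ix_pt (by norm_num)] at h'
  · obtain ⟨i, hi, rfl⟩ := List.mem_map.1 ht
    exact hfix i hi

theorem M11K_inv' (g : Equiv.Perm GolayPt) (hg : g ∈ OutK) (p : GolayPt)
    (hp : p ∈ maskSet (baseDodecad ^^^ 1)) : g p ∈ maskSet (baseDodecad ^^^ 1) :=
  M11K_inv g hg.1 p hp

theorem isSimple_OutK : IsSimpleGroup OutK := by
  haveI : Fact (Nat.Prime 11) := ⟨by norm_num⟩
  refine simple_of_tabs outTabs_ok.2.1 (p := 11) (by decide +kernel) (by decide +kernel) out_eq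
    (by rw [card_OutK]; decide) (by rw [card_OutK]; decide) fun N _ hN => ?_
  have h2 := invSub_two_pretransitive outTabs_ok.2.1 (S := baseDodecad ^^^ 1) (L := outChain.take 2)
    (by decide +kernel) (by decide +kernel) (by decide +kernel) out_eq M11K_inv'
  haveI := MulAction.isPreprimitive_of_is_two_pretransitive h2
  haveI := invSub_faithful M11K_inv' fun g hg hq => inner_four hg.1 (s := [1, 2, 3, 4])
    (by decide) (by decide +kernel) (by decide) fun i hi => hq _ (by
      have hall : ∀ i, i ∈ [1, 2, 3, 4] → pt i ∈ maskSet (baseDodecad ^^^ 1) := by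
        intro i hi
        simp only [List.mem_cons, List.not_mem_nil, or_false] at hi
        rcases hi with rfl | rfl | rfl | rfl <;> decide +kernel
      exact hall i hi)
  haveI : Nonempty (invSub OutK (maskSet (baseDodecad ^^^ 1)) M11K_inv') :=
    ⟨⟨pt 1, show pt 1 ∈ maskSet (baseDodecad ^^^ 1) by decide +kernel⟩⟩
  have hd := card_dvd_card_normal (α := invSub OutK (maskSet (baseDodecad ^^^ 1)) M11K_inv') N hN
  rwa [card_invSub, show (maskSet (baseDodecad ^^^ 1)).card = 11 by decide +kernel] at hd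

theorem OutK_equiv : Nonempty (OutK ≃* Matrix.ProjectiveSpecialLinearGroup (Fin 2) (ZMod 11)) := by
  haveI : Fact (Nat.Prime 11) := ⟨by norm_num⟩
  haveI := isSimple_OutK
  exact Cfsg.Agent.SmallSimple.Recognize.mulEquiv_psl (q := 11) (by norm_num)
    Cfsg.Agent.SmallSimple.ProjectiveLine.check11 Cfsg.Agent.SmallSimple.ProjectiveLine.div11
    (by rw [card_OutK]; norm_num) (ZMod.card 11)

/-! ### The outer pair -/

theorem pairTabs_ok : pairTabs.all (fun t => in11 t && imgTab t (128 ||| 2048) == 128 ||| 2048) = true ∧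
    pairTabs.all tabOK = true ∧ chainOK pairTabs [] pairChain = true ∧ chainProd pairChain = 120 ∧
    pairTabs.any (fun t => tabAt t 7 == 11) = true := by
  decide +kernel

theorem pairTab_mem {x : ℕ} (hx : x ∈ pairTabs) : tabPerm x ∈ PairK := by
  have h := List.all_eq_true.1 pairTabs_ok.1 x hx
  simp only [Bool.and_eq_true, beq_iff_eq] at h
  refine ⟨tabPerm_mem_M11K h.1, mask_injective ?_⟩
  have e : mask ({pt 7, pt 11} : Finset GolayPt) = 128 ||| 2048 := by decide +kernel
  rw [← imgTab_mask (isTab_tabPerm (List.all_eq_true.1 pairTabs_ok.2.1 x hx)), e]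
  exact h.2

theorem card_PairK : Nat.card PairK = 120 := by
  have h := card_fixers_step PairK [] (pt 7) ({pt 7, pt 11} : Finset GolayPt)
    (fun g hg => by
      have e : g • ({pt 7, pt 11} : Finset GolayPt) = {pt 7, pt 11} := hg.1.2
      rw [← e, mem_smul_iff]
      exact Finset.mem_insert_self _ _)
    (fun t ht => by
      rcases Finset.mem_insert.1 ht with rfl | ht
      · exact ⟨1, ⟨PairK.one_mem, by simp⟩, rfl⟩
      · obtain rfl := Finset.mem_singleton.1 ht
        obtain ⟨x, hx, h⟩ := List.any_eq_true.1 pairTabs_ok.2.2.2.2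
        refine ⟨tabPerm x, ⟨pairTab_mem hx, by simp⟩, ix_injective ?_⟩
        rw [isTab_tabPerm (List.all_eq_true.1 pairTabs_ok.2.1 x hx), ix_pt (by norm_num),
          ix_pt (by norm_num)]
        simpa using h)
  have e : fixers PairK [pt 7] = fixers M11K [pt 11, pt 7] := by
    ext g
    simp only [mem_fixers, PairK, Subgroup.mem_inf, List.mem_cons, List.not_mem_nil, or_false,
      forall_eq_or_imp, forall_eq, MulAction.mem_stabilizer_iff]
    constructor
    · rintro ⟨⟨h1, h2⟩, h7⟩
      refine ⟨h1, ?_, h7⟩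
      have hne : pt 11 ≠ pt 7 := by decide +kernel
      have hm : g (pt 11) ∈ ({pt 7, pt 11} : Finset GolayPt) := by
        rw [← h2, mem_smul_iff]; simp
      rcases Finset.mem_insert.1 hm with h | h
      · exact absurd (g.injective (h.trans h7.symm)) hne
      · exact Finset.mem_singleton.1 h
    · rintro ⟨h1, h11, h7⟩
      refine ⟨⟨h1, ?_⟩, h7⟩
      rw [smul_finset_def, Finset.image_insert, Finset.image_singleton, h7, h11]
  rw [fixers_nil, e, card_two, Finset.card_pair (by decide +kernel)] at h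
  omega

theorem pair_eq : tabGroup pairTabs = PairK :=
  tabGroup_eq pairTabs_ok.2.1 pairTabs_ok.2.2.1 (fun _ hx => pairTab_mem hx)
    (by rw [card_PairK, pairTabs_ok.2.2.2.1])

/-- The five points. -/
def five : Finset GolayPt := (fivePts.map pt).toFinset

theorem five_inv : ∀ g ∈ PairK, g • five = five := by
  intro g hg
  have hle : tabGroup pairTabs ≤ MulAction.stabilizer (Equiv.Perm GolayPt) five := by
    refine tabGroup_le_of fun x hx => mask_injective ?_
    rw [← imgTab_mask (isTab_tabPerm (List.all_eq_true.1 pairTabs_ok.2.1 x hx))]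
    have hall : pairTabs.all (fun x => imgTab x (mask five) == mask five) = true := by decide +kernel
    simpa using List.all_eq_true.1 hall x hx
  exact hle (pair_eq.symm ▸ hg)

/-- The action on the five. -/
def onFive : PairK →* Equiv.Perm ↥five where
  toFun g := (g : Equiv.Perm GolayPt).subtypePerm fun x => by
    have hh := mem_smul_iff (g : Equiv.Perm GolayPt) five x
    simpa only [five_inv g g.2] using hh
  map_one' := by ext; rfl
  map_mul' g h := by ext; rfl

theorem fiveSwaps_ok : (fiveSwaps.all fun e => in11 e.2.2 &&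
    imgTab e.2.2 (128 ||| 2048) == 128 ||| 2048 &&
    fivePts.all fun i => tabAt e.2.2 i == if i = e.1 then e.2.1 else if i = e.2.1 then e.1 else i) =
      true ∧
    (fivePts.all fun u => fivePts.all fun v => u == v ||
      fiveSwaps.any fun e => (e.1 == u && e.2.1 == v) || (e.1 == v && e.2.1 == u)) = true ∧
    (fivePts.all fun i => decide (i < 24)) = true := by
  decide +kernel

theorem onFive_surjective : Function.Surjective onFive := by
  classical
  obtain ⟨hall, hpairs, hlt⟩ := fiveSwaps_ok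
  simp only [List.all_eq_true, Bool.and_eq_true, beq_iff_eq, decide_eq_true_eq, Bool.or_eq_true,
    List.any_eq_true] at hall hpairs hlt
  rw [← MonoidHom.range_eq_top, eq_top_iff, ← Equiv.Perm.closure_isSwap, Subgroup.closure_le]
  rintro σ ⟨⟨x, hx⟩, ⟨y, hy⟩, hxy, rfl⟩
  obtain ⟨u, hu, rfl⟩ := List.mem_map.1 (List.mem_toFinset.1 hx)
  obtain ⟨v, hv, rfl⟩ := List.mem_map.1 (List.mem_toFinset.1 hy)
  have huv : u ≠ v := fun e => hxy (by subst e; rfl)
  rcases hpairs u hu v hv with h | ⟨e, he, hm⟩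
  · exact absurd h huv
  obtain ⟨⟨h11, himg⟩, hact⟩ := hall e he
  have htab : tabOK e.2.2 = true := by
    simp only [in11, Bool.and_eq_true] at h11; exact h11.1.1
  refine ⟨⟨tabPerm e.2.2, tabPerm_mem_M11K h11, mask_injective ?_⟩, ?_⟩
  · have e' : mask ({pt 7, pt 11} : Finset GolayPt) = 128 ||| 2048 := by decide +kernel
    rw [← imgTab_mask (isTab_tabPerm htab), e', himg]
  · refine Equiv.ext fun z => Subtype.ext (ix_injective ?_)
    obtain ⟨w, hw, hwz⟩ := List.mem_map.1 (List.mem_toFinset.1 z.2)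
    have hne : ∀ i ∈ fivePts, ∀ j ∈ fivePts, pt i = pt j ↔ i = j := fun i hi j hj =>
      ⟨fun h => by rw [← ix_pt (hlt i hi), h, ix_pt (hlt j hj)], fun h => by rw [h]⟩
    show ix (tabPerm e.2.2 z.1) = _
    rw [isTab_tabPerm htab, ← hwz, ix_pt (hlt w hw), hact w hw, Equiv.swap_apply_def]
    simp only [Subtype.ext_iff, ← hwz, hne w hw u hu, hne w hw v hv]
    rcases hm with ⟨h1, h2⟩ | ⟨h1, h2⟩ <;> rw [h1, h2] <;>
      by_cases hwu : w = u <;> by_cases hwv : w = v <;>
      simp [hwu, hwv, huv, Ne.symm huv, ix_pt (hlt u hu), ix_pt (hlt v hv), ← hwz, ix_pt (hlt w hw)]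

theorem PairK_equiv : Nonempty (PairK ≃* Equiv.Perm (Fin 5)) := by
  have hc : Fintype.card ↥five = 5 := by rw [Fintype.card_coe]; decide +kernel
  have hbij : Function.Bijective onFive :=
    (Nat.bijective_iff_surjective_and_card onFive).2 ⟨onFive_surjective, by
      rw [card_PairK, Nat.card_perm, Nat.card_eq_fintype_card, hc]; rfl⟩
  exact ⟨(MulEquiv.ofBijective onFive hbij).trans
    (Fintype.equivOfCardEq (hc.trans (Fintype.card_fin 5).symm)).permCongrHom⟩

/-! ### The involution centraliser -/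

theorem exists_four_to {ts : List GolayPt} (hnd : ts.Nodup) (hlen : ts.length = 4)
    (hts : ∀ t ∈ ts, t ∈ d0 ∧ t ≠ pt 0) :
    ∃ g ∈ M11K, (invQuad.map fun i => g (pt i)) = ts := by
  have h : ∀ us : List GolayPt, us.Nodup → us.length = 4 → (∀ t ∈ us, t ∈ d0 ∧ t ≠ pt 0) →
      ∃ g ∈ M12K, g (pt 0) = pt 0 ∧ ([1, 2, 3, 4].map fun i => g (pt i)) = us := by
    intro us hnd hlen hts
    obtain ⟨k, hk, e⟩ := M12K_exists_tuple (pt 0 :: us) (by simp [hlen])
      (List.nodup_cons.2 ⟨fun h => (hts _ h).2 rfl, hnd⟩) (fun t ht => by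
        rcases List.mem_cons.1 ht with rfl | ht
        · exact pt0_mem_d0
        · exact (hts t ht).1)
    simp only [List.length_cons, hlen] at e
    rw [show ([0, 1, 2, 3, 4] : List ℕ).take (4 + 1) = [0, 1, 2, 3, 4] from rfl, List.map_cons] at e
    exact ⟨k, hk, (List.cons.inj e).1, (List.cons.inj e).2⟩
  have hq : invQuad.all (fun i => decide (i < 24) && decide (i ≠ 0) && baseDodecad.testBit i) = true ∧
      invQuad.Nodup ∧ invQuad.length = 4 := by decide +kernel
  simp only [List.all_eq_true, Bool.and_eq_true, decide_eq_true_eq] at hq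
  obtain ⟨k, hk, hk0, hkm⟩ := h (invQuad.map pt)
    (hq.2.1.map_on fun a ha b hb e => by rw [← ix_pt (hq.1 a ha).1.1, e, ix_pt (hq.1 b hb).1.1])
    (by simpa using hq.2.2) (fun t ht => by
      obtain ⟨i, hi, rfl⟩ := List.mem_map.1 ht
      refine ⟨by rw [mem_maskSet, ix_pt (hq.1 i hi).1.1]; exact (hq.1 i hi).2,
        fun e => (hq.1 i hi).1.2 ?_⟩
      have h' := congrArg ix e
      rwa [ix_pt (hq.1 i hi).1.1, ix_pt (by norm_num)] at h')
  obtain ⟨g, hg, hg0, hgm⟩ := h ts hnd hlen hts
  refine ⟨g * k⁻¹, ⟨M12K.mul_mem hg (M12K.inv_mem hk), fun x hx => ?_⟩, ?_⟩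
  · obtain rfl := List.mem_singleton.1 hx
    rw [Equiv.Perm.mul_apply, Equiv.Perm.inv_eq_iff_eq.2 hk0.symm, hg0]
  · rw [← hgm, show (fun i => (g * k⁻¹) (pt i)) = (⇑g ∘ ⇑k⁻¹) ∘ pt from rfl, ← List.map_map,
      ← hkm, List.map_map]
    refine List.map_congr_left fun i _ => ?_
    show g (k⁻¹ (k (pt i))) = g (pt i)
    rw [show k⁻¹ (k (pt i)) = pt i from k.symm_apply_apply _]

theorem invTab_ok : in11 invTab = true ∧ (List.range 24).all (fun i => tabAt invTab (tabAt invTab i) == i)
    = true ∧ invQuad.length = 4 ∧ (tabAt invTab (invQuad.getD 0 0) = invQuad.getD 1 0 ∧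
    tabAt invTab (invQuad.getD 2 0) = invQuad.getD 3 0) ∧
    (invQuad.all fun i => decide (i < 24)) = true := by decide +kernel

/-- The chosen involution. -/
noncomputable def x0 : M11K := ⟨tabPerm invTab, tabPerm_mem_M11K invTab_ok.1⟩

/-- Its centraliser. -/
def CentK : Subgroup (Equiv.Perm GolayPt) :=
  M11K ⊓ Subgroup.centralizer {tabPerm invTab}

theorem involution_conj (x : M11K) (hx : orderOf x = 2) : IsConj x x0 := by
  classical
  have hx1 : (x : Equiv.Perm GolayPt) ≠ 1 := fun h => by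
    rw [Subtype.ext h (a2 := (1 : M11K)), orderOf_one] at hx; omega
  have hxx : ∀ p, (x : Equiv.Perm GolayPt) ((x : Equiv.Perm GolayPt) p) = p := fun p => by
    have h := pow_orderOf_eq_one x
    rw [hx, sq] at h
    exact congrArg (fun z : M11K => (z : Equiv.Perm GolayPt) p) h
  let I : Finset GolayPt := d0 \ {pt 0}
  have hI : I.card = 11 := by decide +kernel
  have hmaps : ∀ p ∈ I, (x : Equiv.Perm GolayPt) p ∈ I := fun p hp => by
    simp only [I, Finset.mem_sdiff, Finset.mem_singleton] at hp ⊢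
    exact ⟨M12K_maps x.2.1 hp.1, fun e =>
      hp.2 ((x : Equiv.Perm GolayPt).injective (e.trans (fix_pt0 x.2).symm))⟩
  have hmoved : 4 < (I.filter fun p => (x : Equiv.Perm GolayPt) p ≠ p).card := by
    by_contra hle
    have h4 : 4 ≤ (I.filter fun p => (x : Equiv.Perm GolayPt) p = p).card := by
      have := Finset.card_filter_add_card_filter_not (s := I)
        (p := fun p => (x : Equiv.Perm GolayPt) p = p)
      simp only [hI] at this
      simp only [ne_eq] at hle
      omega
    obtain ⟨J, hJ, hJc⟩ := Finset.exists_subset_card_eq h4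
    refine hx1 (fix_inner_eq_one x.2 (ts := J.toList) J.nodup_toList (by simpa using hJc)
      (fun t ht => ?_) (fun t ht => ?_))
    · have := (Finset.mem_filter.1 (hJ (Finset.mem_toList.1 ht))).1
      simp only [I, Finset.mem_sdiff, Finset.mem_singleton] at this
      exact this
    · exact (Finset.mem_filter.1 (hJ (Finset.mem_toList.1 ht))).2
  obtain ⟨a, ha⟩ := Finset.card_pos.1 (show 0 < (I.filter fun p => (x : Equiv.Perm GolayPt) p ≠ p).card
    by omega)
  obtain ⟨c, hc, hca⟩ := Finset.exists_mem_notMem_of_card_lt_card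
    (s := ({a, (x : Equiv.Perm GolayPt) a} : Finset GolayPt))
    (t := I.filter fun p => (x : Equiv.Perm GolayPt) p ≠ p) (lt_of_le_of_lt Finset.card_le_two (by omega))
  simp only [Finset.mem_filter] at ha hc
  simp only [Finset.mem_insert, Finset.mem_singleton, not_or] at hca
  have hnd : [a, (x : Equiv.Perm GolayPt) a, c, (x : Equiv.Perm GolayPt) c].Nodup := by
    simp only [List.nodup_cons, List.mem_cons, List.not_mem_nil, or_false, not_or, not_false_eq_true,
      List.nodup_nil, and_true]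
    refine ⟨⟨Ne.symm ha.2, Ne.symm hca.1, fun e => ?_⟩, ⟨Ne.symm hca.2, fun e => ?_⟩, Ne.symm hc.2⟩
    · exact hca.2 (by rw [e, hxx])
    · exact hca.1 ((x : Equiv.Perm GolayPt).injective e).symm
  obtain ⟨k, hk, hkm⟩ := exists_four_to hnd rfl (fun t ht => by
    have hmem : t ∈ I := by
      simp only [List.mem_cons, List.not_mem_nil, or_false] at ht
      rcases ht with rfl | rfl | rfl | rfl
      exacts [ha.1, hmaps _ ha.1, hc.1, hmaps _ hc.1]
    simp only [I, Finset.mem_sdiff, Finset.mem_singleton] at hmem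
    exact hmem)
  obtain ⟨q0, q1, q2, q3, eq⟩ : ∃ a b c d, invQuad = [a, b, c, d] := ⟨_, _, _, _, rfl⟩
  rw [eq] at hkm
  simp only [List.map_cons, List.map_nil, List.cons.injEq, and_true] at hkm
  obtain ⟨e0, e1, e2, e3⟩ := hkm
  refine isConj_iff.2 ⟨⟨k⁻¹, M11K.inv_mem hk⟩, Subtype.ext ?_⟩
  show k⁻¹ * (x : Equiv.Perm GolayPt) * k⁻¹⁻¹ = tabPerm invTab
  rw [inv_inv]
  obtain ⟨hin, hinvol, -, hpair, hlt⟩ := invTab_ok
  rw [eq] at hpair hlt
  simp only [List.getD_cons_zero, List.getD_cons_succ] at hpair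
  simp only [List.all_cons, List.all_nil, Bool.and_true, Bool.and_eq_true, decide_eq_true_eq] at hlt
  have hT := isTab_tabPerm (show tabOK invTab = true by
    simp only [in11, Bool.and_eq_true] at hin; exact hin.1.1)
  have hy : k⁻¹ * (x : Equiv.Perm GolayPt) * k ∈ M11K := M11K.mul_mem (M11K.mul_mem (M11K.inv_mem hk) x.2) hk
  have hzero := tabPerm_mem_M11K hin
  suffices h : (tabPerm invTab)⁻¹ * (k⁻¹ * (x : Equiv.Perm GolayPt) * k) = 1 by
    exact (inv_mul_eq_one.1 h).symm
  simp only [List.all_eq_true, List.mem_range, beq_iff_eq] at hinvol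
  have hqd : [q0, q1, q2, q3].all (fun i => decide (i < 24) && decide (i ≠ 0) && baseDodecad.testBit i)
      = true ∧ [q0, q1, q2, q3].Nodup := by rw [← eq]; decide +kernel
  refine inner_four (M11K.mul_mem (M11K.inv_mem hzero) hy) (s := [q0, q1, q2, q3]) rfl hqd.1 hqd.2 ?_
  intro i hi
  rw [Equiv.Perm.mul_apply, Equiv.Perm.inv_eq_iff_eq]
  apply ix_injective
  rw [hT]
  simp only [Equiv.Perm.mul_apply]
  simp only [List.mem_cons, List.not_mem_nil, or_false] at hi
  rcases hi with rfl | rfl | rfl | rfl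
  · rw [ix_pt hlt.1, hpair.1, e0, ← e1, show ∀ z, k⁻¹ (k z) = z from k.symm_apply_apply,
      ix_pt hlt.2.1]
  · rw [ix_pt hlt.2.1, e1, hxx, ← e0, show ∀ z, k⁻¹ (k z) = z from k.symm_apply_apply,
      ix_pt hlt.1, ← hpair.1, hinvol _ hlt.1]
  · rw [ix_pt hlt.2.2.1, hpair.2, e2, ← e3, show ∀ z, k⁻¹ (k z) = z from k.symm_apply_apply,
      ix_pt hlt.2.2.2]
  · rw [ix_pt hlt.2.2.2, e3, hxx, ← e2, show ∀ z, k⁻¹ (k z) = z from k.symm_apply_apply,
      ix_pt hlt.2.2.1, ← hpair.2, hinvol _ hlt.2.2.1]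

theorem centTabs_ok : centTabs.all (fun t => in11 t &&
      (List.range 24).all fun i => tabAt t (tabAt invTab i) == tabAt invTab (tabAt t i)) = true ∧
    centTabs.all tabOK = true ∧ chainOK centTabs [] centChain = true ∧ chainProd centChain = 48 := by
  decide +kernel

/-- The moved inner points of the involution, by vector number. -/
def movedSet : Finset GolayPt := (vecPts.tail.map pt).toFinset

theorem movedSet_spec : ∀ p, p ∈ movedSet ↔
    (p ∈ d0 ∧ p ≠ pt 0 ∧ tabAt invTab (ix p) ≠ ix p) := by decide +kernel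

theorem centTab_mem {x : ℕ} (hx : x ∈ centTabs) : tabPerm x ∈ CentK := by
  have h := List.all_eq_true.1 centTabs_ok.1 x hx
  simp only [Bool.and_eq_true, List.all_eq_true, List.mem_range, beq_iff_eq] at h
  refine ⟨tabPerm_mem_M11K h.1, Subgroup.mem_centralizer_singleton_iff.2 ?_⟩
  have hT := isTab_tabPerm (List.all_eq_true.1 centTabs_ok.2.1 x hx)
  have hI := isTab_tabPerm (show tabOK invTab = true by decide +kernel)
  refine Equiv.ext fun p => ix_injective ?_
  simp only [Equiv.Perm.mul_apply, hT _, hI _]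
  exact h.2 _ (ix_lt p)

theorem card_CentK_le : Nat.card CentK ≤ 48 := by
  classical
  have hI := isTab_tabPerm (show tabOK invTab = true by decide +kernel)
  let a := pt (invQuad.getD 0 0)
  let c := pt (invQuad.getD 2 0)
  let P : Finset (GolayPt × GolayPt) := (movedSet ×ˢ movedSet).filter fun z =>
    z.2 ≠ z.1 ∧ ix z.2 ≠ tabAt invTab (ix z.1)
  have hP : P.card = 48 := by decide +kernel
  have ha : a ∈ movedSet ∧ c ∈ movedSet ∧ c ≠ a ∧ ix c ≠ tabAt invTab (ix a) := by decide +kernel
  have hcomm : ∀ g : CentK, ∀ p, (g : Equiv.Perm GolayPt) (tabPerm invTab p) =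
      tabPerm invTab ((g : Equiv.Perm GolayPt) p) := fun g p =>
    congrArg (fun z : Equiv.Perm GolayPt => z p) (Subgroup.mem_centralizer_singleton_iff.1 g.2.2)
  have hmv : ∀ g : CentK, ∀ p ∈ movedSet, (g : Equiv.Perm GolayPt) p ∈ movedSet := by
    intro g p hp
    rw [movedSet_spec] at hp ⊢
    refine ⟨M12K_maps g.2.1.1 hp.1, fun e => hp.2.1 ((g : Equiv.Perm GolayPt).injective
      (e.trans (fix_pt0 g.2.1).symm)), fun e => hp.2.2 ?_⟩
    rw [← hI, ← hcomm] at e
    rw [← hI]
    exact congrArg ix ((g : Equiv.Perm GolayPt).injective (ix_injective e))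
  let f : CentK → P := fun g => ⟨((g : Equiv.Perm GolayPt) a, (g : Equiv.Perm GolayPt) c), by
    simp only [P, Finset.mem_filter, Finset.mem_product]
    refine ⟨⟨hmv g a ha.1, hmv g c ha.2.1⟩, fun e => ha.2.2.1 ((g : Equiv.Perm GolayPt).injective e),
      fun e => ha.2.2.2 ?_⟩
    rw [← hI, ← hcomm] at e
    rw [← hI]
    exact congrArg ix ((g : Equiv.Perm GolayPt).injective (ix_injective e))⟩
  have hf : Function.Injective f := by
    intro g h e
    simp only [f, Subtype.mk.injEq, Prod.mk.injEq] at e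
    refine Subtype.ext (inv_mul_eq_one.1 (inner_four (M11K.mul_mem (M11K.inv_mem g.2.1) h.2.1)
      (s := invQuad) (by decide +kernel) (by decide +kernel) (by decide +kernel) fun i hi => ?_))
    rw [Equiv.Perm.mul_apply, Equiv.Perm.inv_eq_iff_eq]
    have hb : pt (invQuad.getD 1 0) = tabPerm invTab a ∧ pt (invQuad.getD 3 0) = tabPerm invTab c := by
      constructor <;> apply ix_injective <;> rw [hI] <;> decide +kernel
    obtain ⟨q0, q1, q2, q3, eq⟩ : ∃ a b c d, invQuad = [a, b, c, d] := ⟨_, _, _, _, rfl⟩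
    simp only [a, c, eq, List.getD_cons_zero, List.getD_cons_succ] at hb e
    rw [eq] at hi
    simp only [List.mem_cons, List.not_mem_nil, or_false] at hi
    rcases hi with rfl | rfl | rfl | rfl
    · exact e.1.symm
    · rw [hb.1, hcomm, hcomm, e.1]
    · exact e.2.symm
    · rw [hb.2, hcomm, hcomm, e.2]
  exact (Nat.card_le_card_of_injective f hf).trans (by rw [Nat.card_eq_finsetCard, hP])

theorem cent_eq : tabGroup centTabs = CentK :=
  tabGroup_eq centTabs_ok.2.1 centTabs_ok.2.2.1 (fun _ hx => centTab_mem hx)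
    (card_CentK_le.trans_eq centTabs_ok.2.2.2.symm)

theorem card_CentK : Nat.card CentK = 48 := by
  refine le_antisymm card_CentK_le ?_
  rw [← cent_eq, ← centTabs_ok.2.2.2]
  have h := chainProd_le centTabs_ok.2.1 (pre := []) (by simp) centTabs_ok.2.2.1
  rwa [List.map_nil, fixers_nil] at h

/-- Number of a vector. -/
def vn (v : Fin 2 → ZMod 3) : ℕ := (v 0).val + 3 * (v 1).val

/-- The point of a vector (the first point for zero). -/
def vpt (v : Fin 2 → ZMod 3) : GolayPt := if v = 0 then pt 0 else pt (vecPts.getD (vn v) 0)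

/-- The matrix of generator `k`. -/
def cMat (k : ℕ) : Matrix (Fin 2) (Fin 2) (ZMod 3) :=
  Matrix.of fun i j => (((centMats.getD k []).getD (2 * i.1 + j.1) 0 : ℕ) : ZMod 3)

theorem cMat_ok : ∀ k < centTabs.length, ∀ v,
    tabAt (genTab centTabs k) (ix (vpt v)) = ix (vpt (Matrix.mulVec (cMat k) v)) := by decide +kernel

theorem vpt_injective : Function.Injective vpt := by decide +kernel

theorem CentK_equiv : Nonempty (CentK ≃* GL (Fin 2) (ZMod 3)) := by
  have hgen : ∀ g : CentK, ∃ A : Matrix (Fin 2) (Fin 2) (ZMod 3),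
      ∀ v, (g : Equiv.Perm GolayPt) (vpt v) = vpt (Matrix.mulVec A v) := by
    intro g
    have hg : (g : Equiv.Perm GolayPt) ∈ tabGroup centTabs := cent_eq.symm ▸ g.2
    generalize (g : Equiv.Perm GolayPt) = h at hg
    rw [← Subgroup.mem_toSubmonoid, tabGroup, Subgroup.closure_toSubmonoid_of_finite] at hg
    induction hg using Submonoid.closure_induction with
    | mem x hx =>
      obtain ⟨t, ht, rfl⟩ := hx
      obtain ⟨k, hk, rfl⟩ := List.mem_iff_getElem.1 ht
      refine ⟨cMat k, fun v => ix_injective ?_⟩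
      rw [isTab_tabPerm (List.all_eq_true.1 centTabs_ok.2.1 _ (List.getElem_mem hk))]
      have h := cMat_ok k hk v
      rwa [genTab, List.getD_eq_getElem _ _ hk] at h
    | one => exact ⟨1, fun v => by rw [Matrix.one_mulVec]; rfl⟩
    | mul x y _ _ hx hy =>
      obtain ⟨A, hA⟩ := hx
      obtain ⟨B, hB⟩ := hy
      exact ⟨A * B, fun v => by rw [Equiv.Perm.mul_apply, hB, hA, Matrix.mulVec_mulVec]⟩
  choose A hA using hgen
  have huniq : ∀ g B, (∀ v, (g : CentK).1 (vpt v) = vpt (Matrix.mulVec B v)) → A g = B := fun g B hB =>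
    Matrix.ext_of_mulVec_single fun i => vpt_injective (by rw [← hA, hB])
  let φ : CentK →* GL (Fin 2) (ZMod 3) := MonoidHom.toHomUnits
    { toFun := A
      map_one' := huniq 1 1 fun v => by rw [Matrix.one_mulVec]; rfl
      map_mul' := fun g h => huniq _ _ fun v => by
        rw [Subgroup.coe_mul, Equiv.Perm.mul_apply, hA h, hA g, Matrix.mulVec_mulVec] }
  have hinj : Function.Injective φ := by
    rw [injective_iff_map_eq_one]
    intro g hg
    have hAg : A g = 1 := congrArg Units.val hg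
    refine Subtype.ext (fix_inner_eq_one g.2.1
      (ts := [vpt ![1, 0], vpt ![0, 1], vpt ![1, 1], vpt ![1, 2]]) (by decide +kernel) rfl
      (fun t ht => ?_) (fun t ht => ?_))
    · simp only [List.mem_cons, List.not_mem_nil, or_false] at ht
      rcases ht with rfl | rfl | rfl | rfl <;> decide +kernel
    · simp only [List.mem_cons, List.not_mem_nil, or_false] at ht
      rcases ht with rfl | rfl | rfl | rfl <;> rw [hA, hAg, Matrix.one_mulVec]
  have hcard : Nat.card CentK = Nat.card (GL (Fin 2) (ZMod 3)) := by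
    rw [card_CentK, Matrix.card_GL_field, Fin.prod_univ_two, ZMod.card]; decide +kernel
  exact ⟨MulEquiv.ofBijective φ ((Nat.bijective_iff_injective_and_card φ).2 ⟨hinj, hcard⟩)⟩

end Cfsg.Agent.Golay.M11Sub
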