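import Cfsg.Agent.Lib.Golay.Small

/-!
Data for subgroups of the stabiliser of a dodecad and one of its points.
-/

set_option autoImplicit false
set_option maxRecDepth 20000

namespace Cfsg.Agent.Golay.M11SubData

/-- Generators of order eleven fixing an outer point. -/
def outTabs : List ℕ := [935564633209633829468355646548297024, 565497045149976425685634265853890816]

/-- A chain on the eleven inner points. -/
def outChain : List (ℕ × ℕ × List (List ℕ)) := [
  (1, 165758, [[], [0], [1], [0, 0], [1, 0], [1, 1], [0, 1, 0], [1, 1, 0], [0, 1, 1], [1, 1, 1], [0, 0, 1, 1]]),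
  (2, 165756, [[], [1, 0, 0], [0, 1, 1, 1], [1, 1, 1, 0, 1], [1, 0, 0, 1, 0, 0], [0, 1, 1, 1, 1, 0, 0], [0, 1, 0, 0, 0, 1, 0], [0, 1, 0, 0, 0, 0, 1], [1, 0, 0, 0, 1, 1, 1], [1, 1, 1, 1, 1, 0, 1, 0]]),
  (3, 132888, [[], [0, 1, 1, 0, 0, 0], [1, 1, 0, 0, 0, 0, 0, 0], [1, 0, 1, 0, 0, 0, 0, 0], [0, 1, 1, 0, 1, 1, 1, 0], [0, 1, 1, 0, 1, 1, 0, 0, 0, 0]])]

/-- Generators fixing an outer pair. -/
def pairTabs : List ℕ := [805394744301232657645411634305442272, 939021705768341500337475733234952256]

/-- A chain. -/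
def pairChain : List (ℕ × ℕ × List (List ℕ)) := [
  (12, 16609280, [[], [0], [1], [0, 0], [1, 0], [0, 1], [1, 1], [0, 0, 0], [0, 0, 1], [0, 1, 1]]),
  (1, 34118, [[], [0, 1, 0], [1, 1, 1], [1, 0, 0, 0, 1], [1, 1, 1, 0, 1, 0], [0, 0, 1, 1, 1, 0, 0]]),
  (2, 1028, [[], [0, 0, 0, 1, 1, 0]])]

/-- The orbit of five inner points. -/
def fivePts : List ℕ := [3, 4, 5, 9, 17]

/-- Elements exchanging two of the five. -/
def fiveSwaps : List (ℕ × ℕ × ℕ) := [(5, 17, 901820091147533951215857627608228320), (5, 9, 688857090874815774926101581253417216), (9, 17, 982021608937319164357533367611276480), (3, 4, 769298633934376952560230137553099232), (3, 9, 984809366024622044769112408354758976), (4, 5, 984737186694955590166981608907849024), (3, 17, 972770454313256898457466314500375616), (3, 5, 517510299230846075177518700985231552), (4, 9, 597667610020997922381123017658958912), (4, 17, 818654761807283437629446674044791040)]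

/-- The chosen involution. -/
def invTab : ℕ := 775863598010844603273227765747418176

/-- Its defining four points. -/
def invQuad : List ℕ := [1, 2, 3, 4]

/-- Generators of its centraliser. -/
def centTabs : List ℕ := [819841238168544879483681526572426784, 813554721202934495024564544555427360]

/-- A chain. -/
def centChain : List (ℕ × ℕ × List (List ℕ)) := [
  (1, 164446, [[], [0], [0, 0], [1, 0], [1, 0, 0], [0, 1, 0], [1, 1, 0], [0, 0, 1, 0]]),
  (3, 164440, [[], [0, 0, 1], [1, 1, 0, 0], [1, 1, 0, 1], [1, 0, 1, 0, 0], [1, 0, 1, 0, 1]])]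

/-- The moved inner point of each nonzero vector. -/
def vecPts : List ℕ := [24, 1, 2, 4, 15, 17, 3, 9, 6]

/-- Matrices of the generators. -/
def centMats : List (List ℕ) := [[2, 2, 1, 0], [2, 2, 1, 2]]

end Cfsg.Agent.Golay.M11SubData
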