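import Cfsg.Agent.Lib.Golay.Cert

/-!
Certificates for the multiplier of M12: a swapping involution, an involution of the point
stabiliser, and generators of the two-point stabiliser.  Produced by a search outside Lean;
re-checked where they are used.
-/

set_option autoImplicit false
set_option maxRecDepth 10000

namespace Cfsg.Agent.Golay.M12LiftData

/-- An involution exchanging the first two points. -/
def sTab : ℕ := 976907791134299798555324425644902401

/-- An involution fixing the first point. -/
def tTab : ℕ := 694046889493250200696034256411001920

/-- Elements of the two-point stabiliser and their inverses. -/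
def cTabs : List ℕ :=
  [859983779890046300287312049708809248,
   520098753517996796092509337501864992,
   610854663275467448357490821073191968,
   555147955565575343175833056209714208,
   851999003668610650461100695482343456,
   522748183160029065212555059753468960,
   565340934656181499818069622175075360,
   858685746527952142950554138099062816]

/-- Generators of the two-point stabiliser. -/
def mTabs : List ℕ :=
  [854933381947451680494195114517996576,
   305807622646526943374026460723614752,
   798866382324465456966349450561816608]

/-- A word for the square of the last generator. -/
def sqWord : List ℕ := [0, 1, 0, 0, 0, 1]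

/-- Their transversal chain. -/
def mChain : List (ℕ × ℕ × List (List ℕ)) :=
  [(2, 165756, [[], [1, 1, 0], [2, 0], [1], [2, 2, 0], [1, 0], [0], [1, 1], [0, 0], [2, 1, 0]]),
   (3, 165752, [[], [2, 1, 2, 0], [1, 1, 0, 0], [2, 2, 1, 2, 0], [2, 1, 1, 0, 0], [1, 2, 0], [0, 0, 1, 1, 1], [1, 2, 1, 2, 1, 0], [2, 2, 1, 1, 0, 0]]),
   (4, 165744, [[], [0, 1, 1], [2], [2, 0, 1, 1], [2, 2, 2], [2, 2], [0, 1, 1, 2], [0, 1, 0, 0, 1]])]

end Cfsg.Agent.Golay.M12LiftData
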