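import Cfsg.Agent.Lib.Golay.Small11Search
import Cfsg.Agent.Lib.Golay.DesignIso
import Cfsg.Agent.Lib.Golay.Small
import Cfsg.Agent.S0351
import Cfsg.Agent.S0357
import Cfsg.Agent.S0385

/-!
The small Mathieu designs: uniqueness of S(4, 5, 11) and S(5, 6, 12), and their automorphism
groups are sharply 4- and 5-transitive.
-/

set_option autoImplicit false
set_option maxRecDepth 20000

namespace Cfsg.Agent.Golay.Small12

open Cfsg Cfsg.Agent.Golay.Biplane Cfsg.Agent.Golay.Small11
open scoped Pointwise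

theorem msk11_injective : Function.Injective msk11 := fun s t e => by
  ext i; simpa [testBit_msk11] using congrArg (fun n => n.testBit i.1) e

theorem msk11_union (s t : Finset (Fin 11)) : msk11 (s ∪ t) = msk11 s ||| msk11 t := by
  apply Nat.eq_of_testBit_eq
  intro i
  rcases Nat.lt_or_ge i 11 with hi | hi
  · rw [Nat.testBit_or, testBit_msk11 _ ⟨i, hi⟩, testBit_msk11 _ ⟨i, hi⟩, testBit_msk11 _ ⟨i, hi⟩]
    simp
  · simp [msk11, Nat.testBit_ofBits_ge _ _ hi]

theorem msk11_pair : ∀ x y : Fin 11, msk11 {x, y} = 2 ^ x.1 ||| 2 ^ y.1 := by decide +kernel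

/-- The standard S(4, 5, 11). -/
def D11 : Set (Finset (Fin 11)) := {b | msk11 b ∈ std11}

/-- The standard S(5, 6, 12). -/
def D12 : Set (Finset (Option (Fin 11))) :=
  {c | ∃ b ∈ D11, c = Finset.insertNone b ∨ c = (Finset.insertNone b)ᶜ}

theorem ncard_D11_le : D11.ncard ≤ 66 := by
  rw [← Set.ncard_image_of_injective D11 msk11_injective]
  refine le_trans (Set.ncard_le_ncard (t := ((std11.toFinset : Finset ℕ) : Set ℕ)) ?_
    (Finset.finite_toSet _)) ?_
  · rintro _ ⟨b, hb, rfl⟩
    exact List.mem_toFinset.2 hb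
  · rw [Set.ncard_coe_finset]
    exact (List.toFinset_card_le _).trans (by decide)

theorem ncard_D12_le : D12.ncard ≤ 132 := by
  have h : D12 ⊆ (fun b => Finset.insertNone b) '' D11 ∪ (fun b => (Finset.insertNone b)ᶜ) '' D11 := by
    rintro c ⟨b, hb, rfl | rfl⟩
    exacts [Or.inl ⟨b, hb, rfl⟩, Or.inr ⟨b, hb, rfl⟩]
  refine (Set.ncard_le_ncard h (Set.toFinite _)).trans ((Set.ncard_union_le _ _).trans ?_)
  have h1 := ncard_D11_le
  have h2 := Set.ncard_image_le (f := fun b => Finset.insertNone b) (Set.toFinite D11)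
  have h3 := Set.ncard_image_le (f := fun b => (Finset.insertNone b)ᶜ) (Set.toFinite D11)
  omega

variable {α : Type*} [Fintype α] [DecidableEq α]

omit [Fintype α] in
theorem perm5 (a b p u v : α) : ({a, b, p, u, v} : Finset α) = {u, a, b, p, v} := by
  ext y; simp only [Finset.mem_insert, Finset.mem_singleton]; tauto

omit [Fintype α] in
theorem rot5 (a b u v x : α) : ({a, b, u, v, x} : Finset α) = {x, a, b, u, v} := by
  ext y; simp only [Finset.mem_insert, Finset.mem_singleton]; tauto

theorem exists_iso11 (hα : Fintype.card α = 11) {B : Set (Finset α)}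
    (hB : IsSteinerSystem 4 5 B) : SetSystemIso B D11 := by
  classical
  obtain ⟨T, -, hT⟩ := Finset.exists_subset_card_eq (show 3 ≤ (Finset.univ : Finset α).card by simp [hα])
  obtain ⟨a, b, p, hab, hap, hbp, hTe⟩ := Finset.card_eq_three.1 hT
  let F := (Steiner.blocks B).filter fun c => T ⊆ c
  have hF : F.card = 4 := by
    rw [← Steiner.ncard_eq_filter, Steiner.ncard_through hB (by norm_num) hα (by omega), hT]
    decide +kernel
  let P : Finset (Finset α) := F.image fun c => c \ T
  have hmemF : ∀ c, c ∈ F ↔ c ∈ B ∧ T ⊆ c := fun c => by simp [F, Steiner.mem_blocks]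
  have hP : ∀ r ∈ P, r.card = 2 ∧ T ∪ r ∈ B ∧ Disjoint T r := by
    intro r hr
    obtain ⟨c, hc, rfl⟩ := Finset.mem_image.1 hr
    obtain ⟨hcB, hTc⟩ := (hmemF c).1 hc
    exact ⟨by rw [Finset.card_sdiff_of_subset hTc, hB.1 c hcB, hT],
      by rw [Finset.union_sdiff_of_subset hTc]; exact hcB, Finset.disjoint_sdiff⟩
  have hPd : ∀ r ∈ P, ∀ r' ∈ P, r ≠ r' → Disjoint r r' := by
    intro r hr r' hr' hne
    rw [Finset.disjoint_left]
    intro z hz hz'
    refine hne ?_
    obtain ⟨-, h1, d1⟩ := hP r hr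
    obtain ⟨-, h2, d2⟩ := hP r' hr'
    have h4 : 4 ≤ (insert z T).card := by
      rw [Finset.card_insert_of_notMem (Finset.disjoint_right.1 d1 hz), hT]
    have := Steiner.eq_of_subset hB h4 h1 h2
      (Finset.insert_subset (Finset.mem_union_right _ hz) Finset.subset_union_left)
      (Finset.insert_subset (Finset.mem_union_right _ hz') Finset.subset_union_left)
    rw [← Finset.union_sdiff_cancel_left d1, this, Finset.union_sdiff_cancel_left d2]
  have hPc : P.card = 4 := by
    rw [Finset.card_image_of_injOn, hF]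
    intro c hc c' hc' e
    rw [Finset.mem_coe, hmemF] at hc hc'
    rw [← Finset.union_sdiff_of_subset hc.2, ← Finset.union_sdiff_of_subset hc'.2]
    exact congrArg (T ∪ ·) e
  have hcov : ∀ z, z ∉ T → ∃ r ∈ P, z ∈ r := by
    intro z hz
    have hsub : P.biUnion (fun r => r) ⊆ Tᶜ := fun w hw => by
      obtain ⟨r, hr, hwr⟩ := Finset.mem_biUnion.1 hw
      exact Finset.mem_compl.2 (Finset.disjoint_right.1 (hP r hr).2.2 hwr)
    have he := Finset.eq_of_subset_of_card_le hsub (by
      rw [Finset.card_compl, hα, hT, Finset.card_biUnion (fun r hr r' hr' h => hPd r hr r' hr' h),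
        Finset.sum_congr rfl (fun r hr => (hP r hr).1)]
      simp [hPc])
    exact Finset.mem_biUnion.1 (he ▸ Finset.mem_compl.2 hz)
  obtain ⟨r0, hr0⟩ := Finset.card_pos.1 (show 0 < P.card by omega)
  obtain ⟨r1, hr1⟩ := Finset.card_pos.1 (show 0 < (P.erase r0).card by
    rw [Finset.card_erase_of_mem hr0]; omega)
  rw [Finset.mem_erase] at hr1
  obtain ⟨u, v, huv, hu⟩ := Finset.card_eq_two.1 (hP r0 hr0).1
  obtain ⟨s, t, hst, hs⟩ := Finset.card_eq_two.1 (hP r1 hr1.2).1
  have hd01 := hPd r0 hr0 r1 hr1.2 hr1.1.symm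
  have huT : u ∉ T := Finset.disjoint_right.1 (hP r0 hr0).2.2 (by rw [hu]; simp)
  have hvT : v ∉ T := Finset.disjoint_right.1 (hP r0 hr0).2.2 (by rw [hu]; simp)
  have hsT : s ∉ T := Finset.disjoint_right.1 (hP r1 hr1.2).2.2 (by rw [hs]; simp)
  have htT : t ∉ T := Finset.disjoint_right.1 (hP r1 hr1.2).2.2 (by rw [hs]; simp)
  have hus : u ≠ s := fun e => Finset.disjoint_left.1 hd01 (show u ∈ r0 by rw [hu]; simp)
    (by rw [e, hs]; simp)
  have haT : a ∈ T := by rw [hTe]; simp
  have hbT : b ∈ T := by rw [hTe]; simp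
  have hpT : p ∈ T := by rw [hTe]; simp
  have h4 : ({a, b, u, s} : Finset α).card = 4 := by
    rw [Finset.card_insert_of_notMem, Finset.card_insert_of_notMem, Finset.card_pair hus]
    · simp only [Finset.mem_insert, Finset.mem_singleton, not_or]
      exact ⟨fun e => huT (e ▸ hbT), fun e => hsT (e ▸ hbT)⟩
    · simp only [Finset.mem_insert, Finset.mem_singleton, not_or]
      exact ⟨hab, fun e => huT (e ▸ haT), fun e => hsT (e ▸ haT)⟩
  obtain ⟨c5, hc5, hsub5⟩ := Steiner.exists_block hB h4
  obtain ⟨x, hxn, hx5⟩ : ∃ x, x ∉ ({a, b, u, s} : Finset α) ∧ insert x {a, b, u, s} = c5 := by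
    obtain ⟨x, hx⟩ := Finset.card_eq_one.1 (show (c5 \ {a, b, u, s}).card = 1 by
      rw [Finset.card_sdiff_of_subset hsub5, hB.1 c5 hc5, h4])
    exact ⟨x, (Finset.mem_sdiff.1 (hx ▸ Finset.mem_singleton_self x : x ∈ c5 \ {a, b, u, s})).2,
      by rw [Finset.insert_eq, ← hx, Finset.sdiff_union_of_subset hsub5]⟩
  simp only [Finset.mem_insert, Finset.mem_singleton, not_or] at hxn
  have m5 : ∀ y ∈ ({x, a, b, u, s} : Finset α), y ∈ c5 := fun y hy => by
    rw [← hx5]; exact hy
  -- the fifth point of the fifth block lies in a new pair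
  have hne : ∀ (r : Finset α), r ∈ P → ∀ y ∈ r, ∀ z ∈ T ∪ r, z ∉ ({a, b, y} : Finset α) →
      y ∈ c5 → z ∈ c5 → c5 = T ∪ r := by
    intro r hr y hy z hz hzn hy5 hz5
    simp only [Finset.mem_insert, Finset.mem_singleton, not_or] at hzn
    have hyT : y ∉ T := Finset.disjoint_right.1 (hP r hr).2.2 hy
    have h4 : 4 ≤ ({a, b, y, z} : Finset α).card := by
      rw [Finset.card_insert_of_notMem, Finset.card_insert_of_notMem,
        Finset.card_pair (Ne.symm hzn.2.2)]
      · simp only [Finset.mem_insert, Finset.mem_singleton, not_or]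
        exact ⟨fun e => hyT (e ▸ hbT), Ne.symm hzn.2.1⟩
      · simp only [Finset.mem_insert, Finset.mem_singleton, not_or]
        exact ⟨hab, fun e => hyT (e ▸ haT), Ne.symm hzn.1⟩
    refine Steiner.eq_of_subset hB h4 hc5 (hP r hr).2.1 ?_ ?_
    · intro w hw
      simp only [Finset.mem_insert, Finset.mem_singleton] at hw
      rcases hw with rfl | rfl | rfl | rfl
      exacts [m5 _ (by simp), m5 _ (by simp), hy5, hz5]
    · intro w hw
      simp only [Finset.mem_insert, Finset.mem_singleton] at hw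
      rcases hw with rfl | rfl | rfl | rfl
      exacts [Finset.mem_union_left _ haT, Finset.mem_union_left _ hbT,
        Finset.mem_union_right _ hy, hz]
  have hs_r0 : s ∉ r0 := fun h => Finset.disjoint_left.1 hd01 h (by rw [hs]; simp)
  have hu_r1 : u ∉ r1 := fun h => Finset.disjoint_left.1 hd01 (show u ∈ r0 by rw [hu]; simp) h
  have hxT : x ∉ T := fun h => by
    rw [hTe] at h; simp only [Finset.mem_insert, Finset.mem_singleton] at h
    rcases h with h | h | rfl
    · exact hxn.1 h
    · exact hxn.2.1 h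
    · have e := hne r0 hr0 u (by rw [hu]; simp) x (Finset.mem_union_left _ hpT)
        (by simp [hxn.1, hxn.2.1, hxn.2.2.1]) (m5 _ (by simp)) (m5 _ (by simp))
      have := e ▸ m5 s (by simp)
      rcases Finset.mem_union.1 this with h | h
      exacts [hsT h, hs_r0 h]
  obtain ⟨r2, hr2, hxr2⟩ := hcov x hxT
  have h20 : r2 ≠ r0 := fun e => by
    subst e
    have e := hne r2 hr2 u (by rw [hu]; simp) x (Finset.mem_union_right _ hxr2)
      (by simp [hxn.1, hxn.2.1, hxn.2.2.1]) (m5 _ (by simp)) (m5 _ (by simp))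
    rcases Finset.mem_union.1 (e ▸ m5 s (by simp)) with h | h
    exacts [hsT h, hs_r0 h]
  have h21 : r2 ≠ r1 := fun e => by
    subst e
    have e := hne r2 hr2 s (by rw [hs]; simp) x (Finset.mem_union_right _ hxr2)
      (by simp [hxn.1, hxn.2.1, hxn.2.2.2]) (m5 _ (by simp)) (m5 _ (by simp))
    rcases Finset.mem_union.1 (e ▸ m5 u (by simp)) with h | h
    exacts [huT h, hu_r1 h]
  obtain ⟨z, hz⟩ := Finset.card_eq_one.1 (show (r2.erase x).card = 1 by
    rw [Finset.card_erase_of_mem hxr2, (hP r2 hr2).1])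
  obtain ⟨r3, hr3⟩ := Finset.card_eq_one.1 (show (((P.erase r0).erase r1).erase r2).card = 1 by
    rw [Finset.card_erase_of_mem, Finset.card_erase_of_mem, Finset.card_erase_of_mem hr0, hPc]
    · exact Finset.mem_erase.2 ⟨hr1.1, hr1.2⟩
    · exact Finset.mem_erase.2 ⟨h21, Finset.mem_erase.2 ⟨h20, hr2⟩⟩)
  have hr3' : r3 ∈ P := Finset.mem_of_mem_erase (Finset.mem_of_mem_erase (Finset.mem_of_mem_erase
    (hr3 ▸ Finset.mem_singleton_self r3 : r3 ∈ ((P.erase r0).erase r1).erase r2)))
  obtain ⟨w, w', hww, hw⟩ := Finset.card_eq_two.1 (hP r3 hr3').1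
  have hr2e : r2 = {z, x} := by
    rw [← Finset.insert_erase hxr2, hz, Finset.pair_comm]
  let τ : Fin 11 → α := ![a, b, p, u, v, s, z, w, t, w', x]
  have hτ : Function.Surjective τ := by
    intro y
    by_cases hy : y ∈ T
    · rw [hTe] at hy; simp only [Finset.mem_insert, Finset.mem_singleton] at hy
      rcases hy with rfl | rfl | rfl
      exacts [⟨0, rfl⟩, ⟨1, rfl⟩, ⟨2, rfl⟩]
    · obtain ⟨r, hr, hyr⟩ := hcov y hy
      by_cases e0 : r = r0
      · subst e0; rw [hu] at hyr; simp only [Finset.mem_insert, Finset.mem_singleton] at hyr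
        rcases hyr with rfl | rfl
        exacts [⟨3, rfl⟩, ⟨4, rfl⟩]
      by_cases e1 : r = r1
      · subst e1; rw [hs] at hyr; simp only [Finset.mem_insert, Finset.mem_singleton] at hyr
        rcases hyr with rfl | rfl
        exacts [⟨5, rfl⟩, ⟨8, rfl⟩]
      by_cases e2 : r = r2
      · subst e2; rw [hr2e] at hyr; simp only [Finset.mem_insert, Finset.mem_singleton] at hyr
        rcases hyr with rfl | rfl
        exacts [⟨6, rfl⟩, ⟨10, rfl⟩]
      have : r = r3 := Finset.mem_singleton.1 (hr3 ▸ Finset.mem_erase.2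
        ⟨e2, Finset.mem_erase.2 ⟨e1, Finset.mem_erase.2 ⟨e0, hr⟩⟩⟩)
      subst this; rw [hw] at hyr; simp only [Finset.mem_insert, Finset.mem_singleton] at hyr
      rcases hyr with rfl | rfl
      exacts [⟨7, rfl⟩, ⟨9, rfl⟩]
  have hτb : Function.Bijective τ :=
    (Fintype.bijective_iff_surjective_and_card τ).2 ⟨hτ, by rw [hα, Fintype.card_fin]⟩
  let e : α ≃ Fin 11 := (Equiv.ofBijective τ hτb).symm
  have h1 : SetSystemIso B ((fun c => c.image e) '' B) := ⟨e, rfl⟩
  have hblk : ∀ (c : Finset α) (S : Finset (Fin 11)), c ∈ B → S.image τ = c →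
      ∃ b' ∈ (fun c => c.image e) '' B, msk11 b' = msk11 S := by
    intro c S hc hS
    refine ⟨_, ⟨c, hc, rfl⟩, congrArg msk11 ?_⟩
    rw [← hS]
    show (S.image τ).image e = S
    rw [Finset.image_image]
    conv_rhs => rw [← Finset.image_id (s := S)]
    exact Finset.image_congr fun i _ => (Equiv.ofBijective τ hτb).symm_apply_apply i
  have hinit : ∀ m ∈ initBlocks, ∃ b' ∈ (fun c => c.image e) '' B, msk11 b' = m := by
    intro m hm
    have hi : initBlocks = [msk11 {0, 1, 2, 3, 4}, msk11 {0, 1, 2, 5, 8}, msk11 {0, 1, 2, 6, 10},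
      msk11 {0, 1, 2, 7, 9}, msk11 {0, 1, 3, 5, 10}] := by decide +kernel
    rw [hi] at hm
    simp only [List.mem_cons, List.not_mem_nil, or_false] at hm
    rcases hm with rfl | rfl | rfl | rfl | rfl
    · exact hblk _ _ (hP r0 hr0).2.1 (by simp [τ, hTe, hu, Finset.image_insert, Finset.insert_union]; exact perm5 ..)
    · exact hblk _ _ (hP r1 hr1.2).2.1 (by simp [τ, hTe, hs, Finset.image_insert, Finset.insert_union]; exact perm5 ..)
    · exact hblk _ _ (hP r2 hr2).2.1 (by simp [τ, hTe, hr2e, Finset.image_insert, Finset.insert_union]; exact perm5 ..)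
    · exact hblk _ _ (hP r3 hr3').2.1 (by simp [τ, hTe, hw, Finset.image_insert, Finset.insert_union]; exact perm5 ..)
    · refine hblk _ _ hc5 ?_
      rw [← hx5]
      simp [τ, Finset.image_insert]
      exact rot5 a b u s x
  have hB' := DesignIso.isSteinerSystem h1 hB
  obtain ⟨π, hπ⟩ := exists_relabel hB' hinit
  refine ⟨e.trans π, Set.eq_of_subset_of_ncard_le ?_ ?_ (Set.toFinite _)⟩
  · rintro _ ⟨c, hc, rfl⟩
    show msk11 (c.image (e.trans π)) ∈ std11
    rw [Equiv.coe_trans, ← Finset.image_image]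
    exact hπ _ ⟨c, hc, rfl⟩
  · rw [Set.ncard_image_of_injective _ (Finset.image_injective (e.trans π).injective)]
    have h := Steiner.block_count hB
    rw [hα, show Nat.choose 5 4 = 5 by decide, show Nat.choose 11 4 = 330 by decide] at h
    have := ncard_D11_le
    omega

variable {β : Type*} [Fintype β] [DecidableEq β]

theorem exists_iso12 (hβ : Fintype.card β = 12) {B : Set (Finset β)}
    (hB : IsSteinerSystem 5 6 B) (p : β) :
    ∃ e : β ≃ Option (Fin 11), e p = none ∧ (fun b => b.image e) '' B = D12 := by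
  classical
  let B' : Set (Finset {x : β // x ≠ p}) :=
    {b' | ∃ b ∈ B, p ∈ b ∧ b' = Finset.subtype (fun x => x ≠ p) b}
  have hB' : IsSteinerSystem 4 5 B' := S0351.result hB p
  have hc : Fintype.card {x : β // x ≠ p} = 11 := by
    rw [Fintype.card_subtype_compl, Fintype.card_subtype_eq, hβ]
  obtain ⟨f, hf⟩ := exists_iso11 hc hB'
  let e : β ≃ Option (Fin 11) := (Equiv.optionSubtypeNe p).symm.trans (Equiv.optionCongr f)
  have hep : e p = none := by simp [e]
  have key : ∀ b ∈ B, p ∈ b → b.image e ∈ D12 ∧ ∃ d ∈ D11, b.image e = Finset.insertNone d := by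
    intro b hb hpb
    have hd : (Finset.subtype (fun x => x ≠ p) b).image f ∈ D11 := hf ▸ ⟨_, ⟨b, hb, hpb, rfl⟩, rfl⟩
    have he : b.image e = Finset.insertNone ((Finset.subtype (fun x => x ≠ p) b).image f) := by
      ext y
      obtain ⟨x, rfl⟩ := e.surjective y
      rw [Finset.mem_image]
      simp only [e.injective.eq_iff, exists_eq_right]
      by_cases hxp : x = p
      · subst hxp; simp [hep, hpb]
      · have : e x = some (f ⟨x, hxp⟩) := by
          simp [e, Equiv.optionSubtypeNe_symm_apply, hxp]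
        rw [this, Finset.some_mem_insertNone, Finset.mem_image]
        simp
    exact ⟨⟨_, hd, Or.inl he⟩, _, hd, he⟩
  refine ⟨e, hep, Set.eq_of_subset_of_ncard_le ?_ ?_ (Set.toFinite _)⟩
  · rintro _ ⟨b, hb, rfl⟩
    by_cases hpb : p ∈ b
    · exact (key b hb hpb).1
    · obtain ⟨-, d, hd, he⟩ := key bᶜ (S0357.result hβ hB hb) (Finset.mem_compl.2 hpb)
      refine ⟨d, hd, Or.inr ?_⟩
      rw [← he]
      ext y
      obtain ⟨x, rfl⟩ := e.surjective y
      simp
  · rw [Set.ncard_image_of_injective _ (Finset.image_injective e.injective)]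
    have h := Steiner.block_count hB
    rw [hβ, show Nat.choose 6 5 = 6 by decide, show Nat.choose 12 5 = 792 by decide] at h
    have := ncard_D12_le
    omega

theorem iso11 (hα : Fintype.card α = 11) (hβ : Fintype.card β = 11) {B : Set (Finset α)}
    {B' : Set (Finset β)} (hB : IsSteinerSystem 4 5 B) (hB' : IsSteinerSystem 4 5 B') :
    SetSystemIso B B' :=
  DesignIso.trans (exists_iso11 hα hB) (DesignIso.symm (exists_iso11 hβ hB'))

theorem iso12 (hα : Fintype.card α = 12) (hβ : Fintype.card β = 12) {B : Set (Finset α)}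
    {B' : Set (Finset β)} (hB : IsSteinerSystem 5 6 B) (hB' : IsSteinerSystem 5 6 B') :
    SetSystemIso B B' := by
  obtain ⟨p⟩ : Nonempty α := Fintype.card_pos_iff.1 (by omega)
  obtain ⟨q⟩ : Nonempty β := Fintype.card_pos_iff.1 (by omega)
  obtain ⟨e, -, he⟩ := exists_iso12 hα hB p
  obtain ⟨e', -, he'⟩ := exists_iso12 hβ hB' q
  exact DesignIso.trans ⟨e, he⟩ (DesignIso.symm ⟨e', he'⟩)

/-! ### Transitivity -/

/-- The hexads of the base dodecad. -/
def DD : Set (Finset {p : GolayPt // p ∈ Small.d0}) :=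
  {h | ∃ o ∈ octads, (o ∩ Small.d0).card = 6 ∧ h = Finset.subtype (fun p => p ∈ Small.d0) o}

theorem steiner_DD : IsSteinerSystem 5 6 DD := S0385.result _ Trans.baseDodecad_mem

theorem card_d0 : Fintype.card {p : GolayPt // p ∈ Small.d0} = 12 := by
  rw [Fintype.card_coe]; exact Trans.baseDodecad_mem.2

theorem exists_aut_DD {g : Equiv.Perm GolayPt} (hg : g ∈ Small.M12K) :
    ∃ h : setSystemAut DD, ∀ p : {p : GolayPt // p ∈ Small.d0},
      ((h • p : {p : GolayPt // p ∈ Small.d0}) : GolayPt) = g p := by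
  obtain ⟨hM, hd⟩ := Small.mem_M12K.1 hg
  have hmaps : ∀ p, g p ∈ Small.d0 ↔ p ∈ Small.d0 := fun p => by
    conv_lhs => rw [← hd]
    exact Finset.smul_mem_smul_finset_iff (s := Small.d0) (b := p) g
  refine ⟨⟨g.subtypePerm hmaps, ?_⟩, fun p => rfl⟩
  show (g.subtypePerm hmaps : Equiv.Perm {p : GolayPt // p ∈ Small.d0}) • DD = DD
  refine Set.eq_of_subset_of_ncard_le ?_ (by rw [Set.ncard_smul_set]) (Set.toFinite _)
  rintro _ ⟨_, ⟨o, ho, h6, rfl⟩, rfl⟩
  refine ⟨g • o, M24.smul_mem_octads hM ho, ?_, ?_⟩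
  · rw [← hd, ← Finset.smul_finset_inter, Finset.card_smul_finset, h6]
  · ext ⟨y, hy⟩
    rw [Finset.mem_subtype]
    constructor
    · intro h
      obtain ⟨x, hx, e⟩ := Finset.mem_smul_finset.1 h
      rw [Finset.mem_subtype] at hx
      exact Finset.mem_smul_finset.2 ⟨x, hx, congrArg Subtype.val e⟩
    · intro h
      obtain ⟨x, hx, e⟩ := Finset.mem_smul_finset.1 h
      have hxd : x ∈ Small.d0 := (hmaps x).1 (by rw [show g x = y from e]; exact hy)
      exact Finset.mem_smul_finset.2 ⟨⟨x, hxd⟩, Finset.mem_subtype.2 hx, Subtype.ext e⟩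

theorem five_pretransitive_DD :
    MulAction.IsMultiplyPretransitive (setSystemAut DD) {p : GolayPt // p ∈ Small.d0} 5 := by
  have base : ∀ x : Fin 5 ↪ {p : GolayPt // p ∈ Small.d0},
      ∃ g ∈ Small.M12K, ∀ i : Fin 5, g (Basic.pt i.1) = (x i).1 := by
    intro x
    obtain ⟨g, hg, h⟩ := Small.M12K_exists_tuple (List.ofFn fun i => (x i).1) (by simp)
      (List.nodup_ofFn.2 (Subtype.val_injective.comp x.injective))
      (fun t ht => by obtain ⟨i, rfl⟩ := List.mem_ofFn.1 ht; exact (x i).2)
    refine ⟨g, hg, fun i => ?_⟩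
    have h' := congrArg (fun l => l.getD i.1 none) h
    fin_cases i <;> simpa [List.ofFn_succ] using h'
  refine ⟨fun x y => ?_⟩
  obtain ⟨g, hg, hgx⟩ := base x
  obtain ⟨g', hg', hgy⟩ := base y
  obtain ⟨h, hh⟩ := exists_aut_DD (Small.M12K.mul_mem hg' (Small.M12K.inv_mem hg))
  refine ⟨h, Function.Embedding.ext fun i => Subtype.ext ?_⟩
  show ((h • x i : {p : GolayPt // p ∈ Small.d0}) : GolayPt) = (y i).1
  rw [hh, Equiv.Perm.mul_apply, ← hgx, show g⁻¹ (g (Basic.pt i.1)) = Basic.pt i.1 from
    g.symm_apply_apply _, hgy]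

theorem five_pretransitive (hβ : Fintype.card β = 12) {B : Set (Finset β)}
    (hB : IsSteinerSystem 5 6 B) : MulAction.IsMultiplyPretransitive (setSystemAut B) β 5 := by
  obtain ⟨e, he⟩ := iso12 hβ card_d0 hB steiner_DD
  exact (DesignIso.transfer e he 5 five_pretransitive_DD).1

theorem steiner_D12 : IsSteinerSystem 5 6 D12 := by
  obtain ⟨p⟩ : Nonempty {p : GolayPt // p ∈ Small.d0} := Fintype.card_pos_iff.1 (by rw [card_d0]; omega)
  obtain ⟨e, -, he⟩ := exists_iso12 card_d0 steiner_DD p
  exact DesignIso.isSteinerSystem ⟨e, he⟩ steiner_DD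

theorem mem_D11_iff {b : Finset (Fin 11)} : b ∈ D11 ↔ Finset.insertNone b ∈ D12 := by
  refine ⟨fun h => ⟨b, h, Or.inl rfl⟩, ?_⟩
  rintro ⟨c, hc, e | e⟩
  · rw [Finset.insertNone.injective e]; exact hc
  · have : none ∈ (Finset.insertNone c)ᶜ := e ▸ Finset.none_mem_insertNone
    rw [Finset.mem_compl] at this
    exact absurd Finset.none_mem_insertNone this

theorem four_pretransitive_D11 :
    MulAction.IsMultiplyPretransitive (setSystemAut D11) (Fin 11) 4 := by
  have h5 := five_pretransitive (by simp) steiner_D12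
  refine ⟨fun x y => ?_⟩
  let ext5 : (Fin 4 ↪ Fin 11) → (Fin 5 ↪ Option (Fin 11)) := fun z =>
    ⟨Fin.cons none (fun i => some (z i)), Fin.cons_injective_iff.2
      ⟨by rintro ⟨i, hi⟩; exact Option.some_ne_none _ hi,
        fun i j h => z.injective (Option.some_injective _ h)⟩⟩
  obtain ⟨g, hg⟩ := h5.exists_smul_eq (ext5 x) (ext5 y)
  have hgi : ∀ i, (g : Equiv.Perm (Option (Fin 11))) (ext5 x i) = ext5 y i :=
    fun i => Function.Embedding.ext_iff.1 hg i
  have h0 : (g : Equiv.Perm (Option (Fin 11))) none = none := hgi 0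
  let f : Equiv.Perm (Fin 11) := Equiv.removeNone (g : Equiv.Perm (Option (Fin 11)))
  have hf : ∀ a, some (f a) = (g : Equiv.Perm (Option (Fin 11))) (some a) := fun a =>
    Equiv.removeNone_some _ (Option.ne_none_iff_exists'.1 fun h => by
      have := (g : Equiv.Perm (Option (Fin 11))).injective (h.trans h0.symm); simp at this)
  have hfmem : f ∈ setSystemAut D11 := by
    show f • D11 = D11
    refine Set.eq_of_subset_of_ncard_le ?_ (by rw [Set.ncard_smul_set]) (Set.toFinite _)
    rintro _ ⟨b, hb, rfl⟩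
    show f • b ∈ D11
    rw [mem_D11_iff] at hb ⊢
    have hg' : (g : Equiv.Perm (Option (Fin 11))) • D12 = D12 := g.2
    have hb' : (g : Equiv.Perm (Option (Fin 11))) • Finset.insertNone b ∈ D12 := by
      have h := Set.smul_mem_smul_set (a := (g : Equiv.Perm (Option (Fin 11)))) hb
      rwa [hg'] at h
    convert hb' using 1
    rw [show f • b = b.image f from rfl,
      show (g : Equiv.Perm (Option (Fin 11))) • Finset.insertNone b =
        (Finset.insertNone b).image (g : Equiv.Perm (Option (Fin 11))) from rfl]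
    ext z
    rcases z with _ | a
    · simp only [Finset.none_mem_insertNone, true_iff, Finset.mem_image]
      exact ⟨none, Finset.none_mem_insertNone, h0⟩
    · simp only [Finset.some_mem_insertNone, Finset.mem_image]
      constructor
      · rintro ⟨c, hc, rfl⟩; exact ⟨some c, Finset.some_mem_insertNone.2 hc, (hf c).symm⟩
      · rintro ⟨_ | c, hc, e⟩
        · exact absurd (h0.symm.trans e) (by simp)
        · exact ⟨c, Finset.some_mem_insertNone.1 hc, Option.some_injective _ ((hf c).trans e)⟩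
  refine ⟨⟨f, hfmem⟩, ?_⟩
  ext i
  have := hgi i.succ
  simp only [ext5, Function.Embedding.coeFn_mk, Fin.cons_succ] at this
  exact congrArg Fin.val (Option.some_injective _ ((hf (x i)).trans this))

theorem four_pretransitive (hα : Fintype.card α = 11) {B : Set (Finset α)}
    (hB : IsSteinerSystem 4 5 B) : MulAction.IsMultiplyPretransitive (setSystemAut B) α 4 := by
  obtain ⟨e, he⟩ := exists_iso11 hα hB
  exact (DesignIso.transfer e he 4 four_pretransitive_D11).1

/-! ### Sharpness -/

/-- Outside the block `31`, any pair is the only pair completing two suitable triples to blocks. -/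
def pairsOK : Bool :=
  (List.range 11).all fun x => (List.range 11).all fun y =>
    if decide (5 ≤ x) && decide (x < y) then
      let pr := 2 ^ x ||| 2 ^ y
      let cs := std11.filter fun c => c ||| 31 == 31 ||| pr
      cs.any fun c1 => cs.any fun c2 => (List.range 11).all fun u => (List.range 11).all fun v =>
        !(decide (5 ≤ u) && decide (u < v)) ||
          !(std11.contains ((c1 &&& 31) ||| (2 ^ u ||| 2 ^ v)) &&
            std11.contains ((c2 &&& 31) ||| (2 ^ u ||| 2 ^ v))) || (2 ^ u ||| 2 ^ v == pr)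
    else true

theorem pairsOK_true : pairsOK = true := by decide +kernel

theorem sharp_D11_block {g : Equiv.Perm (Fin 11)} (hg : g • D11 = D11)
    (hfix : ∀ i : Fin 11, i.1 < 5 → g i = i) : g = 1 := by
  have hout : ∀ i : Fin 11, 5 ≤ i.1 → 5 ≤ (g i).1 := fun i hi => by
    by_contra h
    have := g.injective (hfix _ (not_le.1 h))
    rw [this] at h; omega
  have hdist : ∀ (T : Finset (Fin 11)), (∀ i ∈ T, i.1 < 5) → g • T = T := fun T hT => by
    rw [show g • T = T.image g from rfl]
    conv_rhs => rw [← Finset.image_id (s := T)]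
    exact Finset.image_congr fun i hi => hfix i (hT i hi)
  have hstep : ∀ x y : Fin 11, 5 ≤ x.1 → x.1 < y.1 → ({g x, g y} : Finset (Fin 11)) = {x, y} := by
    intro x y hx hxy
    have hp := pairsOK_true
    simp only [pairsOK, List.all_eq_true, List.mem_range] at hp
    have h := hp x.1 x.2 y.1 y.2
    rw [if_pos (by simp [hx, hxy])] at h
    simp only [List.any_eq_true, List.mem_filter, List.all_eq_true, List.mem_range, beq_iff_eq,
      Bool.or_eq_true, Bool.not_eq_true', Bool.and_eq_false_iff, decide_eq_false_iff_not,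
      List.contains_eq_mem] at h
    obtain ⟨c1, ⟨hc1, e1⟩, c2, ⟨hc2, e2⟩, hall⟩ := h
    have hmove : ∀ c ∈ std11, c ||| 31 = 31 ||| (2 ^ x.1 ||| 2 ^ y.1) →
        (c &&& 31) ||| msk11 {g x, g y} ∈ std11 := by
      intro c hc ec
      obtain ⟨C, hC⟩ : ∃ C : Finset (Fin 11), msk11 C = c := by
        refine ⟨Finset.univ.filter fun i => c.testBit i.1, ?_⟩
        have : ∀ c ∈ std11, msk11 (Finset.univ.filter fun i : Fin 11 => c.testBit i.1) = c := by
          decide +kernel
        exact this c hc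
      let T : Finset (Fin 11) := C.filter fun i => i.1 < 5
      have hbit : ∀ i : Fin 11, 5 ≤ i.1 → (i ∈ C ↔ i = x ∨ i = y) := by
        intro i hi
        have := congrArg (fun n => n.testBit i.1) ec
        rw [← hC] at this
        rw [Nat.testBit_or, Nat.testBit_or, Nat.testBit_or, testBit_msk11, Nat.testBit_two_pow,
          Nat.testBit_two_pow] at this
        have h31 : (31 : ℕ).testBit i.1 = false :=
          Nat.testBit_lt_two_pow (lt_of_lt_of_le (by norm_num : 31 < 2 ^ 5)
            (Nat.pow_le_pow_right (n := 2) (by norm_num) hi))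
        rw [h31, Bool.or_false, Bool.false_or, Bool.eq_iff_iff] at this
        simp only [decide_eq_true_eq, Bool.or_eq_true] at this
        exact this.trans (or_congr
          ⟨fun e => Fin.ext e.symm, fun e => (congrArg Fin.val e).symm⟩
          ⟨fun e => Fin.ext e.symm, fun e => (congrArg Fin.val e).symm⟩)
      have hCe : C = T ∪ {x, y} := by
        ext i
        simp only [T, Finset.mem_union, Finset.mem_filter, Finset.mem_insert, Finset.mem_singleton]
        rcases Nat.lt_or_ge i.1 5 with hi | hi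
        · exact ⟨fun h => Or.inl ⟨h, hi⟩, fun h => h.elim And.left fun h => by
            rcases h with rfl | rfl <;> omega⟩
        · rw [hbit i hi]; exact ⟨Or.inr, fun h => h.elim (fun h => absurd h.2 (by omega)) id⟩
      have hmem : g • C ∈ D11 := hg ▸ Set.smul_mem_smul_set (show msk11 C ∈ std11 by rw [hC]; exact hc)
      rw [hCe, Finset.smul_finset_union, hdist T (fun i hi => (Finset.mem_filter.1 hi).2),
        show g • ({x, y} : Finset (Fin 11)) = {g x, g y} by
          rw [show g • ({x, y} : Finset (Fin 11)) = ({x, y} : Finset (Fin 11)).image g from rfl]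
          simp] at hmem
      have hm' : msk11 T ||| msk11 {g x, g y} ∈ std11 := by rw [← msk11_union]; exact hmem
      convert hm' using 2
      rw [← hC, show (31 : ℕ) = msk11 (Finset.univ.filter fun i : Fin 11 => i.1 < 5) by decide +kernel,
        ← msk11_inter]
      refine congrArg msk11 ?_
      ext i; simp [T]
    have hne : g x ≠ g y := g.injective.ne fun e => by rw [e] at hxy; omega
    have hgy := hout y (by omega)
    have hgx := hout x hx
    have key : ∀ u v : Fin 11, 5 ≤ u.1 → u.1 < v.1 → ({u, v} : Finset (Fin 11)) = {g x, g y} →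
        ({g x, g y} : Finset (Fin 11)) = {x, y} := by
      intro u v hu huv e
      rcases hall u.1 u.2 v.1 v.2 with (h | h) | h
      · rcases h with h | h <;> exact absurd (by omega) h
      · rw [← msk11_pair, e] at h
        rcases h with h | h
        · exact absurd (hmove c1 hc1 e1) (by simpa using h)
        · exact absurd (hmove c2 hc2 e2) (by simpa using h)
      · rw [← e]
        exact msk11_injective (by rw [msk11_pair, msk11_pair]; exact h)
    rcases lt_or_gt_of_ne (fun e => hne (Fin.ext e) : (g x).1 ≠ (g y).1) with h | h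
    · exact key _ _ hgx h rfl
    · exact key _ _ hgy h (Finset.pair_comm _ _)
  refine Equiv.ext fun i => ?_
  rcases Nat.lt_or_ge i.1 5 with hi | hi
  · exact hfix i hi
  by_contra hne
  have hsym : ∀ j : Fin 11, 5 ≤ j.1 → j ≠ i → g i = j := by
    intro j hj hji
    have e : ({g i, g j} : Finset (Fin 11)) = {i, j} := by
      rcases lt_or_gt_of_ne (fun e => hji (Fin.ext e).symm : i.1 ≠ j.1) with h | h
      · exact hstep i j hi h
      · rw [Finset.pair_comm (g i), Finset.pair_comm i]; exact hstep j i hj h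
    have : g i ∈ ({i, j} : Finset (Fin 11)) := e ▸ Finset.mem_insert_self _ _
    simp only [Finset.mem_insert, Finset.mem_singleton] at this
    exact this.resolve_left hne
  have h2 : ∀ i : Fin 11, ∃ j k : Fin 11, 5 ≤ j.1 ∧ 5 ≤ k.1 ∧ j ≠ k ∧ j ≠ i ∧ k ≠ i := by
    decide +kernel
  obtain ⟨j, k, hj, hk, hjk, hji, hki⟩ := h2 i
  exact hjk ((hsym j hj hji).symm.trans (hsym k hk hki))

theorem sharp_D11 (x : Fin 4 ↪ Fin 11) : MulAction.stabilizer (setSystemAut D11) x = ⊥ := by
  obtain ⟨h, hh⟩ := four_pretransitive_D11.exists_smul_eq x ⟨![0, 1, 2, 3], by decide⟩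
  refine (Subgroup.eq_bot_iff_forall _).2 fun g hg => ?_
  set k := h * g * h⁻¹ with hk
  have hkx : ∀ i : Fin 4, (k : Equiv.Perm (Fin 11)) (![0, 1, 2, 3] i) = ![0, 1, 2, 3] i := by
    have : k • (⟨![0, 1, 2, 3], by decide⟩ : Fin 4 ↪ Fin 11) = ⟨![0, 1, 2, 3], by decide⟩ := by
      rw [← hh]
      exact (mul_smul k h x).symm.trans ((congrArg (· • x) (show k * h = h * g by
        rw [hk]; group)).trans ((mul_smul h g x).trans
          (congrArg (h • ·) (MulAction.mem_stabilizer_iff.1 hg))))
    exact fun i => Function.Embedding.ext_iff.1 this i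
  have hkg : (k : Equiv.Perm (Fin 11)) • D11 = D11 := k.2
  have hB : IsSteinerSystem 4 5 D11 := by
    refine DesignIso.isSteinerSystem ?_ (S0351.result steiner_D12 (none : Option (Fin 11)))
    let E : {z : Option (Fin 11) // z ≠ none} ≃ Fin 11 :=
      { toFun := fun z => z.1.get (Option.isSome_iff_ne_none.2 z.2)
        invFun := fun a => ⟨some a, Option.some_ne_none a⟩
        left_inv := fun z => Subtype.ext (Option.some_get _)
        right_inv := fun a => rfl }
    refine DesignIso.of_mem_iff E fun b => ?_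
    rw [mem_D11_iff]
    constructor
    · rintro ⟨c, hc, hn, rfl⟩
      convert hc using 1
      ext z; rcases z with _ | a
      · simp [hn]
      · simp only [Finset.some_mem_insertNone, Finset.mem_image, Finset.mem_subtype]
        exact ⟨fun ⟨w, hw, e⟩ => by
            have h' : some (E w) = w.1 := Option.some_get _
            rw [← e, h']; exact hw,
          fun ha => ⟨⟨some a, Option.some_ne_none a⟩, ha, rfl⟩⟩
    · intro h
      refine ⟨_, h, Finset.none_mem_insertNone, ?_⟩
      ext ⟨z, hz⟩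
      rcases z with _ | a
      · exact absurd rfl hz
      · simp only [Finset.mem_subtype, Finset.some_mem_insertNone, Finset.mem_image]
        exact ⟨fun h => ⟨⟨some a, hz⟩, h, rfl⟩, fun ⟨⟨w, hw⟩, h', e⟩ => by
          rcases w with _ | w
          · exact absurd rfl hw
          · simp at e; exact e ▸ h'⟩
  let b0 : Finset (Fin 11) := Finset.univ.filter fun i => i.1 < 5
  have hb0 : b0 ∈ D11 := by show msk11 b0 ∈ std11; decide +kernel
  have h4 : (k : Equiv.Perm (Fin 11)) 4 = 4 := by
    have hsub : ({0, 1, 2, 3} : Finset (Fin 11)) ⊆ (k : Equiv.Perm (Fin 11)) • b0 := by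
      intro i hi
      have : ∀ i ∈ ({0, 1, 2, 3} : Finset (Fin 11)), ∃ j : Fin 4, ![0, 1, 2, 3] j = i := by
        decide +kernel
      obtain ⟨j, rfl⟩ := this i hi
      refine Finset.mem_smul_finset.2 ⟨_, ?_, hkx j⟩
      fin_cases j <;> simp [b0]
    have heq := Steiner.eq_of_subset hB (s := ({0, 1, 2, 3} : Finset (Fin 11))) (by decide) hb0
      (by
      have h := Set.smul_mem_smul_set (a := (k : Equiv.Perm (Fin 11))) hb0
      rwa [hkg] at h) (by decide +kernel) hsub
    have hmem : (k : Equiv.Perm (Fin 11)) 4 ∈ b0 := by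
      rw [heq]; exact Finset.smul_mem_smul_finset (show (4 : Fin 11) ∈ b0 by decide)
    have hcase : ∀ i ∈ b0, i = 4 ∨ ∃ j : Fin 4, ![0, 1, 2, 3] j = i := by decide +kernel
    rcases hcase _ hmem with h | ⟨j, hj⟩
    · exact h
    · have := (k : Equiv.Perm (Fin 11)).injective ((hkx j).trans hj)
      fin_cases j <;> simp at this
  have hk1 : k = 1 := Subtype.ext (sharp_D11_block hkg fun i hi => by
    have hcase : ∀ i : Fin 11, i.1 < 5 → i = 4 ∨ ∃ j : Fin 4, ![0, 1, 2, 3] j = i := by
      decide +kernel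
    rcases hcase i hi with rfl | ⟨j, rfl⟩
    exacts [h4, hkx j])
  rw [hk] at hk1
  exact conj_eq_one_iff.1 hk1

theorem sharp11 (hα : Fintype.card α = 11) {B : Set (Finset α)} (hB : IsSteinerSystem 4 5 B) :
    ∀ x : Fin 4 ↪ α, MulAction.stabilizer (setSystemAut B) x = ⊥ := by
  obtain ⟨e, he⟩ := exists_iso11 hα hB
  exact (DesignIso.transfer e he 4 four_pretransitive_D11).2 sharp_D11

theorem sharp12 (hβ : Fintype.card β = 12) {B : Set (Finset β)} (hB : IsSteinerSystem 5 6 B) :
    ∀ x : Fin 5 ↪ β, MulAction.stabilizer (setSystemAut B) x = ⊥ := by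
  intro x
  classical
  refine (Subgroup.eq_bot_iff_forall _).2 fun g hg => ?_
  have hgx : ∀ i, (g : Equiv.Perm β) (x i) = x i :=
    fun i => Function.Embedding.ext_iff.1 (MulAction.mem_stabilizer_iff.1 hg) i
  set p := x 0 with hp
  have h0 : (g : Equiv.Perm β) p = p := hgx 0
  have hne : ∀ a, (g : Equiv.Perm β) a ≠ p ↔ a ≠ p := fun a => by
    conv_lhs => rw [← h0]
    exact (g : Equiv.Perm β).injective.ne_iff
  let g' : Equiv.Perm {a : β // a ≠ p} := (g : Equiv.Perm β).subtypePerm hne
  let B' : Set (Finset {a : β // a ≠ p}) :=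
    {b' | ∃ b ∈ B, p ∈ b ∧ b' = Finset.subtype (fun a => a ≠ p) b}
  have hg' : g' ∈ setSystemAut B' := by
    show g' • B' = B'
    refine Set.eq_of_subset_of_ncard_le ?_ (by rw [Set.ncard_smul_set]) (Set.toFinite _)
    rintro _ ⟨_, ⟨b, hb, hpb, rfl⟩, rfl⟩
    have hgB : (g : Equiv.Perm β) • B = B := g.2
    refine ⟨(g : Equiv.Perm β) • b, by
      have h := Set.smul_mem_smul_set (a := (g : Equiv.Perm β)) hb
      rwa [hgB] at h,
      Finset.mem_smul_finset.2 ⟨p, hpb, h0⟩, ?_⟩
    ext ⟨y, hy⟩
    rw [Finset.mem_subtype]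
    constructor
    · intro h
      obtain ⟨a, ha, e⟩ := Finset.mem_smul_finset.1 h
      rw [Finset.mem_subtype] at ha
      exact Finset.mem_smul_finset.2 ⟨a, ha, congrArg Subtype.val e⟩
    · intro h
      obtain ⟨a, ha, e⟩ := Finset.mem_smul_finset.1 h
      have hap : a ≠ p := (hne a).1 (by rw [show (g : Equiv.Perm β) a = y from e]; exact hy)
      exact Finset.mem_smul_finset.2 ⟨⟨a, hap⟩, Finset.mem_subtype.2 ha, Subtype.ext e⟩
  let x' : Fin 4 ↪ {a : β // a ≠ p} :=
    ⟨fun i => ⟨x i.succ, x.injective.ne (Fin.succ_ne_zero i)⟩,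
      fun i j h => Fin.succ_injective _ (x.injective (congrArg Subtype.val h))⟩
  have hstab : (⟨g', hg'⟩ : setSystemAut B') ∈ MulAction.stabilizer (setSystemAut B') x' :=
    MulAction.mem_stabilizer_iff.2 (Function.Embedding.ext fun i => Subtype.ext (hgx i.succ))
  rw [sharp11 (by rw [Fintype.card_subtype_compl, Fintype.card_subtype_eq, hβ]) (S0351.result hB p) x',
    Subgroup.mem_bot] at hstab
  refine Subtype.ext (Equiv.ext fun a => ?_)
  by_cases ha : a = p
  · subst ha; exact h0
  · exact congrArg Subtype.val (Equiv.congr_fun (congrArg Subtype.val hstab) ⟨a, ha⟩)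

end Cfsg.Agent.Golay.Small12
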