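import Mathlib
import Cfsg.Prelude.Def_SporadicCombinatorics
import Cfsg.Agent.Lib.Golay.Perm

/-!
The length-twelve code over the integers modulo 3: parametrisation, weights, the monomial group.
-/

set_option autoImplicit false
set_option maxRecDepth 20000

namespace Cfsg.Agent.Golay.Ternary

open Cfsg Cfsg.Agent.Golay.Perm

/-- Number of a position. -/
def idx (p : ArrayPt) : Fin 12 := ⟨3 * p.1.1 + (p.2 : ZMod 3).val, by
  have := ZMod.val_lt p.2; omega⟩

/-- Position of a number. -/
def pos (i : Fin 12) : ArrayPt := (⟨i.1 / 3, by omega⟩, (i.1 : ZMod 3))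

theorem pos_idx : ∀ p, pos (idx p) = p := by decide +kernel

theorem idx_pos : ∀ i, idx (pos i) = i := by decide +kernel

theorem idx_injective : Function.Injective idx := Function.LeftInverse.injective pos_idx

/-- The basis words. -/
def rows : List (List ℕ) := [[1, 0, 0, 0, 0, 1, 0, 0, 1, 1, 1, 2], [0, 1, 0, 0, 0, 1, 0, 2, 2, 2, 0, 2], [0, 0, 1, 0, 0, 1, 0, 1, 0, 2, 1, 1], [0, 0, 0, 1, 0, 2, 0, 2, 1, 2, 1, 0], [0, 0, 0, 0, 1, 2, 0, 1, 2, 0, 1, 2], [0, 0, 0, 0, 0, 0, 1, 1, 1, 2, 2, 2]]

/-- The information positions. -/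
def info : Fin 6 → Fin 12 := ![0, 1, 2, 3, 4, 6]

/-- The other positions. -/
def free : Fin 6 → Fin 12 := ![5, 7, 8, 9, 10, 11]

/-- A basis word. -/
def bvec (j : Fin 6) : ArrayPt → ZMod 3 := fun p => (((rows.getD j []).getD (idx p) 0 : ℕ) : ZMod 3)

/-- A digit. -/
def digit (n : ℕ) (j : ℕ) : ℕ := n / 3 ^ j % 3

/-- The word with given digits. -/
def phi (n : ℕ) : ArrayPt → ZMod 3 := ∑ j : Fin 6, (digit n j : ZMod 3) • bvec j

/-- A fast evaluation of `phi`. -/
def wval (n i : ℕ) : ℕ :=
  ((List.range 6).foldl (fun a j => a + digit n j * ((rows.getD j []).getD i 0)) 0) % 3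

/-- The number of six digits. -/
def code6 (f : Fin 6 → ZMod 3) : ℕ :=
  (List.range 6).foldl (fun a j => a + (f (Fin.ofNat 6 j)).val * 3 ^ j) 0

/-- The number of a word, read off the information positions. -/
def num (x : ArrayPt → ZMod 3) : ℕ := code6 fun j => x (pos (info j))

theorem phi_wval : ∀ n < 729, ∀ p, (phi n p).val = wval n (idx p) := by decide +kernel

theorem num_phi : ∀ n < 729, num (phi n) = n := by decide +kernel

/-- Masks of the hexads. -/
def hexadList : List ℕ := [63, 222, 237, 243, 347, 366, 373, 413, 427, 438, 455, 504, 591, 630, 633, 667, 679, 700, 725, 746, 791, 813, 826, 860, 867, 910, 945, 969, 978, 996, 1117, 1127, 1146, 1175, 1198, 1209, 1227, 1268, 1295, 1331, 1340, 1366, 1385, 1434, 1445, 1484, 1489, 1506, 1566, 1579, 1589, 1619, 1644, 1677, 1714, 1734, 1752, 1761, 1817, 1830, 1861, 1866, 1904, 1923, 1940, 1960, 2135, 2155, 2172, 2191, 2229, 2234, 2265, 2278, 2334, 2343, 2361, 2381, 2418, 2451, 2476, 2506, 2516, 2529, 2589, 2606, 2611, 2650, 2661, 2710, 2729, 2755, 2764, 2800,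 2827, 2868, 2886, 2897, 2920, 2949, 2968, 2978, 3099, 3117, 3126, 3150, 3185, 3228, 3235, 3269, 3282, 3304, 3349, 3370, 3395, 3416, 3428, 3462, 3465, 3504, 3591, 3640, 3657, 3668, 3682, 3722, 3729, 3748, 3852, 3858, 3873, 4032]

/-- For level `k`: monomial maps as packed tables with sign masks. -/
def levelMaps : List (List (ℕ × ℕ)) := [
  [(205163983024656, 0), (114875801285121, 0), (171143312191746, 0), (203987229090051, 1331), (149235455697156, 1940), (188533650432261, 667), (203028566319366, 1581), (111366534013191, 993), (98289112523016, 1224), (134738834825481, 349), (77607836262666, 1271), (163099914215691, 430)],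
  [(205163983024656, 0), (148896472117536, 0), (183040958800176, 1331), (117199865061696, 1940), (167587380142416, 667), (95969627808096, 1581), (186389881889136, 993), (128339622961536, 1224), (82852190560656, 349), (199520902390176, 1271), (148040433476016, 430)],
  [(205163983024656, 0), (167926364906256, 1331), (135818296632336, 1940), (201938729903376, 667), (152511949514256, 1581), (92816805144336, 993), (165301675304976, 1224), (185219212847376, 349), (115772311677456, 1271), (76520923278096, 430)],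
  [(205163983024656, 0), (147865428247056, 0), (186605193351696, 0), (199605510955536, 6), (116911320035856, 5), (96304787325456, 3), (128266436579856, 6), (82916315210256, 3), (167424912765456, 5)],
  [(205163983024656, 0), (132399770186256, 0), (183942805598736, 6), (80841396400656, 5), (110731096240656, 3), (153208536773136, 6), (164327252963856, 3), (95285065495056, 5)]]

/-- Membership test. -/
def test (x : ArrayPt → ZMod 3) : Bool :=
  decide (∃ s : ZMod 3, (∀ i : Fin 4, ∑ r : ZMod 3, x (i, r) = -s) ∧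
    ∀ a b : ZMod 3, ∑ i : Fin 4, x (i, a * (![0, 1, 1, 1] : Fin 4 → ZMod 3) i +
      b * (![1, 0, 1, 2] : Fin 4 → ZMod 3) i) = s)

theorem test_iff {x : ArrayPt → ZMod 3} : test x = true ↔ x ∈ ternaryGolayCode := by
  rw [test, decide_eq_true_eq]
  show _ ↔ IsTernaryGolayWord x
  refine exists_congr fun s => and_congr_right fun _ => ⟨fun h t ht => ?_, fun h a b => ?_⟩
  · obtain ⟨a, b, rfl⟩ := Submodule.mem_span_pair.1 ht
    exact h a b
  · exact h _ (Submodule.mem_span_pair.2 ⟨a, b, rfl⟩)

theorem phi_mem (n : ℕ) : phi n ∈ ternaryGolayCode := by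
  refine Submodule.sum_mem _ fun j _ => Submodule.smul_mem _ _ (test_iff.1 ?_)
  revert j; decide +kernel

theorem code6_spec : ∀ f : Fin 6 → ZMod 3, code6 f < 729 ∧
    ∀ j : Fin 6, ((digit (code6 f) j : ℕ) : ZMod 3) = f j := by decide +kernel

theorem exists_code6 (f : Fin 6 → ZMod 3) :
    ∃ n < 729, ∀ j : Fin 6, ((digit n j : ℕ) : ZMod 3) = f j :=
  ⟨code6 f, code6_spec f⟩

theorem num_lt (x : ArrayPt → ZMod 3) : num x < 729 := (code6_spec fun j => x (pos (info j))).1

theorem phi_info (x : ArrayPt → ZMod 3) (j : Fin 6) :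
    phi (num x) (pos (info j)) = x (pos (info j)) := by
  have h := (code6_spec fun j => x (pos (info j))).2 j
  have hid : ∀ n < 729, ∀ j : Fin 6, phi n (pos (info j)) = ((digit n j : ℕ) : ZMod 3) := by
    decide +kernel
  rw [hid _ (num_lt x) j]
  exact h

/-- A word supported outside the information positions. -/
def emb (n : ℕ) : ArrayPt → ZMod 3 :=
  fun p => ∑ j : Fin 6, if idx p = free j then ((digit n j : ℕ) : ZMod 3) else 0

theorem phi_num {x : ArrayPt → ZMod 3} (hx : x ∈ ternaryGolayCode) : phi (num x) = x := by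
  obtain ⟨y, hy⟩ : ∃ y, y = x - phi (num x) := ⟨_, rfl⟩
  have hymem : y ∈ ternaryGolayCode := hy ▸ Submodule.sub_mem _ hx (phi_mem _)
  have hyi : ∀ j, y (pos (info j)) = 0 := fun j => by rw [hy, Pi.sub_apply, phi_info, sub_self]
  obtain ⟨n', hn', hdig⟩ := exists_code6 fun j => y (pos (free j))
  have hpart : ∀ i, (∃ j, info j = i) ∨ ∃ j, free j = i := by decide +kernel
  have hfi : ∀ j k, free j ≠ info k := by decide +kernel
  have hfinj : Function.Injective free := by decide +kernel
  have hye : y = emb n' := by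
    funext p
    rcases hpart (idx p) with ⟨j, hj⟩ | ⟨j, hj⟩
    · rw [← pos_idx p, ← hj, hyi, emb]
      exact (Finset.sum_eq_zero fun k _ => if_neg (by rw [idx_pos]; exact (hfi k j).symm)).symm
    · rw [← pos_idx p, ← hj, emb, idx_pos,
        Finset.sum_eq_single j (fun k _ hk => if_neg fun e => hk (hfinj e).symm)
          (fun h => absurd (Finset.mem_univ j) h), if_pos rfl]
      exact (hdig j).symm
  have hzero : ∀ n < 729, test (emb n) = true → emb n = 0 := by decide +kernel
  have := hzero n' hn' (test_iff.2 (hye ▸ hymem))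
  rw [← hye, hy, sub_eq_zero] at this
  exact this.symm

theorem mem_iff {x : ArrayPt → ZMod 3} : x ∈ ternaryGolayCode ↔ ∃ n < 729, phi n = x :=
  ⟨fun h => ⟨num x, num_lt x, phi_num h⟩, fun ⟨_, _, h⟩ => h ▸ phi_mem _⟩

theorem phi_injOn : Set.InjOn phi {n | n < 729} := fun a ha b hb h => by
  rw [← num_phi a ha, h, num_phi b hb]

theorem card_code : Nat.card ternaryGolayCode = 729 := by
  show Nat.card (ternaryGolayCode : Set (ArrayPt → ZMod 3)) = 729
  have : (ternaryGolayCode : Set (ArrayPt → ZMod 3)) = phi '' {n | n < 729} := by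
    ext x; simp [mem_iff]
  rw [this, Nat.card_coe_set_eq, phi_injOn.ncard_image,
    show {n : ℕ | n < 729} = ↑(Finset.range 729) by ext; simp, Set.ncard_coe_finset, Finset.card_range]

/-! ### Supports -/

/-- The mask of a set of positions. -/
def msk (s : Finset ArrayPt) : ℕ := Nat.ofBits fun i : Fin 12 => decide (pos i ∈ s)

/-- The number of bits. -/
def wt (m : ℕ) : ℕ := ((List.range 12).filter fun i => m.testBit i).length

/-- The set of a mask. -/
def setOf' (m : ℕ) : Finset ArrayPt := Finset.univ.filter fun p => m.testBit (idx p) = true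

theorem testBit_msk (s : Finset ArrayPt) (p : ArrayPt) :
    (msk s).testBit (idx p) = decide (p ∈ s) := by
  rw [msk, Nat.testBit_ofBits_lt _ _ (idx p).2]
  simp [pos_idx]

theorem setOf_msk (s : Finset ArrayPt) : setOf' (msk s) = s := by
  ext p; simp [setOf', testBit_msk]

theorem msk_injective : Function.Injective msk := fun s t h => by rw [← setOf_msk s, h, setOf_msk]

theorem msk_lt (s : Finset ArrayPt) : msk s < 4096 := Nat.ofBits_lt_two_pow _

theorem msk_setOf : ∀ m < 4096, msk (setOf' m) = m ∧ (setOf' m).card = wt m := by decide +kernel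

theorem card_eq_wt (s : Finset ArrayPt) : s.card = wt (msk s) := by
  conv_lhs => rw [← setOf_msk s]
  exact (msk_setOf _ (msk_lt s)).2

theorem subset_iff {s t : Finset ArrayPt} : s ⊆ t ↔ msk s &&& msk t = msk s := by
  constructor
  · intro h
    apply Nat.eq_of_testBit_eq
    intro i
    rcases Nat.lt_or_ge i 12 with hi | hi
    · have e : i = (idx (pos ⟨i, hi⟩) : ℕ) := by rw [idx_pos]
      rw [e, Nat.testBit_and, testBit_msk, testBit_msk]
      by_cases hp : pos ⟨i, hi⟩ ∈ s
      · simp [hp, h hp]
      · simp [hp]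
    · rw [Nat.testBit_and, msk, Nat.testBit_ofBits_ge _ _ hi]; simp
  · intro h p hp
    have := congrArg (fun m => m.testBit (idx p)) h
    simpa [testBit_msk, hp] using this

/-- The support mask of a word number. -/
def sup (n : ℕ) : ℕ := Nat.ofBits fun i : Fin 12 => !(wval n i == 0)

theorem msk_support {n : ℕ} (hn : n < 729) : msk (ternarySupport (phi n)) = sup n := by
  rw [msk, sup]
  congr 1
  funext i
  have h := phi_wval n hn (pos i)
  rw [idx_pos] at h
  simp only [ternarySupport, Finset.mem_filter, Finset.mem_univ, true_and, ← h, ne_eq,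
    ← ZMod.val_eq_zero]
  by_cases h0 : (phi n (pos i)).val = 0 <;> simp [h0]

theorem ncard_weight (k c : ℕ) (hc : ((List.range 729).filter fun n => wt (sup n) == k).length = c) :
    {x : ArrayPt → ZMod 3 | x ∈ ternaryGolayCode ∧ (ternarySupport x).card = k}.ncard = c := by
  have himg : {x : ArrayPt → ZMod 3 | x ∈ ternaryGolayCode ∧ (ternarySupport x).card = k} =
      phi '' ↑((Finset.range 729).filter fun n => wt (sup n) = k) := by
    ext x
    simp only [Set.mem_setOf_eq, Set.mem_image, Finset.coe_filter, Finset.mem_range, card_eq_wt]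
    constructor
    · rintro ⟨hx, hw⟩
      obtain ⟨n, hn, rfl⟩ := mem_iff.1 hx
      exact ⟨n, ⟨hn, by rwa [← msk_support hn]⟩, rfl⟩
    · rintro ⟨n, ⟨hn, hw⟩, rfl⟩
      exact ⟨phi_mem n, by rwa [msk_support hn]⟩
  rw [himg, (phi_injOn.mono (by intro n hn; simp at hn; exact hn.1)).ncard_image,
    Set.ncard_coe_finset, ← hc, ← List.toFinset_card_of_nodup (List.nodup_range.filter _)]
  congr 1
  ext n; simp

/-- The hexads. -/
def hexads : Set (Finset ArrayPt) :=
  {h | ∃ x ∈ ternaryGolayCode, ternarySupport x = h ∧ h.card = 6}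

theorem hexadList_ok : (∀ n < 729, wt (sup n) = 6 → hexadList.contains (sup n) = true) ∧
    (hexadList.all fun m => decide (m < 4096) && (wt m == 6) &&
      (List.range 729).any fun n => sup n == m) = true ∧ hexadList.Nodup := by
  decide +kernel

theorem mem_hexads {h : Finset ArrayPt} : h ∈ hexads ↔ msk h ∈ hexadList := by
  constructor
  · rintro ⟨x, hx, rfl, hc⟩
    obtain ⟨n, hn, rfl⟩ := mem_iff.1 hx
    rw [card_eq_wt, msk_support hn] at hc
    rw [msk_support hn]
    simpa using hexadList_ok.1 n hn hc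
  · intro hm
    have := List.all_eq_true.1 hexadList_ok.2.1 _ hm
    simp only [Bool.and_eq_true, decide_eq_true_eq, beq_iff_eq, List.any_eq_true, List.mem_range] at this
    obtain ⟨⟨-, hw⟩, n, hn, hs⟩ := this
    exact ⟨phi n, phi_mem n, msk_injective (by rw [msk_support hn, hs]), by rw [card_eq_wt, hw]⟩

theorem hexads_card {h : Finset ArrayPt} (hh : h ∈ hexads) : h.card = 6 := by
  obtain ⟨_, _, _, hc⟩ := hh; exact hc

theorem steiner_hexads : IsSteinerSystem 5 6 hexads := by
  refine ⟨fun b hb => hexads_card hb, fun s hs => ?_⟩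
  have hall : ∀ m < 4096, wt m = 5 →
      (hexadList.filter fun h => m &&& h == m).length = 1 := by decide +kernel
  rw [card_eq_wt] at hs
  obtain ⟨h, hh⟩ := List.length_eq_one_iff.1 (hall _ (msk_lt s) hs)
  have hmem : h ∈ hexadList.filter fun h => msk s &&& h == msk s := by rw [hh]; simp
  simp only [List.mem_filter, beq_iff_eq] at hmem
  have hlt : h < 4096 := by
    have := List.all_eq_true.1 hexadList_ok.2.1 _ hmem.1
    simp only [Bool.and_eq_true, decide_eq_true_eq] at this
    exact this.1.1
  refine ⟨setOf' h, ⟨mem_hexads.2 (by rw [(msk_setOf h hlt).1]; exact hmem.1),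
    subset_iff.2 (by rw [(msk_setOf h hlt).1]; exact hmem.2)⟩, ?_⟩
  rintro b ⟨hb, hsb⟩
  have hb' : msk b ∈ hexadList.filter fun h => msk s &&& h == msk s := by
    simp only [List.mem_filter, beq_iff_eq]
    exact ⟨mem_hexads.1 hb, subset_iff.1 hsb⟩
  rw [hh, List.mem_singleton] at hb'
  rw [← setOf_msk b, hb']

theorem ncard_hexads : hexads.ncard = 132 := by
  have himg : hexads = setOf' '' {m | m ∈ hexadList} := by
    ext h
    simp only [Set.mem_image, Set.mem_setOf_eq, mem_hexads]
    refine ⟨fun hm => ⟨_, hm, setOf_msk h⟩, ?_⟩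
    rintro ⟨m, hm, rfl⟩
    have := List.all_eq_true.1 hexadList_ok.2.1 _ hm
    simp only [Bool.and_eq_true, decide_eq_true_eq] at this
    rwa [(msk_setOf m this.1.1).1]
  have hinj : Set.InjOn setOf' {m | m ∈ hexadList} := by
    intro a ha b hb e
    have h1 := List.all_eq_true.1 hexadList_ok.2.1 _ ha
    have h2 := List.all_eq_true.1 hexadList_ok.2.1 _ hb
    simp only [Bool.and_eq_true, decide_eq_true_eq] at h1 h2
    rw [← (msk_setOf a h1.1.1).1, e, (msk_setOf b h2.1.1).1]
  rw [himg, hinj.ncard_image,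
    show {m | m ∈ hexadList} = ↑hexadList.toFinset by ext; simp, Set.ncard_coe_finset,
    List.toFinset_card_of_nodup hexadList_ok.2.2]
  rfl

theorem orthogonal {x y : ArrayPt → ZMod 3} (hx : x ∈ ternaryGolayCode) (hy : y ∈ ternaryGolayCode) :
    ∑ p, x p * y p = 0 := by
  obtain ⟨m, -, rfl⟩ := mem_iff.1 hx
  obtain ⟨n, -, rfl⟩ := mem_iff.1 hy
  have hb : ∀ i j, ∑ p, bvec i p * bvec j p = 0 := by decide +kernel
  simp only [phi, Finset.sum_apply, Pi.smul_apply, smul_eq_mul, Finset.sum_mul, Finset.mul_sum]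
  rw [Finset.sum_comm]
  refine Finset.sum_eq_zero fun i _ => ?_
  rw [Finset.sum_comm]
  refine Finset.sum_eq_zero fun j _ => ?_
  calc ∑ p, (digit m j : ZMod 3) * bvec j p * ((digit n i : ZMod 3) * bvec i p)
      = (digit m j : ZMod 3) * (digit n i : ZMod 3) * ∑ p, bvec j p * bvec i p := by
        rw [Finset.mul_sum]; exact Finset.sum_congr rfl fun p _ => by ring
    _ = 0 := by rw [hb, mul_zero]

end Cfsg.Agent.Golay.Ternary
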