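import Mathlib
import Cfsg.Prelude.Def_SporadicCombinatorics
import Cfsg.Agent.Lib.Golay.Ternary

/-!
The length-twelve code over the integers modulo 3: the monomial group.
-/

set_option autoImplicit false
set_option maxRecDepth 20000

namespace Cfsg.Agent.Golay.Ternary

open Cfsg Cfsg.Agent.Golay.Perm

/-! ### Monomial maps -/

/-- A monomial map preserving the code. -/
def IsMono (σ : Equiv.Perm ArrayPt) (c : ArrayPt → (ZMod 3)ˣ) : Prop :=
  ∀ x ∈ ternaryGolayCode, monomialMap σ c x ∈ ternaryGolayCode

theorem isMono_of_basis {σ : Equiv.Perm ArrayPt} {c : ArrayPt → (ZMod 3)ˣ}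
    (h : ∀ j, monomialMap σ c (bvec j) ∈ ternaryGolayCode) : IsMono σ c := by
  intro x hx
  obtain ⟨n, -, rfl⟩ := mem_iff.1 hx
  have : monomialMap σ c (phi n) = ∑ j : Fin 6, (digit n j : ZMod 3) • monomialMap σ c (bvec j) := by
    funext p
    simp only [monomialMap, phi, Finset.sum_apply, Pi.smul_apply, smul_eq_mul, Finset.mul_sum]
    exact Finset.sum_congr rfl fun j _ => by ring
  rw [this]
  exact Submodule.sum_mem _ fun j _ => Submodule.smul_mem _ _ (h j)

/-- The signs of a mask. -/
def sgn (m : ℕ) : ArrayPt → (ZMod 3)ˣ := fun p => bif m.testBit (idx p) then -1 else 1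

theorem units_cases : ∀ u : (ZMod 3)ˣ, u = 1 ∨ u = -1 := by decide +kernel

theorem exists_sgn (c : ArrayPt → (ZMod 3)ˣ) : ∃ m < 4096, sgn m = c := by
  refine ⟨msk (Finset.univ.filter fun p => c p = -1), msk_lt _, funext fun p => ?_⟩
  rcases units_cases (c p) with h | h
  · have : c p ≠ -1 := by rw [h]; decide
    have h1 : decide ((1 : (ZMod 3)ˣ) = -1) = false := by decide +kernel
    rw [sgn, testBit_msk]
    simp only [Finset.mem_filter, Finset.mem_univ, true_and, h, h1, cond_false]
  · simp [sgn, testBit_msk, h]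

/-- Fast membership test. -/
def fastMem (y : ArrayPt → ZMod 3) : Bool :=
  let n := num y
  (List.finRange 12).all fun i => (y (pos i)).val == wval n i

theorem fastMem_of_mem {y : ArrayPt → ZMod 3} (hy : y ∈ ternaryGolayCode) : fastMem y = true := by
  simp only [fastMem, List.all_eq_true, List.mem_finRange, true_implies, beq_iff_eq]
  intro i
  conv_lhs => rw [← phi_num hy, phi_wval _ (num_lt y), idx_pos]

theorem sign_cases {c : ArrayPt → (ZMod 3)ˣ} (h : IsMono 1 c) :
    (∀ p, c p = 1) ∨ ∀ p, c p = -1 := by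
  obtain ⟨m, hm, rfl⟩ := exists_sgn c
  have hall : ∀ m < 4096, (decide (m = 0) || decide (m = 4095) ||
      (List.finRange 6).any fun j => !fastMem (monomialMap 1 (sgn m) (bvec j))) = true := by
    decide +kernel
  have hm' := hall m hm
  simp only [Bool.or_eq_true, decide_eq_true_eq, List.any_eq_true, List.mem_finRange, true_and,
    Bool.not_eq_true'] at hm'
  rcases hm' with (rfl | rfl) | ⟨j, hj⟩
  · exact Or.inl (fun p => by simp [sgn])
  · refine Or.inr ?_
    decide +kernel
  · have hb : bvec j ∈ ternaryGolayCode := by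
      have : ∀ j, test (bvec j) = true := by decide +kernel
      exact test_iff.1 (this j)
    rw [fastMem_of_mem (h _ hb)] at hj
    cases hj

theorem monomialMap_comp (σ τ : Equiv.Perm ArrayPt) (c d : ArrayPt → (ZMod 3)ˣ)
    (x : ArrayPt → ZMod 3) :
    monomialMap σ c (monomialMap τ d x) = monomialMap (σ * τ) (fun i => c i * d (σ.symm i)) x := by
  funext i
  simp [monomialMap, mul_assoc, Equiv.Perm.mul_def]

/-- The permutations underlying monomial automorphisms. -/
def permGroup : Subgroup (Equiv.Perm ArrayPt) where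
  carrier := {σ | ∃ c, IsMono σ c}
  one_mem' := ⟨fun _ => 1, fun x hx => by
    have : monomialMap (1 : Equiv.Perm ArrayPt) (fun _ => (1 : (ZMod 3)ˣ)) x = x := by
      funext i; simp [monomialMap]; rfl
    rwa [this]⟩
  mul_mem' := by
    rintro σ τ ⟨c, hc⟩ ⟨d, hd⟩
    exact ⟨fun i => c i * d (σ.symm i), fun x hx => by
      rw [← monomialMap_comp]; exact hc _ (hd x hx)⟩
  inv_mem' := by
    rintro σ ⟨c, hc⟩
    have hpow : ∀ k : ℕ, ∃ d, IsMono (σ ^ k) d := by
      intro k
      induction k with
      | zero =>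
        refine ⟨fun _ => 1, fun x hx => ?_⟩
        have : monomialMap (σ ^ 0) (fun _ => (1 : (ZMod 3)ˣ)) x = x := by
          funext i; simp [monomialMap]; rfl
        rwa [this]
      | succ k ih =>
        obtain ⟨d, hd⟩ := ih
        refine ⟨fun i => c i * d (σ.symm i), fun x hx => ?_⟩
        rw [pow_succ', ← monomialMap_comp]
        exact hc _ (hd x hx)
    obtain ⟨d, hd⟩ := hpow (orderOf σ - 1)
    refine ⟨d, ?_⟩
    have e : σ⁻¹ = σ ^ (orderOf σ - 1) := by
      rw [inv_eq_iff_mul_eq_one, ← pow_succ', Nat.sub_add_cancel (orderOf_pos σ), pow_orderOf_eq_one]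
    rwa [e]

theorem support_monomial (σ : Equiv.Perm ArrayPt) (c : ArrayPt → (ZMod 3)ˣ) (x : ArrayPt → ZMod 3) :
    ternarySupport (monomialMap σ c x) = (ternarySupport x).image σ := by
  ext p
  simp only [ternarySupport, Finset.mem_filter, Finset.mem_univ, true_and, monomialMap,
    Finset.mem_image, ne_eq, Units.mul_right_eq_zero]
  exact ⟨fun h => ⟨σ.symm p, h, by simp⟩, fun ⟨q, hq, e⟩ => by rw [← e]; simpa using hq⟩

open scoped Pointwise in
theorem permGroup_le : permGroup ≤ setSystemAut hexads := by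
  rintro σ ⟨c, hc⟩
  show σ • hexads = hexads
  refine Set.eq_of_subset_of_ncard_le ?_ (by rw [Set.ncard_smul_set]) (Set.toFinite _)
  rintro _ ⟨h, ⟨x, hx, rfl, hcard⟩, rfl⟩
  refine ⟨_, hc x hx, ?_, ?_⟩
  · rw [support_monomial]; rfl
  · show (σ • ternarySupport x).card = 6
    rw [Finset.card_smul_finset, hcard]

/-! ### The order -/

/-- Entry of a packed table of twelve. -/
def tab4 (t i : ℕ) : ℕ := (t >>> (4 * i)) % 16

/-- The function of a table. -/
def tabFun (t : ℕ) (p : ArrayPt) : ArrayPt := pos (Fin.ofNat 12 (tab4 t (idx p)))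

/-- The permutation of a table. -/
noncomputable def mkPerm (t : ℕ) : Equiv.Perm ArrayPt :=
  open Classical in if h : Function.Bijective (tabFun t) then Equiv.ofBijective _ h else 1

/-- The inverse function of a table. -/
def invTab (t : ℕ) (p : ArrayPt) : ArrayPt :=
  pos (((List.finRange 12).find? fun i => tabFun t (pos i) == p).getD 0)

/-- Check of one monomial map at level `k`. -/
def mapOK (k : ℕ) (e : ℕ × ℕ) : Bool :=
  decide (∀ p, tabFun e.1 (invTab e.1 p) = p) &&
  (List.range k).all (fun i => tab4 e.1 i == i) &&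
  (List.finRange 6).all fun j => test fun p => (sgn e.2 p : ZMod 3) * bvec j (invTab e.1 p)

theorem mkPerm_spec {k : ℕ} {e : ℕ × ℕ} (h : mapOK k e = true) (hk : k ≤ 12) :
    (∀ p, mkPerm e.1 p = tabFun e.1 p) ∧ mkPerm e.1 ∈ permGroup ∧
      ∀ i : Fin 12, i.1 < k → mkPerm e.1 (pos i) = pos i := by
  simp only [mapOK, Bool.and_eq_true, decide_eq_true_eq, List.all_eq_true, List.mem_range,
    List.mem_finRange, true_implies, beq_iff_eq] at h
  obtain ⟨⟨h1, h2⟩, h3⟩ := h
  have hbij : Function.Bijective (tabFun e.1) :=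
    ⟨Finite.injective_iff_surjective.2 fun p => ⟨_, h1 p⟩, fun p => ⟨_, h1 p⟩⟩
  have hmk : ∀ p, mkPerm e.1 p = tabFun e.1 p := fun p => by
    rw [mkPerm, dif_pos hbij]; rfl
  have hsymm : ∀ p, (mkPerm e.1).symm p = invTab e.1 p := fun p => by
    rw [Equiv.symm_apply_eq, hmk, h1]
  refine ⟨hmk, ⟨sgn e.2, isMono_of_basis fun j => ?_⟩, fun i hi => ?_⟩
  · have := test_iff.1 (h3 j)
    convert this using 1
    funext p
    rw [monomialMap, hsymm]
  · rw [hmk, tabFun, idx_pos, h2 i.1 hi]
    congr 1
    exact Fin.ext (Nat.mod_eq_of_lt i.2)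

theorem levels_ok : (List.range 5).all (fun k =>
    ((levelMaps.getD k []).all (mapOK k)) &&
    (List.range 12).all fun t => decide (t < k) ||
      (levelMaps.getD k []).any fun e => tab4 e.1 k == t) = true := by
  decide +kernel

/-- The first `k` positions. -/
def pre : ℕ → List ArrayPt
  | 0 => []
  | k + 1 => pos (Fin.ofNat 12 k) :: pre k

theorem mem_pre {p : ArrayPt} : ∀ {k : ℕ}, k ≤ 12 → (p ∈ pre k ↔ (idx p : ℕ) < k)
  | 0, _ => by simp [pre]
  | k + 1, hk => by
    rw [pre, List.mem_cons, mem_pre (k := k) (by omega)]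
    constructor
    · rintro (rfl | h)
      · rw [idx_pos, Fin.val_ofNat, Nat.mod_eq_of_lt (by omega)]; omega
      · omega
    · intro h
      rcases Nat.lt_or_ge (idx p : ℕ) k with h' | h'
      · exact Or.inr h'
      · exact Or.inl (by rw [← pos_idx p]; congr 1; ext; simp [Fin.val_ofNat, Nat.mod_eq_of_lt (show k < 12 by omega)]; omega)

theorem card_fixers_level {G : Subgroup (Equiv.Perm ArrayPt)} (hG : permGroup ≤ G) {k : ℕ}
    (hk : k < 5) : Nat.card (fixers G (pre k)) = (12 - k) * Nat.card (fixers G (pre (k + 1))) := by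
  have hT : ∀ k < 5, (Finset.univ.filter fun p => k ≤ (idx p : ℕ)).card = 12 - k := by decide +kernel
  rw [pre, ← hT k hk]
  have hlev := List.all_eq_true.1 levels_ok k (List.mem_range.2 hk)
  simp only [Bool.and_eq_true, List.all_eq_true, List.mem_range, Bool.or_eq_true, decide_eq_true_eq,
    List.any_eq_true, beq_iff_eq] at hlev
  have hkv : (Fin.ofNat 12 k).1 = k := Nat.mod_eq_of_lt (by omega)
  refine card_fixers_step G _ _ _ (fun g hg => ?_) (fun t ht => ?_)
  · simp only [Finset.mem_filter, Finset.mem_univ, true_and]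
    by_contra hlt
    have hmem : g (pos (Fin.ofNat 12 k)) ∈ pre k := (mem_pre (by omega)).2 (by omega)
    have := g.injective (hg.2 _ hmem)
    rw [this, mem_pre (by omega), idx_pos, hkv] at hmem
    omega
  · simp only [Finset.mem_filter, Finset.mem_univ, true_and] at ht
    rcases hlev.2 (idx t).1 (idx t).2 with h | ⟨e, he, het⟩
    · omega
    obtain ⟨h1, h2, h3⟩ := mkPerm_spec (hlev.1 e he) (by omega)
    refine ⟨mkPerm e.1, ⟨hG h2, fun x hx => ?_⟩, ?_⟩
    · rw [mem_pre (by omega)] at hx
      rw [← pos_idx x, h3 _ hx]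
    · rw [h1, tabFun, idx_pos, hkv, het]
      conv_rhs => rw [← pos_idx t]
      congr 1
      exact Fin.ext (Nat.mod_eq_of_lt (idx t).2)

/-- Arrangements of a list. -/
def arr : ℕ → List ℕ → List (List ℕ)
  | 0, _ => [[]]
  | k + 1, l => l.flatMap fun x => (arr k (l.erase x)).map (x :: ·)

theorem mem_arr : ∀ {k : ℕ} {l L : List ℕ}, L.length = k → L.Nodup → (∀ x ∈ L, x ∈ l) → L ∈ arr k l
  | 0, _, L, h, _, _ => by simp [arr, List.eq_nil_of_length_eq_zero h]
  | k + 1, l, [], h, _, _ => by simp at h
  | k + 1, l, x :: L, h, hnd, hsub => by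
    rw [List.nodup_cons] at hnd
    simp only [arr, List.mem_flatMap, List.mem_map]
    refine ⟨x, hsub x List.mem_cons_self, L, mem_arr (by simpa using h) hnd.2 (fun y hy => ?_), rfl⟩
    exact (List.mem_erase_of_ne (fun e => hnd.1 (by rwa [e] at hy))).2 (hsub y (List.mem_cons_of_mem _ hy))

/-- Image of a mask under a list of images. -/
def imgL (L : List ℕ) (m : ℕ) : ℕ :=
  Nat.ofBits fun j : Fin 12 => (List.range 12).any fun i => m.testBit i && L.getD i 12 == j.1

theorem rigid_check : ((arr 6 [6, 7, 8, 9, 10, 11]).all fun L => L == [6, 7, 8, 9, 10, 11] ||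
    hexadList.any fun h => !hexadList.contains (imgL ([0, 1, 2, 3, 4, 5] ++ L) h)) = true := by
  decide +kernel

open scoped Pointwise in
theorem imgL_msk (g : Equiv.Perm ArrayPt) (s : Finset ArrayPt) :
    imgL ((List.finRange 12).map fun i => (idx (g (pos i)) : ℕ)) (msk s) = msk (g • s) := by
  apply Nat.eq_of_testBit_eq
  intro j
  rcases Nat.lt_or_ge j 12 with hj | hj
  · simp only [imgL, msk, Nat.testBit_ofBits_lt _ _ hj]
    rw [Bool.eq_iff_iff]
    simp only [List.any_eq_true, List.mem_range, Bool.and_eq_true, beq_iff_eq, decide_eq_true_eq,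
      Finset.mem_smul_finset]
    constructor
    · rintro ⟨i, hi, h1, h2⟩
      refine ⟨pos ⟨i, hi⟩, ?_, ?_⟩
      · rw [Nat.testBit_ofBits_lt _ _ hi] at h1; simpa using h1
      · rw [List.getD_eq_getElem _ _ (by simpa using hi)] at h2
        simp only [List.getElem_map, List.getElem_finRange] at h2
        rw [← pos_idx (g • pos ⟨i, hi⟩)]
        exact congrArg pos (Fin.ext h2)
    · rintro ⟨y, hy, hgy⟩
      refine ⟨(idx y : ℕ), (idx y).2, ?_, ?_⟩
      · rw [Nat.testBit_ofBits_lt _ _ (idx y).2]; simpa [pos_idx] using hy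
      rw [List.getD_eq_getElem _ _ (by simp [(idx y).2])]
      simp only [List.getElem_map, List.getElem_finRange, Fin.cast_mk, Fin.eta]
      rw [pos_idx, show g y = _ from hgy, idx_pos]
  · rw [imgL, Nat.testBit_ofBits_ge _ _ hj, msk, Nat.testBit_ofBits_ge _ _ hj]

open scoped Pointwise in
theorem fixers_five {g : Equiv.Perm ArrayPt} (hg : g ∈ fixers (setSystemAut hexads) (pre 5)) :
    g = 1 := by
  have hsm : ∀ h, h ∈ hexads → g • h ∈ hexads := fun h hh => by
    have e : g • hexads = hexads := hg.1
    rw [← e]; exact Set.smul_mem_smul_set hh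
  have hfix : ∀ i : Fin 12, i.1 < 5 → g (pos i) = pos i := fun i hi =>
    hg.2 _ ((mem_pre (by norm_num)).2 (by rw [idx_pos]; exact hi))
  have h63 : setOf' 63 ∈ hexads := mem_hexads.2 (by decide +kernel)
  have h31 : g • setOf' 31 = setOf' 31 := by
    refine Finset.eq_of_subset_of_card_le (fun p hp => ?_) (by rw [Finset.card_smul_finset])
    obtain ⟨q, hq, rfl⟩ := Finset.mem_smul_finset.1 hp
    have hall : ∀ q, q ∈ setOf' 31 → (idx q : ℕ) < 5 := by decide +kernel
    have hlt := hall q hq
    rw [show g • q = g (pos (idx q)) by rw [pos_idx]; rfl, hfix _ hlt, pos_idx]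
    exact hq
  have hg63 : g • setOf' 63 = setOf' 63 := by
    obtain ⟨b, -, hu⟩ := steiner_hexads.2 (setOf' 31) (by decide +kernel)
    rw [hu _ ⟨hsm _ h63, ?_⟩, hu _ ⟨h63, by decide +kernel⟩]
    conv_lhs => rw [← h31]
    exact Finset.smul_finset_subset_smul_finset_iff.2 (by decide +kernel)
  have h5 : g (pos 5) = pos 5 := by
    have hmem : g • pos 5 ∈ setOf' 63 := by
      rw [← hg63]; exact Finset.smul_mem_smul_finset (by decide +kernel)
    have hcase : ∀ p ∈ setOf' 63, p = pos 5 ∨ (idx p : ℕ) < 5 := by decide +kernel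
    rcases hcase _ hmem with h | h
    · exact h
    · have e := hfix _ h
      rw [pos_idx] at e
      have e' : g (g (pos 5)) = g (pos 5) := e
      have := g.injective e'
      exact this
  let F := (List.finRange 12).map fun i => (idx (g (pos i)) : ℕ)
  let L := [6, 7, 8, 9, 10, 11].map fun i => (idx (g (pos (Fin.ofNat 12 i))) : ℕ)
  have hfix6 : ∀ i : Fin 12, i.1 < 6 → (idx (g (pos i)) : ℕ) = i.1 := fun i hi => by
    rcases Nat.lt_or_ge i.1 5 with h | h
    · rw [hfix i h, idx_pos]
    · have : i = 5 := Fin.ext (by show i.1 = 5; omega)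
      rw [this, h5, idx_pos]
  have hF : F = [0, 1, 2, 3, 4, 5] ++ L := by
    simp only [F, L, List.finRange_succ, List.finRange_zero, List.map_cons, List.map_nil]
    simp [hfix6]
  have hLarr : L ∈ arr 6 [6, 7, 8, 9, 10, 11] := by
    refine mem_arr (by simp [L]) ?_ ?_
    · refine List.Nodup.map_on (fun a ha b hb h => ?_) (by decide)
      have e := congrArg pos (Fin.ext h)
      rw [pos_idx, pos_idx] at e
      have := congrArg idx (g.injective e)
      rw [idx_pos, idx_pos] at this
      have hinj : ∀ a ∈ [6, 7, 8, 9, 10, 11], ∀ b ∈ [6, 7, 8, 9, 10, 11],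
          Fin.ofNat 12 a = Fin.ofNat 12 b → a = b := by decide +kernel
      exact hinj a ha b hb this
    · intro x hx
      obtain ⟨i, hi, rfl⟩ := List.mem_map.1 hx
      have hge : 6 ≤ (idx (g (pos (Fin.ofNat 12 i))) : ℕ) := by
        by_contra hlt
        have e := hfix6 (idx (g (pos (Fin.ofNat 12 i)))) (by omega)
        rw [pos_idx] at e
        have e' := congrArg pos (Fin.ext e)
        rw [pos_idx, pos_idx] at e'
        have := congrArg idx (g.injective e')
        rw [idx_pos] at this
        have hall : ∀ i ∈ [6, 7, 8, 9, 10, 11], (Fin.ofNat 12 i).1 = i := by decide +kernel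
        have hiv : (Fin.ofNat 12 i).1 = i := hall i hi
        rw [this] at hlt
        rw [hiv] at hlt
        simp only [List.mem_cons, List.not_mem_nil, or_false] at hi
        omega
      have hlt := (idx (g (pos (Fin.ofNat 12 i)))).2
      generalize (idx (g (pos (Fin.ofNat 12 i))) : ℕ) = v at hge hlt ⊢
      simp only [List.mem_cons, List.not_mem_nil, or_false]
      omega
  rcases Bool.or_eq_true _ _ ▸ (List.all_eq_true.1 rigid_check L hLarr) with h | h
  · rw [beq_iff_eq] at h
    rw [h] at hF
    refine Equiv.ext fun p => idx_injective (Fin.ext ?_)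
    have := congrArg (fun l => l.getD (idx p : ℕ) 12) hF
    simp only [F, List.getD_eq_getElem _ _ (show (idx p : ℕ) < ((List.finRange 12).map
      fun i => (idx (g (pos i)) : ℕ)).length by simp), List.getElem_map, List.getElem_finRange,
      Fin.cast_mk, Fin.eta, pos_idx] at this
    rw [this]
    have hall : ∀ p : ArrayPt,
        ([0, 1, 2, 3, 4, 5] ++ [6, 7, 8, 9, 10, 11]).getD (idx p : ℕ) 12 = (idx p : ℕ) := by
      decide +kernel
    exact hall p
  · simp only [List.any_eq_true, Bool.not_eq_true', List.contains_eq_mem, decide_eq_false_iff_not] at h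
    obtain ⟨m, hm, hnm⟩ := h
    have hlt : m < 4096 := by
      have := List.all_eq_true.1 hexadList_ok.2.1 _ hm
      simp only [Bool.and_eq_true, decide_eq_true_eq] at this
      exact this.1.1
    refine absurd ?_ hnm
    rw [← hF, ← (msk_setOf m hlt).1]
    show imgL F (msk (setOf' m)) ∈ hexadList
    rw [imgL_msk, ← mem_hexads]
    exact hsm _ (mem_hexads.2 (by rw [(msk_setOf m hlt).1]; exact hm))

theorem card_between {G : Subgroup (Equiv.Perm ArrayPt)} (h1 : permGroup ≤ G)
    (h2 : G ≤ setSystemAut hexads) : Nat.card G = 95040 := by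
  have h5 : fixers G (pre 5) = ⊥ := eq_bot_iff.2 fun g hg =>
    Subgroup.mem_bot.2 (fixers_five (fixers_mono h2 _ hg))
  rw [← fixers_nil G, show ([] : List ArrayPt) = pre 0 from rfl,
    card_fixers_level h1 (by norm_num), card_fixers_level h1 (by norm_num),
    card_fixers_level h1 (by norm_num), card_fixers_level h1 (by norm_num),
    card_fixers_level h1 (by norm_num), h5, Subgroup.card_bot]

theorem card_permGroup : Nat.card permGroup = 95040 := card_between le_rfl permGroup_le

theorem permGroup_eq : permGroup = setSystemAut hexads :=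
  eq_of_le_of_card_eq permGroup_le (by rw [card_permGroup, card_between permGroup_le le_rfl])

theorem card_monomial : Nat.card {f : Equiv.Perm ArrayPt × (ArrayPt → (ZMod 3)ˣ) //
    IsMono f.1 f.2} = 190080 := by
  let p0 : ArrayPt := pos 0
  have hbij : Function.Bijective (fun f : {f : Equiv.Perm ArrayPt × (ArrayPt → (ZMod 3)ˣ) //
      IsMono f.1 f.2} => ((⟨f.1.1, f.1.2, f.2⟩ : permGroup), f.1.2 p0)) := by
    constructor
    · rintro ⟨⟨σ, c⟩, hc⟩ ⟨⟨τ, d⟩, hd⟩ h
      have h1 : σ = τ := congrArg (fun z => (z.1 : Equiv.Perm ArrayPt)) h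
      have h0 : c p0 = d p0 := congrArg Prod.snd h
      subst h1
      obtain ⟨e, he⟩ := permGroup.inv_mem (show σ ∈ permGroup from ⟨c, hc⟩)
      have hσ : IsMono 1 (fun i => c i * e (σ.symm i)) := fun x hx => by
        have := hc _ (he x hx)
        rwa [monomialMap_comp, mul_inv_cancel] at this
      have hτ : IsMono 1 (fun i => d i * e (σ.symm i)) := fun x hx => by
        have := hd _ (he x hx)
        rwa [monomialMap_comp, mul_inv_cancel] at this
      have hc' : ∀ p, c p * e (σ.symm p) = c p0 * e (σ.symm p0) := fun p => by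
        rcases sign_cases hσ with h1 | h1 <;> exact (h1 p).trans (h1 p0).symm
      have hd' : ∀ p, d p * e (σ.symm p) = d p0 * e (σ.symm p0) := fun p => by
        rcases sign_cases hτ with h1 | h1 <;> exact (h1 p).trans (h1 p0).symm
      have key : ∀ p, c p * e (σ.symm p) = d p * e (σ.symm p) := fun p => by
        rw [hc', hd', h0]
      exact Subtype.ext (Prod.ext rfl (funext fun p => mul_right_cancel (key p)))
    · rintro ⟨⟨σ, c, hc⟩, u⟩
      by_cases hu : c p0 = u
      · exact ⟨⟨(σ, c), hc⟩, by simp [hu]⟩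
      · refine ⟨⟨(σ, fun p => -c p), fun x hx => ?_⟩, ?_⟩
        · have e : monomialMap σ (fun p => -c p) x = -monomialMap σ c x := by
            funext p; simp [monomialMap]
          rw [e]; exact Submodule.neg_mem _ (hc x hx)
        · refine Prod.ext rfl ?_
          show -c p0 = u
          revert hu
          generalize c p0 = v
          revert v; revert u
          decide +kernel
  rw [Nat.card_eq_of_bijective _ hbij, Nat.card_prod, card_permGroup,
    show Nat.card (ZMod 3)ˣ = 2 by rw [Nat.card_eq_fintype_card]; decide +kernel]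

end Cfsg.Agent.Golay.Ternary
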