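import Cfsg.Agent.Lib.Transfer.TwoPointLift
import Cfsg.Agent.Lib.Golay.M12LiftData
import Cfsg.Agent.Lib.Golay.TernaryAut
import Cfsg.Agent.Lib.Golay.Small12
import Cfsg.Agent.Lib.Golay.AutM12
import Cfsg.Agent.S2034
import Mathlib

/-!
The multiplier of M12 has order two: the monomial group of the ternary code is a cover, and a stem
extension is generated by a lift of M11 and a swapping involution.
-/

set_option autoImplicit false
set_option maxRecDepth 100000
set_option linter.style.haveILetI false

namespace Cfsg.Agent.Golay.M12Mult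

open Cfsg Cfsg.Agent.Golay.Basic Cfsg.Agent.Golay.Perm Cfsg.Agent.Golay.Cert Cfsg.Agent.Golay.Small
  Cfsg.Agent.Golay.SmallData Cfsg.Agent.Golay.M12LiftData Cfsg.Agent.Golay.Trans Cfsg.Agent.Golay.Design
  Cfsg.Agent.Golay.M24
open scoped commutatorElement Pointwise

abbrev pG := Equiv.Perm GolayPt

/-! ### The monomial group -/

/-- The monomial automorphisms as permutations of the words. -/
def monoGroup : Subgroup (Equiv.Perm (ArrayPt → ZMod 3)) where
  carrier := {f | ∃ σ c, Ternary.IsMono σ c ∧ ∀ x, f x = monomialMap σ c x}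
  one_mem' := ⟨1, fun _ => 1, fun x hx => by
    have : monomialMap (1 : Equiv.Perm ArrayPt) (fun _ => (1 : (ZMod 3)ˣ)) x = x := by
      funext i; simp [monomialMap]; rfl
    rwa [this], fun x => by funext i; simp [monomialMap]; rfl⟩
  mul_mem' := by
    rintro f g ⟨σ, c, hc, hf⟩ ⟨τ, d, hd, hg⟩
    refine ⟨σ * τ, fun i => c i * d (σ.symm i), fun x hx => ?_, fun x => ?_⟩
    · rw [← Ternary.monomialMap_comp]; exact hc _ (hd x hx)
    · rw [Equiv.Perm.mul_apply, hg, hf, Ternary.monomialMap_comp]
  inv_mem' := by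
    rintro f ⟨σ, c, hc, hf⟩
    have hpow : ∀ k : ℕ, ∃ τ d, Ternary.IsMono τ d ∧ ∀ x, (f ^ k) x = monomialMap τ d x := by
      intro k
      induction k with
      | zero =>
        refine ⟨1, fun _ => 1, fun x hx => ?_, fun x => by funext i; simp [monomialMap]; rfl⟩
        have : monomialMap (1 : Equiv.Perm ArrayPt) (fun _ => (1 : (ZMod 3)ˣ)) x = x := by
          funext i; simp [monomialMap]; rfl
        rwa [this]
      | succ k ih =>
        obtain ⟨τ, d, hd, hk⟩ := ih
        refine ⟨σ * τ, fun i => c i * d (σ.symm i), fun x hx => ?_, fun x => ?_⟩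
        · rw [← Ternary.monomialMap_comp]; exact hc _ (hd x hx)
        · rw [pow_succ', Equiv.Perm.mul_apply, hk, hf, Ternary.monomialMap_comp]
    have e : f⁻¹ = f ^ (orderOf f - 1) := by
      rw [inv_eq_iff_mul_eq_one, ← pow_succ', Nat.sub_add_cancel (orderOf_pos f), pow_orderOf_eq_one]
    show ∃ τ d, Ternary.IsMono τ d ∧ ∀ x, f⁻¹ x = monomialMap τ d x
    rw [e]; exact hpow _

theorem perm_unique {σ τ : Equiv.Perm ArrayPt} {c d : ArrayPt → (ZMod 3)ˣ}
    (h : ∀ x, monomialMap σ c x = monomialMap τ d x) : σ = τ ∧ c = d := by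
  have hσ : ∀ p, σ.symm p = τ.symm p := by
    intro p
    by_contra hne
    have := congrFun (h (fun q => if q = σ.symm p then 1 else 0)) p
    simp only [monomialMap, if_pos, if_neg (Ne.symm hne), mul_zero, mul_one] at this
    exact Units.ne_zero _ this
  have e : σ = τ := by
    have : σ.symm = τ.symm := Equiv.ext hσ
    rw [← Equiv.symm_symm σ, this, Equiv.symm_symm]
  subst e
  refine ⟨rfl, funext fun p => Units.ext ?_⟩
  have := congrFun (h (fun _ => 1)) p
  simpa [monomialMap] using this

theorem exists_data (f : monoGroup) : ∃ σ c, Ternary.IsMono σ c ∧ ∀ x, f.1 x = monomialMap σ c x := f.2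

/-- The underlying permutation. -/
noncomputable def under (f : monoGroup) : Equiv.Perm ArrayPt := (exists_data f).choose

theorem under_eq {f : monoGroup} {σ : Equiv.Perm ArrayPt} {c : ArrayPt → (ZMod 3)ˣ}
    (h : ∀ x, f.1 x = monomialMap σ c x) : under f = σ :=
  (perm_unique (fun x => ((exists_data f).choose_spec.choose_spec.2 x).symm.trans (h x))).1

/-- The homomorphism to the permutation parts. -/
noncomputable def toPerm : monoGroup →* Ternary.permGroup where
  toFun f := ⟨under f, (exists_data f).choose_spec.choose, (exists_data f).choose_spec.choose_spec.1⟩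
  map_one' := Subtype.ext (under_eq (σ := 1) (c := fun _ => 1) fun x => by
    funext i; simp [monomialMap]; rfl)
  map_mul' f g := Subtype.ext (by
    obtain ⟨σ, c, -, hf⟩ := exists_data f
    obtain ⟨τ, d, -, hg⟩ := exists_data g
    show under (f * g) = under f * under g
    rw [under_eq hf, under_eq hg]
    exact under_eq (c := fun i => c i * d (σ.symm i)) fun x => by
      rw [Subgroup.coe_mul, Equiv.Perm.mul_apply, hg, hf, Ternary.monomialMap_comp])

theorem toPerm_eq {f : monoGroup} {σ : Equiv.Perm ArrayPt} {c : ArrayPt → (ZMod 3)ˣ}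
    (h : ∀ x, f.1 x = monomialMap σ c x) : (toPerm f : Equiv.Perm ArrayPt) = σ := under_eq h

theorem monoBij (σ : Equiv.Perm ArrayPt) (c : ArrayPt → (ZMod 3)ˣ) :
    Function.Bijective (fun x : ArrayPt → ZMod 3 => monomialMap σ c x) := by
  refine Finite.injective_iff_bijective.1 fun x y h => funext fun p => ?_
  have := congrFun h (σ p)
  simp only [monomialMap, Equiv.symm_apply_apply] at this
  exact (Units.mul_right_inj _).1 this

/-- A monomial map as a permutation of the words. -/
noncomputable def monoEquiv (σ : Equiv.Perm ArrayPt) (c : ArrayPt → (ZMod 3)ˣ) :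
    Equiv.Perm (ArrayPt → ZMod 3) := Equiv.ofBijective _ (monoBij σ c)

theorem toPerm_surjective : Function.Surjective toPerm := by
  rintro ⟨σ, c, hc⟩
  exact ⟨⟨monoEquiv σ c, σ, c, hc, fun x => rfl⟩, Subtype.ext (toPerm_eq fun x => rfl)⟩

theorem neg_mem : (Equiv.neg (ArrayPt → ZMod 3)) ∈ monoGroup :=
  ⟨1, fun _ => -1, fun x hx => by
    have : monomialMap (1 : Equiv.Perm ArrayPt) (fun _ => (-1 : (ZMod 3)ˣ)) x = -x := by
      funext i; simp [monomialMap]; rfl
    rw [this]; exact Submodule.neg_mem _ hx, fun x => by funext i; simp [monomialMap]; rfl⟩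

/-- The scalar minus one. -/
def negOne : monoGroup := ⟨Equiv.neg _, neg_mem⟩

theorem negOne_ne : negOne ≠ 1 := by
  intro h
  have := congrFun (congrArg (fun f : monoGroup => f.1 (fun _ => (1 : ZMod 3))) h) (0, 0)
  revert this
  simp only [negOne, OneMemClass.coe_one, Equiv.Perm.one_apply, Equiv.neg_apply, Pi.neg_apply]
  decide

theorem ker_cases {f : monoGroup} (h : toPerm f = 1) : f = 1 ∨ f = negOne := by
  obtain ⟨σ, c, hc, hf⟩ := f.2
  have hσ : σ = 1 := by rw [← toPerm_eq hf, h]; rfl
  subst hσ
  rcases Ternary.sign_cases hc with h1 | h1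
  · left
    refine Subtype.ext (Equiv.ext fun x => ?_)
    rw [hf]; funext i; simp [monomialMap, h1]; rfl
  · right
    refine Subtype.ext (Equiv.ext fun x => ?_)
    rw [hf]; funext i; simp [monomialMap, h1, negOne]; rfl

theorem toPerm_negOne : toPerm negOne = 1 :=
  Subtype.ext (toPerm_eq (σ := 1) (c := fun _ => -1) fun x => by
    funext i; simp [monomialMap, negOne]; rfl)

theorem mem_center_negOne : negOne ∈ Subgroup.center monoGroup := by
  rw [Subgroup.mem_center_iff]
  intro g
  obtain ⟨σ, c, hc, hg⟩ := g.2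
  refine Subtype.ext (Equiv.ext fun x => ?_)
  show g.1 (-x) = -(g.1 x)
  rw [hg, hg]; funext i; simp [monomialMap]

theorem exists_sq : ∃ f : monoGroup, f * f = negOne := by
  have hok : Ternary.mapOK 0 (166793534572611, 1582) = true := by decide +kernel
  obtain ⟨hmk, hmem, -⟩ := Ternary.mkPerm_spec hok (by norm_num)
  set σ := Ternary.mkPerm 166793534572611
  set c := Ternary.sgn 1582
  have hsymm : ∀ p, σ.symm p = Ternary.invTab 166793534572611 p := fun p => by
    rw [Equiv.symm_apply_eq, hmk]
    simp only [Ternary.mapOK, Bool.and_eq_true, decide_eq_true_eq] at hok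
    exact (hok.1.1 p).symm
  have hc : Ternary.IsMono σ c := Ternary.isMono_of_basis fun j => by
    have h3 := hok
    simp only [Ternary.mapOK, Bool.and_eq_true, decide_eq_true_eq, List.all_eq_true, List.mem_finRange,
      true_implies] at h3
    have := Ternary.test_iff.1 (h3.2 j)
    convert this using 1
    funext p
    rw [monomialMap, hsymm]
  refine ⟨⟨monoEquiv σ c, σ, c, hc, fun x => rfl⟩, Subtype.ext (Equiv.ext fun x => ?_)⟩
  show monomialMap σ c (monomialMap σ c x) = -x
  have e1 : ∀ p, Ternary.invTab 166793534572611 (Ternary.invTab 166793534572611 p) = p := by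
    decide +kernel
  have e2 : ∀ p, ((Ternary.sgn 1582 p : (ZMod 3)ˣ) : ZMod 3) *
      ((Ternary.sgn 1582 (Ternary.invTab 166793534572611 p) : (ZMod 3)ˣ) : ZMod 3) = -1 := by
    decide +kernel
  funext p
  simp only [monomialMap, Pi.neg_apply, hsymm, e1, ← mul_assoc]
  rw [show (c p : ZMod 3) * (c (Ternary.invTab 166793534572611 p) : ZMod 3) = -1 from e2 p, neg_one_mul]

/-! ### Transport to M12 -/

theorem nonempty_iso : Nonempty (Ternary.permGroup ≃* M12K) := by
  obtain ⟨e, he⟩ := Small12.iso12 (by decide +kernel) Small12.card_d0 Ternary.steiner_hexads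
    Small12.steiner_DD
  let E : setSystemAut Ternary.hexads ≃* setSystemAut Small12.DD := DesignIso.autEquiv e he
  have hfaith : ∀ a b : setSystemAut Small12.DD,
      (∀ p : {p : GolayPt // p ∈ d0}, a • p = b • p) → a = b :=
    fun a b h => Subtype.ext (Equiv.ext h)
  let F : M12K →* setSystemAut Small12.DD :=
    { toFun := fun g => (Small12.exists_aut_DD g.2).choose
      map_one' := hfaith _ _ fun p => Subtype.ext (by
        rw [(Small12.exists_aut_DD (one_mem M12K)).choose_spec p]; rfl)
      map_mul' := fun g h => hfaith _ _ fun p => Subtype.ext (by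
        rw [(Small12.exists_aut_DD (g * h).2).choose_spec p, mul_smul,
          (Small12.exists_aut_DD g.2).choose_spec, (Small12.exists_aut_DD h.2).choose_spec]
        rfl) }
  have hF : Function.Injective F := by
    rw [← MonoidHom.ker_eq_bot_iff, eq_bot_iff]
    intro g hg
    rw [Subgroup.mem_bot]
    refine Subtype.ext (five_fix_d0 g.2 fun b hb => ?_)
    have hb' : ∀ b ∈ basePre 5, b ∈ d0 := by decide +kernel
    have := (Small12.exists_aut_DD g.2).choose_spec ⟨b, hb' b hb⟩
    rw [show (Small12.exists_aut_DD g.2).choose = 1 from hg, one_smul] at this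
    exact this.symm
  have hcard : Nat.card (setSystemAut Small12.DD) = 95040 := by
    rw [← Nat.card_congr E.toEquiv, ← Ternary.permGroup_eq, Ternary.card_permGroup]
  let e2 : M12K ≃* setSystemAut Small12.DD := MulEquiv.ofBijective F
    ((Nat.bijective_iff_injective_and_card F).2 ⟨hF, by rw [card_M12K, hcard]⟩)
  exact ⟨((MulEquiv.subgroupCongr Ternary.permGroup_eq).trans E).trans e2.symm⟩

theorem exists_cover : ∃ (C : Type) (_ : Group C) (_ : Finite C) (θ : C →* M12K),
    IsStemExtension θ ∧ Nat.card θ.ker = 2 := by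
  obtain ⟨e⟩ := nonempty_iso
  let θ : monoGroup →* M12K := e.toMonoidHom.comp toPerm
  have hker : ∀ f, θ f = 1 ↔ f = 1 ∨ f = negOne := by
    intro f
    constructor
    · intro h
      exact ker_cases (e.injective (h.trans (map_one e).symm))
    · rintro (rfl | rfl)
      · exact map_one θ
      · show e (toPerm negOne) = 1
        rw [toPerm_negOne, map_one]
  have hsur : Function.Surjective θ := e.surjective.comp toPerm_surjective
  have hperf : commutator M12K = ⊤ := by
    haveI := isSimple_M12K
    rcases Subgroup.Normal.eq_bot_or_eq_top (inferInstance : (commutator M12K).Normal) with h | h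
    · exfalso
      haveI : IsMulCommutative M12K := by rwa [← commutator_eq_bot_iff]
      have hp : (Nat.card M12K).Prime :=
        letI : CommGroup M12K := { (inferInstance : Group M12K) with mul_comm := IsMulCommutative.is_comm.comm }
        IsSimpleGroup.prime_card
      rw [card_M12K] at hp; norm_num at hp
    · exact h
  refine ⟨monoGroup, inferInstance, inferInstance, θ, ⟨hsur, fun f hf => ?_, fun f hf => ?_⟩, ?_⟩
  · rcases (hker f).1 hf with rfl | rfl
    exacts [one_mem _, mem_center_negOne]
  · rcases (hker f).1 hf with rfl | rfl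
    · exact one_mem _
    obtain ⟨x, hx⟩ := exists_sq
    have hmap : (commutator monoGroup).map θ = ⊤ := by
      rw [commutator_def, Subgroup.map_commutator, Subgroup.map_top_of_surjective _ hsur,
        ← commutator_def, hperf]
    obtain ⟨a, ha, hax⟩ : θ x ∈ (commutator monoGroup).map θ := by rw [hmap]; trivial
    have hq : θ (a⁻¹ * x) = 1 := by rw [map_mul, map_inv, hax, inv_mul_cancel]
    rw [← hx]
    rcases (hker _).1 hq with h | h
    · rw [← inv_mul_eq_one.1 h]; exact mul_mem ha ha
    · rw [inv_mul_eq_iff_eq_mul] at h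
      have hn : negOne * negOne = (1 : monoGroup) :=
        Subtype.ext (Equiv.ext fun y => by simp [negOne])
      rw [h, mul_assoc, ← mul_assoc negOne, ← Subgroup.mem_center_iff.1 mem_center_negOne a,
        mul_assoc, hn, mul_one]
      exact mul_mem ha ha
  · rw [Nat.card_eq_two_iff]
    refine ⟨⟨1, one_mem _⟩, ⟨negOne, (hker _).2 (Or.inr rfl)⟩,
      fun h => negOne_ne (congrArg Subtype.val h).symm, Set.eq_univ_of_forall ?_⟩
    rintro ⟨f, hf⟩
    rcases (hker f).1 hf with rfl | rfl <;> simp

/-! ### The bound -/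

/-- The two-point stabiliser. -/
def M10K : Subgroup pG := fixers M12K [pt 1, pt 0]

theorem tabs_ok : (([sTab, tTab] ++ mTabs ++ cTabs).all fun t =>
    tabOK t && imgTab t baseDodecad == baseDodecad) = true := by decide +kernel

theorem tab_mem {t : ℕ} (ht : t ∈ [sTab, tTab] ++ mTabs ++ cTabs) :
    tabOK t = true ∧ tabPerm t ∈ M12K := by
  have h := List.all_eq_true.1 tabs_ok t ht
  simp only [Bool.and_eq_true, beq_iff_eq] at h
  refine ⟨h.1, mem_M12K.2 ⟨tabPerm_mem h.1, ?_⟩⟩
  show tabPerm t • maskSet baseDodecad = maskSet baseDodecad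
  have hlt : baseDodecad < 2 ^ 24 := by decide +kernel
  rw [← maskSet_mask (tabPerm t • maskSet baseDodecad), ← imgTab_mask (isTab_tabPerm h.1),
    mask_maskSet hlt, h.2]

theorem mTabs_ok : mTabs.all tabOK = true := by decide +kernel

theorem card_M10K : Nat.card M10K = 720 := by
  have h := card_fixers_step M12K [pt 0] (pt 1) (d0.erase (pt 0))
    (fun g hg => Finset.mem_erase.2 ⟨fun e => by
      have h0 := hg.2 _ List.mem_cons_self
      rw [← h0] at e
      exact absurd (g.injective e) (by decide +kernel), M12K_maps hg.1 (by decide +kernel)⟩)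
    (fun t ht => by
      obtain ⟨hne, htd⟩ := Finset.mem_erase.1 ht
      obtain ⟨g, hg, e⟩ := M12K_exists_tuple [pt 0, t] (by simp) (by simpa using Ne.symm hne)
        (by simpa using And.intro pt0_mem_d0 htd)
      simp only [List.length_cons, List.length_nil, List.take_succ_cons, List.take_zero, List.map_cons,
        List.map_nil, List.cons.injEq, and_true] at e
      exact ⟨g, ⟨hg, fun x hx => by rw [List.mem_singleton.1 hx]; exact e.1⟩, e.2⟩)
  rw [Finset.card_erase_of_mem pt0_mem_d0, show d0.card = 12 from AutM12.card_d0] at h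
  have := card_M11K
  simp only [M11K] at this
  rw [this] at h
  show Nat.card (fixers M12K [pt 1, pt 0]) = 720
  omega

theorem mTabs_mem : ∀ x ∈ mTabs ++ cTabs, tabPerm x ∈ M10K := by
  intro x hx
  have hx' : x ∈ [sTab, tTab] ++ mTabs ++ cTabs := by
    simp only [List.mem_append] at hx ⊢; tauto
  obtain ⟨hok, hmem⟩ := tab_mem hx'
  refine ⟨hmem, fun p hp => ix_injective ?_⟩
  rw [isTab_tabPerm hok]
  have hall : (mTabs ++ cTabs).all (fun x => tabAt x 0 == 0 && tabAt x 1 == 1) = true := by
    decide +kernel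
  have h := List.all_eq_true.1 hall x hx
  simp only [Bool.and_eq_true, beq_iff_eq] at h
  simp only [List.mem_cons, List.not_mem_nil, or_false] at hp
  rcases hp with rfl | rfl
  · rw [ix_pt (by norm_num)]; exact h.2
  · rw [ix_pt (by norm_num)]; exact h.1

theorem m10_eq : tabGroup mTabs = M10K :=
  tabGroup_eq mTabs_ok (L := mChain) (by decide +kernel)
    (fun x hx => mTabs_mem x (List.mem_append_left _ hx)) (by rw [card_M10K]; decide +kernel)

theorem evalT_append (X : List ℕ) : ∀ v w : List ℕ, evalT X (v ++ w) = evalT X v * evalT X w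
  | [], w => by rw [List.nil_append, evalT, one_mul]
  | k :: v, w => by rw [List.cons_append, evalT, evalT, evalT_append X v w, mul_assoc]

/-- The tables for the word computations. -/
def allTabs : List ℕ := mTabs ++ cTabs

theorem allTabs_ok : allTabs.all tabOK = true := by decide +kernel

theorem word_eq {v w : List ℕ}
    (h : ((List.range 24).all fun i => runT allTabs v i == runT allTabs w i) = true) :
    evalT allTabs v = evalT allTabs w := by
  refine Equiv.ext fun p => ix_injective ?_
  rw [ix_evalT allTabs_ok, ix_evalT allTabs_ok]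
  simpa using List.all_eq_true.1 h (ix p) (List.mem_range.2 (ix_lt p))

/-- An element of the two-point stabiliser. -/
noncomputable def el (i : ℕ) (hi : i < allTabs.length) : M10K :=
  ⟨tabPerm allTabs[i], mTabs_mem _ (List.getElem_mem hi)⟩

theorem range_le_two {A : Type*} [Group A] (hA : ∀ a b : A, a * b = b * a) (f : M10K →* A) :
    Nat.card f.range ≤ 2 := by
  classical
  have hev : ∀ i (hi : i < allTabs.length), (el i hi : pG) = evalT allTabs [i] := fun i hi => by
    show tabPerm allTabs[i] = tabPerm (genTab allTabs i) * 1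
    rw [mul_one, genTab, List.getD_eq_getElem _ _ hi]
  have hlen : allTabs.length = 11 := by decide +kernel
  have hcom : ∀ {a x y x' y' : M10K}, a = x * y * (x' * y') → x * x' = 1 → y * y' = 1 → f a = 1 := by
    intro a x y x' y' h hx hy
    rw [h, map_mul, map_mul, map_mul]
    have e1 : f x * f x' = 1 := by rw [← map_mul, hx, map_one]
    have e2 : f y * f y' = 1 := by rw [← map_mul, hy, map_one]
    calc f x * f y * (f x' * f y') = f x * (f y * f x') * f y' := by group
      _ = f x * (f x' * f y) * f y' := by rw [hA (f y)]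
      _ = f x * f x' * (f y * f y') := by group
      _ = 1 := by rw [e1, e2, mul_one]
  have h0 : f (el 0 (by omega)) = 1 := by
    refine hcom (x := el 3 (by omega)) (y := el 4 (by omega)) (x' := el 5 (by omega))
      (y' := el 6 (by omega)) ?_ ?_ ?_ <;> refine Subtype.ext ?_
    · simp only [Subgroup.coe_mul, hev, ← evalT_append]
      exact word_eq (by decide +kernel)
    · simp only [Subgroup.coe_mul, hev, ← evalT_append]
      exact word_eq (w := []) (by decide +kernel)
    · simp only [Subgroup.coe_mul, hev, ← evalT_append]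
      exact word_eq (w := []) (by decide +kernel)
  have h1 : f (el 1 (by omega)) = 1 := by
    refine hcom (x := el 7 (by omega)) (y := el 8 (by omega)) (x' := el 9 (by omega))
      (y' := el 10 (by omega)) ?_ ?_ ?_ <;> refine Subtype.ext ?_
    · simp only [Subgroup.coe_mul, hev, ← evalT_append]
      exact word_eq (by decide +kernel)
    · simp only [Subgroup.coe_mul, hev, ← evalT_append]
      exact word_eq (w := []) (by decide +kernel)
    · simp only [Subgroup.coe_mul, hev, ← evalT_append]
      exact word_eq (w := []) (by decide +kernel)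
  have hword : ∀ w : List ℕ, (∀ k ∈ w, k = 0 ∨ k = 1) →
      ∃ m : M10K, (m : pG) = evalT allTabs w ∧ f m = 1 := by
    intro w hw
    induction w with
    | nil => exact ⟨1, rfl, map_one f⟩
    | cons k w ih =>
      obtain ⟨m, hm, hfm⟩ := ih fun x hx => hw x (List.mem_cons_of_mem _ hx)
      rcases hw k List.mem_cons_self with rfl | rfl
      · exact ⟨el 0 (by omega) * m, by rw [Subgroup.coe_mul, hev, hm, ← evalT_append]; rfl,
          by rw [map_mul, h0, hfm, mul_one]⟩
      · exact ⟨el 1 (by omega) * m, by rw [Subgroup.coe_mul, hev, hm, ← evalT_append]; rfl,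
          by rw [map_mul, h1, hfm, mul_one]⟩
  set g := f (el 2 (by omega))
  have hg : g * g = 1 := by
    obtain ⟨m, hm, hfm⟩ := hword sqWord (by decide +kernel)
    have e : el 2 (by omega) * el 2 (by omega) = m := Subtype.ext (by
      rw [Subgroup.coe_mul, hev, ← evalT_append, hm]; exact word_eq (by decide +kernel))
    rw [← map_mul, e, hfm]
  let S : Subgroup A :=
    { carrier := {1, g}
      one_mem' := Or.inl rfl
      mul_mem' := by
        rintro a b (rfl | rfl) (rfl | rfl) <;> simp [hg]
      inv_mem' := by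
        rintro a (rfl | rfl)
        · simp
        · exact Or.inr (inv_eq_of_mul_eq_one_right hg) }
  have hle : f.range ≤ S := by
    rintro _ ⟨⟨m, hm⟩, rfl⟩
    have hgen : M10K = Subgroup.closure {g | ∃ x ∈ mTabs, g = tabPerm x} := m10_eq.symm
    have hall : ∀ x (hx : x ∈ Subgroup.closure {g | ∃ x ∈ mTabs, g = tabPerm x}),
        f ⟨x, hgen ▸ hx⟩ ∈ S := by
      intro x hx
      induction hx using Subgroup.closure_induction with
      | mem x hx =>
        obtain ⟨t, ht, rfl⟩ := hx
        obtain ⟨i, hi, rfl⟩ := List.getElem_of_mem ht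
        have hi3 : i < 3 := by
          have : mTabs.length = 3 := by decide +kernel
          omega
        have hget : mTabs[i] = allTabs[i]'(by omega) := (List.getElem_append_left hi).symm
        have he : (⟨tabPerm mTabs[i], mTabs_mem _ (List.mem_append_left _ (List.getElem_mem hi))⟩ : M10K)
            = el i (by omega) := Subtype.ext (congrArg tabPerm hget)
        show f ⟨tabPerm mTabs[i], _⟩ ∈ S
        rw [he]
        interval_cases i
        · rw [h0]; exact S.one_mem
        · rw [h1]; exact S.one_mem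
        · exact Or.inr rfl
      | one => rw [show (⟨1, _⟩ : M10K) = 1 from rfl, map_one]; exact S.one_mem
      | mul a b ha hb iha ihb =>
        rw [show (⟨a * b, _⟩ : M10K) = ⟨a, hgen ▸ ha⟩ * ⟨b, hgen ▸ hb⟩ from rfl, map_mul]
        exact mul_mem iha ihb
      | inv a ha iha =>
        rw [show (⟨a⁻¹, _⟩ : M10K) = (⟨a, hgen ▸ ha⟩)⁻¹ from rfl, map_inv]
        exact inv_mem iha
    exact hall m (hgen ▸ hm)
  haveI : Finite S := (Set.toFinite ({1, g} : Set A)).to_subtype
  calc Nat.card f.range ≤ Nat.card S := Nat.card_le_card_of_injective _ (Subgroup.inclusion_injective hle)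
    _ ≤ 2 := by
      show Nat.card ↥({1, g} : Set A) ≤ 2
      rw [Nat.card_coe_set_eq]
      exact (Set.ncard_insert_le _ _).trans (by simp)

theorem card_ker_le_two {Γ : Type} [Group Γ] [Finite Γ] (σ : Γ →* M12K) (hσ : IsStemExtension σ) :
    Nat.card σ.ker ≤ 2 := by
  classical
  let H : Subgroup M12K := M11K.subgroupOf M12K
  let M : Subgroup M12K := M10K.subgroupOf M12K
  have hle11 : M11K ≤ M12K := fun g hg => hg.1
  let eH : H ≃* M11K := Subgroup.subgroupOfEquivOfLe hle11
  let eM : M ≃* M10K := Subgroup.subgroupOfEquivOfLe fun g hg => hg.1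
  have hs := tab_mem (t := sTab) (by simp)
  have ht := tab_mem (t := tTab) (by simp)
  have hX : [sTab, tTab].all tabOK = true := by simp [hs.1, ht.1]
  have hrun : ∀ v w : List ℕ,
      ((List.range 24).all fun i => runT [sTab, tTab] v i == runT [sTab, tTab] w i) = true →
      evalT [sTab, tTab] v = evalT [sTab, tTab] w := fun v w h =>
    Equiv.ext fun p => ix_injective (by
      rw [ix_evalT hX, ix_evalT hX]
      simpa using List.all_eq_true.1 h (ix p) (List.mem_range.2 (ix_lt p)))
  set s := tabPerm sTab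
  set t := tabPerm tTab
  have hss : s * s = 1 := by
    have := hrun [0, 0] [] (by decide +kernel)
    simpa [evalT, genTab] using this
  have htt : t * t = 1 := by
    have := hrun [1, 1] [] (by decide +kernel)
    simpa [evalT, genTab] using this
  have hst : (s * t) ^ 3 = 1 := by
    have := hrun [0, 1, 0, 1, 0, 1] [] (by decide +kernel)
    simpa [evalT, genTab, pow_succ, mul_assoc] using this
  have hs0 : s (pt 0) = pt 1 := ix_injective (by rw [isTab_tabPerm hs.1]; decide +kernel)
  have hs1 : s (pt 1) = pt 0 := ix_injective (by rw [isTab_tabPerm hs.1]; decide +kernel)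
  have ht0 : t (pt 0) = pt 0 := ix_injective (by rw [isTab_tabPerm ht.1]; decide +kernel)
  have ht1 : t (pt 1) ≠ pt 1 := by
    intro h
    have := congrArg ix h
    rw [isTab_tabPerm ht.1] at this
    revert this; decide +kernel
  have htd : t (pt 1) ∈ d0 := M12K_maps ht.2 (by decide +kernel)
  have hp1 : pt 1 ∈ d0 := by decide +kernel
  have ht10 : t (pt 1) ≠ pt 0 := fun e =>
    absurd (t.injective (e.trans ht0.symm)) (by decide +kernel)
  have memH : ∀ g : M12K, g ∈ H ↔ g.1 (pt 0) = pt 0 := fun g =>
    ⟨fun h => h.2 _ List.mem_cons_self, fun h => ⟨g.2, fun x hx => by rw [List.mem_singleton.1 hx]; exact h⟩⟩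
  have memM : ∀ g : M12K, g ∈ M ↔ g.1 (pt 1) = pt 1 ∧ g.1 (pt 0) = pt 0 := fun g =>
    ⟨fun h => ⟨h.2 _ List.mem_cons_self, h.2 _ (List.mem_cons_of_mem _ List.mem_cons_self)⟩,
      fun h => ⟨g.2, fun x hx => by
        simp only [List.mem_cons, List.not_mem_nil, or_false] at hx
        rcases hx with rfl | rfl
        exacts [h.1, h.2]⟩⟩
  have hperf : ⁅H, H⁆ = H := by
    haveI := isSimple_M11K
    have hc : commutator M11K = ⊤ := by
      rcases Subgroup.Normal.eq_bot_or_eq_top (inferInstance : (commutator M11K).Normal) with h | h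
      · exfalso
        haveI : IsMulCommutative M11K := by rwa [← commutator_eq_bot_iff]
        have hp : (Nat.card M11K).Prime :=
          letI : CommGroup M11K := { (inferInstance : Group M11K) with mul_comm := IsMulCommutative.is_comm.comm }
          IsSimpleGroup.prime_card
        rw [card_M11K] at hp; norm_num at hp
      · exact h
    have h := congrArg (Subgroup.map (H.subtype.comp eH.symm.toMonoidHom)) hc
    rw [commutator_def, Subgroup.map_commutator, ← MonoidHom.range_eq_map, MonoidHom.range_comp,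
      MonoidHom.range_eq_top.2 eH.symm.surjective, ← MonoidHom.range_eq_map, Subgroup.range_subtype] at h
    exact h
  refine Transfer.TwoPointLift.card_ker_le σ hσ H M hperf (fun Δ _ _ τ hτ => ?_)
    (s := ⟨s, hs.2⟩) (t := ⟨t, ht.2⟩) (Subtype.ext hss) (Subtype.ext htt) (Subtype.ext hst)
    ((memH _).2 ht0) (fun h => ?_) (fun g hg => (memH g).2 ((memM g).1 hg).2) (fun g hg => ?_)
    (fun g hg => ?_) (fun g => ?_) 2 (fun A f hA => ?_)
  · obtain ⟨h1, h2, h3⟩ := hτ
    have h := S2034.ker_M11K (eH.toMonoidHom.comp τ) ⟨eH.surjective.comp h1, fun x hx => h2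
      (eH.injective (hx.trans (map_one eH).symm)), fun x hx => h3 (eH.injective (hx.trans (map_one eH).symm))⟩
    rw [eq_bot_iff]
    intro x hx
    rw [← h]
    show eH (τ x) = 1
    rw [show τ x = 1 from hx, map_one]
  · exact absurd ((memH _).1 h) (by rw [hs0]; decide +kernel)
  · obtain ⟨h1, h0⟩ := (memM g).1 hg
    exact (memM _).2 ⟨by simp [hs1, h0, hs0], by simp [hs0, h1, hs1]⟩
  · have h0 := (memH g).1 hg
    by_cases h1 : g.1 (pt 1) = pt 1
    · exact Or.inl ((memM g).2 ⟨h1, h0⟩)
    right
    have hgd : g.1 (pt 1) ∈ d0 := M12K_maps g.2 (by decide +kernel)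
    have hg10 : g.1 (pt 1) ≠ pt 0 := fun e =>
      absurd (g.1.injective (e.trans h0.symm)) (by decide +kernel)
    obtain ⟨u, hu, eu⟩ := M12K_exists_tuple [pt 0, pt 1, g.1 (pt 1)] (by simp)
      (by simp [Ne.symm h1, Ne.symm hg10]; decide +kernel)
      (by simp only [List.forall_mem_cons, List.not_mem_nil, IsEmpty.forall_iff, implies_true, and_true]; exact ⟨pt0_mem_d0, hp1, hgd⟩)
    obtain ⟨v, hv, ev⟩ := M12K_exists_tuple [pt 0, pt 1, t (pt 1)] (by simp)
      (by simp [Ne.symm ht1, Ne.symm ht10]; decide +kernel)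
      (by simp only [List.forall_mem_cons, List.not_mem_nil, IsEmpty.forall_iff, implies_true, and_true]; exact ⟨pt0_mem_d0, hp1, htd⟩)
    simp only [List.length_cons, List.length_nil, List.take_succ_cons, List.take_zero, List.map_cons,
      List.map_nil, List.cons.injEq, and_true] at eu ev
    have hv0 : v⁻¹ (pt 0) = pt 0 := by rw [Equiv.Perm.inv_eq_iff_eq]; exact ev.1.symm
    have hv1 : v⁻¹ (pt 1) = pt 1 := by rw [Equiv.Perm.inv_eq_iff_eq]; exact ev.2.1.symm
    let m : M12K := ⟨u, hu⟩ * ⟨v, hv⟩⁻¹
    have hm : m ∈ M := (memM m).2 ⟨by show u (v⁻¹ (pt 1)) = _; rw [hv1, eu.2.1],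
      by show u (v⁻¹ (pt 0)) = _; rw [hv0, eu.1]⟩
    have hmt : m.1 (t (pt 1)) = g.1 (pt 1) := by
      show u (v⁻¹ (t (pt 1))) = _
      rw [← eu.2.2, ← ev.2.2, show v⁻¹ (v (pt 2)) = pt 2 from v.symm_apply_apply _]
    refine ⟨m, hm, (m * ⟨t, ht.2⟩)⁻¹ * g, (memM _).2 ⟨?_, ?_⟩, by group⟩
    · show (m.1 * t)⁻¹ (g.1 (pt 1)) = pt 1
      rw [Equiv.Perm.inv_eq_iff_eq, Equiv.Perm.mul_apply, hmt]
    · show (m.1 * t)⁻¹ (g.1 (pt 0)) = pt 0
      rw [Equiv.Perm.inv_eq_iff_eq, Equiv.Perm.mul_apply, ht0, h0]
      exact ((memM m).1 hm).2.symm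
  · by_cases h0 : g.1 (pt 0) = pt 0
    · exact Or.inl ((memH g).2 h0)
    right
    have hgd : g.1 (pt 0) ∈ d0 := M12K_maps g.2 pt0_mem_d0
    obtain ⟨u, hu, eu⟩ := M12K_exists_tuple [pt 0, g.1 (pt 0)] (by simp) (by simp [Ne.symm h0])
      (by simp only [List.forall_mem_cons, List.not_mem_nil, IsEmpty.forall_iff, implies_true, and_true]; exact ⟨pt0_mem_d0, hgd⟩)
    simp only [List.length_cons, List.length_nil, List.take_succ_cons, List.take_zero, List.map_cons,
      List.map_nil, List.cons.injEq, and_true] at eu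
    refine ⟨⟨u, hu⟩, (memH _).2 eu.1, ((⟨u, hu⟩ : M12K) * ⟨s, hs.2⟩)⁻¹ * g, (memH _).2 ?_, by group⟩
    show (u * s)⁻¹ (g.1 (pt 0)) = pt 0
    rw [Equiv.Perm.inv_eq_iff_eq, Equiv.Perm.mul_apply, hs0, eu.2]
  · have hcomm : ∀ a b : A, a * b = b * a := fun a b =>
      Subtype.ext (Subgroup.mem_center_iff.1 (hA b.2) a.1)
    have : f.range = (f.comp eM.symm.toMonoidHom).range := by
      rw [MonoidHom.range_comp, MonoidHom.range_eq_top.2
        (show Function.Surjective eM.symm.toMonoidHom from eM.symm.surjective), ← MonoidHom.range_eq_map]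
    rw [this]
    exact range_le_two hcomm _

theorem multiplier_M12K : HasCyclicSchurMultiplier M12K 2 := by
  obtain ⟨C, hCg, hCf, θ, hθ, hk⟩ := exists_cover
  haveI := Fact.mk Nat.prime_two
  haveI : IsCyclic θ.ker := isCyclic_of_prime_card hk
  let e : θ.ker ≃* Multiplicative (ZMod 2) := (hk ▸ (zmodCyclicMulEquiv (G := θ.ker) inferInstance)).symm
  refine ⟨⟨C, hCg, hCf, θ, hθ, ⟨e⟩⟩, fun Γ _ _ σ hσ => ?_⟩
  have h := card_ker_le_two σ hσ
  have hpos := Nat.card_pos (α := σ.ker)
  interval_cases hn : Nat.card σ.ker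
  · haveI := (Nat.card_eq_one_iff_unique.1 hn).1
    exact ⟨1, fun x => ⟨1, Subsingleton.elim _ _⟩⟩
  · haveI : IsCyclic σ.ker := isCyclic_of_prime_card hn
    let e' : σ.ker ≃* Multiplicative (ZMod 2) := (hn ▸ (zmodCyclicMulEquiv (G := σ.ker) inferInstance)).symm
    exact ⟨e'.symm.toMonoidHom, e'.symm.surjective⟩

/-- The multiplier of M12 is cyclic of order two. -/
theorem multiplier_M12 : HasCyclicSchurMultiplier Spor.M12 2 := by
  obtain ⟨a, ha, had⟩ := dodecads_transitive (d := Spor.squareDodecad) (d' := d0)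
    (mem_dodecads_iff.2 (by decide +kernel)) baseDodecad_mem
  let e : Spor.M12 ≃* M12K :=
    { toFun := fun g => ⟨a * g * a⁻¹, mem_M12K.2 ⟨Cfsg.M24.mul_mem (Cfsg.M24.mul_mem ha g.2.1)
        (Cfsg.M24.inv_mem ha), by
          rw [mul_smul, mul_smul, inv_smul_eq_iff.2 had.symm,
            show (g : pG) • Spor.squareDodecad = Spor.squareDodecad from g.2.2, had]⟩⟩
      invFun := fun k => ⟨a⁻¹ * k * a, Cfsg.M24.mul_mem (Cfsg.M24.mul_mem (Cfsg.M24.inv_mem ha)
        (mem_M12K.1 k.2).1) ha, by
          show (a⁻¹ * (k : pG) * a) • Spor.squareDodecad = Spor.squareDodecad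
          rw [mul_smul, mul_smul, had, (mem_M12K.1 k.2).2, inv_smul_eq_iff, had]⟩
      left_inv := fun g => by apply Subtype.ext; simp [mul_assoc]
      right_inv := fun g => by apply Subtype.ext; simp [mul_assoc]
      map_mul' := fun g h => by apply Subtype.ext; simp [mul_assoc] }
  have push : ∀ {Γ : Type} [Group Γ] {A B : Type} [Group A] [Group B] (f : A ≃* B) (σ : Γ →* A),
      IsStemExtension σ → IsStemExtension (f.toMonoidHom.comp σ) ∧ (f.toMonoidHom.comp σ).ker = σ.ker := by
    intro Γ _ A B _ _ f σ hσ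
    have hk : (f.toMonoidHom.comp σ).ker = σ.ker := by
      ext x
      exact f.map_eq_one_iff
    exact ⟨⟨f.surjective.comp hσ.1, hk ▸ hσ.2.1, hk ▸ hσ.2.2⟩, hk⟩
  obtain ⟨⟨C, hCg, hCf, θ, hθ, ⟨k⟩⟩, hall⟩ := multiplier_M12K
  obtain ⟨hθ', hk'⟩ := push e.symm θ hθ
  refine ⟨⟨C, hCg, hCf, _, hθ', ⟨(MulEquiv.subgroupCongr hk').trans k⟩⟩, fun Γ _ _ σ hσ => ?_⟩
  obtain ⟨hσ', hkσ⟩ := push e σ hσ
  obtain ⟨π, hπ⟩ := hall Γ _ hσ'
  exact ⟨(MulEquiv.subgroupCongr hkσ).toMonoidHom.comp π, (MulEquiv.subgroupCongr hkσ).surjective.comp hπ⟩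

end Cfsg.Agent.Golay.M12Mult
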