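import Cfsg.Agent.Lib.Golay.FixedOctad
import Cfsg.Agent.Lib.Golay.SylowCheck22
import Cfsg.Agent.Lib.Golay.AutM22
import Cfsg.Agent.Lib.Blocks.SecondMain
import Cfsg.Agent.Lib.Blocks.InducedChars
import Cfsg.Agent.BlockCharsA.NormalSupport

/-!
Involutions of M22 fix exactly an octad; their centralisers have a single 2-block, so characters
outside the principal 2-block vanish on involutions.
-/

set_option autoImplicit false
set_option maxRecDepth 20000

namespace Cfsg.Agent.Golay.M22Involution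

open Cfsg Cfsg.Agent.Golay.Basic Cfsg.Agent.Golay.Design Cfsg.Agent.Golay.Perm Cfsg.Agent.Golay.M24
  Cfsg.Agent.Golay.Cert Cfsg.Agent.Golay.TabList Cfsg.Agent.Golay.SylowTwoData
  Cfsg.Agent.Golay.OctadStab Cfsg.Agent.Golay.AutM22 Cfsg.Agent.Golay.SylowTwo
open scoped Pointwise

local notation "pG" => Equiv.Perm GolayPt

/-- The check that each listed table with trivial square fixes exactly an octad, unless it is the
identity table. -/
def invOK (L : List ℕ) : Bool :=
  L.all fun t => t == idTab || !(mulTab t t == idTab) ||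
    octList.any fun m => (List.range 24).all fun i => m.testBit i == (tabAt t i == i)

theorem s22_inv : invOK s22Elems = true := by decide +kernel

theorem card_M22 : Nat.card Spor.M22 = 443520 :=
  (Nat.card_congr (MulEquiv.subgroupCongr M22_eq).toEquiv).trans card_K22

theorem mem_M22 {g : pG} : g ∈ Spor.M22 ↔ g ∈ Cfsg.M24 ∧ g ea = ea ∧ g eb = eb := by
  rw [M22_eq, mem_K22]

/-- Every involution of M22 fixes exactly the points of an octad. -/
theorem exists_fixed_octad {g : Spor.M22} (h2 : orderOf g = 2) :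
    ∃ o ∈ octads, ∀ q : GolayPt, (g : pG) q = q ↔ q ∈ o := by
  haveI : Fact (Nat.Prime 2) := ⟨Nat.prime_two⟩
  obtain ⟨hTab, hmem, -⟩ := spec s22_list
  have hle : tabGroup s22Pc ≤ Spor.M22 := tabGroup_le_of fun t ht => by
    have hok : tabOK t = true := by
      have h := s22_list
      simp only [listOK, Bool.and_eq_true, List.all_eq_true] at h
      exact h.1.1.1.1 t ht
    have hin := List.all_eq_true.1 s22_inG t ht
    simp only [Bool.and_eq_true, beq_iff_eq] at hin
    refine mem_M22.2 ⟨tabPerm_mem hok, ?_, ?_⟩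
    · rw [show ea = pt 23 by decide +kernel]
      exact ix_injective (by rw [isTab_tabPerm hok, ix_pt (by norm_num), hin.1])
    · rw [show eb = pt 0 by decide +kernel]
      exact ix_injective (by rw [isTab_tabPerm hok, ix_pt (by norm_num), hin.2])
  have hcard : Nat.card ((tabGroup s22Pc).subgroupOf Spor.M22) =
      2 ^ (Nat.card Spor.M22).factorization 2 := by
    rw [Nat.card_congr (Subgroup.subgroupOfEquivOfLe hle).toEquiv, card_tabGroup s22_list, card_M22,
      show (443520 : ℕ).factorization 2 = 7 by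
        rw [Nat.factorization_def _ Nat.prime_two, show (443520 : ℕ) = 2 ^ 7 * 3465 by norm_num,
          padicValNat.mul (by norm_num) (by norm_num), padicValNat.prime_pow,
          padicValNat.eq_zero_of_not_dvd (by norm_num), add_zero],
      show s22Pc.length = 7 by decide +kernel]
  have hpz : IsPGroup 2 (Subgroup.zpowers g) := IsPGroup.of_card (n := 1)
    (by rw [Nat.card_zpowers, h2, pow_one])
  obtain ⟨P, hP⟩ := hpz.exists_le_sylow
  obtain ⟨c, hc⟩ := MulAction.exists_smul_eq Spor.M22 P (Sylow.ofCard _ hcard)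
  have hmem' : ((c * g * c⁻¹ : Spor.M22) : pG) ∈ tabGroup s22Pc := by
    have h1 : c * g * c⁻¹ ∈ ((c • P : Sylow 2 Spor.M22) : Subgroup Spor.M22) :=
      ⟨g, hP (Subgroup.mem_zpowers g), rfl⟩
    rw [hc] at h1
    exact Subgroup.mem_subgroupOf.1 h1
  obtain ⟨t, ht, et⟩ := (hmem _).1 hmem'
  have htI := (hTab t ht).1
  have hord : orderOf (tabPerm t) = 2 := by
    rw [← et, Subgroup.orderOf_coe, ← h2]
    exact MulEquiv.orderOf_eq (MulAut.conj c) g
  have hne : t ≠ idTab := by
    rintro rfl
    rw [tabPerm_idTab, orderOf_one] at hord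
    norm_num at hord
  have hsq : mulTab t t = idTab := by
    refine eq_of_isTab (canon_mulTab t t) canon_idTab (isTab_mul htI htI) ?_
    rw [← pow_two, ← hord, pow_orderOf_eq_one]
    exact isTab_one
  have hchk := List.all_eq_true.1 s22_inv t ht
  rw [hsq, beq_self_eq_true, Bool.not_true, Bool.or_false, Bool.or_eq_true, beq_iff_eq] at hchk
  obtain ⟨m, hm, hmt⟩ := List.any_eq_true.1 (hchk.resolve_left hne)
  simp only [List.all_eq_true, List.mem_range, beq_iff_eq] at hmt
  refine ⟨((c : pG))⁻¹ • maskSet m,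
    smul_mem_octads (Cfsg.M24.inv_mem (mem_M22.1 c.2).1) (maskSet_mem_octads hm), fun q => ?_⟩
  have e1 : (g : pG) q = q ↔ tabPerm t ((c : pG) q) = (c : pG) q := by
    rw [← et]
    simp
  have e2 : q ∈ (c : pG)⁻¹ • maskSet m ↔ m.testBit (ix ((c : pG) q)) = true := by
    rw [Finset.mem_inv_smul_finset_iff, Equiv.Perm.smul_def, mem_maskSet]
  rw [e1, e2, hmt _ (ix_lt _), beq_iff_eq, ← htI, ix_injective.eq_iff]

/-- The part of a class function in the set of all irreducible characters is the function. -/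
theorem blockPart_univ {H : Type*} [Group H] [Finite H] {θ : H → ℂ}
    (hθ : Cfsg.IsClassFunction H θ) (y : H) :
    Cfsg.blockPart (Set.univ : Set (Cfsg.IrrCharacter H)) θ y = θ y := by
  classical
  letI := Fintype.ofFinite H
  haveI := Fintype.ofFinite (Cfsg.IrrCharacter H)
  rw [Cfsg.blockPart, finsum_mem_univ, finsum_eq_sum_of_fintype]
  conv_rhs => rw [Characters.classFun_eq_sum hθ]
  simp only [Finset.sum_apply, Pi.smul_apply, smul_eq_mul]

/-- Characters outside the principal 2-block of M22 vanish on involutions. -/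
theorem eq_zero_of_involution {M : Ideal Cfsg.AlgInt} (hM : Cfsg.IsPModular 2 M)
    {χ : Cfsg.IrrCharacter Spor.M22} (hχ : χ ∉ Cfsg.principalBlock M Spor.M22) {g : Spor.M22}
    (h2 : orderOf g = 2) : (χ : Spor.M22 → ℂ) g = 0 := by
  classical
  haveI := Fintype.ofFinite Spor.M22
  haveI : Fact (Nat.Prime 2) := ⟨Nat.prime_two⟩
  obtain ⟨o, ho, hfix⟩ := exists_fixed_octad h2
  have hgM := mem_M22.1 g.2
  have hgF : (g : pG) ∈ FK o := mem_FK.2 ⟨hgM.1, fun x hx => (hfix x).2 hx⟩
  have hFle : FK o ≤ Spor.M22 := fun k hk => mem_M22.2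
    ⟨(mem_FK.1 hk).1, (mem_FK.1 hk).2 _ ((hfix ea).1 hgM.2.1), (mem_FK.1 hk).2 _ ((hfix eb).1 hgM.2.2)⟩
  set C := Subgroup.centralizer ({g} : Set Spor.M22) with hC
  let Q : Subgroup C := ((FK o).subgroupOf Spor.M22).subgroupOf C
  have hmemQ : ∀ k : C, k ∈ Q ↔ ((k : Spor.M22) : pG) ∈ FK o := fun k => Iff.rfl
  have hstab : ∀ k : C, ((k : Spor.M22) : pG) • o = o := by
    intro k
    refine Finset.eq_of_subset_of_card_le (fun y hy => ?_) (by rw [Finset.card_smul_finset])
    obtain ⟨x, hx, rfl⟩ := Finset.mem_smul_finset.1 hy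
    have e : (g : pG) * ((k : Spor.M22) : pG) = ((k : Spor.M22) : pG) * g :=
      congrArg Subtype.val (Subgroup.mem_centralizer_iff.1 k.2 g rfl)
    rw [← hfix, Equiv.Perm.smul_def, ← Equiv.Perm.mul_apply, e, Equiv.Perm.mul_apply, (hfix x).2 hx]
  haveI : Q.Normal := ⟨fun q hq k => by
    rw [hmemQ] at hq ⊢
    have h := (mem_FK_conj (mem_M22.1 (k : Spor.M22).2).1 ((q : Spor.M22) : pG)).1 hq
    rw [hstab k] at h
    simpa using h⟩
  have hQ : IsPGroup 2 Q := IsPGroup.of_injective
    (IsPGroup.of_card (n := 4) (card_FK ho) : IsPGroup 2 (FK o))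
    ((Spor.M22.subtype.comp (C.subtype.comp Q.subtype)).codRestrict (FK o) fun k => (hmemQ k).1 k.2)
    fun a b h => by
      have h' := congrArg Subtype.val h
      exact Subtype.ext (Subtype.ext (Subtype.ext h'))
  have hCQ : Subgroup.centralizer (Q : Set C) ≤ Q := by
    intro k hk
    rw [hmemQ]
    refine FixedOctad.mem_FK_of_centralizes ho (mem_M22.1 (k : Spor.M22).2).1 (hstab k) fun l hl => ?_
    have hlC : (⟨l, hFle hl⟩ : Spor.M22) ∈ C := Subgroup.mem_centralizer_singleton_iff.2
      (Subtype.ext (FixedOctad.comm ho hl hgF))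
    have := Subgroup.mem_centralizer_iff.1 hk ⟨⟨l, hFle hl⟩, hlC⟩ ((hmemQ _).2 hl)
    exact (congrArg (fun z : C => ((z : Spor.M22) : pG)) this).symm
  have huniv : Cfsg.principalBlock M C = Set.univ := by
    refine Set.eq_univ_of_forall fun ψ => ?_
    exact BlockCharsA.NormalSupport.sameBlock_of_selfCentralizing hM hQ hCQ
      (⟨_, Characters.isIrrCharacter_one⟩ : Cfsg.IrrCharacter C) ψ
  have hb : Cfsg.IsPBlock M (Cfsg.principalBlock M C) :=
    Blocks.isPBlock_blockOf M (⟨_, Characters.isIrrCharacter_one⟩ : Cfsg.IrrCharacter C)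
  have hk : ∃ k : ℕ, orderOf g = 2 ^ k := ⟨1, by rw [h2, pow_one]⟩
  obtain ⟨B', hB'⟩ := Blocks.inducedBlockDefined_of_brauer hM (Blocks.zpowers_isPGroup hk)
    (Subgroup.zpowers_le.2 (Subgroup.mem_centralizer_singleton_iff.2 rfl : g ∈ C))
    (fun u hu => Blocks.mem_centralizer_zpowers.1 hu)
    (fun u hu => Subgroup.centralizer_le_normalizer _ (Blocks.mem_centralizer_zpowers.2 hu)) hb
  have hprin := (Blocks.third_main hM ⟨B', hB'⟩).2 rfl
  set B := Cfsg.blockOf M (χ : Spor.M22 → ℂ)
  have hnot : ¬ Cfsg.IsInducedBlock M C (Cfsg.principalBlock M C) B := fun h => hχ (by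
    rw [← Blocks.isInduced_unique hM h hprin]
    exact Blocks.mem_blockOf_self hM χ)
  have h := Blocks.blockPart_eq_zero_of_not_induced hM hk (Blocks.isPBlock_blockOf M χ)
    (Blocks.mem_blockOf_self hM χ) hb hnot (y := 1) (by rw [orderOf_one]; norm_num)
  rw [huniv, blockPart_univ] at h
  · simpa using h
  · intro a k
    have hkc : g * (k : Spor.M22) = k * g := Subgroup.mem_centralizer_iff.1 k.2 g rfl
    simp only [Subgroup.coe_mul, Subgroup.coe_inv]
    rw [show g * ((k : Spor.M22) * a * (k : Spor.M22)⁻¹) = (k : Spor.M22) * (g * a) * (k : Spor.M22)⁻¹ by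
      rw [← mul_assoc, ← mul_assoc, hkc]; group]
    exact Characters.irr_isClassFunction χ _ _

end Cfsg.Agent.Golay.M22Involution
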