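import Cfsg.Agent.Lib.Golay.M22Involution
import Cfsg.Agent.Lib.Golay.Small
import Cfsg.Agent.Lib.SmallSimple.Basic
import Cfsg.Agent.Lib.Blocks.DefectCenter

/-!
M22 has no character of 2-defect zero, so its only 2-block is the principal one.

The Sylow normalisers for 5, 7, 11 follow from congruences; the sums of a character over those
elements are determined modulo p and the index of the centraliser, and contradict the norm.
-/

set_option autoImplicit false
set_option maxRecDepth 20000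

namespace Cfsg.Agent.Golay.M22TwoBlock

open Cfsg Cfsg.Agent.Golay.Basic Cfsg.Agent.Golay.Design Cfsg.Agent.Golay.Perm Cfsg.Agent.Golay.M24
  Cfsg.Agent.Golay.AutM22 Cfsg.Agent.Golay.M22Involution
open scoped Pointwise ComplexConjugate

local notation "pG" => Equiv.Perm GolayPt

/-! ### Orbit sums -/

/-- A freely acting group divides the sum of an invariant function of integral values. -/
theorem free_sum {H α : Type*} [Group H] [MulAction H α] [Finite H] (s : Finset α) (f : α → ℂ)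
    (hs : ∀ (h : H), ∀ x ∈ s, h • x ∈ s) (hfree : ∀ (h : H), ∀ x ∈ s, h • x = x → h = 1)
    (hinv : ∀ (h : H), ∀ x ∈ s, f (h • x) = f x) (hint : ∀ x ∈ s, IsIntegral ℤ (f x)) :
    ∃ w : ℂ, IsIntegral ℤ w ∧ ∑ x ∈ s, f x = Nat.card H * w ∧
      Nat.card H ∣ s.card := by
  classical
  haveI := Fintype.ofFinite H
  let orb : α → Finset α := fun x => Finset.univ.image fun h : H => h • x
  have horb : ∀ x y, y ∈ orb x → orb y = orb x := by
    intro x y hy
    obtain ⟨h, -, rfl⟩ := Finset.mem_image.1 hy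
    ext z
    simp only [orb, Finset.mem_image, Finset.mem_univ, true_and]
    constructor
    · rintro ⟨k, rfl⟩; exact ⟨k * h, mul_smul _ _ _⟩
    · rintro ⟨k, rfl⟩; exact ⟨k * h⁻¹, by rw [mul_smul, inv_smul_smul]⟩
  have hfib : ∀ x ∈ s, s.filter (fun y => orb y = orb x) = orb x := by
    intro x hx
    ext y
    simp only [Finset.mem_filter]
    constructor
    · rintro ⟨-, hy⟩
      rw [← hy]
      exact Finset.mem_image.2 ⟨1, Finset.mem_univ _, one_smul _ _⟩
    · intro hy
      refine ⟨?_, horb x y hy⟩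
      obtain ⟨h, -, rfl⟩ := Finset.mem_image.1 hy
      exact hs h x hx
  have hcard : ∀ x ∈ s, (orb x).card = Nat.card H := by
    intro x hx
    rw [Finset.card_image_of_injective, Finset.card_univ, Nat.card_eq_fintype_card]
    intro a b hab
    have := hfree (b⁻¹ * a) x hx (by rw [mul_smul]; exact inv_smul_eq_iff.2 hab)
    exact (inv_mul_eq_one.1 this).symm
  have key : ∀ O ∈ s.image orb, ∃ w : ℂ, IsIntegral ℤ w ∧
      ∑ y ∈ s.filter (fun y => orb y = O), f y = Nat.card H * w ∧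
      (s.filter fun y => orb y = O).card = Nat.card H := by
    intro O hO
    obtain ⟨x, hx, rfl⟩ := Finset.mem_image.1 hO
    refine ⟨f x, hint x hx, ?_, by rw [hfib x hx, hcard x hx]⟩
    rw [hfib x hx, Finset.sum_congr rfl (g := fun _ => f x), Finset.sum_const, hcard x hx, nsmul_eq_mul]
    intro y hy
    obtain ⟨h, -, rfl⟩ := Finset.mem_image.1 hy
    exact hinv h x hx
  choose! w hw1 hw2 hw3 using key
  refine ⟨∑ O ∈ s.image orb, w O, IsIntegral.sum _ hw1, ?_, ?_⟩
  · rw [Finset.mul_sum, ← Finset.sum_fiberwise_of_maps_to (fun x hx => Finset.mem_image_of_mem orb hx)]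
    exact Finset.sum_congr rfl hw2
  · rw [Finset.card_eq_sum_card_fiberwise (fun x hx => Finset.mem_image_of_mem orb hx)]
    exact Finset.dvd_sum fun O hO => by rw [hw3 O hO]

/-! ### Centralisers of elements of order 5, 7, 11 -/

theorem fix_card {g : pG} (hg : g ∈ Cfsg.M24) (hg1 : g ≠ 1) {p : ℕ} (hp : p.Prime) (h5 : 5 ≤ p)
    (hgp : g ^ p = 1) :
    g.supportᶜ.card ≤ 4 ∧ g.supportᶜ.card ≡ 24 [MOD p] := by
  haveI := Fact.mk hp
  refine ⟨?_, ?_⟩
  · by_contra h
    exact hg1 (FixedOctad.eq_one_of_five_fixed hg hp h5 hgp (s := g.supportᶜ) (by omega)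
      fun q hq => Equiv.Perm.notMem_support.1 (Finset.mem_compl.1 hq))
  · simpa using Equiv.Perm.card_compl_support_modEq (σ := g) (p := p) (n := 1) (by rwa [pow_one])

theorem fix_subset {x y : pG} {p : ℕ} (hp : p.Prime) (hxp : x ^ p = 1) (hcomm : x * y = y * x)
    (hy : y.supportᶜ.card < p) : y.supportᶜ ⊆ x.supportᶜ := by
  classical
  haveI := Fact.mk hp
  have hmem : ∀ q, q ∈ y.supportᶜ ↔ x q ∈ y.supportᶜ := fun q => by
    simp only [Finset.mem_compl, Equiv.Perm.notMem_support]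
    rw [← Equiv.Perm.mul_apply y x, ← hcomm, Equiv.Perm.mul_apply, x.injective.eq_iff]
  set σ : Equiv.Perm ↥(y.supportᶜ) := x.subtypePerm fun q => (hmem q).symm with hσ
  have hσp : σ ^ p ^ 1 = 1 := by
    rw [pow_one, hσ, Equiv.Perm.subtypePerm_pow]
    ext q
    simp [hxp]
  have hk := Equiv.Perm.card_compl_support_modEq hσp
  rw [Fintype.card_coe] at hk
  have hle : σ.supportᶜ.card ≤ y.supportᶜ.card :=
    (Finset.card_le_univ _).trans (Fintype.card_coe _).le
  have heq : σ.supportᶜ.card = y.supportᶜ.card := by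
    rw [Nat.ModEq, Nat.mod_eq_of_lt (lt_of_le_of_lt hle hy), Nat.mod_eq_of_lt hy] at hk
    exact hk
  intro q hq
  have : σ.supportᶜ = Finset.univ := Finset.eq_univ_of_card _ (by rw [heq, Fintype.card_coe])
  have h' : (⟨q, hq⟩ : ↥(y.supportᶜ)) ∈ σ.supportᶜ := by rw [this]; exact Finset.mem_univ _
  rw [Finset.mem_compl, Equiv.Perm.notMem_support] at h' ⊢
  exact congrArg Subtype.val h'

theorem fix_value {g : Spor.M22} {p : ℕ} (hp : p = 5 ∨ p = 7 ∨ p = 11) (hg : orderOf g = p) :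
    (g : pG).supportᶜ.card = 24 % p ∧ (g : pG) ≠ 1 ∧ (g : pG) ^ p = 1 := by
  have hp' : p.Prime := by rcases hp with rfl | rfl | rfl <;> norm_num
  have h1 : (g : pG) ≠ 1 := by
    intro e
    rw [← Subgroup.orderOf_coe, e, orderOf_one] at hg
    exact hp'.ne_one hg.symm
  have h2 : (g : pG) ^ p = 1 := by
    rw [← Subgroup.coe_pow, ← hg, pow_orderOf_eq_one, Subgroup.coe_one]
  obtain ⟨hle, hmod⟩ := fix_card (mem_M22.1 g.2).1 h1 hp' (by omega) h2
  refine ⟨?_, h1, h2⟩
  unfold Nat.ModEq at hmod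
  rcases hp with rfl | rfl | rfl <;> omega

theorem centralizer_dvd {p : ℕ} (hp : p = 5 ∨ p = 7 ∨ p = 11) {x : Spor.M22} (hx : orderOf x = p) :
    Nat.card (Subgroup.centralizer ({x} : Set Spor.M22)) ∣ 9 * p := by
  classical
  set C := Subgroup.centralizer ({x} : Set Spor.M22)
  have hp' : p.Prime := by rcases hp with rfl | rfl | rfl <;> norm_num
  obtain ⟨hfx, hx1, hxp⟩ := fix_value hp hx
  have hxM := mem_M22.1 x.2
  have hcomm : ∀ y : C, ((y : Spor.M22) : pG) * (x : pG) = (x : pG) * ((y : Spor.M22) : pG) :=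
    fun y => congrArg Subtype.val (Subgroup.mem_centralizer_singleton_iff.1 y.2)
  have h2 : ¬ 2 ∣ Nat.card C := by
    intro h
    haveI : Fact (Nat.Prime 2) := ⟨Nat.prime_two⟩
    obtain ⟨t, ht⟩ := exists_prime_orderOf_dvd_card' (G := C) 2 h
    have ht' : orderOf (t : Spor.M22) = 2 := by rw [Subgroup.orderOf_coe, ht]
    obtain ⟨o, ho, hfix⟩ := exists_fixed_octad ht'
    have htM := mem_M22.1 (t : Spor.M22).2
    obtain ⟨k, f, hk2, hkf, hf4, hk8, hf24, hne⟩ := FixedOctad.fixed_counts ho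
      (by rw [← pow_two, ← Subgroup.coe_pow, ← ht', pow_orderOf_eq_one, Subgroup.coe_one]) hfix hxM.1
      hx1 hp' (by omega) hxp (hcomm t).symm (a := ea) (b := eb) (by simp) hxM.2.1 hxM.2.2
      ((hfix ea).1 htM.2.1) ((hfix eb).1 htM.2.2)
    unfold Nat.ModEq at hk8 hf24
    rcases hp with rfl | rfl | rfl <;> omega
  have hq : ∀ q, (q = 5 ∨ q = 7 ∨ q = 11) → q ≠ p → ¬ q ∣ Nat.card C := by
    intro q hq hne h
    have hq' : q.Prime := by rcases hq with rfl | rfl | rfl <;> norm_num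
    haveI := Fact.mk hq'
    obtain ⟨y, hy⟩ := exists_prime_orderOf_dvd_card' (G := C) q h
    obtain ⟨hfy, -, hyq⟩ := fix_value hq (g := (y : Spor.M22)) (by rw [Subgroup.orderOf_coe, hy])
    have h1 := fix_subset hp' hxp (hcomm y).symm (by rw [hfy]; rcases hp with rfl | rfl | rfl <;>
      rcases hq with rfl | rfl | rfl <;> omega)
    have h3 := fix_subset hq' hyq (hcomm y) (by rw [hfx]; rcases hp with rfl | rfl | rfl <;>
      rcases hq with rfl | rfl | rfl <;> omega)
    have h4 := congrArg Finset.card (Finset.Subset.antisymm h1 h3)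
    rw [hfx, hfy] at h4
    rcases hp with rfl | rfl | rfl <;> rcases hq with rfl | rfl | rfl <;> omega
  have hG : Nat.card C ∣ 443520 := card_M22 ▸ Subgroup.card_subgroup_dvd_card C
  have hcop : ∀ q : ℕ, q.Prime → ¬ q ∣ Nat.card C → (Nat.card C).Coprime q := fun q hq h =>
    ((hq.coprime_iff_not_dvd).2 h).symm
  have h7 : (Nat.card C).Coprime (2 ^ 7) := (hcop 2 Nat.prime_two h2).pow_right 7
  rcases hp with rfl | rfl | rfl
  · exact ((h7.mul_right (hcop 7 (by norm_num) (hq 7 (by simp) (by norm_num)))).mul_right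
      (hcop 11 (by norm_num) (hq 11 (by simp) (by norm_num)))).dvd_of_dvd_mul_left hG
  · exact ((h7.mul_right (hcop 5 (by norm_num) (hq 5 (by simp) (by norm_num)))).mul_right
      (hcop 11 (by norm_num) (hq 11 (by simp) (by norm_num)))).dvd_of_dvd_mul_left hG
  · exact ((h7.mul_right (hcop 5 (by norm_num) (hq 5 (by simp) (by norm_num)))).mul_right
      (hcop 7 (by norm_num) (hq 7 (by simp) (by norm_num)))).dvd_of_dvd_mul_left hG

/-! ### Sylow subgroups -/

theorem isSimple : IsSimpleGroup Spor.M22 := by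
  obtain ⟨a, ha, hap⟩ := exists_map_tuple (n := 2) (by norm_num)
    ⟨![ea, eb], fun i j h => by fin_cases i <;> fin_cases j <;> simp_all⟩
    ⟨![pt 0, pt 1], fun i j h => by fin_cases i <;> fin_cases j <;> first | rfl | exact absurd h (by decide)⟩
  have h0 : a ea = pt 0 := hap 0
  have h1 : a eb = pt 1 := hap 1
  have he : Spor.M22.map (MulAut.conj a).toMonoidHom = Small.M22K := by
    ext g
    rw [Subgroup.mem_map_equiv, MulAut.conj_symm_apply, mem_M22, Small.M22K, mem_fixers]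
    simp only [List.mem_cons, List.not_mem_nil, or_false, forall_eq_or_imp, forall_eq,
      Equiv.Perm.mul_apply, h0, h1, Equiv.Perm.inv_eq_iff_eq]
    refine and_congr ⟨fun h => ?_, fun h => ?_⟩ Iff.rfl
    · have := Cfsg.M24.mul_mem (Cfsg.M24.mul_mem ha h) (Cfsg.M24.inv_mem ha)
      simpa [mul_assoc] using this
    · exact Cfsg.M24.mul_mem (Cfsg.M24.mul_mem (Cfsg.M24.inv_mem ha) h) ha
  exact ((Spor.M22.equivMapOfInjective _ (MulAut.conj a).injective).trans
    (MulEquiv.subgroupCongr he)).isSimpleGroup_congr.2 Small.isSimple_M22K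

/-- The number of Sylow subgroups and the order of the group they induce. -/
def ec (p : ℕ) : ℕ × ℕ := if p = 5 then (4, 22176) else if p = 7 then (3, 21120) else (5, 8064)

theorem ec_arith {p d e c : ℕ} (hp : p = 5 ∨ p = 7 ∨ p = 11) (hd : d ∣ 9) (he : e ∣ p - 1)
    (hne : e ≠ 1) (hmul : e * (p * d) * c = 443520) (hmod : c % p = 1 % p) :
    c = (ec p).2 ∧ e = (ec p).1 := by
  have hd9 := Nat.le_of_dvd (by norm_num) hd
  have he9 := Nat.le_of_dvd (by omega) he
  rcases hp with rfl | rfl | rfl <;> interval_cases e <;> first | omega |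
    (interval_cases d <;> first | omega | (simp only [ec]; norm_num; omega) |
      (simp only [ec]; norm_num) )

theorem sylow_data {p : ℕ} [hpf : Fact p.Prime] (hp : p = 5 ∨ p = 7 ∨ p = 11) (P : Sylow p Spor.M22) :
    Nat.card (P : Subgroup Spor.M22) = p ∧ Nat.card (Sylow p Spor.M22) = (ec p).2 ∧
      Nat.card (Subgroup.normalizerMonoidHom (P : Subgroup Spor.M22)).range = (ec p).1 := by
  classical
  have hp5 : 5 ≤ p := by omega
  have hpn : ¬ p ∣ 443520 / p ∧ p ∣ 443520 := by rcases hp with rfl | rfl | rfl <;> norm_num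
  have hcard : Nat.card (P : Subgroup Spor.M22) = p := by
    have h := SmallSimple.Basic.card_sylow_eq_pow (a := 1) (m := 443520 / p)
      (by rw [card_M22, pow_one, Nat.mul_div_cancel' hpn.2]) hpn.1 P
    rwa [pow_one] at h
  set N := Subgroup.normalizer ((P : Subgroup Spor.M22) : Set Spor.M22)
  set ρ := Subgroup.normalizerMonoidHom (P : Subgroup Spor.M22)
  haveI : IsCyclic (P : Subgroup Spor.M22) := isCyclic_of_prime_card hcard
  obtain ⟨x, hxP⟩ := IsCyclic.exists_generator (α := (P : Subgroup Spor.M22))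
  have hx : orderOf (x : Spor.M22) = p := by
    rw [Subgroup.orderOf_coe, orderOf_eq_card_of_forall_mem_zpowers hxP, hcard]
  have hPle : (P : Subgroup Spor.M22) ≤ Subgroup.centralizer ((P : Subgroup Spor.M22) : Set Spor.M22) := by
    intro a ha
    refine Subgroup.mem_centralizer_iff.2 fun b hb => ?_
    haveI : IsMulCommutative (P : Subgroup Spor.M22) := IsCyclic.isMulCommutative
    exact congrArg Subtype.val (mul_comm' (⟨b, hb⟩ : (P : Subgroup Spor.M22)) ⟨a, ha⟩)
  have hCle : Subgroup.centralizer ((P : Subgroup Spor.M22) : Set Spor.M22) ≤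
      Subgroup.centralizer ({(x : Spor.M22)} : Set Spor.M22) :=
    Subgroup.centralizer_le (by simp)
  set dC := Nat.card (Subgroup.centralizer ((P : Subgroup Spor.M22) : Set Spor.M22)) with hdC
  have hd1 : dC ∣ 9 * p := (Subgroup.card_dvd_of_le hCle).trans (centralizer_dvd hp hx)
  have hd2 : p ∣ dC := hcard ▸ Subgroup.card_dvd_of_le hPle
  have hker : Nat.card ρ.ker = dC := by
    rw [Subgroup.normalizerMonoidHom_ker]
    exact Nat.card_congr (Subgroup.subgroupOfEquivOfLe
      (Subgroup.centralizer_le_normalizer _)).toEquiv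
  have hN : Nat.card N = Nat.card ρ.range * dC := by
    rw [Subgroup.card_eq_card_quotient_mul_card_subgroup ρ.ker, hker,
      Nat.card_congr (QuotientGroup.quotientKerEquivRange ρ).toEquiv]
  have hne : Nat.card ρ.range ≠ 1 := by
    intro h
    haveI := isSimple
    haveI : Fact (p ∣ Nat.card Spor.M22) := ⟨card_M22 ▸ hpn.2⟩
    refine SmallSimple.Basic.not_normalizer_le_centralizer
      (SmallSimple.Basic.not_comm_of_not_prime (by rw [card_M22]; norm_num)) (card_M22 ▸ hpn.2) P ?_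
    intro a ha
    have : ρ ⟨a, ha⟩ = 1 := by
      have := Subgroup.eq_bot_of_card_eq _ h
      have hm : ρ ⟨a, ha⟩ ∈ ρ.range := ⟨_, rfl⟩
      rwa [this, Subgroup.mem_bot] at hm
    have hk : (⟨a, ha⟩ : N) ∈ ρ.ker := this
    rw [Subgroup.normalizerMonoidHom_ker] at hk
    exact hk
  have hfree : Nat.card ρ.range ∣ p - 1 := by
    haveI := Fintype.ofFinite (P : Subgroup Spor.M22)
    obtain ⟨-, -, -, h⟩ := free_sum (H := ρ.range)
      ((Finset.univ : Finset (P : Subgroup Spor.M22)).erase 1) (fun _ => (0 : ℂ))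
      (fun σ a ha => by
        simp only [Finset.mem_erase, Finset.mem_univ, and_true] at ha ⊢
        exact fun e => ha ((σ : MulAut (P : Subgroup Spor.M22)).injective (e.trans (map_one _).symm)))
      (fun σ a ha e => by
        simp only [Finset.mem_erase, Finset.mem_univ, and_true] at ha
        have ha' : (σ : MulAut (P : Subgroup Spor.M22)) a = a := e
        refine Subtype.ext (MulEquiv.ext fun b => ?_)
        obtain ⟨i, rfl⟩ := Subgroup.mem_zpowers_iff.1
          (mem_zpowers_of_prime_card hcard (g' := b) ha)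
        simp [map_zpow, ha'])
      (fun _ _ _ => rfl) (fun _ _ => isIntegral_zero)
    rwa [Finset.card_erase_of_mem (Finset.mem_univ _), Finset.card_univ, ← Nat.card_eq_fintype_card,
      hcard] at h
  have hmul := SmallSimple.Basic.card_normalizer_mul P
  rw [card_M22, hN] at hmul
  have hmod : Nat.card (Sylow p Spor.M22) ≡ 1 [MOD p] := card_sylow_modEq_one p Spor.M22
  refine ⟨hcard, ?_⟩
  unfold Nat.ModEq at hmod
  obtain ⟨d, hd⟩ := hd2
  rw [hd] at hd1 hmul
  have hd9 : d ∣ 9 := by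
    rw [mul_comm 9 p] at hd1
    exact Nat.dvd_of_mul_dvd_mul_left hpf.out.pos hd1
  exact ec_arith hp hd9 hfree hne hmul hmod

/-! ### The sums over elements of order p -/

theorem exists_sum {p : ℕ} [hpf : Fact p.Prime] (hp : p = 5 ∨ p = 7 ∨ p = 11)
    (χ : Cfsg.IrrCharacter Spor.M22) [Fintype Spor.M22] :
    ∃ v : ℤ, (p : ℤ) ∣ v + Cfsg.charDegree (χ : Spor.M22 → ℂ) ∧ ((ec p).1 : ℤ) ∣ v ∧
      (∑ g ∈ Finset.univ.filter (fun g : Spor.M22 => orderOf g = p), (χ : Spor.M22 → ℂ) g) =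
        ((ec p).2 : ℂ) * v ∧
      (Finset.univ.filter fun g : Spor.M22 => orderOf g = p).card = (ec p).2 * (p - 1) := by
  classical
  let P0 : Sylow p Spor.M22 := default
  let S : Sylow p Spor.M22 → Finset Spor.M22 := fun P =>
    Finset.univ.filter fun g => g ∈ (P : Subgroup Spor.M22) ∧ g ≠ 1
  have hU : (Finset.univ.filter fun g : Spor.M22 => orderOf g = p) = Finset.univ.biUnion S := by
    ext g
    simp only [Finset.mem_filter, Finset.mem_univ, true_and, Finset.mem_biUnion, S]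
    constructor
    · intro hg
      have hz : IsPGroup p (Subgroup.zpowers g) := IsPGroup.of_card (n := 1)
        (by rw [Nat.card_zpowers, hg, pow_one])
      obtain ⟨P, hP⟩ := hz.exists_le_sylow
      exact ⟨P, hP (Subgroup.mem_zpowers g), fun e => hpf.out.ne_one (by rw [← hg, e, orderOf_one])⟩
    · rintro ⟨P, hgP, hg1⟩
      have h := orderOf_dvd_natCard (G := (P : Subgroup Spor.M22)) ⟨g, hgP⟩
      rw [(sylow_data hp P).1, Subgroup.orderOf_mk] at h
      exact (hpf.out.eq_one_or_self_of_dvd _ h).resolve_left fun e => hg1 (orderOf_eq_one_iff.1 e)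
  have hdis : (↑(Finset.univ : Finset (Sylow p Spor.M22)) : Set (Sylow p Spor.M22)).PairwiseDisjoint S := by
    intro P _ Q _ hne
    refine Finset.disjoint_left.2 fun g hgP hgQ => hne ?_
    simp only [S, Finset.mem_filter, Finset.mem_univ, true_and] at hgP hgQ
    apply Sylow.ext
    refine le_antisymm (fun a ha => ?_) (fun a ha => ?_)
    · obtain ⟨i, hi⟩ := Subgroup.mem_zpowers_iff.1 (mem_zpowers_of_prime_card (sylow_data hp P).1
        (g := ⟨g, hgP.1⟩) (g' := ⟨a, ha⟩) fun e => hgP.2 (congrArg Subtype.val e))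
      rw [← show g ^ i = a from congrArg Subtype.val hi]
      exact Subgroup.zpow_mem _ hgQ.1 i
    · obtain ⟨i, hi⟩ := Subgroup.mem_zpowers_iff.1 (mem_zpowers_of_prime_card (sylow_data hp Q).1
        (g := ⟨g, hgQ.1⟩) (g' := ⟨a, ha⟩) fun e => hgQ.2 (congrArg Subtype.val e))
      rw [← show g ^ i = a from congrArg Subtype.val hi]
      exact Subgroup.zpow_mem _ hgP.1 i
  have hconst : ∀ P, ∑ g ∈ S P, (χ : Spor.M22 → ℂ) g = ∑ g ∈ S P0, (χ : Spor.M22 → ℂ) g ∧
      (S P).card = (S P0).card := by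
    intro P
    obtain ⟨c, rfl⟩ := MulAction.exists_smul_eq Spor.M22 P0 P
    have himg : S (c • P0) = (S P0).map (MulAut.conj c).toEquiv.toEmbedding := by
      ext g
      simp only [S, Finset.mem_filter, Finset.mem_univ, true_and, Finset.mem_map_equiv,
        MulEquiv.toEquiv_symm, MulEquiv.coe_toEquiv, MulAut.conj_symm_apply,
        Sylow.smul_def, Sylow.pointwise_smul_def, Subgroup.mem_pointwise_smul_iff_inv_smul_mem]
      refine and_congr Iff.rfl (not_congr ⟨fun e => by simp [e], fun e => ?_⟩)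
      simpa [mul_assoc] using congrArg (fun z => c * z * c⁻¹) e
    refine ⟨?_, by rw [himg, Finset.card_map]⟩
    rw [himg, Finset.sum_map]
    exact Finset.sum_congr rfl fun g _ => Characters.irr_isClassFunction χ _ _
  have hS0 : (S P0).card = p - 1 := by
    have e : S P0 = ((Finset.univ : Finset (P0 : Subgroup Spor.M22)).erase 1).map
        ⟨Subtype.val, Subtype.val_injective⟩ := by
      ext g
      simp [S, and_comm]
    rw [e, Finset.card_map, Finset.card_erase_of_mem (Finset.mem_univ _), Finset.card_univ,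
      ← Nat.card_eq_fintype_card, (sylow_data hp P0).1]
  obtain ⟨hP0c, hc, he⟩ := sylow_data hp P0
  obtain ⟨m, hm⟩ := Characters.classInner_char_nat
    (Characters.isCharacter_restrict (P0 : Subgroup Spor.M22) (Characters.irr_isCharacter χ))
    (Characters.isCharacter_one (G := (P0 : Subgroup Spor.M22)))
  have hsum0 : (∑ g ∈ S P0, (χ : Spor.M22 → ℂ) g) + Cfsg.charDegree (χ : Spor.M22 → ℂ) = (p * m : ℕ) := by
    have e : S P0 = ((Finset.univ : Finset (P0 : Subgroup Spor.M22)).erase 1).map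
        ⟨Subtype.val, Subtype.val_injective⟩ := by
      ext g
      simp [S, and_comm]
    rw [e, Finset.sum_map, Blocks.charDegree_cast]
    rw [Characters.classInner_def] at hm
    simp only [map_one, mul_one] at hm
    simp only [Function.Embedding.coeFn_mk]
    rw [← OneMemClass.coe_one (P0 : Subgroup Spor.M22),
      Finset.sum_erase_add _ (fun x : (P0 : Subgroup Spor.M22) => (χ : Spor.M22 → ℂ) (x : Spor.M22))
        (Finset.mem_univ (1 : (P0 : Subgroup Spor.M22)))]
    rw [inv_mul_eq_iff_eq_mul₀ (Nat.cast_ne_zero.2 Nat.card_pos.ne')] at hm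
    rw [Nat.cast_mul, hm, hP0c]
  obtain ⟨w, hw, hweq, -⟩ := free_sum (H := (Subgroup.normalizerMonoidHom (P0 : Subgroup Spor.M22)).range)
    ((Finset.univ : Finset (P0 : Subgroup Spor.M22)).erase 1)
    (fun a => (χ : Spor.M22 → ℂ) (a : Spor.M22))
    (fun σ a ha => by
      simp only [Finset.mem_erase, Finset.mem_univ, and_true] at ha ⊢
      exact fun e => ha ((σ : MulAut (P0 : Subgroup Spor.M22)).injective (e.trans (map_one _).symm)))
    (fun σ a ha e => by
      simp only [Finset.mem_erase, Finset.mem_univ, and_true] at ha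
      have ha' : (σ : MulAut (P0 : Subgroup Spor.M22)) a = a := e
      refine Subtype.ext (MulEquiv.ext fun b => ?_)
      obtain ⟨i, rfl⟩ := Subgroup.mem_zpowers_iff.1 (mem_zpowers_of_prime_card hP0c (g' := b) ha)
      simp [map_zpow, ha'])
    (fun σ a _ => by
      obtain ⟨⟨k, hk⟩, e⟩ := σ.2
      have h1 : ((σ • a : (P0 : Subgroup Spor.M22)) : Spor.M22) = k * a * k⁻¹ := by
        show (((σ : MulAut (P0 : Subgroup Spor.M22)) a) : Spor.M22) = _
        rw [← e]
        rfl
      rw [h1]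
      exact Characters.irr_isClassFunction χ _ _)
    (fun a _ => Characters.char_value_isIntegral (Characters.irr_isCharacter χ) _)
  have hS0sum : ∑ g ∈ S P0, (χ : Spor.M22 → ℂ) g = ((ec p).1 : ℂ) * w := by
    rw [he] at hweq
    rw [← hweq]
    have e : S P0 = ((Finset.univ : Finset (P0 : Subgroup Spor.M22)).erase 1).map
        ⟨Subtype.val, Subtype.val_injective⟩ := by
      ext g
      simp [S, and_comm]
    rw [e, Finset.sum_map]
    rfl
  set v : ℤ := (p * m : ℕ) - (Cfsg.charDegree (χ : Spor.M22 → ℂ) : ℤ) with hv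
  have hv0 : (v : ℂ) = ∑ g ∈ S P0, (χ : Spor.M22 → ℂ) g := by
    rw [hv, eq_sub_of_add_eq hsum0]; push_cast; ring
  refine ⟨v, ⟨m, by rw [hv]; push_cast; ring⟩, ?_, ?_, ?_⟩
  · have hne : ((ec p).1 : ℂ) ≠ 0 := by rcases hp with rfl | rfl | rfl <;> simp [ec]
    have hwq : w = ((v : ℚ) / ((ec p).1 : ℚ) : ℚ) := by
      push_cast
      rw [eq_div_iff hne, mul_comm, ← hS0sum, ← hv0]
    rw [hwq] at hw
    have hw' : IsIntegral ℤ ((v : ℚ) / ((ec p).1 : ℚ)) :=
      (isIntegral_algebraMap_iff (algebraMap ℚ ℂ).injective).1 hw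
    obtain ⟨z, hz⟩ := IsIntegrallyClosed.isIntegral_iff.1 hw'
    refine ⟨z, ?_⟩
    have hne' : ((ec p).1 : ℚ) ≠ 0 := by exact_mod_cast (Nat.cast_ne_zero (R := ℂ)).1 hne
    rw [eq_div_iff hne'] at hz
    simp only [algebraMap_int_eq, eq_intCast] at hz
    have : ((v : ℤ) : ℚ) = (((ec p).1 * z : ℤ) : ℚ) := by push_cast; linarith
    exact_mod_cast this
  · rw [hU, Finset.sum_biUnion hdis, Finset.sum_congr rfl fun P _ => (hconst P).1, Finset.sum_const,
      Finset.card_univ, ← Nat.card_eq_fintype_card, hc, nsmul_eq_mul, hv0]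
  · rw [hU, Finset.card_biUnion hdis, Finset.sum_congr rfl fun P _ => (hconst P).2, Finset.sum_const,
      Finset.card_univ, ← Nat.card_eq_fintype_card, hc, smul_eq_mul, hS0]

/-! ### No character of defect zero -/

theorem final_arith {d : ℕ} (hd : d = 128 ∨ d = 384 ∨ d = 640) {a b c : ℤ} (a1 : 5 ∣ a + d)
    (a2 : 4 ∣ a) (b1 : 7 ∣ b + d) (b2 : 3 ∣ b) (c1 : 11 ∣ c + d) (c2 : 5 ∣ c)
    (h : (d : ℝ) ^ 2 + (22176 * (a : ℝ)) ^ 2 / 88704 + (21120 * (b : ℝ)) ^ 2 / 126720 +
      (8064 * (c : ℝ)) ^ 2 / 80640 +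
      ((d : ℝ) + 22176 * a + 21120 * b + 8064 * c) ^ 2 / 443520 ≤ 443520) : False := by
  have hd' : (128 : ℝ) ≤ d := by rcases hd with rfl | rfl | rfl <;> norm_num
  have hz : 0 ≤ ((d : ℝ) + 22176 * a + 21120 * b + 8064 * c) ^ 2 / 443520 := by positivity
  have hb0 : 0 ≤ (21120 * (b : ℝ)) ^ 2 / 126720 := by positivity
  have hc0 : 0 ≤ (8064 * (c : ℝ)) ^ 2 / 80640 := by positivity
  have ha0 : 0 ≤ (22176 * (a : ℝ)) ^ 2 / 88704 := by positivity
  have ha : -9 < a ∧ a < 9 := by
    have h' : (a : ℝ) ^ 2 < 9 ^ 2 := by nlinarith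
    obtain ⟨h1, h2⟩ := abs_lt_of_sq_lt_sq' h' (by norm_num)
    exact ⟨by exact_mod_cast h1, by exact_mod_cast h2⟩
  have hb : -12 < b ∧ b < 12 := by
    have h' : (b : ℝ) ^ 2 < 12 ^ 2 := by nlinarith
    obtain ⟨h1, h2⟩ := abs_lt_of_sq_lt_sq' h' (by norm_num)
    exact ⟨by exact_mod_cast h1, by exact_mod_cast h2⟩
  have hc : -24 < c ∧ c < 24 := by
    have h' : (c : ℝ) ^ 2 < 24 ^ 2 := by nlinarith
    obtain ⟨h1, h2⟩ := abs_lt_of_sq_lt_sq' h' (by norm_num)
    exact ⟨by exact_mod_cast h1, by exact_mod_cast h2⟩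
  obtain ⟨a', rfl⟩ := a2
  obtain ⟨b', rfl⟩ := b2
  obtain ⟨c', rfl⟩ := c2
  obtain ⟨ha1, ha2⟩ := ha
  obtain ⟨hb1, hb2⟩ := hb
  obtain ⟨hc1, hc2⟩ := hc
  have ra : -2 ≤ a' ∧ a' ≤ 2 := by omega
  have rb : -3 ≤ b' ∧ b' ≤ 3 := by omega
  have rc : -4 ≤ c' ∧ c' ≤ 4 := by omega
  obtain ⟨ra1, ra2⟩ := ra
  obtain ⟨rb1, rb2⟩ := rb
  obtain ⟨rc1, rc2⟩ := rc
  rcases hd with rfl | rfl | rfl <;> interval_cases a' <;> first | omega |
    (interval_cases b' <;> first | omega | (interval_cases c' <;> first | omega | norm_num at h))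

theorem no_defect_zero {M : Ideal Cfsg.AlgInt} (hM : Cfsg.IsPModular 2 M)
    (χ : Cfsg.IrrCharacter Spor.M22) : χ ∈ Cfsg.principalBlock M Spor.M22 := by
  classical
  by_contra hχ
  letI := Fintype.ofFinite Spor.M22
  haveI : Fact (Nat.Prime 2) := ⟨Nat.prime_two⟩
  have h0 := Blocks.blockDefect_zero_of_vanish hM χ fun g hg => eq_zero_of_involution hM hχ hg
  set d := Cfsg.charDegree (χ : Spor.M22 → ℂ) with hd
  have hfac : 7 ≤ d.factorization 2 := by
    unfold Cfsg.blockDefect at h0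
    have h1 : sInf ((fun ψ : Cfsg.IrrCharacter Spor.M22 => (Cfsg.charDegree (ψ : Spor.M22 → ℂ)).factorization 2) ''
        Cfsg.blockOf M (χ : Spor.M22 → ℂ)) ≤ d.factorization 2 :=
      Nat.sInf_le ⟨χ, Blocks.mem_blockOf_self hM χ, rfl⟩
    rw [card_M22, show (443520 : ℕ).factorization 2 = 7 by
      rw [Nat.factorization_def _ Nat.prime_two, show (443520 : ℕ) = 2 ^ 7 * 3465 by norm_num,
        padicValNat.mul (by norm_num) (by norm_num), padicValNat.prime_pow,
        padicValNat.eq_zero_of_not_dvd (by norm_num), add_zero]] at h0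
    omega
  have h128 : 2 ^ 7 ∣ d :=
    (Nat.Prime.pow_dvd_iff_le_factorization Nat.prime_two (Blocks.charDegree_pos χ).ne').2 hfac
  have hdvd : d ∣ 443520 := card_M22 ▸ Blocks.char_degree_dvd_card χ
  have hnorm : ∑ g : Spor.M22, Complex.normSq ((χ : Spor.M22 → ℂ) g) = 443520 := by
    have h := Characters.classInner_isIrr_self χ.2
    rw [Characters.classInner_def, inv_mul_eq_iff_eq_mul₀ Characters.natCard_ne_zero, mul_one,
      card_M22] at h
    simp only [Complex.mul_conj] at h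
    exact_mod_cast h
  have h1v : (χ : Spor.M22 → ℂ) 1 = (d : ℂ) := (Blocks.charDegree_cast χ).symm
  have hsum : ∑ g : Spor.M22, (χ : Spor.M22 → ℂ) g = 0 := by
    have hne : (χ : Spor.M22 → ℂ) ≠ fun _ => 1 := by
      intro e
      exact hχ (by
        show χ ∈ Cfsg.blockOf M (fun _ : Spor.M22 => (1 : ℂ))
        rw [← e]; exact Blocks.mem_blockOf_self hM χ)
    have h := Characters.classInner_isIrr_ne χ.2 Characters.isIrrCharacter_one hne
    rw [Characters.classInner_def, inv_mul_eq_iff_eq_mul₀ Characters.natCard_ne_zero, mul_zero] at h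
    simpa using h
  haveI : Fact (Nat.Prime 5) := ⟨by norm_num⟩
  haveI : Fact (Nat.Prime 7) := ⟨by norm_num⟩
  haveI : Fact (Nat.Prime 11) := ⟨by norm_num⟩
  obtain ⟨a, a1, a2, a3, a4⟩ := exists_sum (p := 5) (by simp) χ
  obtain ⟨b, b1, b2, b3, b4⟩ := exists_sum (p := 7) (by simp) χ
  obtain ⟨c, c1, c2, c3, c4⟩ := exists_sum (p := 11) (by simp) χ
  simp only [ec, if_true, show ¬ (7 : ℕ) = 5 by norm_num, show ¬ (11 : ℕ) = 5 by norm_num,
    show ¬ (11 : ℕ) = 7 by norm_num, if_false] at a2 a3 a4 b2 b3 b4 c2 c3 c4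
  set re : Spor.M22 → ℝ := fun g => ((χ : Spor.M22 → ℂ) g).re
  have hsq : ∀ g, re g ^ 2 ≤ Complex.normSq ((χ : Spor.M22 → ℂ) g) := fun g => by
    rw [Complex.normSq_apply, pow_two]
    exact le_add_of_nonneg_right (mul_self_nonneg _)
  set A := Finset.univ.filter fun g : Spor.M22 => orderOf g = 5
  set B := Finset.univ.filter fun g : Spor.M22 => orderOf g = 7
  set C := Finset.univ.filter fun g : Spor.M22 => orderOf g = 11
  set R := Finset.univ.filter fun g : Spor.M22 => ¬ (orderOf g = 1 ∨ orderOf g = 5 ∨ orderOf g = 7 ∨ orderOf g = 11)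
  have split : ∀ f : Spor.M22 → ℝ, ∑ g, f g = f 1 + ∑ g ∈ A, f g + ∑ g ∈ B, f g + ∑ g ∈ C, f g + ∑ g ∈ R, f g := by
    intro f
    have h1 : f 1 = ∑ g, if orderOf g = 1 then f g else 0 := by
      simp [orderOf_eq_one_iff]
    simp only [A, B, C, R, Finset.sum_filter, h1, ← Finset.sum_add_distrib]
    refine Finset.sum_congr rfl fun g _ => ?_
    rcases Decidable.em (orderOf g = 1) with h | h
    · simp [h]
    rcases Decidable.em (orderOf g = 5) with h' | h'
    · simp [h']
    rcases Decidable.em (orderOf g = 7) with h'' | h''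
    · simp [h'']
    rcases Decidable.em (orderOf g = 11) with h3 | h3 <;> simp [h, h', h'', h3]
  have hr := split re
  have hn := split fun g => Complex.normSq ((χ : Spor.M22 → ℂ) g)
  rw [hnorm] at hn
  have hre0 : ∑ g, re g = 0 := by
    rw [← Complex.re_sum, hsum]; rfl
  have hA : ∑ g ∈ A, re g = 22176 * (a : ℝ) := by rw [← Complex.re_sum, a3]; simp
  have hB : ∑ g ∈ B, re g = 21120 * (b : ℝ) := by rw [← Complex.re_sum, b3]; simp
  have hC : ∑ g ∈ C, re g = 8064 * (c : ℝ) := by rw [← Complex.re_sum, c3]; simp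
  have hcs : ∀ (T : Finset Spor.M22) (n : ℕ), T.card ≤ n → 0 < n →
      (∑ g ∈ T, re g) ^ 2 / (n : ℝ) ≤ ∑ g ∈ T, Complex.normSq ((χ : Spor.M22 → ℂ) g) := by
    intro T n hT hn0
    rw [div_le_iff₀ (by exact_mod_cast hn0)]
    have h1 := sq_sum_le_card_mul_sum_sq (s := T) (f := re)
    have h2 : ∑ g ∈ T, re g ^ 2 ≤ ∑ g ∈ T, Complex.normSq ((χ : Spor.M22 → ℂ) g) :=
      Finset.sum_le_sum fun g _ => hsq g
    have h3 : (0 : ℝ) ≤ ∑ g ∈ T, re g ^ 2 := Finset.sum_nonneg fun g _ => sq_nonneg _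
    have h4 : (T.card : ℝ) ≤ n := by exact_mod_cast hT
    nlinarith
  have hcA := hcs A 88704 a4.le (by norm_num)
  have hcB := hcs B 126720 b4.le (by norm_num)
  have hcC := hcs C 80640 c4.le (by norm_num)
  have hcR := hcs R 443520 (card_M22 ▸ Nat.card_eq_fintype_card (α := Spor.M22) ▸ Finset.card_le_univ R)
    (by norm_num)
  have hR : ∑ g ∈ R, re g = -((d : ℝ) + 22176 * a + 21120 * b + 8064 * c) := by
    have : re 1 = (d : ℝ) := by simp [re, h1v]
    rw [hre0, this, hA, hB, hC] at hr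
    linarith
  rw [hA] at hcA; rw [hB] at hcB; rw [hC] at hcC; rw [hR, neg_sq] at hcR
  have h1n : Complex.normSq ((χ : Spor.M22 → ℂ) 1) = (d : ℝ) ^ 2 := by
    rw [h1v, Complex.normSq_natCast, pow_two]
  have hfin : (d : ℝ) ^ 2 + (22176 * (a : ℝ)) ^ 2 / 88704 + (21120 * (b : ℝ)) ^ 2 / 126720 +
      (8064 * (c : ℝ)) ^ 2 / 80640 +
      ((d : ℝ) + 22176 * a + 21120 * b + 8064 * c) ^ 2 / 443520 ≤ 443520 := by
    norm_num at hcA hcB hcC hcR
    linarith
  have hd2 : d ^ 2 ≤ 443520 := by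
    have h1 : (0 : ℝ) ≤ (22176 * (a : ℝ)) ^ 2 / 88704 := by positivity
    have h2 : (0 : ℝ) ≤ (21120 * (b : ℝ)) ^ 2 / 126720 := by positivity
    have h3 : (0 : ℝ) ≤ (8064 * (c : ℝ)) ^ 2 / 80640 := by positivity
    have h4 : (0 : ℝ) ≤ ((d : ℝ) + 22176 * a + 21120 * b + 8064 * c) ^ 2 / 443520 := by positivity
    exact_mod_cast (show ((d ^ 2 : ℕ) : ℝ) ≤ 443520 by push_cast; linarith)
  obtain ⟨j, hj⟩ := h128
  have hj5 : j ≤ 5 := by nlinarith
  have hpos : 0 < d := Blocks.charDegree_pos χ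
  have hd3 : d = 128 ∨ d = 384 ∨ d = 640 := by
    interval_cases j <;> norm_num at hj <;> rw [hj] at hdvd hpos ⊢ <;> omega
  exact final_arith hd3 a1 a2 b1 b2 c1 c2 hfin

theorem single_block {M : Ideal Cfsg.AlgInt} (hM : Cfsg.IsPModular 2 M)
    (χ ψ : Cfsg.IrrCharacter Spor.M22) :
    Cfsg.SameBlock M (χ : Spor.M22 → ℂ) (ψ : Spor.M22 → ℂ) := fun g => by
  have h1 := no_defect_zero hM χ g
  have h2 := no_defect_zero hM ψ g
  exact Blocks.cong_trans hM (Blocks.cong_symm hM h1) h2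

end Cfsg.Agent.Golay.M22TwoBlock
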