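import Cfsg.Agent.Lib.Golay.M22Involution
import Cfsg.Agent.Lib.Golay.M24TwoData
import Cfsg.Agent.Lib.Golay.SylowCheck24

/-!
The two kinds of involutions of M24 have 2-constrained centralisers, so characters outside the
principal 2-block vanish on involutions.
-/

set_option autoImplicit false
set_option maxRecDepth 20000
set_option linter.style.haveILetI false

namespace Cfsg.Agent.Golay.M24Involution

open Cfsg Cfsg.Agent.Golay.Basic Cfsg.Agent.Golay.Design Cfsg.Agent.Golay.Perm Cfsg.Agent.Golay.M24
  Cfsg.Agent.Golay.Cert Cfsg.Agent.Golay.TabList Cfsg.Agent.Golay.SylowTwoData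
  Cfsg.Agent.Golay.OctadStab Cfsg.Agent.Golay.SylowTwo Cfsg.Agent.Golay.Sextet
  Cfsg.Agent.Golay.M24TwoData
open scoped Pointwise

local notation "pG" => Equiv.Perm GolayPt

/-! ### Checks -/

/-- Listed involutions fix exactly an octad or are listed as conjugates of `freeTab`. -/
def invOK (L : List ℕ) : Bool :=
  L.all fun t => t == idTab || !(mulTab t t == idTab) ||
    (freeConj.any fun p => p.1 == t) ||
    octList.any fun m => (List.range 24).all fun i => m.testBit i == (tabAt t i == i)

/-- The conjugating elements are right. -/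
def conjOK : Bool :=
  freeConj.all fun p => tabOK p.2 && mulTab p.1 p.2 == mulTab p.2 freeTab

/-- The masks of the sextet of a tetrad. -/
def sextMasks (m : ℕ) : List ℕ := m :: ((octList.filter fun o => o &&& m == m).map fun o => o ^^^ m)

/-- The mask of the tetrad through the point 0 and `b`. -/
def tetMask (b : ℕ) : ℕ :=
  1 ||| 2 ^ tabAt freeTab 0 ||| 2 ^ b ||| 2 ^ tabAt freeTab b

/-- Only the listed sextet is fixed tetrad by tetrad. -/
def uniqueOK : Bool :=
  (List.range 24).all fun b => b == 0 || b == tabAt freeTab 0 ||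
    (sextMasks (tetMask b)).any (fun x => !(imgTab freeTab x == x)) ||
    (sextMasks (tetMask b)).all fun x => freeSext.contains x

/-- The listed sextet is fixed tetrad by tetrad. -/
def existsOK : Bool :=
  (List.range 24).any fun b => (pc (tetMask b) == 4 && decide (tetMask b < 2 ^ 24)) &&
    (sextMasks (tetMask b)).all fun x => imgTab freeTab x == x

/-- The listed kernel elements. -/
def kerOK : Bool :=
  freeKer.all fun e => tabOK e && mulTab e freeTab == mulTab freeTab e &&
    freeSext.all fun x => imgTab e x == x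

/-- The listed kernel elements separate the tetrads. -/
def sepOK : Bool :=
  (List.range 24).all fun i => (List.range 24).all fun j =>
    !(freeKer.all fun e => (tabAt e i == i) == (tabAt e j == j)) ||
      freeSext.any fun x => x.testBit i && x.testBit j

/-- The listed tetrads are disjoint. -/
def disjOK : Bool :=
  freeSext.all fun x => freeSext.all fun y => x == y || x &&& y == 0

theorem s24_inv : invOK s24Elems = true := by decide +kernel
theorem conj_ok : conjOK = true := by decide +kernel
theorem unique_ok : uniqueOK = true := by decide +kernel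
theorem exists_ok : existsOK = true := by decide +kernel
theorem ker_ok : kerOK = true := by decide +kernel
theorem sep_ok : sepOK = true := by decide +kernel
theorem disj_ok : disjOK = true := by decide +kernel
theorem octList_lt : (octList.all fun m => decide (m < 2 ^ 24)) = true := by decide +kernel
theorem free_ok : tabOK freeTab = true := by decide +kernel
theorem free_fpf : ((List.range 24).all fun i => !(tabAt freeTab i == i) &&
    tabAt freeTab (tabAt freeTab i) == i) = true := by decide +kernel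

theorem factorization_two : (244823040 : ℕ).factorization 2 = 10 := by
  rw [Nat.factorization_def _ Nat.prime_two, show (244823040 : ℕ) = 2 ^ 10 * 239085 by norm_num,
    padicValNat.mul (by norm_num) (by norm_num), padicValNat.prime_pow,
    padicValNat.eq_zero_of_not_dvd (by norm_num), add_zero]

/-- The involution without fixed points. -/
noncomputable def freeInv : ↥Cfsg.M24 := ⟨tabPerm freeTab, tabPerm_mem free_ok⟩

theorem freeInv_ne (q : GolayPt) : (freeInv : pG) q ≠ q := by
  intro h
  have h' := isTab_tabPerm free_ok q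
  rw [show tabPerm freeTab q = q from h] at h'
  have := List.all_eq_true.1 free_fpf (ix q) (List.mem_range.2 (ix_lt q))
  simp only [Bool.and_eq_true, Bool.not_eq_eq_eq_not, Bool.not_true, beq_eq_false_iff_ne, ne_eq] at this
  exact this.1 h'.symm

theorem freeInv_invol (q : GolayPt) : (freeInv : pG) ((freeInv : pG) q) = q := by
  apply ix_injective
  show ix (tabPerm freeTab (tabPerm freeTab q)) = ix q
  rw [isTab_tabPerm free_ok, isTab_tabPerm free_ok]
  have := List.all_eq_true.1 free_fpf (ix q) (List.mem_range.2 (ix_lt q))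
  simp only [Bool.and_eq_true, beq_iff_eq] at this
  exact this.2

/-- An involution of M24 fixes exactly an octad or is conjugate to `freeInv`. -/
theorem involution_cases {g : ↥Cfsg.M24} (h2 : orderOf g = 2) :
    (∃ o ∈ octads, ∀ q : GolayPt, (g : pG) q = q ↔ q ∈ o) ∨
      ∃ c : ↥Cfsg.M24, g = c * freeInv * c⁻¹ := by
  haveI : Fact (Nat.Prime 2) := ⟨Nat.prime_two⟩
  obtain ⟨hTab, hmem, -⟩ := spec s24_list
  have hle : tabGroup s24Pc ≤ Cfsg.M24 := tabGroup_le_of fun t ht => by
    have h := s24_list
    simp only [listOK, Bool.and_eq_true, List.all_eq_true] at h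
    exact tabPerm_mem (h.1.1.1.1 t ht)
  have hcard : Nat.card ((tabGroup s24Pc).subgroupOf Cfsg.M24) =
      2 ^ (Nat.card ↥Cfsg.M24).factorization 2 := by
    rw [Nat.card_congr (Subgroup.subgroupOfEquivOfLe hle).toEquiv, card_tabGroup s24_list, card_M24,
      factorization_two, show s24Pc.length = 10 by decide +kernel]
  have hpz : IsPGroup 2 (Subgroup.zpowers g) := IsPGroup.of_card (n := 1)
    (by rw [Nat.card_zpowers, h2, pow_one])
  obtain ⟨P, hP⟩ := hpz.exists_le_sylow
  obtain ⟨c, hc⟩ := MulAction.exists_smul_eq ↥Cfsg.M24 P (Sylow.ofCard _ hcard)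
  have hmem' : ((c * g * c⁻¹ : ↥Cfsg.M24) : pG) ∈ tabGroup s24Pc := by
    have h1 : c * g * c⁻¹ ∈ ((c • P : Sylow 2 ↥Cfsg.M24) : Subgroup ↥Cfsg.M24) :=
      ⟨g, hP (Subgroup.mem_zpowers g), rfl⟩
    rw [hc] at h1
    exact Subgroup.mem_subgroupOf.1 h1
  obtain ⟨t, ht, et⟩ := (hmem _).1 hmem'
  have htI := (hTab t ht).1
  have hord : orderOf (tabPerm t) = 2 := by
    rw [← et, Subgroup.orderOf_coe, ← h2]
    exact MulEquiv.orderOf_eq (MulAut.conj c) g
  have hne : t ≠ idTab := by
    rintro rfl
    rw [tabPerm_idTab, orderOf_one] at hord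
    norm_num at hord
  have hsq : mulTab t t = idTab := by
    refine eq_of_isTab (canon_mulTab t t) canon_idTab (isTab_mul htI htI) ?_
    rw [← pow_two, ← hord, pow_orderOf_eq_one]
    exact isTab_one
  have hchk := List.all_eq_true.1 s24_inv t ht
  rw [hsq, beq_self_eq_true, Bool.not_true, Bool.or_false, Bool.or_eq_true, Bool.or_eq_true,
    beq_iff_eq] at hchk
  rcases hchk with (h | hf) | ho
  · exact absurd h hne
  · refine Or.inr ?_
    obtain ⟨⟨t', k⟩, hp, hpt⟩ := List.any_eq_true.1 hf
    simp only [beq_iff_eq] at hpt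
    have := List.all_eq_true.1 conj_ok _ hp
    simp only [Bool.and_eq_true, beq_iff_eq] at this
    obtain ⟨hk, hmul⟩ := this
    have e : tabPerm t * tabPerm k = tabPerm k * tabPerm freeTab := by
      have h1 := isTab_mul htI (isTab_tabPerm hk)
      rw [← hpt, hmul] at h1
      rw [← hpt]
      exact h1.unique (isTab_mul (isTab_tabPerm hk) (isTab_tabPerm free_ok))
    refine ⟨c⁻¹ * ⟨tabPerm k, tabPerm_mem hk⟩, ?_⟩
    apply Subtype.ext
    have e2 : (c : pG) * g * (c : pG)⁻¹ = tabPerm t := by rw [← et]; simp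
    simp only [Subgroup.coe_mul, Subgroup.coe_inv, freeInv, mul_inv_rev, inv_inv]
    calc (g : pG) = (c : pG)⁻¹ * ((c : pG) * g * (c : pG)⁻¹) * c := by group
      _ = (c : pG)⁻¹ * (tabPerm t * tabPerm k) * (tabPerm k)⁻¹ * c := by rw [e2]; group
      _ = _ := by rw [e]; group
  · refine Or.inl ?_
    obtain ⟨m, hm, hmt⟩ := List.any_eq_true.1 ho
    simp only [List.all_eq_true, List.mem_range, beq_iff_eq] at hmt
    refine ⟨((c : pG))⁻¹ • maskSet m,
      smul_mem_octads (Cfsg.M24.inv_mem c.2) (maskSet_mem_octads hm), fun q => ?_⟩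
    have e1 : (g : pG) q = q ↔ tabPerm t ((c : pG) q) = (c : pG) q := by
      rw [← et]
      simp
    have e2 : q ∈ (c : pG)⁻¹ • maskSet m ↔ m.testBit (ix ((c : pG) q)) = true := by
      rw [Finset.mem_inv_smul_finset_iff, Equiv.Perm.smul_def, mem_maskSet]
    rw [e1, e2, hmt _ (ix_lt _), beq_iff_eq, ← htI, ix_injective.eq_iff]

/-- An involution with a 2-constrained centraliser kills the characters outside the principal block. -/
theorem zero_of_constrained {M : Ideal Cfsg.AlgInt} (hM : Cfsg.IsPModular 2 M)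
    {χ : Cfsg.IrrCharacter ↥Cfsg.M24} (hχ : χ ∉ Cfsg.principalBlock M ↥Cfsg.M24) {g : ↥Cfsg.M24}
    (h2 : orderOf g = 2) {Q : Subgroup (Subgroup.centralizer ({g} : Set ↥Cfsg.M24))} [Q.Normal]
    (hQ : IsPGroup 2 Q)
    (hCQ : Subgroup.centralizer (Q : Set (Subgroup.centralizer ({g} : Set ↥Cfsg.M24))) ≤ Q) :
    (χ : ↥Cfsg.M24 → ℂ) g = 0 := by
  classical
  haveI := Fintype.ofFinite ↥Cfsg.M24
  haveI : Fact (Nat.Prime 2) := ⟨Nat.prime_two⟩
  set C := Subgroup.centralizer ({g} : Set ↥Cfsg.M24) with hC
  have huniv : Cfsg.principalBlock M C = Set.univ := by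
    refine Set.eq_univ_of_forall fun ψ => ?_
    exact BlockCharsA.NormalSupport.sameBlock_of_selfCentralizing hM hQ hCQ
      (⟨_, Characters.isIrrCharacter_one⟩ : Cfsg.IrrCharacter C) ψ
  have hb : Cfsg.IsPBlock M (Cfsg.principalBlock M C) :=
    Blocks.isPBlock_blockOf M (⟨_, Characters.isIrrCharacter_one⟩ : Cfsg.IrrCharacter C)
  have hk : ∃ k : ℕ, orderOf g = 2 ^ k := ⟨1, by rw [h2, pow_one]⟩
  obtain ⟨B', hB'⟩ := Blocks.inducedBlockDefined_of_brauer hM (Blocks.zpowers_isPGroup hk)
    (Subgroup.zpowers_le.2 (Subgroup.mem_centralizer_singleton_iff.2 rfl : g ∈ C))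
    (fun u hu => Blocks.mem_centralizer_zpowers.1 hu)
    (fun u hu => Subgroup.centralizer_le_normalizer _ (Blocks.mem_centralizer_zpowers.2 hu)) hb
  have hprin := (Blocks.third_main hM ⟨B', hB'⟩).2 rfl
  set B := Cfsg.blockOf M (χ : ↥Cfsg.M24 → ℂ)
  have hnot : ¬ Cfsg.IsInducedBlock M C (Cfsg.principalBlock M C) B := fun h => hχ (by
    rw [← Blocks.isInduced_unique hM h hprin]
    exact Blocks.mem_blockOf_self hM χ)
  have h := Blocks.blockPart_eq_zero_of_not_induced hM hk (Blocks.isPBlock_blockOf M χ)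
    (Blocks.mem_blockOf_self hM χ) hb hnot (y := 1) (by rw [orderOf_one]; norm_num)
  rw [huniv, M22Involution.blockPart_univ] at h
  · simpa using h
  · intro a k
    have hkc : g * (k : ↥Cfsg.M24) = k * g := Subgroup.mem_centralizer_iff.1 k.2 g rfl
    simp only [Subgroup.coe_mul, Subgroup.coe_inv]
    rw [show g * ((k : ↥Cfsg.M24) * a * (k : ↥Cfsg.M24)⁻¹) =
        (k : ↥Cfsg.M24) * (g * a) * (k : ↥Cfsg.M24)⁻¹ by
      rw [← mul_assoc, ← mul_assoc, hkc]; group]
    exact Characters.irr_isClassFunction χ _ _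

theorem zero_of_octad {M : Ideal Cfsg.AlgInt} (hM : Cfsg.IsPModular 2 M)
    {χ : Cfsg.IrrCharacter ↥Cfsg.M24} (hχ : χ ∉ Cfsg.principalBlock M ↥Cfsg.M24) {g : ↥Cfsg.M24}
    (h2 : orderOf g = 2) {o : Finset GolayPt} (ho : o ∈ octads)
    (hfix : ∀ q : GolayPt, (g : pG) q = q ↔ q ∈ o) : (χ : ↥Cfsg.M24 → ℂ) g = 0 := by
  classical
  have hgF : (g : pG) ∈ FK o := mem_FK.2 ⟨g.2, fun x hx => (hfix x).2 hx⟩
  set C := Subgroup.centralizer ({g} : Set ↥Cfsg.M24) with hC
  let Q : Subgroup C := ((FK o).subgroupOf Cfsg.M24).subgroupOf C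
  have hmemQ : ∀ k : C, k ∈ Q ↔ ((k : ↥Cfsg.M24) : pG) ∈ FK o := fun k => Iff.rfl
  have hstab : ∀ k : C, ((k : ↥Cfsg.M24) : pG) • o = o := by
    intro k
    refine Finset.eq_of_subset_of_card_le (fun y hy => ?_) (by rw [Finset.card_smul_finset])
    obtain ⟨x, hx, rfl⟩ := Finset.mem_smul_finset.1 hy
    have e : (g : pG) * ((k : ↥Cfsg.M24) : pG) = ((k : ↥Cfsg.M24) : pG) * g :=
      congrArg Subtype.val (Subgroup.mem_centralizer_iff.1 k.2 g rfl)
    rw [← hfix, Equiv.Perm.smul_def, ← Equiv.Perm.mul_apply, e, Equiv.Perm.mul_apply, (hfix x).2 hx]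
  haveI : Q.Normal := ⟨fun q hq k => by
    rw [hmemQ] at hq ⊢
    have h := (mem_FK_conj (k : ↥Cfsg.M24).2 ((q : ↥Cfsg.M24) : pG)).1 hq
    rw [hstab k] at h
    simpa using h⟩
  have hQ : IsPGroup 2 Q := IsPGroup.of_injective
    (IsPGroup.of_card (n := 4) (card_FK ho) : IsPGroup 2 (FK o))
    ((Cfsg.M24.subtype.comp (C.subtype.comp Q.subtype)).codRestrict (FK o) fun k => (hmemQ k).1 k.2)
    fun a b h => by
      have h' := congrArg Subtype.val h
      exact Subtype.ext (Subtype.ext (Subtype.ext h'))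
  have hCQ : Subgroup.centralizer (Q : Set C) ≤ Q := by
    intro k hk
    rw [hmemQ]
    refine FixedOctad.mem_FK_of_centralizes ho (k : ↥Cfsg.M24).2 (hstab k) fun l hl => ?_
    have hl' : l ∈ Cfsg.M24 := (mem_FK.1 hl).1
    have hlC : (⟨l, hl'⟩ : ↥Cfsg.M24) ∈ C := Subgroup.mem_centralizer_singleton_iff.2
      (Subtype.ext (FixedOctad.comm ho hl hgF))
    have := Subgroup.mem_centralizer_iff.1 hk ⟨⟨l, hl'⟩, hlC⟩ ((hmemQ _).2 hl)
    exact (congrArg (fun z : C => ((z : ↥Cfsg.M24) : pG)) this).symm
  exact zero_of_constrained hM hχ h2 hQ hCQ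

/-! ### The centraliser of the involution without fixed points -/

/-- The sextets fixed tetrad by tetrad by `freeInv`. -/
def Good (X : Finset (Finset GolayPt)) : Prop :=
  X ∈ sextets ∧ ∀ T ∈ X, (freeInv : pG) • T = T

theorem exists_mem_tetrad {X : Finset (Finset GolayPt)} (hX : X ∈ sextets) (a : GolayPt) :
    ∃ T ∈ X, a ∈ T := by
  classical
  obtain ⟨h6, h4, hU⟩ := hX
  have hd : (X : Set (Finset GolayPt)).PairwiseDisjoint id := by
    intro t ht u hu hne
    show Disjoint t u
    rw [← Finset.card_union_eq_card_add_card, octad_card (hU t ht u hu hne), h4 t ht, h4 u hu]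
  have : X.biUnion id = Finset.univ := Finset.eq_univ_of_card _ (by
    rw [Finset.card_biUnion hd]; simp only [id_eq]
    rw [Finset.sum_const_nat (m := 4) (fun t ht => h4 t ht), h6, card_pts])
  have ha := Finset.mem_univ a
  rw [← this, Finset.mem_biUnion] at ha
  obtain ⟨T, hT, haT⟩ := ha
  exact ⟨T, hT, haT⟩

theorem mask_mem_sextMasks {t u : Finset GolayPt} (hu : u ∈ sextetOf t) :
    mask u ∈ sextMasks (mask t) := by
  rcases mem_sextetOf.1 hu with rfl | ⟨o, ho, hto, rfl⟩
  · exact List.mem_cons_self ..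
  · refine List.mem_cons_of_mem _ (List.mem_map.2 ⟨mask o, List.mem_filter.2 ⟨mask_mem_octList ho, ?_⟩, ?_⟩)
    · rw [beq_iff_eq, Nat.land_comm]
      exact subset_iff_mask.1 hto
    · rw [← mask_symmDiff, symmDiff_def, Finset.sup_eq_union, Finset.sdiff_eq_empty_iff_subset.2 hto,
        Finset.union_empty]

theorem mask_four (a b c d : GolayPt) :
    mask ({a, b, c, d} : Finset GolayPt) = 2 ^ ix a ||| 2 ^ ix b ||| 2 ^ ix c ||| 2 ^ ix d := by
  apply Nat.eq_of_testBit_eq
  intro j
  rcases Nat.lt_or_ge j 24 with hj | hj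
  · obtain ⟨x, rfl⟩ : ∃ x, ix x = j := ⟨pt j, ix_pt hj⟩
    rw [testBit_mask, Bool.eq_iff_iff]
    simp only [decide_eq_true_eq, Finset.mem_insert, Finset.mem_singleton, Nat.testBit_or,
      Nat.testBit_two_pow, Bool.or_eq_true, ix_injective.eq_iff, or_assoc]
    exact or_congr eq_comm (or_congr eq_comm (or_congr eq_comm eq_comm))
  · rw [testBit_mask_ge _ hj]
    have : ∀ x : GolayPt, ix x ≠ j := fun x => (lt_of_lt_of_le (ix_lt x) hj).ne
    simp [Nat.testBit_two_pow, this]

/-- A good sextet has only listed tetrads. -/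
theorem good_subset {X : Finset (Finset GolayPt)} (hX : Good X) {T : Finset GolayPt} (hT : T ∈ X) :
    mask T ∈ freeSext := by
  classical
  obtain ⟨T0, hT0, h0⟩ := exists_mem_tetrad hX.1 (pt 0)
  have h4 := hX.1.2.1 T0 hT0
  set t := (freeInv : pG)
  have htT : ∀ x, x ∈ T0 → t x ∈ T0 := fun x hx => by
    rw [← hX.2 T0 hT0]
    exact Finset.smul_mem_smul_finset hx
  obtain ⟨b, hb, hb0, hb1⟩ : ∃ b ∈ T0, b ≠ pt 0 ∧ b ≠ t (pt 0) := by
    by_contra hcon
    simp only [not_exists, not_and, not_not] at hcon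
    have : T0 ⊆ {pt 0, t (pt 0)} := fun x hx => by
      simp only [Finset.mem_insert, Finset.mem_singleton]
      by_cases h : x = pt 0
      · exact Or.inl h
      · exact Or.inr (hcon x hx h)
    have := (Finset.card_le_card this).trans Finset.card_le_two
    omega
  have hbt : t b ≠ pt 0 := fun e => hb1 (by rw [← e]; exact (freeInv_invol b).symm)
  have hbt' : t b ≠ t (pt 0) := fun e => hb0 (t.injective e)
  have hTeq : T0 = {pt 0, t (pt 0), b, t b} := by
    refine (Finset.eq_of_subset_of_card_le ?_ ?_).symm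
    · intro x hx
      simp only [Finset.mem_insert, Finset.mem_singleton] at hx
      rcases hx with rfl | rfl | rfl | rfl
      · exact h0
      · exact htT _ h0
      · exact hb
      · exact htT _ hb
    · rw [h4, Finset.card_insert_of_notMem, Finset.card_insert_of_notMem, Finset.card_pair]
      · exact fun e => freeInv_ne b e.symm
      · simp only [Finset.mem_insert, Finset.mem_singleton, not_or]
        exact ⟨fun e => hb1 e.symm, fun e => hbt' e.symm⟩
      · simp only [Finset.mem_insert, Finset.mem_singleton, not_or]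
        exact ⟨fun e => freeInv_ne _ e.symm, fun e => hb0 e.symm, fun e => hbt e.symm⟩
  have ht0 : ix (t (pt 0)) = tabAt freeTab 0 := by
    rw [← ix_pt (show (0 : ℕ) < 24 by norm_num)]
    conv_rhs => rw [ix_pt (show (0 : ℕ) < 24 by norm_num)]
    exact (isTab_tabPerm free_ok (pt 0)).trans (by rw [ix_pt (show (0 : ℕ) < 24 by norm_num)])
  have hmask : mask T0 = tetMask (ix b) := by
    rw [hTeq, mask_four, ix_pt (show (0 : ℕ) < 24 by norm_num), ht0, pow_zero,
      show ix (t b) = tabAt freeTab (ix b) from isTab_tabPerm free_ok b, tetMask]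
  have hchk := List.all_eq_true.1 unique_ok (ix b) (List.mem_range.2 (ix_lt b))
  simp only [Bool.or_eq_true, beq_iff_eq, List.any_eq_true, List.all_eq_true, List.contains_iff_mem,
    Bool.not_eq_eq_eq_not, Bool.not_true, beq_eq_false_iff_ne] at hchk
  rcases hchk with ((h | h) | ⟨x, hx, hxne⟩) | h
  · exact absurd (ix_injective (h.trans (ix_pt (show (0 : ℕ) < 24 by norm_num)).symm)) hb0
  · exact absurd (ix_injective (h.trans ht0.symm)) hb1
  · exfalso
    rw [← hmask] at hx
    rcases List.mem_cons.1 hx with rfl | hx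
    · exact hxne (by rw [imgTab_mask (isTab_tabPerm free_ok)]; exact congrArg mask (hX.2 _ hT0))
    · obtain ⟨o, ho, rfl⟩ := List.mem_map.1 hx
      obtain ⟨hoL, hom⟩ := List.mem_filter.1 ho
      rw [beq_iff_eq] at hom
      have hom' := hoL
      have hoO := maskSet_mem_octads hoL
      have homask : mask (maskSet o) = o := mask_maskSet (of_decide_eq_true (List.all_eq_true.1 octList_lt _ hom'))
      have hsub : T0 ⊆ maskSet o := subset_iff_mask.2 (by rw [homask, Nat.land_comm, hom])
      have hmem : maskSet o \ T0 ∈ X := by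
        rw [eq_sextetOf hX.1 hT0]
        exact mem_sextetOf.2 (Or.inr ⟨_, hoO, hsub, rfl⟩)
      have : mask (maskSet o \ T0) = o ^^^ mask T0 := by
        rw [← homask, ← mask_symmDiff, symmDiff_def, Finset.sup_eq_union,
          Finset.sdiff_eq_empty_iff_subset.2 hsub, Finset.union_empty, homask]
      rw [← this, imgTab_mask (isTab_tabPerm free_ok)] at hxne
      exact hxne (congrArg mask (hX.2 _ hmem))
  · refine h _ ?_
    rw [← hmask]
    exact mask_mem_sextMasks (eq_sextetOf hX.1 hT0 ▸ hT)

theorem exists_good : ∃ X, Good X := by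
  obtain ⟨b, -, hb⟩ := List.any_eq_true.1 exists_ok
  simp only [Bool.and_eq_true, beq_iff_eq, List.all_eq_true, decide_eq_true_eq] at hb
  set T := maskSet (tetMask b)
  have hlt : tetMask b < 2 ^ 24 := hb.1.2
  have h4 : T.card = 4 := by rw [card_maskSet, hb.1.1]
  refine ⟨sextetOf T, sextetOf_mem h4, fun U hU => mask_injective ?_⟩
  have := hb.2 _ (by
    have h := mask_mem_sextMasks hU
    rwa [mask_maskSet hlt] at h)
  rw [imgTab_mask (isTab_tabPerm free_ok)] at this
  exact this

/-- Characters outside the principal 2-block vanish on the involution without fixed points. -/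
theorem zero_of_free {M : Ideal Cfsg.AlgInt} (hM : Cfsg.IsPModular 2 M)
    {χ : Cfsg.IrrCharacter ↥Cfsg.M24} (hχ : χ ∉ Cfsg.principalBlock M ↥Cfsg.M24)
    (h2 : orderOf freeInv = 2) : (χ : ↥Cfsg.M24 → ℂ) freeInv = 0 := by
  classical
  set C := Subgroup.centralizer ({freeInv} : Set ↥Cfsg.M24) with hC
  set t := (freeInv : pG)
  have hct : ∀ (k : C) (x : GolayPt), ((k : ↥Cfsg.M24) : pG) (t x) = t (((k : ↥Cfsg.M24) : pG) x) := by
    intro k x
    have e : t * ((k : ↥Cfsg.M24) : pG) = ((k : ↥Cfsg.M24) : pG) * t :=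
      congrArg Subtype.val (Subgroup.mem_centralizer_iff.1 k.2 freeInv rfl)
    rw [← Equiv.Perm.mul_apply, ← e, Equiv.Perm.mul_apply]
  let Q : Subgroup C :=
    { carrier := {k | ∀ X, Good X → ∀ T ∈ X, ((k : ↥Cfsg.M24) : pG) • T = T}
      one_mem' := fun X _ T _ => by simp
      mul_mem' := fun {a b} ha hb X hX T hT => by
        simp only [Subgroup.coe_mul, mul_smul]
        rw [hb X hX T hT, ha X hX T hT]
      inv_mem' := fun {a} ha X hX T hT => by
        simp only [Subgroup.coe_inv, inv_smul_eq_iff]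
        exact (ha X hX T hT).symm }
  haveI : Q.Normal := ⟨fun k hk c X hX T hT => by
    have hc : t * ((c : ↥Cfsg.M24) : pG)⁻¹ = ((c : ↥Cfsg.M24) : pG)⁻¹ * t := by
      have e : t * ((c : ↥Cfsg.M24) : pG) = ((c : ↥Cfsg.M24) : pG) * t :=
        congrArg Subtype.val (Subgroup.mem_centralizer_iff.1 c.2 freeInv rfl)
      rw [eq_inv_mul_iff_mul_eq, ← mul_assoc, ← e, mul_assoc, mul_inv_cancel, mul_one]
    set u := ((c : ↥Cfsg.M24) : pG)⁻¹
    have hX' : Good (X.image fun S => u • S) := by
      refine ⟨⟨?_, ?_, ?_⟩, ?_⟩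
      · rw [Finset.card_image_of_injective _ (MulAction.injective u)]
        exact hX.1.1
      · intro s hs
        obtain ⟨S, hS, rfl⟩ := Finset.mem_image.1 hs
        rw [Finset.card_smul_finset]
        exact hX.1.2.1 S hS
      · intro s hs s' hs' hne
        obtain ⟨S, hS, rfl⟩ := Finset.mem_image.1 hs
        obtain ⟨S', hS', rfl⟩ := Finset.mem_image.1 hs'
        rw [← Finset.smul_finset_union]
        exact smul_mem_octads (Cfsg.M24.inv_mem (c : ↥Cfsg.M24).2)
          (hX.1.2.2 S hS S' hS' fun e => hne (by rw [e]))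
      · intro s hs
        obtain ⟨S, hS, rfl⟩ := Finset.mem_image.1 hs
        rw [← mul_smul, hc, mul_smul, hX.2 S hS]
    have h := hk _ hX' (u • T) (Finset.mem_image_of_mem _ hT)
    simp only [Subgroup.coe_mul, Subgroup.coe_inv, mul_smul]
    rw [h, smul_inv_smul]⟩
  have hQ : IsPGroup 2 Q := by
    intro k
    refine ⟨2, ?_⟩
    apply Subtype.ext; apply Subtype.ext; apply Subtype.ext
    simp only [SubgroupClass.coe_pow, OneMemClass.coe_one]
    set σ := (((k : C) : ↥Cfsg.M24) : pG)
    refine Equiv.ext fun a => ?_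
    obtain ⟨X, hX⟩ := exists_good
    obtain ⟨T, hT, haT⟩ := exists_mem_tetrad hX.1 a
    have hσT : ∀ x, x ∈ T → σ x ∈ T := fun x hx => by
      rw [← k.2 X hX T hT]
      exact Finset.smul_mem_smul_finset hx
    have htT : ∀ x, x ∈ T → t x ∈ T := fun x hx => by
      rw [← hX.2 T hT]
      exact Finset.smul_mem_smul_finset hx
    have hst : ∀ x, σ (t x) = t (σ x) := hct (k : C)
    have key : σ (σ a) = a ∨ σ (σ a) = t a := by
      by_cases h1 : σ a = a
      · exact Or.inl (by rw [h1, h1])
      by_cases h2' : σ a = t a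
      · exact Or.inl (by rw [h2', hst, h2', freeInv_invol])
      have hT4 : T = {a, t a, σ a, t (σ a)} := by
        refine (Finset.eq_of_subset_of_card_le ?_ ?_).symm
        · intro x hx
          simp only [Finset.mem_insert, Finset.mem_singleton] at hx
          rcases hx with rfl | rfl | rfl | rfl
          · exact haT
          · exact htT _ haT
          · exact hσT _ haT
          · exact htT _ (hσT _ haT)
        · rw [hX.1.2.1 T hT, Finset.card_insert_of_notMem, Finset.card_insert_of_notMem,
            Finset.card_pair]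
          · exact fun e => freeInv_ne _ e.symm
          · simp only [Finset.mem_insert, Finset.mem_singleton, not_or]
            exact ⟨fun e => h2' e.symm, fun e => h1 (t.injective e).symm⟩
          · simp only [Finset.mem_insert, Finset.mem_singleton, not_or]
            refine ⟨fun e => freeInv_ne _ e.symm, fun e => h1 e.symm, fun e => h2' ?_⟩
            exact (freeInv_invol (σ a)).symm.trans (congrArg t e.symm)
      have hm := hσT _ (hσT _ haT)
      rw [hT4] at hm
      simp only [Finset.mem_insert, Finset.mem_singleton] at hm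
      rcases hm with h | h | h | h
      · exact Or.inl h
      · exact Or.inr h
      · exact absurd (σ.injective h) h1
      · rw [← hst] at h
        exact absurd (σ.injective h) h2'
    show (σ ^ (2 ^ 2)) a = a
    simp only [show (2 : ℕ) ^ 2 = 4 by norm_num, pow_succ, pow_zero, one_mul, Equiv.Perm.mul_apply]
    rcases key with h | h
    · rw [h, h]
    · rw [h, hst, hst, h, freeInv_invol]
  have hCQ : Subgroup.centralizer (Q : Set C) ≤ Q := by
    intro k hk X hX T hT
    refine Finset.eq_of_subset_of_card_le (fun y hy => ?_) (by rw [Finset.card_smul_finset])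
    obtain ⟨a, ha, rfl⟩ := Finset.mem_smul_finset.1 hy
    set σ := ((k : ↥Cfsg.M24) : pG)
    have hsig : (freeKer.all fun e => (tabAt e (ix a) == ix a) == (tabAt e (ix (σ a)) == ix (σ a))) =
        true := by
      refine List.all_eq_true.2 fun e he => ?_
      have := List.all_eq_true.1 ker_ok e he
      simp only [Bool.and_eq_true, beq_iff_eq, List.all_eq_true] at this
      obtain ⟨⟨heOK, hecomm⟩, hesext⟩ := this
      have hcomm' : tabPerm e * t = t * tabPerm e := by
        have h1 := isTab_mul (isTab_tabPerm heOK) (isTab_tabPerm free_ok)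
        rw [hecomm] at h1
        exact h1.unique (isTab_mul (isTab_tabPerm free_ok) (isTab_tabPerm heOK))
      let e' : C := ⟨⟨tabPerm e, tabPerm_mem heOK⟩,
        Subgroup.mem_centralizer_singleton_iff.2 (Subtype.ext hcomm')⟩
      have heQ : e' ∈ Q := fun Y hY U hU => mask_injective (by
        show mask (tabPerm e • U) = mask U
        rw [← imgTab_mask (isTab_tabPerm heOK)]
        exact hesext _ (good_subset hY hU))
      have hce : tabPerm e * σ = σ * tabPerm e :=
        congrArg (fun z : C => ((z : ↥Cfsg.M24) : pG)) (Subgroup.mem_centralizer_iff.1 hk e' heQ)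
      rw [← isTab_tabPerm heOK, ← isTab_tabPerm heOK, ← Equiv.Perm.mul_apply, hce,
        Equiv.Perm.mul_apply]
      simp [ix_injective.eq_iff]
    have hs := List.all_eq_true.1 sep_ok (ix a) (List.mem_range.2 (ix_lt a))
    have hs' := List.all_eq_true.1 hs (ix (σ a)) (List.mem_range.2 (ix_lt _))
    rw [hsig, Bool.not_true, Bool.false_or] at hs'
    obtain ⟨x, hx, hxb⟩ := List.any_eq_true.1 hs'
    simp only [Bool.and_eq_true] at hxb
    have hd := List.all_eq_true.1 (List.all_eq_true.1 disj_ok x hx) _ (good_subset hX hT)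
    simp only [Bool.or_eq_true, beq_iff_eq] at hd
    have hxT : x = mask T := by
      refine hd.resolve_right fun h0 => ?_
      have := congrArg (fun n => n.testBit (ix a)) h0
      simp [Nat.testBit_and, hxb.1, testBit_mask, ha] at this
    have := hxb.2
    rw [hxT, testBit_mask, decide_eq_true_eq] at this
    exact this
  exact zero_of_constrained hM hχ h2 hQ hCQ

/-- Characters outside the principal 2-block of M24 vanish on involutions. -/
theorem eq_zero_of_involution {M : Ideal Cfsg.AlgInt} (hM : Cfsg.IsPModular 2 M)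
    {χ : Cfsg.IrrCharacter ↥Cfsg.M24} (hχ : χ ∉ Cfsg.principalBlock M ↥Cfsg.M24) {g : ↥Cfsg.M24}
    (h2 : orderOf g = 2) : (χ : ↥Cfsg.M24 → ℂ) g = 0 := by
  rcases involution_cases h2 with ⟨o, ho, hfix⟩ | ⟨c, rfl⟩
  · exact zero_of_octad hM hχ h2 ho hfix
  · rw [Characters.irr_isClassFunction χ freeInv c]
    exact zero_of_free hM hχ (by
      rw [← h2]; exact (MulEquiv.orderOf_eq (MulAut.conj c) freeInv).symm)

end Cfsg.Agent.Golay.M24Involution
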