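import Cfsg.Agent.Lib.Golay.M24Involution
import Cfsg.Agent.Lib.Golay.M22TwoBlock

/-!
M24 has no character of 2-defect zero, so its only 2-block is the principal one.

A character of defect zero vanishes off the elements of odd order.  For `q = 5, 7, 11, 23` its
restriction to a subgroup of order `q` is then divisible by the order of a 2-subgroup centralising
it, which bounds the sum of its squares there from below; together with the degree these bounds
exceed the group order.
-/

set_option autoImplicit false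
set_option maxRecDepth 20000
set_option linter.style.haveILetI false

namespace Cfsg.Agent.Golay.M24TwoBlock

open Cfsg Cfsg.Agent.Golay.Basic Cfsg.Agent.Golay.Design Cfsg.Agent.Golay.Perm Cfsg.Agent.Golay.M24
  Cfsg.Agent.Golay.Cert Cfsg.Agent.Golay.TabList Cfsg.Agent.Golay.OctadStab
  Cfsg.Agent.Golay.M24Involution Cfsg.Agent.Golay.M24TwoData
open scoped Pointwise ComplexConjugate

local notation "pG" => Equiv.Perm GolayPt

/-! ### Squares of a character on a subgroup of prime order -/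

theorem int_bound {ι : Type*} [Fintype ι] {q : ℕ} (hι : Fintype.card ι = q) (hq : 0 < q)
    (a : ι → ℤ) (D : ℕ) (hD : ∑ i, a i = D) :
    ((D % q : ℕ) : ℤ) * ((q : ℤ) - (D % q : ℕ)) ≤ q * ∑ i, a i ^ 2 - (D : ℤ) ^ 2 := by
  set k : ℤ := ((D / q : ℕ) : ℤ)
  set r : ℤ := ((D % q : ℕ) : ℤ)
  have hDk : (D : ℤ) = q * k + r := by
    simp only [k, r]; exact_mod_cast (Nat.div_add_mod D q).symm
  have hsum : ∑ i, (a i - k) = r := by
    rw [Finset.sum_sub_distrib, hD, Finset.sum_const, Finset.card_univ, hι, nsmul_eq_mul, hDk]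
    ring
  have hsq : r ≤ ∑ i, (a i - k) ^ 2 := by
    rw [← hsum]
    exact Finset.sum_le_sum fun i _ => Int.le_self_sq _
  have hexp : ∑ i, (a i - k) ^ 2 = ∑ i, a i ^ 2 - 2 * k * D + q * k ^ 2 := by
    simp only [sub_sq]
    rw [Finset.sum_add_distrib, Finset.sum_sub_distrib, Finset.sum_const, Finset.card_univ, hι,
      nsmul_eq_mul, ← hD, Finset.mul_sum]
    congr 2
    exact Finset.sum_congr rfl fun i _ => by ring
  have hq' : (0 : ℤ) ≤ q := by positivity
  rw [hexp] at hsq
  have h := mul_le_mul_of_nonneg_left hsq hq'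
  show r * ((q : ℤ) - r) ≤ _
  rw [hDk] at h ⊢
  linarith

/-- The squares of a character on a group of prime order, given a commuting group at whose
non-trivial translates the character vanishes. -/
theorem power_bound {G : Type*} [Group G] [Fintype G] {χ : G → ℂ} (hχ : Cfsg.IsCharacter G χ)
    {q : ℕ} (hq : q.Prime) {x : G} (hx : orderOf x = q) {E : Subgroup G}
    (hE : ∀ e ∈ E, Commute x e) (hvan : ∀ y ∈ Subgroup.zpowers x, ∀ e ∈ E, e ≠ 1 → χ (y * e) = 0)
    [DecidablePred (· ∈ Subgroup.zpowers x)] [DecidableEq G] {D : ℕ}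
    (hdeg : χ 1 = ((Nat.card E * D : ℕ) : ℂ)) :
    ((Nat.card E : ℝ)) ^ 2 * (((D % q : ℕ) : ℝ) * ((q : ℝ) - (D % q : ℕ))) ≤
      ∑ y ∈ (Finset.univ.filter (· ∈ Subgroup.zpowers x)).erase 1, Complex.normSq (χ y) := by
  classical
  haveI := Fact.mk hq
  set P := Subgroup.zpowers x
  have hPc : Nat.card P = q := by rw [Nat.card_zpowers, hx]
  haveI : IsCyclic P := isCyclic_of_prime_card hPc
  haveI : Fintype P := Fintype.ofFinite P
  haveI : Fintype E := Fintype.ofFinite E
  haveI : Fintype (Cfsg.IrrCharacter P) := Fintype.ofFinite _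
  have hcomm : ∀ a b : P, a * b = b * a := fun a b => by
    haveI : IsMulCommutative P := IsCyclic.isMulCommutative
    exact mul_comm' a b
  have hPE : ∀ (y : P) (e : E), Commute (y : G) e := fun y e => by
    obtain ⟨i, hi⟩ := Subgroup.mem_zpowers_iff.1 y.2
    rw [← hi]
    exact (hE e e.2).zpow_left i
  let ι : P × E →* G :=
    { toFun := fun p => (p.1 : G) * p.2
      map_one' := by simp
      map_mul' := fun a b => by
        simp only [Prod.fst_mul, Prod.snd_mul, Subgroup.coe_mul]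
        exact (hPE b.1 a.2).symm.mul_mul_mul_comm _ _ |>.symm }
  set m := Nat.card E with hm
  have hm0 : (m : ℂ) ≠ 0 := Nat.cast_ne_zero.2 Nat.card_pos.ne'
  have hcl : Cfsg.IsClassFunction P (fun y : P => χ y) :=
    Characters.char_isClassFunction (Characters.isCharacter_restrict P hχ)
  have hn : ∀ lam : Cfsg.IrrCharacter P, ∃ n : ℕ,
      Cfsg.classInner (fun y : P => χ y) (lam : P → ℂ) = (m : ℂ) * n := by
    intro lam
    obtain ⟨n, hn⟩ := Characters.classInner_char_nat (Characters.isCharacter_comp ι hχ)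
      (Characters.isCharacter_comp (MonoidHom.fst P E) (Characters.irr_isCharacter lam))
    refine ⟨n, ?_⟩
    rw [Characters.classInner_def] at hn ⊢
    rw [Nat.card_prod, ← hm, Nat.cast_mul] at hn
    have hs : ∑ p : P × E, (χ ∘ ι) p * conj (((lam : P → ℂ) ∘ MonoidHom.fst P E) p) =
        ∑ y : P, χ y * conj ((lam : P → ℂ) y) := by
      rw [Fintype.sum_prod_type]
      refine Finset.sum_congr rfl fun y _ => ?_
      rw [Fintype.sum_eq_single (1 : E)]
      · simp [ι]
      · intro e he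
        have := hvan y y.2 e e.2 (by exact_mod_cast he)
        simp [ι, this]
    rw [hs, mul_inv, mul_comm ((Nat.card P : ℂ))⁻¹, mul_assoc, inv_mul_eq_iff_eq_mul₀ hm0] at hn
    exact hn
  choose n hn using hn
  have hexp : (fun y : P => χ y) = ∑ lam : Cfsg.IrrCharacter P, ((m : ℂ) * n lam) • (lam : P → ℂ) := by
    conv_lhs => rw [Characters.classFun_eq_sum hcl]
    exact Finset.sum_congr rfl fun lam _ => by rw [hn]
  have hlin : ∀ lam : Cfsg.IrrCharacter P, (lam : P → ℂ) 1 = 1 := fun lam =>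
    Characters.irr_degree_one_of_comm hcomm lam.2
  have hD : ∑ lam, (n lam : ℤ) = D := by
    have h1 := congrFun hexp 1
    simp only [Finset.sum_apply, Pi.smul_apply, smul_eq_mul, hlin, mul_one, OneMemClass.coe_one,
      hdeg, ← Finset.mul_sum, Nat.cast_mul] at h1
    have h2 := mul_left_cancel₀ hm0 h1
    exact_mod_cast h2.symm
  have hcard : Fintype.card (Cfsg.IrrCharacter P) = q := by
    have h := Characters.sum_degree_sq (G := P)
    simp only [hlin, one_pow, Finset.sum_const, Finset.card_univ, nsmul_eq_mul, mul_one, hPc] at h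
    exact_mod_cast h
  have hnorm : Cfsg.classInner (fun y : P => χ y) (fun y : P => χ y) =
      ((m : ℂ)) ^ 2 * ∑ lam, (n lam : ℂ) ^ 2 := by
    rw [Characters.classInner_eq_sum _ hcl, Finset.mul_sum]
    refine Finset.sum_congr rfl fun lam _ => ?_
    rw [Characters.classInner_conj_symm (fun y : P => χ y) (lam : P → ℂ), hn, map_mul,
      Complex.conj_natCast, Complex.conj_natCast]
    ring
  have hall : ∑ y : P, Complex.normSq (χ y) = (q : ℝ) * ((m : ℝ) ^ 2 * ∑ lam, (n lam : ℝ) ^ 2) := by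
    rw [Characters.classInner_def, hPc, inv_mul_eq_iff_eq_mul₀ (Nat.cast_ne_zero.2 hq.pos.ne')] at hnorm
    simp only [Complex.mul_conj] at hnorm
    exact_mod_cast hnorm
  have hsplit : ∑ y ∈ (Finset.univ.filter (· ∈ P)).erase 1, Complex.normSq (χ y) =
      ∑ y : P, Complex.normSq (χ y) - ((m : ℝ) * D) ^ 2 := by
    rw [← Finset.sum_subtype (Finset.univ.filter (· ∈ P)) (fun z => by simp [P])
      (fun z => Complex.normSq (χ z)), ← Finset.sum_erase_add (Finset.univ.filter (· ∈ P)) _
      (show (1 : G) ∈ _ by simp [P.one_mem]), hdeg, Complex.normSq_natCast]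
    push_cast
    ring
  refine le_of_le_of_eq ?_ (hsplit.symm.trans (by congr!))
  rw [hall]
  have hb := int_bound hcard hq.pos (fun lam => (n lam : ℤ)) D hD
  have hb' : ((D % q : ℕ) : ℝ) * ((q : ℝ) - (D % q : ℕ)) ≤
      (q : ℝ) * ∑ lam, (n lam : ℝ) ^ 2 - (D : ℝ) ^ 2 := by
    have h := (Int.cast_le (R := ℝ)).2 hb
    push_cast at h
    exact h
  have := mul_le_mul_of_nonneg_left hb' (sq_nonneg (m : ℝ))
  calc _ ≤ _ := this
    _ = _ := by ring

/-- Summing over the elements of prime order `q` when the Sylow subgroups have order `q`. -/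
theorem sum_order_eq {G : Type*} [Group G] [Fintype G] [DecidableEq G] {q m : ℕ} [hq : Fact q.Prime]
    (hG : Nat.card G = q * m) (hm : ¬ q ∣ m) {x : G} (hx : orderOf x = q)
    [DecidablePred (· ∈ Subgroup.zpowers x)] {f : G → ℝ} (hf : ∀ c g, f (c * g * c⁻¹) = f g) :
    ∑ g ∈ Finset.univ.filter (fun g : G => orderOf g = q), f g =
      (Nat.card (Sylow q G) : ℝ) *
        ∑ g ∈ (Finset.univ.filter (· ∈ Subgroup.zpowers x)).erase 1, f g := by
  classical
  have hcard : ∀ P : Sylow q G, Nat.card (P : Subgroup G) = q := fun P => by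
    have h := SmallSimple.Basic.card_sylow_eq_pow (a := 1) (m := m) (by rw [hG, pow_one]) hm P
    rwa [pow_one] at h
  let S : Sylow q G → Finset G := fun P =>
    Finset.univ.filter fun g => g ∈ (P : Subgroup G) ∧ g ≠ 1
  have hU : (Finset.univ.filter fun g : G => orderOf g = q) = Finset.univ.biUnion S := by
    ext g
    simp only [Finset.mem_filter, Finset.mem_univ, true_and, Finset.mem_biUnion, S]
    constructor
    · intro hg
      have hz : IsPGroup q (Subgroup.zpowers g) := IsPGroup.of_card (n := 1)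
        (by rw [Nat.card_zpowers, hg, pow_one])
      obtain ⟨P, hP⟩ := hz.exists_le_sylow
      exact ⟨P, hP (Subgroup.mem_zpowers g), fun e => hq.out.ne_one (by rw [← hg, e, orderOf_one])⟩
    · rintro ⟨P, hgP, hg1⟩
      have h := orderOf_dvd_natCard (G := (P : Subgroup G)) ⟨g, hgP⟩
      rw [hcard P, Subgroup.orderOf_mk] at h
      exact (hq.out.eq_one_or_self_of_dvd _ h).resolve_left fun e => hg1 (orderOf_eq_one_iff.1 e)
  have hdis : (↑(Finset.univ : Finset (Sylow q G)) : Set (Sylow q G)).PairwiseDisjoint S := by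
    intro P _ Q _ hne
    refine Finset.disjoint_left.2 fun g hgP hgQ => hne ?_
    simp only [S, Finset.mem_filter, Finset.mem_univ, true_and] at hgP hgQ
    have hgen : ∀ P' : Sylow q G, g ∈ (P' : Subgroup G) → (P' : Subgroup G) = Subgroup.zpowers g := by
      intro P' hgP'
      refine (Subgroup.eq_of_le_of_card_ge (Subgroup.zpowers_le.2 hgP') ?_).symm
      have h := orderOf_dvd_natCard (G := (P' : Subgroup G)) ⟨g, hgP'⟩
      rw [hcard P', Subgroup.orderOf_mk] at h
      rw [hcard P', Nat.card_zpowers,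
        (hq.out.eq_one_or_self_of_dvd _ h).resolve_left fun e => hgP.2 (orderOf_eq_one_iff.1 e)]
    exact Sylow.ext ((hgen P hgP.1).trans (hgen Q hgQ.1).symm)
  have hconst : ∀ P, ∑ g ∈ S P, f g =
      ∑ g ∈ (Finset.univ.filter (· ∈ Subgroup.zpowers x)).erase 1, f g := by
    intro P
    let P0 : Sylow q G := Sylow.ofCard (Subgroup.zpowers x) (by
      rw [Nat.card_zpowers, hx, hG, Nat.factorization_mul hq.out.ne_zero (fun e => hm (by simp [e])),
        Finsupp.add_apply, hq.out.factorization_self, Nat.factorization_eq_zero_of_not_dvd hm, add_zero,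
        pow_one])
    obtain ⟨c, rfl⟩ := MulAction.exists_smul_eq G P0 P
    have himg : S (c • P0) = (S P0).map (MulAut.conj c).toEquiv.toEmbedding := by
      ext g
      simp only [S, Finset.mem_filter, Finset.mem_univ, true_and, Finset.mem_map_equiv,
        MulEquiv.toEquiv_symm, MulEquiv.coe_toEquiv, MulAut.conj_symm_apply,
        Sylow.smul_def, Sylow.pointwise_smul_def, Subgroup.mem_pointwise_smul_iff_inv_smul_mem]
      refine and_congr Iff.rfl (not_congr ⟨fun e => by simp [e], fun e => ?_⟩)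
      simpa [mul_assoc] using congrArg (fun z => c * z * c⁻¹) e
    rw [himg, Finset.sum_map]
    refine Finset.sum_congr ?_ fun g _ => hf c g
    ext g
    simp [S, P0, and_comm]
  rw [hU, Finset.sum_biUnion hdis, Finset.sum_congr rfl fun P _ => hconst P, Finset.sum_const,
    Finset.card_univ, ← Nat.card_eq_fintype_card, nsmul_eq_mul]

/-! ### Centralisers of elements of order 5, 7, 11, 23 -/

theorem prime_data {x : ↥Cfsg.M24} {q : ℕ} (hq : q.Prime) (h5 : 5 ≤ q) (hx : orderOf x = q) :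
    (x : pG) ≠ 1 ∧ (x : pG) ^ q = 1 ∧ (x : pG).supportᶜ.card ≤ 4 ∧
      (x : pG).supportᶜ.card ≡ 24 [MOD q] := by
  have h1 : (x : pG) ≠ 1 := fun e => by
    rw [← Subgroup.orderOf_coe, e, orderOf_one] at hx
    exact hq.ne_one hx.symm
  have h2 : (x : pG) ^ q = 1 := by
    rw [← Subgroup.coe_pow, ← hx, pow_orderOf_eq_one, Subgroup.coe_one]
  exact ⟨h1, h2, M22TwoBlock.fix_card x.2 h1 hq h5 h2⟩

theorem cent_dvd_perm {x : ↥Cfsg.M24} {q k : ℕ} (hq : q.Prime) (h5 : 5 ≤ q) (hx : orderOf x = q)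
    (hk : q * k + 24 % q = 24) (hk0 : 0 < k) (hf : 24 % q ≤ 4) :
    Nat.card (Subgroup.centralizer ({x} : Set ↥Cfsg.M24)) ∣
      (24 % q).factorial * q ^ k * k.factorial := by
  haveI := Fact.mk hq
  obtain ⟨h1, h2, hle, hmod⟩ := prime_data hq h5 hx
  have hfix : (x : pG).supportᶜ.card = 24 % q := by
    unfold Nat.ModEq at hmod
    rw [← hmod, Nat.mod_eq_of_lt (by omega)]
  have hct := Equiv.Perm.cycleType_of_pow_prime_eq_one h2
  have hsum := (x : pG).sum_cycleType
  rw [hct, Multiset.sum_replicate, smul_eq_mul] at hsum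
  rw [Finset.card_compl, show Fintype.card GolayPt = 24 from Sextet.card_pts, ← hsum] at hfix
  have hk' : (x : pG).cycleType.card = k := by
    have hle' : (x : pG).cycleType.card * q ≤ 24 := by
      rw [hsum]; exact (Finset.card_le_univ _).trans Sextet.card_pts.le
    have : (x : pG).cycleType.card * q = k * q := by rw [mul_comm k q]; omega
    exact Nat.eq_of_mul_eq_mul_right hq.pos this
  have hc := Equiv.Perm.nat_card_centralizer (x : pG)
  rw [hct, hk', Multiset.prod_replicate, Multiset.sum_replicate, smul_eq_mul,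
    show Fintype.card GolayPt = 24 from Sextet.card_pts, Multiset.toFinset_replicate,
    if_neg hk0.ne', Finset.prod_singleton, Multiset.count_replicate_self,
    show 24 - k * q = 24 % q by rw [mul_comm]; omega] at hc
  rw [← hc]
  exact Subgroup.card_dvd_of_injective
    ((Cfsg.M24.subtype.comp (Subgroup.centralizer ({x} : Set ↥Cfsg.M24)).subtype).codRestrict _
      fun y => Subgroup.mem_centralizer_singleton_iff.2
        (congrArg Subtype.val (Subgroup.mem_centralizer_singleton_iff.1 y.2)))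
    fun a b h => by
      have h' := congrArg Subtype.val h
      exact Subtype.ext (Subtype.ext h')

/-- The centraliser of an element of order 5 has order dividing 120. -/
theorem cent_five {x : ↥Cfsg.M24} (hx : orderOf x = 5) :
    Nat.card (Subgroup.centralizer ({x} : Set ↥Cfsg.M24)) ∣ 120 := by
  classical
  haveI : Fact (Nat.Prime 5) := ⟨by norm_num⟩
  haveI : Fact (Nat.Prime 2) := ⟨Nat.prime_two⟩
  obtain ⟨h1, h2, hle, hmod⟩ := prime_data (q := 5) (by norm_num) le_rfl hx
  set F := (x : pG).supportᶜ with hFdef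
  have hF4 : F.card = 4 := by unfold Nat.ModEq at hmod; omega
  have hFmem : ∀ p, p ∈ F ↔ (x : pG) p = p := fun p => by
    rw [hFdef, Finset.mem_compl, Equiv.Perm.notMem_support]
  set C := Subgroup.centralizer ({x} : Set ↥Cfsg.M24)
  have hc : ∀ (y : C) (p : GolayPt),
      ((y : ↥Cfsg.M24) : pG) ((x : pG) p) = (x : pG) (((y : ↥Cfsg.M24) : pG) p) := fun y p => by
    simpa using congrArg (fun g : ↥Cfsg.M24 => (g : pG) p) (Subgroup.mem_centralizer_singleton_iff.1 y.2)
  have hmem : ∀ (y : C) (p : GolayPt), ((y : ↥Cfsg.M24) : pG) p ∈ F ↔ p ∈ F := fun y p => by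
    rw [hFmem, hFmem, ← hc, EmbeddingLike.apply_eq_iff_eq]
  let φ : C →* Equiv.Perm ↥F :=
    { toFun := fun y => ((y : ↥Cfsg.M24) : pG).subtypePerm (hmem y)
      map_one' := Equiv.ext fun p => Subtype.ext rfl
      map_mul' := fun a b => Equiv.ext fun p => Subtype.ext rfl }
  have hK : ∀ (y : φ.ker) (p : GolayPt), p ∈ F → (((y : C) : ↥Cfsg.M24) : pG) p = p := fun y p hp => by
    have := congrArg (fun σ : Equiv.Perm ↥F => (σ ⟨p, hp⟩ : GolayPt)) (MonoidHom.mem_ker.1 y.2)
    simpa [φ] using this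
  have hfree : ∀ (y : φ.ker) (p : GolayPt), p ∉ F → (((y : C) : ↥Cfsg.M24) : pG) p = p → y = 1 := by
    intro y p hp hyp
    set σ := (((y : C) : ↥Cfsg.M24) : pG)
    have hpx : (x : pG) p ≠ p := fun e => hp ((hFmem p).2 e)
    have hsh : ∀ i : ℕ, σ (((x : pG) ^ i) p) = ((x : pG) ^ i) p := by
      intro i
      induction i with
      | zero => simpa using hyp
      | succ i ih => rw [pow_succ', Equiv.Perm.mul_apply, hc, ih]
    set A := (Finset.range 5).image fun i => ((x : pG) ^ i) p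
    have hAcard : A.card = 5 := by
      rw [Finset.card_image_of_injOn, Finset.card_range]
      intro i hi j hj h
      simp only [Finset.coe_range, Set.mem_Iio] at hi hj
      by_contra hne
      have hcy : ∀ a b : ℕ, a < b → b < 5 → ((x : pG) ^ a) p ≠ ((x : pG) ^ b) p := by
        intro a b hab hb e
        rw [show b = (b - a) + a by omega, pow_add, Equiv.Perm.mul_apply] at e
        set z := ((x : pG) ^ a) p with hz
        have hcop : Nat.Coprime (b - a) 5 :=
          (Nat.coprime_of_lt_prime (by omega) (by omega) (by norm_num : Nat.Prime 5)).symm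
        obtain ⟨u, hu⟩ := exists_pow_eq_self_of_coprime
          (show Nat.Coprime (b - a) (orderOf (x : pG)) by rw [Subgroup.orderOf_coe, hx]; exact hcop)
        have hxz : (x : pG) z = z := by
          rw [← hu]
          exact Equiv.Perm.pow_apply_eq_self_of_apply_eq_self e.symm u
        apply hpx
        have : (x : pG) p = p := by
          apply ((x : pG) ^ a).injective
          rw [← Equiv.Perm.mul_apply, ← pow_succ, pow_succ', Equiv.Perm.mul_apply, ← hz, hxz]
        exact this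
      rcases lt_or_gt_of_ne hne with hlt | hlt
      · exact hcy i j hlt hj h
      · exact hcy j i hlt hi h.symm
    have hσA : ∀ a ∈ A, σ a = a := by
      intro a ha
      obtain ⟨i, -, rfl⟩ := Finset.mem_image.1 ha
      exact hsh i
    have hxA : ∀ a ∈ A, (x : pG) a ∈ A := by
      intro a ha
      obtain ⟨i, -, rfl⟩ := Finset.mem_image.1 ha
      refine Finset.mem_image.2 ⟨(i + 1) % 5, Finset.mem_range.2 (Nat.mod_lt _ (by norm_num)), ?_⟩
      rw [← Equiv.Perm.mul_apply, ← pow_succ',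
        show (5 : ℕ) = orderOf (x : pG) by rw [Subgroup.orderOf_coe, hx], pow_mod_orderOf]
    have hAF : ∀ a ∈ A, a ∉ F := by
      intro a ha haF
      obtain ⟨i, -, rfl⟩ := Finset.mem_image.1 ha
      rw [hFmem] at haF
      apply hpx
      apply ((x : pG) ^ i).injective
      rw [← Equiv.Perm.mul_apply, ← pow_succ, pow_succ', Equiv.Perm.mul_apply]
      exact haF
    obtain ⟨o, ho, ho5⟩ := FixedOctad.exists_octad_ge (s := A) hAcard.ge
    have hAo : A ⊆ o := Finset.inter_eq_left.1
      (Finset.eq_of_subset_of_card_le Finset.inter_subset_left (by omega))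
    have hxo : (x : pG) • o = o := Design.octads_eq_of_subset hAcard.ge (smul_mem_octads x.2 ho) ho
      (fun a ha => by
        obtain ⟨i, -, rfl⟩ := Finset.mem_image.1 ha
        refine Finset.mem_smul_finset.2 ⟨((x : pG) ^ ((i + 4) % 5)) p, hAo (Finset.mem_image.2
          ⟨(i + 4) % 5, Finset.mem_range.2 (Nat.mod_lt _ (by norm_num)), rfl⟩), ?_⟩
        rw [show (5 : ℕ) = orderOf (x : pG) by rw [Subgroup.orderOf_coe, hx], pow_mod_orderOf,
          Equiv.Perm.smul_def, ← Equiv.Perm.mul_apply, ← pow_succ',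
          show i + 4 + 1 = i + 5 by omega, pow_add, h2, mul_one]) hAo
    set R := o \ A
    have hR : R.card = 3 := by rw [Finset.card_sdiff_of_subset hAo, octad_card ho, hAcard]
    have hxR : ∀ z ∈ R, (x : pG) z ∈ R := by
      intro z hz
      obtain ⟨hzo, hzA⟩ := Finset.mem_sdiff.1 hz
      refine Finset.mem_sdiff.2 ⟨by rw [← hxo]; exact Finset.smul_mem_smul_finset hzo, fun h => hzA ?_⟩
      obtain ⟨i, -, hi⟩ := Finset.mem_image.1 h
      refine Finset.mem_image.2 ⟨(i + 4) % 5, Finset.mem_range.2 (Nat.mod_lt _ (by norm_num)), ?_⟩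
      apply (x : pG).injective
      rw [← hi, show (5 : ℕ) = orderOf (x : pG) by rw [Subgroup.orderOf_coe, hx], pow_mod_orderOf,
        ← Equiv.Perm.mul_apply, ← pow_succ', show i + 4 + 1 = i + 5 by omega, pow_add, h2, mul_one]
    have hRF : R ⊆ F := by
      set τ : Equiv.Perm ↥R := (x : pG).subtypePerm fun z => ⟨fun hz => by
        have hsurj := Finset.surj_on_of_inj_on_of_card_le (fun z (_ : z ∈ R) => (x : pG) z) hxR
          (fun a b _ _ h => (x : pG).injective h) le_rfl _ hz
        obtain ⟨w, hw, e⟩ := hsurj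
        rwa [(x : pG).injective e], hxR z⟩ with hτ
      have hτ5 : τ ^ 5 = 1 := by
        rw [hτ, Equiv.Perm.subtypePerm_pow]; ext z; simp [h2]
      have hτ1 : τ = 1 := by
        have hd : orderOf τ ∣ Fintype.card (Equiv.Perm ↥R) := orderOf_dvd_card
        have hd5 : orderOf τ ∣ 5 := orderOf_dvd_of_pow_eq_one hτ5
        rw [Fintype.card_perm, Fintype.card_coe, hR] at hd
        exact orderOf_eq_one_iff.1 (Nat.dvd_one.1 ((show Nat.gcd 5 (Nat.factorial 3) = 1 by decide) ▸
          Nat.dvd_gcd hd5 hd))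
      intro z hz
      rw [hFmem]
      exact congrArg Subtype.val (Equiv.congr_fun hτ1 ⟨z, hz⟩)
    obtain ⟨f, hfF, hfo⟩ : ∃ f ∈ F, f ∉ o := by
      by_contra hcon
      simp only [not_exists, not_and, not_not] at hcon
      have : F ⊆ R := fun f hf => Finset.mem_sdiff.2 ⟨hcon f hf, fun hA => hAF f hA hf⟩
      have := Finset.card_le_card this
      omega
    have hσ1 : σ = 1 := fix_eq_one ho hfo (mem_FK.2 ⟨((y : C) : ↥Cfsg.M24).2, fun z hz => by
      by_cases hzA : z ∈ A
      · exact hσA z hzA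
      · exact hK y z (hRF (Finset.mem_sdiff.2 ⟨hz, hzA⟩))⟩) (hK y f hfF)
    exact Subtype.ext (Subtype.ext (Subtype.ext hσ1))
  have h20 : Nat.card φ.ker ∣ 20 := by
    letI : MulAction φ.ker GolayPt :=
      MulAction.compHom GolayPt (Cfsg.M24.subtype.comp (C.subtype.comp φ.ker.subtype))
    obtain ⟨-, -, -, h⟩ := M22TwoBlock.free_sum (H := φ.ker) Fᶜ (fun _ => (0 : ℂ))
      (fun y p hp => by
        rw [Finset.mem_compl] at hp ⊢
        exact fun e => hp ((hmem (y : C) p).1 e))
      (fun y p hp e => hfree y p (Finset.mem_compl.1 hp) e)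
      (fun _ _ _ => rfl) (fun _ _ => isIntegral_zero)
    rwa [Finset.card_compl, hF4, show Fintype.card GolayPt = 24 from Sextet.card_pts] at h
  have hodd : ¬ 2 ∣ Nat.card φ.ker := by
    intro h
    obtain ⟨t, ht⟩ := exists_prime_orderOf_dvd_card' (G := φ.ker) 2 h
    set g : ↥Cfsg.M24 := ((t : C) : ↥Cfsg.M24)
    have hg : orderOf g = 2 := by rw [Subgroup.orderOf_coe, Subgroup.orderOf_coe, ht]
    obtain ⟨a, b, haF, hbF, hab⟩ := Finset.one_lt_card_iff.1 (show 1 < F.card by omega)
    rcases involution_cases hg with ⟨o, ho, hfix⟩ | ⟨c, hgc⟩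
    · obtain ⟨k, f, hk2, hkf, hf4, hk8, hf24, hne⟩ := FixedOctad.fixed_counts ho
        (t := (g : pG)) (x := (x : pG))
        (by rw [← pow_two, ← Subgroup.coe_pow, ← hg, pow_orderOf_eq_one, Subgroup.coe_one]) hfix x.2 h1
        (by norm_num) le_rfl h2
        (congrArg Subtype.val (Subgroup.mem_centralizer_singleton_iff.1 (t : C).2)).symm hab
        ((hFmem a).1 haF) ((hFmem b).1 hbF) ((hfix a).1 (hK t a haF)) ((hfix b).1 (hK t b hbF))
      unfold Nat.ModEq at hk8 hf24
      omega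
    · apply freeInv_ne ((c : pG)⁻¹ a)
      have e : (g : pG) a = a := hK t a haF
      rw [hgc] at e
      simp only [Subgroup.coe_mul, Subgroup.coe_inv, Equiv.Perm.mul_apply] at e
      exact (c : pG).injective (by simpa using e)
  have hker : Nat.card φ.ker ∣ 5 :=
    ((Nat.Coprime.pow_right 2 ((Nat.prime_two.coprime_iff_not_dvd).2 hodd).symm).dvd_of_dvd_mul_right
      (show Nat.card φ.ker ∣ 5 * 2 ^ 2 by rw [show (5 : ℕ) * 2 ^ 2 = 20 by norm_num]; exact h20))
  rw [Subgroup.card_eq_card_quotient_mul_card_subgroup φ.ker,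
    Nat.card_congr (QuotientGroup.quotientKerEquivRange φ).toEquiv, show (120 : ℕ) = 24 * 5 by norm_num]
  refine Nat.mul_dvd_mul ?_ hker
  have := Subgroup.card_subgroup_dvd_card φ.range
  rwa [Nat.card_perm, Nat.card_eq_fintype_card (α := ↥F), Fintype.card_coe, hF4] at this

/-- A lower bound for the number of Sylow subgroups from a bound on a centraliser. -/
theorem sylow_lower {q M B K0 : ℕ} [hq : Fact q.Prime] (hG : (244823040 : ℕ) = q * M) (hm : ¬ q ∣ M)
    {x : ↥Cfsg.M24} (hx : orderOf x = q)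
    (hB : Nat.card (Subgroup.centralizer ({x} : Set ↥Cfsg.M24)) ∣ q * B)
    (hB0 : 0 < B) (hK : ∀ K ∈ ((q - 1) * B).divisors, K % q = M % q → K ≤ K0) :
    M ≤ K0 * Nat.card (Sylow q ↥Cfsg.M24) := by
  classical
  let P : Sylow q ↥Cfsg.M24 := Sylow.ofCard (Subgroup.zpowers x) (by
    rw [Nat.card_zpowers, hx, card_M24, hG, Nat.factorization_mul hq.out.ne_zero (fun e => hm (by simp [e])),
      Finsupp.add_apply, hq.out.factorization_self, Nat.factorization_eq_zero_of_not_dvd hm, add_zero,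
      pow_one])
  have hPx : (P : Subgroup ↥Cfsg.M24) = Subgroup.zpowers x := rfl
  have hPc : Nat.card (P : Subgroup ↥Cfsg.M24) = q := by rw [hPx, Nat.card_zpowers, hx]
  haveI : IsCyclic (P : Subgroup ↥Cfsg.M24) := isCyclic_of_prime_card hPc
  set N := Subgroup.normalizer ((P : Subgroup ↥Cfsg.M24) : Set ↥Cfsg.M24)
  set ρ := Subgroup.normalizerMonoidHom (P : Subgroup ↥Cfsg.M24)
  have hN : Nat.card N = Nat.card ρ.range *
      Nat.card (Subgroup.centralizer ((P : Subgroup ↥Cfsg.M24) : Set ↥Cfsg.M24)) := by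
    rw [Subgroup.card_eq_card_quotient_mul_card_subgroup ρ.ker,
      Nat.card_congr (QuotientGroup.quotientKerEquivRange ρ).toEquiv]
    congr 1
    rw [Subgroup.normalizerMonoidHom_ker]
    exact Nat.card_congr (Subgroup.subgroupOfEquivOfLe
      (Subgroup.centralizer_le_normalizer _)).toEquiv
  have hCx : Subgroup.centralizer ((P : Subgroup ↥Cfsg.M24) : Set ↥Cfsg.M24) =
      Subgroup.centralizer ({x} : Set ↥Cfsg.M24) := by
    ext c
    rw [hPx]
    exact Blocks.mem_centralizer_zpowers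
  have he : Nat.card ρ.range ∣ q - 1 := by
    have h := Subgroup.card_subgroup_dvd_card ρ.range
    rwa [IsCyclic.card_mulAut, hPc, Nat.totient_prime hq.out] at h
  obtain ⟨c', hc'⟩ : q ∣ Nat.card (Subgroup.centralizer ({x} : Set ↥Cfsg.M24)) := by
    rw [← hx]
    exact Subgroup.orderOf_dvd_natCard _ (Subgroup.mem_centralizer_singleton_iff.2 rfl)
  have hmul := SmallSimple.Basic.card_normalizer_mul P
  rw [card_M24, hG, hN, hCx, hc'] at hmul
  have hcB : c' ∣ B := Nat.dvd_of_mul_dvd_mul_left hq.out.pos (hc' ▸ hB)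
  set n := Nat.card (Sylow q ↥Cfsg.M24)
  have hMn : Nat.card ρ.range * c' * n = M := by
    apply Nat.eq_of_mul_eq_mul_left hq.out.pos
    rw [← hmul]; ring
  have hn1 : n % q = 1 := by
    have := card_sylow_modEq_one q ↥Cfsg.M24
    rwa [Nat.ModEq, Nat.mod_eq_of_lt hq.out.one_lt] at this
  have hmem : Nat.card ρ.range * c' ∈ ((q - 1) * B).divisors := by
    refine Nat.mem_divisors.2 ⟨Nat.mul_dvd_mul he hcB, ?_⟩
    have := hq.out.two_le
    exact Nat.mul_ne_zero (by omega) hB0.ne'
  have hle := hK _ hmem (by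
    conv_rhs => rw [← hMn, Nat.mul_mod, hn1, mul_one, Nat.mod_mod])
  rw [← hMn]
  exact Nat.mul_le_mul_right _ hle

/-! ### Elements of order 5 and 7 with centralising 2-groups -/

/-- The checks of the listed elements of order 5 and 7. -/
def eltsOK : Bool :=
  let x := fiveTab.1; let a := fiveTab.2.1; let b := fiveTab.2.2
  let y := sevenTab.1; let c := sevenTab.2
  [x, a, b, y, c].all (fun t => tabOK t && canon t && !(t == idTab)) &&
    mulTab x (mulTab x (mulTab x (mulTab x x))) == idTab &&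
    mulTab y (mulTab y (mulTab y (mulTab y (mulTab y (mulTab y y))))) == idTab &&
    mulTab a a == idTab && mulTab b b == idTab && mulTab c c == idTab && !(a == b) &&
    mulTab a b == mulTab b a && mulTab x a == mulTab a x && mulTab x b == mulTab b x &&
    mulTab y c == mulTab c y

theorem elts_ok : eltsOK = true := by decide +kernel

theorem exists_elements :
    (∃ x a b : ↥Cfsg.M24, orderOf x = 5 ∧ a * a = 1 ∧ b * b = 1 ∧ a ≠ 1 ∧ b ≠ 1 ∧ a ≠ b ∧
        Commute a b ∧ Commute x a ∧ Commute x b) ∧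
      ∃ y c : ↥Cfsg.M24, orderOf y = 7 ∧ c * c = 1 ∧ c ≠ 1 ∧ Commute y c := by
  have h := elts_ok
  simp only [eltsOK, List.all_cons, List.all_nil, Bool.and_true, Bool.and_eq_true, beq_iff_eq,
    Bool.not_eq_eq_eq_not, Bool.not_true, beq_eq_false_iff_ne] at h
  obtain ⟨⟨⟨⟨⟨⟨⟨⟨⟨⟨⟨⟨⟨hx, hxc⟩, hxn⟩, ⟨⟨ha, hac⟩, han⟩, ⟨⟨hb, hbc⟩, hbn⟩, ⟨⟨hy, hyc⟩, hyn⟩, ⟨hc, hcc⟩, hcn⟩,
    hx5⟩, hy7⟩, ha2⟩, hb2⟩, hc2⟩, hab⟩, hcab⟩, hcxa⟩, hcxb⟩, hcyc⟩ := h
  let el : (t : ℕ) → tabOK t = true → ↥Cfsg.M24 := fun t ht => ⟨tabPerm t, tabPerm_mem ht⟩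
  have hone : ∀ {t} (ht : tabOK t = true), canon t = true → t ≠ idTab → el t ht ≠ 1 := by
    intro t ht hcn' hne e
    have e' : tabPerm t = 1 := congrArg Subtype.val e
    exact hne (eq_of_isTab hcn' canon_idTab (isTab_tabPerm ht) (by rw [e']; exact isTab_one))
  have hmulT : ∀ {s t u} (hs : tabOK s = true) (ht : tabOK t = true), mulTab s t = u →
      IsTab u (tabPerm s * tabPerm t) := fun hs ht e => e ▸ isTab_mul (isTab_tabPerm hs) (isTab_tabPerm ht)
  have hsq : ∀ {t} (ht : tabOK t = true), mulTab t t = idTab → el t ht * el t ht = 1 := fun ht e =>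
    Subtype.ext ((hmulT ht ht e).unique isTab_one)
  have hcom : ∀ {s t} (hs : tabOK s = true) (ht : tabOK t = true), mulTab s t = mulTab t s →
      Commute (el s hs) (el t ht) := fun hs ht e =>
    Subtype.ext ((hmulT hs ht e).unique (hmulT ht hs rfl))
  have hX := isTab_tabPerm hx
  have hY := isTab_tabPerm hy
  haveI : Fact (Nat.Prime 5) := ⟨by norm_num⟩
  haveI : Fact (Nat.Prime 7) := ⟨by norm_num⟩
  refine ⟨⟨el _ hx, el _ ha, el _ hb, orderOf_eq_prime (Subtype.ext ?_) (hone hx hxc hxn), hsq ha ha2,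
    hsq hb hb2, hone ha hac han, hone hb hbc hbn, ?_, hcom ha hb hcab, hcom hx ha hcxa, hcom hx hb hcxb⟩,
    el _ hy, el _ hc, orderOf_eq_prime (Subtype.ext ?_) (hone hy hyc hyn), hsq hc hc2,
    hone hc hcc hcn, hcom hy hc hcyc⟩
  · have h1 := isTab_mul hX (isTab_mul hX (isTab_mul hX (isTab_mul hX hX)))
    rw [hx5] at h1
    rw [Subgroup.coe_pow, OneMemClass.coe_one, ← h1.unique isTab_one]
    simp only [el, pow_succ, pow_zero, one_mul, mul_assoc]
  · intro e
    exact hab (eq_of_isTab hac hbc (isTab_tabPerm ha)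
      (by rw [show tabPerm fiveTab.2.1 = tabPerm fiveTab.2.2 from congrArg Subtype.val e]
          exact isTab_tabPerm hb))
  · have h1 := isTab_mul hY (isTab_mul hY (isTab_mul hY (isTab_mul hY (isTab_mul hY (isTab_mul hY hY)))))
    rw [hy7] at h1
    rw [Subgroup.coe_pow, OneMemClass.coe_one, ← h1.unique isTab_one]
    simp only [el, pow_succ, pow_zero, one_mul, mul_assoc]

/-- A group of order four generated by two commuting involutions. -/
theorem exists_four {G : Type*} [Group G] {a b : G} (ha : a * a = 1) (hb : b * b = 1) (ha1 : a ≠ 1)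
    (hb1 : b ≠ 1) (hab : a ≠ b) (hc : Commute a b) :
    ∃ E : Subgroup G, Nat.card E = 4 ∧ ∀ e ∈ E, (e = 1 ∨ e = a ∨ e = b ∨ e = a * b) ∧ e * e = 1 := by
  classical
  have hba : b * a = a * b := hc.symm.eq
  have haab : a * (a * b) = b := by rw [← mul_assoc, ha, one_mul]
  have haba : a * b * a = b := by rw [mul_assoc, hba, haab]
  have habb : a * b * b = a := by rw [mul_assoc, hb, mul_one]
  have hbab : b * (a * b) = a := by rw [← mul_assoc, hba, habb]
  have h2 : a * b * (a * b) = 1 := by rw [← mul_assoc, haba, hb]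
  have hclose : ∀ u v : G, (u = 1 ∨ u = a ∨ u = b ∨ u = a * b) → (v = 1 ∨ v = a ∨ v = b ∨ v = a * b) →
      (u * v = 1 ∨ u * v = a ∨ u * v = b ∨ u * v = a * b) := by
    rintro u v (rfl | rfl | rfl | rfl) (rfl | rfl | rfl | rfl) <;>
      simp [ha, hb, hba, haab, haba, habb, hbab, h2]
  have hinv : ∀ u : G, (u = 1 ∨ u = a ∨ u = b ∨ u = a * b) → u * u = 1 := by
    rintro u (rfl | rfl | rfl | rfl) <;> simp [ha, hb, h2]
  let E : Subgroup G :=
    { carrier := {e | e = 1 ∨ e = a ∨ e = b ∨ e = a * b}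
      one_mem' := Or.inl rfl
      mul_mem' := fun {u v} hu hv => hclose u v hu hv
      inv_mem' := fun {u} hu => by
        rw [inv_eq_of_mul_eq_one_left (hinv u hu)]; exact hu }
  refine ⟨E, ?_, fun e he => ⟨he, hinv e he⟩⟩
  have hab1 : a * b ≠ 1 := fun e => hab (by rw [← mul_one a, ← hb, ← mul_assoc, e, one_mul])
  have : (E : Set G) = ↑({1, a, b, a * b} : Finset G) := by
    ext e; simp [E]
  rw [show Nat.card E = Nat.card (E : Set G) from rfl, Nat.card_coe_set_eq, this, Set.ncard_coe_finset,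
    Finset.card_insert_of_notMem, Finset.card_insert_of_notMem, Finset.card_pair]
  · exact fun e => ha1 (mul_right_cancel (b := b) (by rw [one_mul, ← e]))
  · simp only [Finset.mem_insert, Finset.mem_singleton, not_or]
    exact ⟨hab, fun e => hb1 (mul_left_cancel (a := a) (by rw [mul_one, ← e]))⟩
  · simp only [Finset.mem_insert, Finset.mem_singleton, not_or]
    exact ⟨Ne.symm ha1, Ne.symm hb1, Ne.symm hab1⟩

/-! ### No character of defect zero -/

theorem no_defect_zero {M : Ideal Cfsg.AlgInt} (hM : Cfsg.IsPModular 2 M)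
    (χ : Cfsg.IrrCharacter ↥Cfsg.M24) : χ ∈ Cfsg.principalBlock M ↥Cfsg.M24 := by
  classical
  by_contra hχ
  haveI := Fintype.ofFinite ↥Cfsg.M24
  haveI : Fact (Nat.Prime 2) := ⟨Nat.prime_two⟩
  have h0 := Blocks.blockDefect_zero_of_vanish hM χ fun g hg => eq_zero_of_involution hM hχ hg
  set d := Cfsg.charDegree (χ : ↥Cfsg.M24 → ℂ) with hd
  have hfac : 10 ≤ d.factorization 2 := by
    have h0' := h0
    unfold Cfsg.blockDefect at h0'
    have h1 : sInf ((fun ψ : Cfsg.IrrCharacter ↥Cfsg.M24 =>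
        (Cfsg.charDegree (ψ : ↥Cfsg.M24 → ℂ)).factorization 2) ''
        Cfsg.blockOf M (χ : ↥Cfsg.M24 → ℂ)) ≤ d.factorization 2 :=
      Nat.sInf_le ⟨χ, Blocks.mem_blockOf_self hM χ, rfl⟩
    rw [card_M24, M24Involution.factorization_two] at h0'
    omega
  obtain ⟨j, hj⟩ : 2 ^ 10 ∣ d :=
    (Nat.Prime.pow_dvd_iff_le_factorization Nat.prime_two (Blocks.charDegree_pos χ).ne').2 hfac
  have hdvd : d ∣ 244823040 := card_M24 ▸ Blocks.char_degree_dvd_card χ
  have h1v : (χ : ↥Cfsg.M24 → ℂ) 1 = (d : ℂ) := (Blocks.charDegree_cast χ).symm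
  have hnorm : ∑ g : ↥Cfsg.M24, Complex.normSq ((χ : ↥Cfsg.M24 → ℂ) g) = 244823040 := by
    have h := Characters.classInner_isIrr_self χ.2
    rw [Characters.classInner_def, inv_mul_eq_iff_eq_mul₀ Characters.natCard_ne_zero, mul_one,
      card_M24] at h
    simp only [Complex.mul_conj] at h
    exact_mod_cast h
  have hvan : ∀ y e : ↥Cfsg.M24, Commute y e → ¬ 2 ∣ orderOf y → orderOf e = 2 →
      (χ : ↥Cfsg.M24 → ℂ) (y * e) = 0 := by
    intro y e hc hy he
    refine Blocks.char_eq_zero_of_notMem_defect hM (Blocks.isPBlock_blockOf M χ)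
      (Blocks.mem_blockOf_self hM χ) (x := e) ⟨y, hc.symm.eq, hc.symm, ⟨1, by rw [he, pow_one]⟩, hy⟩ ?_
    intro D hD hmem
    have hc1 := Blocks.card_defectGroup hM (Blocks.isPBlock_blockOf M χ) hD
    rw [h0, pow_zero] at hc1
    rw [Subgroup.eq_bot_of_card_eq D hc1, Subgroup.mem_bot] at hmem
    rw [hmem, orderOf_one] at he
    norm_num at he
  have hbound : ∀ (q : ℕ) (x : ↥Cfsg.M24) (E : Subgroup ↥Cfsg.M24) (D : ℕ), q.Prime → q ≠ 2 →
      orderOf x = q → (∀ e ∈ E, Commute x e ∧ e * e = 1) → d = Nat.card E * D →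
      ((Nat.card E : ℝ)) ^ 2 * (((D % q : ℕ) : ℝ) * ((q : ℝ) - (D % q : ℕ))) ≤
        ∑ y ∈ (Finset.univ.filter (· ∈ Subgroup.zpowers x)).erase 1,
          Complex.normSq ((χ : ↥Cfsg.M24 → ℂ) y) := by
    intro q x E D hq hq2 hx hE hdD
    refine power_bound (Characters.irr_isCharacter χ) hq hx (fun e he => (hE e he).1) ?_ (by rw [h1v, hdD])
    intro y hy e he hne
    obtain ⟨i, hi⟩ := Subgroup.mem_zpowers_iff.1 hy
    haveI := Fact.mk hq
    refine hvan y e (hi ▸ ((hE e he).1.zpow_left i)) ?_ (orderOf_eq_prime (by rw [pow_two]; exact (hE e he).2) hne)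
    intro h2
    have hdv := h2.trans (orderOf_dvd_of_mem_zpowers hy)
    rw [hx] at hdv
    exact hq2 ((Nat.prime_dvd_prime_iff_eq Nat.prime_two hq).1 hdv).symm
  have hcl : ∀ c g : ↥Cfsg.M24, Complex.normSq ((χ : ↥Cfsg.M24 → ℂ) (c * g * c⁻¹)) =
      Complex.normSq ((χ : ↥Cfsg.M24 → ℂ) g) := fun c g => by
    rw [Characters.irr_isClassFunction χ g c]
  set S : ℕ → ℝ := fun q =>
    ∑ g ∈ Finset.univ.filter (fun g : ↥Cfsg.M24 => orderOf g = q), Complex.normSq ((χ : ↥Cfsg.M24 → ℂ) g)
  have htot : (d : ℝ) ^ 2 + S 5 + S 7 + S 11 + S 23 ≤ 244823040 := by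
    rw [← hnorm]
    have h1 : ((d : ℝ)) ^ 2 = ∑ g ∈ Finset.univ.filter (fun g : ↥Cfsg.M24 => orderOf g = 1),
        Complex.normSq ((χ : ↥Cfsg.M24 → ℂ) g) := by
      rw [show Finset.univ.filter (fun g : ↥Cfsg.M24 => orderOf g = 1) = {1} by
        ext g; simp [orderOf_eq_one_iff], Finset.sum_singleton, h1v, Complex.normSq_natCast, pow_two]
    simp only [S, h1, Finset.sum_filter, ← Finset.sum_add_distrib]
    refine Finset.sum_le_sum fun g _ => ?_
    have hnn := Complex.normSq_nonneg ((χ : ↥Cfsg.M24 → ℂ) g)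
    generalize orderOf g = o
    split_ifs <;> first | omega | linarith
  -- lower bounds for the four sums
  have hS : ∀ (q M K0 : ℕ) (x : ↥Cfsg.M24) (E : Subgroup ↥Cfsg.M24) (D : ℕ), q.Prime → q ≠ 2 →
      (244823040 : ℕ) = q * M → ¬ q ∣ M → orderOf x = q → (∀ e ∈ E, Commute x e ∧ e * e = 1) →
      d = Nat.card E * D → M ≤ K0 * Nat.card (Sylow q ↥Cfsg.M24) → 0 < K0 →
      ((M : ℝ) / K0) * ((Nat.card E : ℝ) ^ 2 * (((D % q : ℕ) : ℝ) * ((q : ℝ) - (D % q : ℕ)))) ≤ S q := by
    intro q M K0 x E D hq hq2 hG hm hx hE hdD hn hK0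
    haveI := Fact.mk hq
    have hb := hbound q x E D hq hq2 hx hE hdD
    simp only [S]
    rw [sum_order_eq (card_M24.trans hG) hm hx hcl]
    refine mul_le_mul ?_ hb ?_ (Nat.cast_nonneg _)
    · rw [div_le_iff₀ (by exact_mod_cast hK0), mul_comm]
      exact_mod_cast hn
    · refine mul_nonneg (sq_nonneg _) (mul_nonneg (Nat.cast_nonneg _) (sub_nonneg.2 ?_))
      exact_mod_cast (Nat.mod_lt _ hq.pos).le
  obtain ⟨⟨x5, a, b, hx5, ha, hb, ha1, hb1, hab, hcab, hxa, hxb⟩, x7, c, hx7, hc, hc1, hxc⟩ :=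
    exists_elements
  haveI : Fact (Nat.Prime 5) := ⟨by norm_num⟩
  haveI : Fact (Nat.Prime 7) := ⟨by norm_num⟩
  haveI : Fact (Nat.Prime 11) := ⟨by norm_num⟩
  haveI : Fact (Nat.Prime 23) := ⟨by norm_num⟩
  obtain ⟨x11, hx11⟩ := exists_prime_orderOf_dvd_card' (G := ↥Cfsg.M24) 11 (by rw [card_M24]; norm_num)
  obtain ⟨x23, hx23⟩ := exists_prime_orderOf_dvd_card' (G := ↥Cfsg.M24) 23 (by rw [card_M24]; norm_num)
  have hbot : ∀ x : ↥Cfsg.M24, ∀ e ∈ (⊥ : Subgroup ↥Cfsg.M24), Commute x e ∧ e * e = 1 := by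
    intro x e he
    rw [Subgroup.mem_bot] at he
    subst he
    exact ⟨Commute.one_right x, one_mul 1⟩
  obtain ⟨E4, hE4, hE4m⟩ := exists_four ha hb ha1 hb1 hab hcab
  have hE4' : ∀ e ∈ E4, Commute x5 e ∧ e * e = 1 := by
    intro e he
    refine ⟨?_, (hE4m e he).2⟩
    rcases (hE4m e he).1 with rfl | rfl | rfl | rfl
    exacts [Commute.one_right _, hxa, hxb, hxa.mul_right hxb]
  have hE2 : ∀ e ∈ Subgroup.zpowers c, Commute x7 e ∧ e * e = 1 := by
    intro e he
    obtain ⟨i, rfl⟩ := Subgroup.mem_zpowers_iff.1 he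
    refine ⟨hxc.zpow_right i, ?_⟩
    rw [← (Commute.refl c).mul_zpow, hc, one_zpow]
  have hE2c : Nat.card (Subgroup.zpowers c) = 2 := by
    rw [Nat.card_zpowers]; exact orderOf_eq_prime (by rw [pow_two]; exact hc) hc1
  have n23 := sylow_lower (q := 23) (M := 10644480) (B := 1) (K0 := 11) (by norm_num) (by norm_num) hx23
    (by simpa using cent_dvd_perm (k := 1) (by norm_num) (by norm_num) hx23 (by norm_num)
          (by norm_num) (by norm_num)) (by norm_num) (by decide)
  have n11 := sylow_lower (q := 11) (M := 22256640) (B := 4) (K0 := 10) (by norm_num) (by norm_num) hx11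
    (by
      have h := cent_dvd_perm (k := 2) (by norm_num) (by norm_num) hx11 (by norm_num) (by norm_num)
        (by norm_num)
      have h' := Nat.dvd_gcd h ((Subgroup.card_subgroup_dvd_card _).trans card_M24.dvd)
      simpa [Nat.card_eq_fintype_card, Nat.factorial] using h') (by norm_num) (by decide)
  have n7 := sylow_lower (q := 7) (M := 34974720) (B := 36) (K0 := 18) (by norm_num) (by norm_num) hx7
    (by
      have h := cent_dvd_perm (k := 3) (by norm_num) (by norm_num) hx7 (by norm_num) (by norm_num)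
        (by norm_num)
      have h' := Nat.dvd_gcd h ((Subgroup.card_subgroup_dvd_card _).trans card_M24.dvd)
      simpa [Nat.card_eq_fintype_card, Nat.factorial] using h') (by norm_num) (by decide)
  have n5 := sylow_lower (q := 5) (M := 48964608) (B := 24) (K0 := 48) (by norm_num) (by norm_num) hx5
    (by simpa using cent_five hx5) (by norm_num) (by decide)
  have s23 := hS 23 10644480 11 x23 ⊥ d (by norm_num) (by norm_num) (by norm_num) (by norm_num) hx23
    (hbot _) (by rw [Subgroup.card_bot, one_mul]) n23 (by norm_num)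
  have s11 := hS 11 22256640 10 x11 ⊥ d (by norm_num) (by norm_num) (by norm_num) (by norm_num) hx11
    (hbot _) (by rw [Subgroup.card_bot, one_mul]) n11 (by norm_num)
  have s7 := hS 7 34974720 18 x7 (Subgroup.zpowers c) (512 * j) (by norm_num) (by norm_num) (by norm_num)
    (by norm_num) hx7 hE2 (by rw [hE2c, hj]; ring) n7 (by norm_num)
  have s5 := hS 5 48964608 48 x5 E4 (256 * j) (by norm_num) (by norm_num) (by norm_num)
    (by norm_num) hx5 hE4' (by rw [hE4, hj]; ring) n5 (by norm_num)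
  rw [Subgroup.card_bot, hj] at s23 s11
  rw [hE2c] at s7
  rw [hE4] at s5
  rw [hj] at htot hdvd
  have hS0 : ∀ q, 0 ≤ S q := fun q => Finset.sum_nonneg fun g _ => Complex.normSq_nonneg _
  have hj15 : j ≤ 15 := by
    by_contra hlt
    have h16 : (16384 : ℝ) ≤ ((2 ^ 10 * j : ℕ) : ℝ) := by exact_mod_cast (by omega : 16384 ≤ 2 ^ 10 * j)
    have := hS0 5; have := hS0 7; have := hS0 11; have := hS0 23
    nlinarith
  interval_cases j <;> first | (norm_num at hdvd; done) | (norm_num at s23 s11 s7 s5 htot; linarith)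

theorem single_block {M : Ideal Cfsg.AlgInt} (hM : Cfsg.IsPModular 2 M)
    (χ ψ : Cfsg.IrrCharacter ↥Cfsg.M24) :
    Cfsg.SameBlock M (χ : ↥Cfsg.M24 → ℂ) (ψ : ↥Cfsg.M24 → ℂ) := fun g => by
  have h1 := no_defect_zero hM χ g
  have h2 := no_defect_zero hM ψ g
  exact Blocks.cong_trans hM (Blocks.cong_symm hM h1) h2

end Cfsg.Agent.Golay.M24TwoBlock
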