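import Cfsg.Agent.Lib.Golay.MultCert
import Cfsg.Agent.Lib.Golay.MultData
import Cfsg.Agent.Lib.Golay.SylowTwoGroups

/-!
The multipliers of M23 and M24 are trivial.
-/

set_option autoImplicit false
set_option maxRecDepth 20000
set_option linter.style.haveILetI false

namespace Cfsg.Agent.Golay.MultBig

open Cfsg Cfsg.Agent.Golay.Basic Cfsg.Agent.Golay.M24 Cfsg.Agent.Golay.Cert Cfsg.Agent.Golay.TabList
  Cfsg.Agent.Golay.Perm Cfsg.Agent.Golay.Trans Cfsg.Agent.Golay.SylowTwoData
  Cfsg.Agent.Golay.SylowTwo Cfsg.Agent.Golay.MultData Cfsg.Agent.Golay.MultCert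
  Cfsg.Agent.Transfer.SplitLifts
open scoped commutatorElement

local notation "pG" => Equiv.Perm GolayPt

/-- Membership test for M23. -/
def in23 (t : ℕ) : Bool := tabAt t 23 == 23

/-- Membership test for M24. -/
def in24 (_ : ℕ) : Bool := true

/-- Every involution of the Sylow list of M23 is listed. -/
def cover23 : Bool :=
  s23Elems.all fun t => t == idTab || !(mulTab t t == idTab) || conj23.any fun p => p.1 == t

/-- Every involution of the Sylow list of M24 is listed. -/
def cover24 : Bool :=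
  s24Elems.all fun t => t == idTab || !(mulTab t t == idTab) ||
    (conjA.any fun p => p.1 == t) || conjB.any fun p => p.1 == t

/-- The seven elements of a frame. -/
def seven (x y w : ℕ) : List ℕ :=
  [x, y, w, mulTab x y, mulTab x w, mulTab y w, mulTab (mulTab x y) w]

/-- The frame checks. -/
def frames23 : Bool :=
  [frame23x, frame23y, frame23w].all (fun t => tabOK t && in23 t) &&
    (seven frame23x frame23y frame23w).all fun t => conj23.any fun p => p.1 == t

/-- The frame checks for M24. -/
def frames24 : Bool :=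
  [frameAx, frameAy, frameAw, frameBx, frameBy, frameBw].all tabOK &&
    (seven frameAx frameAy frameAw).all (fun t => conjA.any fun p => p.1 == t) &&
    ((seven frameBx frameBy frameBw).take 6).all (fun t => conjA.any fun p => p.1 == t) &&
    conjB.any fun p => p.1 == mulTab (mulTab frameBx frameBy) frameBw

theorem two23 : twoOK in23 v23Pc v23Elems v23Idx u23 a23 b23 c23 1 = true := by decide +kernel
theorem two24 : twoOK in24 v24Pc v24Elems v24Idx u24 a24 b24 c24 2 = true := by decide +kernel
theorem three23 : threeOK in23 x23 y23 r23 1 = true := by decide +kernel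
theorem three24 : threeOK in24 x24 y24 r24 3 = true := by decide +kernel
theorem rep23 : (tabOK inv23 && in23 inv23 && mulTab inv23 inv23 == idTab &&
    pairsOK in23 inv23 conj23) = true := by decide +kernel
theorem rep24 : (tabOK invA && tabOK invB && mulTab invA invA == idTab &&
    pairsOK in24 invA conjA && pairsOK in24 invB conjB) = true := by decide +kernel
theorem cover23_ok : cover23 = true := by decide +kernel
theorem cover24_ok : cover24 = true := by decide +kernel
theorem frames23_ok : frames23 = true := by decide +kernel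
theorem frames24_ok : frames24 = true := by decide +kernel
theorem len23 : v23Pc.length = 4 ∧ s23Pc.length = 7 := by decide +kernel
theorem len24 : v24Pc.length = 6 ∧ s24Pc.length = 10 := by decide +kernel

attribute [local irreducible] mulTab pack tabPerm tabOK idTab

theorem factorization_of_eq {p k r n : ℕ} (hp : p.Prime) (h : n = p ^ k * r) (hr : ¬ p ∣ r) :
    n.factorization p = k := by
  subst h
  have hr0 : r ≠ 0 := by rintro rfl; exact hr (dvd_zero p)
  rw [Nat.factorization_mul (pow_ne_zero _ hp.ne_zero) hr0, Finsupp.add_apply,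
    hp.factorization_pow, Finsupp.single_eq_same, Nat.factorization_eq_zero_of_not_dvd hr, add_zero]

theorem M23_eq_fixers : Spor.M23 = fixers Cfsg.M24 [none] := by
  ext g
  simp [Spor.M23, mem_fixers, Equiv.Perm.smul_def]

theorem card_M23' : Nat.card Spor.M23 = 10200960 := by
  rw [M23_eq_fixers, card_fixers (List.nodup_singleton _) (by simp)]
  decide +kernel

theorem mem23 (t : ℕ) (ht : tabOK t = true) (h : in23 t = true) : tabPerm t ∈ Spor.M23 := by
  rw [M23_eq_fixers]
  refine ⟨tabPerm_mem ht, fun x hx => ?_⟩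
  obtain rfl := List.mem_singleton.1 hx
  rw [show (none : GolayPt) = pt 23 by decide +kernel]
  exact fix_of_tab (by norm_num) ht (by simpa [in23] using h)

theorem mem24 (t : ℕ) (ht : tabOK t = true) (_ : in24 t = true) : tabPerm t ∈ Cfsg.M24 :=
  tabPerm_mem ht

/-- Primes dividing the orders beyond two and three divide them only once. -/
theorem not_sq_dvd {n : ℕ} (hn : n = 10200960 ∨ n = 244823040) {p : ℕ} (hp : p.Prime) (h2 : p ≠ 2)
    (h3 : p ≠ 3) (hd : p ∣ n) : ¬ p ^ 2 ∣ n := by
  have key : ∀ {a b : ℕ}, p ∣ 2 ^ a * (3 ^ b * (5 * (7 * (11 * 23)))) →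
      p = 5 ∨ p = 7 ∨ p = 11 ∨ p = 23 := by
    intro a b h
    rcases hp.dvd_mul.1 h with h | h
    · exact absurd ((Nat.prime_dvd_prime_iff_eq hp Nat.prime_two).1 (hp.dvd_of_dvd_pow h)) h2
    rcases hp.dvd_mul.1 h with h | h
    · exact absurd ((Nat.prime_dvd_prime_iff_eq hp Nat.prime_three).1 (hp.dvd_of_dvd_pow h)) h3
    rcases hp.dvd_mul.1 h with h | h
    · exact Or.inl ((Nat.prime_dvd_prime_iff_eq hp (by norm_num)).1 h)
    rcases hp.dvd_mul.1 h with h | h
    · exact Or.inr (Or.inl ((Nat.prime_dvd_prime_iff_eq hp (by norm_num)).1 h))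
    rcases hp.dvd_mul.1 h with h | h
    · exact Or.inr (Or.inr (Or.inl ((Nat.prime_dvd_prime_iff_eq hp (by norm_num)).1 h)))
    · exact Or.inr (Or.inr (Or.inr ((Nat.prime_dvd_prime_iff_eq hp (by norm_num)).1 h)))
  rcases hn with rfl | rfl
  · rcases key (a := 7) (b := 2) (by norm_num at hd ⊢; exact hd) with rfl | rfl | rfl | rfl <;> norm_num
  · rcases key (a := 10) (b := 3) (by norm_num at hd ⊢; exact hd) with rfl | rfl | rfl | rfl <;> norm_num

theorem good_one {Γ G : Type} [Group Γ] [Group G] {σ : Γ →* G} (hex : ∀ z, σ z = 1 → z * z = 1) :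
    Good σ (1 : G) := fun z hz => hex z hz

theorem good_of_isConj {Γ G : Type} [Group Γ] [Group G] {σ : Γ →* G}
    (hc : σ.ker ≤ Subgroup.center Γ) (hσ : Function.Surjective σ) {r g : G} (h : IsConj r g)
    (hr : Good σ r) : Good σ g := by
  obtain ⟨c, rfl⟩ := isConj_iff.1 h
  exact good_conj hc hσ hr c

/-- All involutions of M23 lift to involutions in extensions with kernel of exponent two. -/
theorem hall23 {Γ : Type} [Group Γ] (σ : Γ →* Spor.M23) (hc : σ.ker ≤ Subgroup.center Γ)
    (hσ : Function.Surjective σ) (hex : ∀ z, σ z = 1 → z * z = 1) :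
    ∀ g : Spor.M23, g * g = 1 → Good σ g := by
  have hrep := rep23
  simp only [Bool.and_eq_true] at hrep
  obtain ⟨⟨⟨hr, hr'⟩, hr2⟩, hps⟩ := hrep
  let R : Spor.M23 := ⟨tabPerm inv23, mem23 _ hr hr'⟩
  have tR : IsTab inv23 (R : pG) := isTab_tabPerm hr
  have hR : R * R = 1 := eq_one_of_table (isTab_mul tR tR) hr2
  have conj : ∀ {t : ℕ} {g : Spor.M23}, IsTab t (g : pG) →
      (conj23.any fun p => p.1 == t) = true → IsConj R g :=
    fun tg ht => isConj_of_listed mem23 tR hps tg ht
  have hfr := frames23_ok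
  simp only [frames23, seven, List.all_cons, List.all_nil, Bool.and_true, Bool.and_eq_true] at hfr
  obtain ⟨⟨⟨hx, hx'⟩, ⟨hy, hy'⟩, ⟨hw, hw'⟩⟩, c1, c2, c3, c4, c5, c6, c7⟩ := hfr
  let X : Spor.M23 := ⟨tabPerm frame23x, mem23 _ hx hx'⟩
  let Y : Spor.M23 := ⟨tabPerm frame23y, mem23 _ hy hy'⟩
  let W : Spor.M23 := ⟨tabPerm frame23w, mem23 _ hw hw'⟩
  have tX : IsTab frame23x (X : pG) := isTab_tabPerm hx
  have tY : IsTab frame23y (Y : pG) := isTab_tabPerm hy
  have tW : IsTab frame23w (W : pG) := isTab_tabPerm hw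
  have hgood : Good σ R := good_of_class hc hσ hex hR (conj tX c1) (conj tY c2) (conj tW c3)
    (conj (g := X * Y) (isTab_mul tX tY) c4) (conj (g := X * W) (isTab_mul tX tW) c5)
    (conj (g := Y * W) (isTab_mul tY tW) c6)
    (conj (g := X * Y * W) (isTab_mul (isTab_mul tX tY) tW) c7)
  intro g hg
  by_cases h1 : g = 1
  · rw [h1]; exact good_one hex
  have hle : tabGroup s23Pc ≤ Spor.M23 := tabGroup_le_of fun t ht => by
    have h := s23_list
    simp only [listOK, Bool.and_eq_true, List.all_eq_true] at h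
    exact mem23 t (h.1.1.1.1 t ht) (List.all_eq_true.1 s23_inG t ht)
  obtain ⟨t, ht, hne, hsq, g', tg', hg'⟩ := exists_listed s23_list hle
    (by rw [card_M23', factorization_of_eq Nat.prime_two (k := 7) (r := 79695) (by norm_num)
      (by norm_num), len23.2]) hg h1
  have hcov := List.all_eq_true.1 cover23_ok t ht
  rw [hsq, beq_self_eq_true, Bool.not_true, Bool.or_false, Bool.or_eq_true, beq_iff_eq] at hcov
  exact good_of_isConj hc hσ ((conj tg' (hcov.resolve_left hne)).trans hg') hgood

/-- All involutions of M24 lift to involutions in extensions with kernel of exponent two. -/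
theorem hall24 {Γ : Type} [Group Γ] (σ : Γ →* Cfsg.M24) (hc : σ.ker ≤ Subgroup.center Γ)
    (hσ : Function.Surjective σ) (hex : ∀ z, σ z = 1 → z * z = 1) :
    ∀ g : Cfsg.M24, g * g = 1 → Good σ g := by
  have hrep := rep24
  simp only [Bool.and_eq_true] at hrep
  obtain ⟨⟨⟨⟨hA, hB⟩, hA2⟩, hpA⟩, hpB⟩ := hrep
  let A : Cfsg.M24 := ⟨tabPerm invA, tabPerm_mem hA⟩
  let B : Cfsg.M24 := ⟨tabPerm invB, tabPerm_mem hB⟩
  have tA : IsTab invA (A : pG) := isTab_tabPerm hA
  have tB : IsTab invB (B : pG) := isTab_tabPerm hB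
  have hAA : A * A = 1 := eq_one_of_table (isTab_mul tA tA) hA2
  have conA : ∀ {t : ℕ} {g : Cfsg.M24}, IsTab t (g : pG) →
      (conjA.any fun p => p.1 == t) = true → IsConj A g :=
    fun tg ht => isConj_of_listed mem24 tA hpA tg ht
  have conB : ∀ {t : ℕ} {g : Cfsg.M24}, IsTab t (g : pG) →
      (conjB.any fun p => p.1 == t) = true → IsConj B g :=
    fun tg ht => isConj_of_listed mem24 tB hpB tg ht
  have hfr := frames24_ok
  simp only [frames24, seven, List.take_succ_cons, List.take_zero, List.all_cons, List.all_nil,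
    Bool.and_true, Bool.and_eq_true] at hfr
  obtain ⟨⟨⟨⟨h1, h2, h3, h4, h5, h6⟩, a1, a2, a3, a4, a5, a6, a7⟩, b1, b2, b3, b4, b5, b6⟩, b7⟩ := hfr
  let X : Cfsg.M24 := ⟨tabPerm frameAx, tabPerm_mem h1⟩
  let Y : Cfsg.M24 := ⟨tabPerm frameAy, tabPerm_mem h2⟩
  let W : Cfsg.M24 := ⟨tabPerm frameAw, tabPerm_mem h3⟩
  let X' : Cfsg.M24 := ⟨tabPerm frameBx, tabPerm_mem h4⟩
  let Y' : Cfsg.M24 := ⟨tabPerm frameBy, tabPerm_mem h5⟩
  let W' : Cfsg.M24 := ⟨tabPerm frameBw, tabPerm_mem h6⟩
  have tX : IsTab frameAx (X : pG) := isTab_tabPerm h1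
  have tY : IsTab frameAy (Y : pG) := isTab_tabPerm h2
  have tW : IsTab frameAw (W : pG) := isTab_tabPerm h3
  have sX : IsTab frameBx (X' : pG) := isTab_tabPerm h4
  have sY : IsTab frameBy (Y' : pG) := isTab_tabPerm h5
  have sW : IsTab frameBw (W' : pG) := isTab_tabPerm h6
  have goodA : Good σ A := good_of_class hc hσ hex hAA (conA tX a1) (conA tY a2) (conA tW a3)
    (conA (g := X * Y) (isTab_mul tX tY) a4) (conA (g := X * W) (isTab_mul tX tW) a5)
    (conA (g := Y * W) (isTab_mul tY tW) a6)
    (conA (g := X * Y * W) (isTab_mul (isTab_mul tX tY) tW) a7)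
  have ga : ∀ {t : ℕ} {g : Cfsg.M24}, IsTab t (g : pG) →
      (conjA.any fun p => p.1 == t) = true → Good σ g :=
    fun tg ht => good_of_isConj hc hσ (conA tg ht) goodA
  have goodB : Good σ B := good_of_isConj hc hσ
    (conB (g := X' * Y' * W') (isTab_mul (isTab_mul sX sY) sW) b7).symm
    (good_triple hc hσ (ga sX b1) (ga sY b2) (ga sW b3) (ga (g := X' * Y') (isTab_mul sX sY) b4)
      (ga (g := X' * W') (isTab_mul sX sW) b5) (ga (g := Y' * W') (isTab_mul sY sW) b6))
  intro g hg
  by_cases h1' : g = 1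
  · rw [h1']; exact good_one hex
  have hle : tabGroup s24Pc ≤ Cfsg.M24 := tabGroup_le_of fun t ht => by
    have h := s24_list
    simp only [listOK, Bool.and_eq_true, List.all_eq_true] at h
    exact tabPerm_mem (h.1.1.1.1 t ht)
  obtain ⟨t, ht, hne, hsq, g', tg', hg'⟩ := exists_listed s24_list hle
    (by rw [card_M24, factorization_of_eq Nat.prime_two (k := 10) (r := 239085) (by norm_num)
      (by norm_num), len24.2]) hg h1'
  have hcov := List.all_eq_true.1 cover24_ok t ht
  rw [hsq, beq_self_eq_true, Bool.not_true, Bool.or_false, Bool.or_eq_true, Bool.or_eq_true,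
    beq_iff_eq] at hcov
  rcases hcov with (h | h) | h
  · exact absurd h hne
  · exact good_of_isConj hc hσ ((conA tg' h).trans hg') goodA
  · exact good_of_isConj hc hσ ((conB tg' h).trans hg') goodB

/-- The multiplier of M23 is trivial. -/
theorem multiplier_M23 : Cfsg.HasCyclicSchurMultiplier (↥Spor.M23) 1 := by
  refine trivial_of_criteria
    (fun Γ _ _ σ hc hσ hex P => two_of_check mem23 two23 one_pos (N := 7)
      (by rw [card_M23']; exact factorization_of_eq Nat.prime_two (r := 79695) (by norm_num) (by norm_num))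
      (by rw [len23.1]; norm_num) σ hc hσ hex (hall23 σ hc hσ hex) P)
    fun p hp h2 hd Γ _ _ σ hc hσ P => ?_
  by_cases h3 : p = 3
  · subst h3
    exact three_of_check mem23 three23 one_pos (N := 2)
      (by rw [card_M23']; exact factorization_of_eq Nat.prime_three (r := 1133440) (by norm_num) (by norm_num))
      (by norm_num) σ hc hσ P
  · refine cyclic_criterion hc hσ ?_ P
    rw [card_M23'] at hd ⊢
    exact not_sq_dvd (Or.inl rfl) hp.out h2 h3 hd

/-- The multiplier of M24 is trivial. -/
theorem multiplier_M24 : Cfsg.HasCyclicSchurMultiplier (↥Cfsg.M24) 1 := by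
  refine trivial_of_criteria
    (fun Γ _ _ σ hc hσ hex P => two_of_check mem24 two24 two_pos (N := 10)
      (by rw [card_M24]; exact factorization_of_eq Nat.prime_two (r := 239085) (by norm_num) (by norm_num))
      (by rw [len24.1]; norm_num) σ hc hσ hex (hall24 σ hc hσ hex) P)
    fun p hp h2 hd Γ _ _ σ hc hσ P => ?_
  by_cases h3 : p = 3
  · subst h3
    exact three_of_check mem24 three24 (by norm_num) (N := 3)
      (by rw [card_M24]; exact factorization_of_eq Nat.prime_three (r := 9067520) (by norm_num) (by norm_num))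
      (by norm_num) σ hc hσ P
  · refine cyclic_criterion hc hσ ?_ P
    rw [card_M24] at hd ⊢
    exact not_sq_dvd (Or.inr rfl) hp.out h2 h3 hd

end Cfsg.Agent.Golay.MultBig
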