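import Cfsg.Agent.Lib.Golay.TabList
import Cfsg.Agent.Lib.Transfer.SplitLifts

/-!
Table certificates for the lifting criteria in subgroups of `Equiv.Perm GolayPt`.
-/

set_option autoImplicit false
set_option maxRecDepth 20000
set_option linter.style.haveILetI false

namespace Cfsg.Agent.Golay.MultCert

open Cfsg Cfsg.Agent.Golay.Basic Cfsg.Agent.Golay.M24 Cfsg.Agent.Golay.Cert Cfsg.Agent.Golay.TabList
  Cfsg.Agent.Transfer.SplitLifts
open scoped commutatorElement

local notation "pG" => Equiv.Perm GolayPt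

/-- The table of a power. -/
def powTab (t : ℕ) : ℕ → ℕ
  | 0 => idTab
  | n + 1 => mulTab (powTab t n) t

/-- The table of a word in three powers. -/
def wordTab (a b c i j k : ℕ) : ℕ := mulTab (mulTab (powTab a i) (powTab b j)) (powTab c k)

/-- The conditions of the criterion at the prime two. -/
def twoOK (inH : ℕ → Bool) (pc L : List ℕ) (idx : List (List ℕ)) (u a b c m : ℕ) : Bool :=
  listOK pc L idx && pc.all inH && [u, a, b, c].all (fun t => tabOK t && inH t) &&
    L.all (fun t => mulTab t t == idTab) && powTab u 3 == idTab &&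
    L.all (fun v => L.contains (mulTab (mulTab u v) (mulTab u u)) &&
      mulTab (mulTab v (mulTab (mulTab u v) (mulTab u u))) (mulTab (mulTab (mulTab u u) v) u) == idTab) &&
    [a, b, c].all (fun t => mulTab t t == idTab &&
      ((mulTab (mulTab t u) t == u) || (mulTab (mulTab t u) t == mulTab u u)) &&
      L.all fun v => L.contains (mulTab (mulTab t v) t)) &&
    powTab (mulTab a b) 4 == idTab && mulTab a c == mulTab c a && mulTab b c == mulTab c b &&
    powTab c m == idTab &&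
    ((List.range 4).all fun i => (List.range 2).all fun j => (List.range m).all fun k =>
      (i == 0 && j == 0 && k == 0) || !L.contains (wordTab (mulTab a b) a c i j k)) &&
    ((List.range 4).all fun i => (List.range 2).all fun j => (List.range m).all fun k =>
      (List.range 4).all fun i' => (List.range 2).all fun j' => (List.range m).all fun k' =>
        (i == i' && j == j' && k == k') ||
          !(wordTab (mulTab a b) a c i j k == wordTab (mulTab a b) a c i' j' k'))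

/-- The table of a commutator of elements of order three. -/
def commTab (x y : ℕ) : ℕ := mulTab (mulTab x y) (mulTab (mulTab x x) (mulTab y y))

/-- The conditions of the criterion at the prime three. -/
def threeOK (inH : ℕ → Bool) (x y r e : ℕ) : Bool :=
  [x, y, r].all (fun t => tabOK t && inH t) && powTab x 3 == idTab && powTab y 3 == idTab &&
    mulTab (commTab x y) x == mulTab x (commTab x y) &&
    mulTab (commTab x y) y == mulTab y (commTab x y) && powTab (commTab x y) e == idTab &&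
    mulTab r x == mulTab (mulTab x x) r &&
    ((commTab x y == idTab && mulTab r y == mulTab y r) ||
      (!(commTab x y == idTab) && mulTab r y == mulTab (mulTab y y) r)) &&
    ((List.range 3).all fun i => (List.range 3).all fun j => (List.range e).all fun k =>
      (List.range 3).all fun i' => (List.range 3).all fun j' => (List.range e).all fun k' =>
        (i == i' && j == j' && k == k') ||
          !(wordTab x y (commTab x y) i j k == wordTab x y (commTab x y) i' j' k'))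

/-- Pairs `(t, g)` with `t g = g r`. -/
def pairsOK (inH : ℕ → Bool) (r : ℕ) (ps : List (ℕ × ℕ)) : Bool :=
  ps.all fun p => tabOK p.2 && inH p.2 && mulTab p.1 p.2 == mulTab p.2 r

attribute [local irreducible] mulTab pack tabPerm tabOK idTab

theorem isTab_pow {t : ℕ} {g : pG} (h : IsTab t g) : ∀ n : ℕ, IsTab (powTab t n) (g ^ n)
  | 0 => by rw [pow_zero]; exact isTab_one
  | n + 1 => by rw [pow_succ]; exact isTab_mul (isTab_pow h n) h

theorem isTab_word {a b c : ℕ} {f g h : pG} (ha : IsTab a f) (hb : IsTab b g) (hc : IsTab c h)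
    (i j k : ℕ) : IsTab (wordTab a b c i j k) (f ^ i * g ^ j * h ^ k) :=
  isTab_mul (isTab_mul (isTab_pow ha i) (isTab_pow hb j)) (isTab_pow hc k)

theorem canon_word (a b c i j k : ℕ) : canon (wordTab a b c i j k) = true := canon_mulTab _ _

theorem isTab_commTab {x y : ℕ} {f g : pG} (hx : IsTab x f) (hy : IsTab y g) (hf : f ^ 3 = 1)
    (hg : g ^ 3 = 1) : IsTab (commTab x y) ⁅f, g⁆ := by
  rw [commutatorElement_def,
    inv_eq_of_mul_eq_one_right (show f * (f * f) = 1 by rw [← hf, pow_three]),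
    inv_eq_of_mul_eq_one_right (show g * (g * g) = 1 by rw [← hg, pow_three]),
    mul_assoc (f * g)]
  exact isTab_mul (isTab_mul hx hy) (isTab_mul (isTab_mul hx hx) (isTab_mul hy hy))

variable {H : Subgroup pG}

theorem coe_comm (f g : H) : ((⁅f, g⁆ : H) : pG) = ⁅(f : pG), (g : pG)⁆ := by
  simp [commutatorElement_def]

theorem eq_of_tables {a b : ℕ} {f g : H} (hf : IsTab a (f : pG)) (hg : IsTab b (g : pG))
    (h : (a == b) = true) : f = g := by
  obtain rfl := beq_iff_eq.1 h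
  exact Subtype.ext (hf.unique hg)

theorem eq_one_of_table {a : ℕ} {f : H} (hf : IsTab a (f : pG)) (h : (a == idTab) = true) : f = 1 :=
  eq_of_tables (g := 1) hf isTab_one h

/-- An element with a table in a complete list. -/
theorem mem_of_table {pc L : List ℕ} {idx : List (List ℕ)} (hl : listOK pc L idx = true) {a : ℕ}
    {f : pG} (hf : IsTab a f) (h : L.contains a = true) : f ∈ tabGroup pc := by
  obtain ⟨hTab, hmem, -⟩ := spec hl
  rw [List.contains_iff_mem] at h
  exact (hmem f).2 ⟨a, h, hf.unique (hTab a h).1⟩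

/-- The criterion at the prime two from a table check. -/
theorem two_of_check {inH : ℕ → Bool} (hH : ∀ t, tabOK t = true → inH t = true → tabPerm t ∈ H)
    {pc L : List ℕ} {idx : List (List ℕ)} {u a b c m : ℕ}
    (h : twoOK inH pc L idx u a b c m = true) (hm0 : 0 < m) {N : ℕ}
    (hN : (Nat.card H).factorization 2 = N) (hNm : 2 ^ pc.length * (8 * m) = 2 ^ N)
    {Γ : Type} [Group Γ] [Finite Γ] (σ : Γ →* H) (hc : σ.ker ≤ Subgroup.center Γ)
    (hσ : Function.Surjective σ) (hex : ∀ z, σ z = 1 → z * z = 1)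
    (hall : ∀ x : H, x * x = 1 → Good σ x) (P : Sylow 2 Γ) :
    ⁅(P : Subgroup Γ), (P : Subgroup Γ)⁆ ⊓ σ.ker = ⊥ := by
  simp only [twoOK, List.all_cons, List.all_nil, Bool.and_true, Bool.and_eq_true] at h
  obtain ⟨⟨⟨⟨⟨⟨⟨⟨⟨⟨⟨⟨hl, hpc⟩, ⟨hu, hu'⟩, ⟨ha, ha'⟩, ⟨hb, hb'⟩, ⟨hc', hc''⟩⟩, hsq⟩, hu3⟩, hact⟩,
    hna, hnb, hnc⟩, hab⟩, hac⟩, hbc⟩, hcm⟩, hinV⟩, hinj⟩ := h
  rw [List.all_eq_true] at hpc hsq hact
  obtain ⟨hTab, hmem, -⟩ := spec hl
  have hle : tabGroup pc ≤ H := tabGroup_le_of fun t ht => by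
    have h' := hl
    simp only [listOK, Bool.and_eq_true, List.all_eq_true] at h'
    exact hH t (h'.1.1.1.1 t ht) (hpc t ht)
  set V := (tabGroup pc).subgroupOf H
  let U : H := ⟨tabPerm u, hH u hu hu'⟩
  let A : H := ⟨tabPerm a, hH a ha ha'⟩
  let B : H := ⟨tabPerm b, hH b hb hb'⟩
  let C : H := ⟨tabPerm c, hH c hc' hc''⟩
  have tU : IsTab u (U : pG) := isTab_tabPerm hu
  have tA : IsTab a (A : pG) := isTab_tabPerm ha
  have tB : IsTab b (B : pG) := isTab_tabPerm hb
  have tC : IsTab c (C : pG) := isTab_tabPerm hc'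
  have tV : ∀ v ∈ V, ∃ t ∈ L, IsTab t ((v : H) : pG) := fun v hv => by
    obtain ⟨t, ht, e⟩ := (hmem _).1 (Subgroup.mem_subgroupOf.1 hv)
    exact ⟨t, ht, e ▸ (hTab t ht).1⟩
  have hU3 : U ^ 3 = 1 := eq_one_of_table (by rw [Subgroup.coe_pow]; exact isTab_pow tU 3) hu3
  have hUi : U⁻¹ = U * U := inv_eq_of_mul_eq_one_right (by rw [← hU3, pow_three])
  have hUUi : (U * U)⁻¹ = U := by rw [← hUi, inv_inv]
  have hact' : ∀ v ∈ V, U * v * U⁻¹ ∈ V ∧ v * (U * v * U⁻¹) * (U * U * v * (U * U)⁻¹) = 1 := by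
    intro v hv
    obtain ⟨t, ht, tv⟩ := tV v hv
    have h := hact t ht
    simp only [Bool.and_eq_true] at h
    refine ⟨Subgroup.mem_subgroupOf.2 (mem_of_table hl ?_ h.1), eq_one_of_table ?_ h.2⟩
    · rw [hUi]; exact isTab_mul (isTab_mul tU tv) (isTab_mul tU tU)
    · rw [hUUi, hUi]
      exact isTab_mul (isTab_mul tv (isTab_mul (isTab_mul tU tv) (isTab_mul tU tU)))
        (isTab_mul (isTab_mul (isTab_mul tU tU) tv) tU)
  have norm : ∀ {n : ℕ} {X : H}, IsTab n (X : pG) →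
      ((mulTab n n == idTab) = true ∧ ((mulTab (mulTab n u) n == u) || (mulTab (mulTab n u) n == mulTab u u)) = true) ∧
        (L.all fun v => L.contains (mulTab (mulTab n v) n)) = true →
      X * X = 1 ∧ (∀ v ∈ V, X * v * X⁻¹ ∈ V) ∧ (X * U * X⁻¹ = U ∨ X * U * X⁻¹ = U * U) := by
    rintro n X tX ⟨⟨h1, h2⟩, h3⟩
    have hX : X * X = 1 := eq_one_of_table (isTab_mul tX tX) h1
    rw [inv_eq_of_mul_eq_one_right hX]
    refine ⟨hX, fun v hv => ?_, ?_⟩
    · obtain ⟨t, ht, tv⟩ := tV v hv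
      exact Subgroup.mem_subgroupOf.2
        (mem_of_table hl (isTab_mul (isTab_mul tX tv) tX) (List.all_eq_true.1 h3 t ht))
    · rcases Bool.or_eq_true_iff.1 h2 with h2 | h2
      · exact Or.inl (eq_of_tables (f := X * U * X) (isTab_mul (isTab_mul tX tU) tX) tU h2)
      · exact Or.inr (eq_of_tables (f := X * U * X) (g := U * U) (isTab_mul (isTab_mul tX tU) tX)
          (isTab_mul tU tU) h2)
  obtain ⟨hA2, hA⟩ := norm tA hna
  obtain ⟨hB2, hB⟩ := norm tB hnb
  obtain ⟨hC2, hC⟩ := norm tC hnc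
  have tW : ∀ i j k : ℕ, IsTab (wordTab (mulTab a b) a c i j k)
      (((A * B) ^ i * A ^ j * C ^ k : H) : pG) := fun i j k => by
    simp only [Subgroup.coe_mul, Subgroup.coe_pow]
    exact isTab_word (isTab_mul tA tB) tA tC i j k
  simp only [List.all_eq_true, List.mem_range, Bool.or_eq_true, Bool.and_eq_true, beq_iff_eq,
    Bool.not_eq_eq_eq_not, Bool.not_true] at hinV hinj
  refine two_criterion hc hσ hex hall (V := V) ?_ hU3 (fun v hv => (hact' v hv).1)
    (fun v hv => (hact' v hv).2) hA2 hB2 hC2 ?_ ?_ ?_ ?_ (m := m) ?_ hm0 ?_ ?_ (N := N) ?_ hN P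
  · intro v hv
    obtain ⟨t, ht, tv⟩ := tV v hv
    exact eq_one_of_table (isTab_mul tv tv) (hsq t ht)
  · exact eq_one_of_table
      (by rw [Subgroup.coe_pow]; exact isTab_pow (isTab_mul tA tB) 4) hab
  · exact eq_of_tables (f := A * C) (g := C * A) (isTab_mul tA tC) (isTab_mul tC tA) hac
  · exact eq_of_tables (f := B * C) (g := C * B) (isTab_mul tB tC) (isTab_mul tC tB) hbc
  · rintro t (rfl | rfl | rfl)
    exacts [hA, hB, hC]
  · exact eq_one_of_table (by rw [Subgroup.coe_pow]; exact isTab_pow tC m) hcm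
  · intro i j k hmemV
    rcases hinV i i.2 j j.2 k k.2 with h | h
    · exact ⟨h.1.1, h.1.2, h.2⟩
    · exfalso
      obtain ⟨t, ht, e⟩ := (hmem _).1 (Subgroup.mem_subgroupOf.1 hmemV)
      have := eq_of_isTab (canon_word _ _ _ _ _ _) (hTab t ht).2 (tW i j k) (e ▸ (hTab t ht).1)
      rw [← this, ← List.contains_iff_mem, h] at ht
      exact Bool.false_ne_true ht
  · rintro ⟨i, j, k⟩ ⟨i', j', k'⟩ e
    rcases hinj i i.2 j j.2 k k.2 i' i'.2 j' j'.2 k' k'.2 with h | h
    · obtain ⟨⟨h1, h2⟩, h3⟩ := h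
      rw [Fin.ext h1, Fin.ext h2, Fin.ext h3]
    · have e' : (A * B) ^ (i : ℕ) * A ^ (j : ℕ) * C ^ (k : ℕ) =
          (A * B) ^ (i' : ℕ) * A ^ (j' : ℕ) * C ^ (k' : ℕ) := e
      have := eq_of_isTab (canon_word _ _ _ _ _ _) (canon_word _ _ _ _ _ _) (tW i j k)
        (e' ▸ tW i' j' k')
      rw [this] at h
      simp at h
  · rw [Nat.card_congr (Subgroup.subgroupOfEquivOfLe hle).toEquiv, card_tabGroup hl, hNm]

/-- The criterion at the prime three from a table check. -/
theorem three_of_check {inH : ℕ → Bool} (hH : ∀ t, tabOK t = true → inH t = true → tabPerm t ∈ H)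
    {x y r e : ℕ} (h : threeOK inH x y r e = true) (he0 : 0 < e) {N : ℕ}
    (hN : (Nat.card H).factorization 3 = N) (hNe : 9 * e = 3 ^ N)
    {Γ : Type} [Group Γ] [Finite Γ] (σ : Γ →* H) (hc : σ.ker ≤ Subgroup.center Γ)
    (hσ : Function.Surjective σ) (P : Sylow 3 Γ) :
    ⁅(P : Subgroup Γ), (P : Subgroup Γ)⁆ ⊓ σ.ker = ⊥ := by
  simp only [threeOK, List.all_cons, List.all_nil, Bool.and_true, Bool.and_eq_true] at h
  obtain ⟨⟨⟨⟨⟨⟨⟨⟨⟨⟨hx, hx'⟩, ⟨hy, hy'⟩, ⟨hr, hr'⟩⟩, hx3⟩, hy3⟩, hwx⟩, hwy⟩, hwe⟩, hrx⟩, hry⟩, hinj⟩ := h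
  let X : H := ⟨tabPerm x, hH x hx hx'⟩
  let Y : H := ⟨tabPerm y, hH y hy hy'⟩
  let R : H := ⟨tabPerm r, hH r hr hr'⟩
  have tX : IsTab x (X : pG) := isTab_tabPerm hx
  have tY : IsTab y (Y : pG) := isTab_tabPerm hy
  have tR : IsTab r (R : pG) := isTab_tabPerm hr
  have hX : X ^ 3 = 1 := eq_one_of_table (by rw [Subgroup.coe_pow]; exact isTab_pow tX 3) hx3
  have hY : Y ^ 3 = 1 := eq_one_of_table (by rw [Subgroup.coe_pow]; exact isTab_pow tY 3) hy3
  have tW : IsTab (commTab x y) ((⁅X, Y⁆ : H) : pG) := by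
    rw [coe_comm]
    exact isTab_commTab tX tY (congrArg Subtype.val hX) (congrArg Subtype.val hY)
  have tword : ∀ i j k : ℕ, IsTab (wordTab x y (commTab x y) i j k)
      ((X ^ i * Y ^ j * ⁅X, Y⁆ ^ k : H) : pG) := fun i j k => by
    simp only [Subgroup.coe_mul, Subgroup.coe_pow]
    exact isTab_word tX tY tW i j k
  have hXi : X⁻¹ = X * X := inv_eq_of_mul_eq_one_right (by rw [← hX, pow_three])
  have hYi : Y⁻¹ = Y * Y := inv_eq_of_mul_eq_one_right (by rw [← hY, pow_three])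
  refine three_criterion hc hσ hX hY ?_ ?_ (r := R) ?_ ?_ (N := N) (e := e) ?_ he0 ?_ hNe hN P
  · exact eq_of_tables (f := ⁅X, Y⁆ * X) (g := X * ⁅X, Y⁆) (isTab_mul tW tX) (isTab_mul tX tW) hwx
  · exact eq_of_tables (f := ⁅X, Y⁆ * Y) (g := Y * ⁅X, Y⁆) (isTab_mul tW tY) (isTab_mul tY tW) hwy
  · rw [hXi, mul_inv_eq_iff_eq_mul]
    exact eq_of_tables (f := R * X) (g := X * X * R) (isTab_mul tR tX)
      (isTab_mul (isTab_mul tX tX) tR) hrx
  · simp only [Bool.or_eq_true, Bool.and_eq_true, Bool.not_eq_eq_eq_not, Bool.not_true] at hry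
    rcases hry with ⟨hw, hy1⟩ | ⟨hw, hy1⟩
    · refine Or.inl ⟨eq_one_of_table tW hw, mul_inv_eq_iff_eq_mul.2 ?_⟩
      exact eq_of_tables (f := R * Y) (g := Y * R) (isTab_mul tR tY) (isTab_mul tY tR) hy1
    · refine Or.inr ⟨fun h1 => ?_, ?_⟩
      · rw [h1] at tW
        rw [beq_eq_false_iff_ne] at hw
        exact hw (eq_of_isTab (canon_mulTab _ _) canon_idTab tW isTab_one)
      · rw [hYi, mul_inv_eq_iff_eq_mul]
        exact eq_of_tables (f := R * Y) (g := Y * Y * R) (isTab_mul tR tY)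
          (isTab_mul (isTab_mul tY tY) tR) hy1
  · exact eq_one_of_table (by rw [Subgroup.coe_pow]; exact isTab_pow tW e) hwe
  · simp only [List.all_eq_true, List.mem_range, Bool.or_eq_true, Bool.and_eq_true, beq_iff_eq,
      Bool.not_eq_eq_eq_not, Bool.not_true] at hinj
    rintro ⟨i, j, k⟩ ⟨i', j', k'⟩ he'
    rcases hinj i i.2 j j.2 k k.2 i' i'.2 j' j'.2 k' k'.2 with h | h
    · obtain ⟨⟨h1, h2⟩, h3⟩ := h
      rw [Fin.ext h1, Fin.ext h2, Fin.ext h3]
    · have e' : X ^ (i : ℕ) * Y ^ (j : ℕ) * ⁅X, Y⁆ ^ (k : ℕ) =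
          X ^ (i' : ℕ) * Y ^ (j' : ℕ) * ⁅X, Y⁆ ^ (k' : ℕ) := he'
      have := eq_of_isTab (canon_word _ _ _ _ _ _) (canon_word _ _ _ _ _ _) (tword i j k)
        (e' ▸ tword i' j' k')
      rw [this] at h
      simp at h

/-- An element whose table is listed among the pairs is conjugate to the representative. -/
theorem isConj_of_listed {inH : ℕ → Bool} (hH : ∀ t, tabOK t = true → inH t = true → tabPerm t ∈ H)
    {r : ℕ} {R : H} (tR : IsTab r (R : pG)) {ps : List (ℕ × ℕ)} (hps : pairsOK inH r ps = true)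
    {t : ℕ} {g : H} (tg : IsTab t (g : pG)) (ht : (ps.any fun p => p.1 == t) = true) : IsConj R g := by
  obtain ⟨p, hp, hpt⟩ := List.any_eq_true.1 ht
  obtain rfl := beq_iff_eq.1 hpt
  have h := List.all_eq_true.1 hps p hp
  simp only [Bool.and_eq_true] at h
  obtain ⟨⟨hk, hk'⟩, hmul⟩ := h
  let K : H := ⟨tabPerm p.2, hH _ hk hk'⟩
  have tK : IsTab p.2 (K : pG) := isTab_tabPerm hk
  refine isConj_iff.2 ⟨K, mul_inv_eq_iff_eq_mul.2 ?_⟩
  exact (eq_of_tables (f := g * K) (g := K * R) (isTab_mul tg tK) (isTab_mul tK tR) hmul).symm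

/-- An involution is conjugate to one with a listed table. -/
theorem exists_listed {pc L : List ℕ} {idx : List (List ℕ)} (hl : listOK pc L idx = true)
    (hle : tabGroup pc ≤ H) (hN : (Nat.card H).factorization 2 = pc.length) {g : H} (h2 : g * g = 1)
    (hne : g ≠ 1) : ∃ t ∈ L, t ≠ idTab ∧ mulTab t t = idTab ∧
      ∃ g' : H, IsTab t (g' : pG) ∧ IsConj g' g := by
  haveI : Fact (Nat.Prime 2) := ⟨Nat.prime_two⟩
  obtain ⟨hTab, hmem, -⟩ := spec hl
  have hcard : Nat.card ((tabGroup pc).subgroupOf H) = 2 ^ (Nat.card H).factorization 2 := by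
    rw [Nat.card_congr (Subgroup.subgroupOfEquivOfLe hle).toEquiv, card_tabGroup hl, hN]
  have hord : orderOf g = 2 := orderOf_eq_prime (by rw [pow_two]; exact h2) hne
  have hpz : IsPGroup 2 (Subgroup.zpowers g) := IsPGroup.of_card (n := 1)
    (by rw [Nat.card_zpowers, hord, pow_one])
  obtain ⟨P, hP⟩ := hpz.exists_le_sylow
  obtain ⟨c, hc⟩ := MulAction.exists_smul_eq H P (Sylow.ofCard _ hcard)
  have h1 : c * g * c⁻¹ ∈ ((c • P : Sylow 2 H) : Subgroup H) :=
    ⟨g, hP (Subgroup.mem_zpowers g), rfl⟩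
  rw [hc] at h1
  obtain ⟨t, ht, et⟩ := (hmem _).1 (Subgroup.mem_subgroupOf.1 h1)
  have htI : IsTab t ((c * g * c⁻¹ : H) : pG) := et ▸ (hTab t ht).1
  refine ⟨t, ht, ?_, ?_, c * g * c⁻¹, htI, (isConj_iff.2 ⟨c, rfl⟩).symm⟩
  · rintro rfl
    have := eq_one_of_table htI (beq_self_eq_true _)
    exact hne (by simpa using this)
  · refine eq_of_isTab (canon_mulTab t t) canon_idTab (isTab_mul htI htI) ?_
    have : (c * g * c⁻¹) * (c * g * c⁻¹) = 1 := by
      calc _ = c * (g * g) * c⁻¹ := by group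
        _ = 1 := by rw [h2]; group
    rw [← Subgroup.coe_mul, this, Subgroup.coe_one]
    exact isTab_one

end Cfsg.Agent.Golay.MultCert
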