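import Cfsg.Agent.Lib.Golay.Small

/-!
Orbit certificates for subgroups of `M24` generated by tables, and normal forms for configurations
of points, an octad, a dodecad.

A certificate is the list of non-root nodes of a search tree in depth-first order, each given as
`(number of stack entries to drop, generator)`.
-/

set_option autoImplicit false
set_option maxRecDepth 10000

namespace Cfsg.Agent.Golay.Orbit

open Cfsg Cfsg.Agent.Golay.Basic Cfsg.Agent.Golay.Design Cfsg.Agent.Golay.Perm Cfsg.Agent.Golay.M24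
  Cfsg.Agent.Golay.M24Data Cfsg.Agent.Golay.Trans Cfsg.Agent.Golay.Cert
open scoped Pointwise

/-- Replay a search tree. -/
def runOrb {σ : Type*} (act : ℕ → σ → σ) (X : List ℕ) :
    List (ℕ × ℕ) → List σ → List σ → List σ
  | [], _, acc => acc
  | (k, g) :: rest, stack, acc =>
    match stack.drop k with
    | [] => acc
    | s :: ss => runOrb act X rest (act (genTab X g) s :: s :: ss) (act (genTab X g) s :: acc)

/-- The nodes of a search tree from a root. -/
def orbitList {σ : Type*} (act : ℕ → σ → σ) (X : List ℕ) (cert : List (ℕ × ℕ)) (s0 : σ) : List σ :=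
  runOrb act X cert [s0] [s0]

theorem runOrb_mem {σ : Type*} {act : ℕ → σ → σ} {X : List ℕ} (hX : X.all tabOK = true)
    {β : Type*} [MulAction (Equiv.Perm GolayPt) β] {enc : β → σ}
    (hact : ∀ tab g, IsTab tab g → ∀ x : β, act tab (enc x) = enc (g • x)) (x0 : β) :
    ∀ (cert : List (ℕ × ℕ)) (stack acc : List σ),
    (∀ s ∈ stack, ∃ g ∈ tabGroup X, enc (g • x0) = s) →
    (∀ s ∈ acc, ∃ g ∈ tabGroup X, enc (g • x0) = s) →
    ∀ s ∈ runOrb act X cert stack acc, ∃ g ∈ tabGroup X, enc (g • x0) = s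
  | [], _, _, _, hacc, s, hs => hacc s hs
  | (k, j) :: rest, stack, acc, hst, hacc, s, hs => by
    simp only [runOrb] at hs
    split at hs
    · exact hacc s hs
    · next s' ss heq =>
      have hmem : ∀ t ∈ s' :: ss, t ∈ stack := fun t ht => List.mem_of_mem_drop (heq ▸ ht)
      have hy : ∃ g ∈ tabGroup X, enc (g • x0) = act (genTab X j) s' := by
        obtain ⟨g, hg, e⟩ := hst s' (hmem s' List.mem_cons_self)
        refine ⟨tabPerm (genTab X j) * g, Subgroup.mul_mem _ ?_ hg, ?_⟩
        · simpa [evalT] using evalT_mem (X := X) [j]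
        · rw [mul_smul, ← hact _ _ (isTab_genTab hX j), e]
      refine runOrb_mem hX hact x0 rest _ _ ?_ ?_ s hs
      · intro t ht
        rcases List.mem_cons.1 ht with rfl | ht
        · exact hy
        · exact hst t (hmem t ht)
      · intro t ht
        rcases List.mem_cons.1 ht with rfl | ht
        · exact hy
        · exact hacc t ht

theorem orbitList_mem {σ : Type*} {act : ℕ → σ → σ} {X : List ℕ} (hX : X.all tabOK = true)
    {β : Type*} [MulAction (Equiv.Perm GolayPt) β] {enc : β → σ}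
    (hact : ∀ tab g, IsTab tab g → ∀ x : β, act tab (enc x) = enc (g • x)) (x0 : β)
    (cert : List (ℕ × ℕ)) : ∀ s ∈ orbitList act X cert (enc x0),
      ∃ g ∈ tabGroup X, enc (g • x0) = s := by
  have h0 : ∀ s ∈ [enc x0], ∃ g ∈ tabGroup X, enc (g • x0) = s := fun s hs => by
    rw [List.mem_singleton.1 hs]
    exact ⟨1, Subgroup.one_mem _, by rw [one_smul]⟩
  exact runOrb_mem hX hact x0 cert _ _ h0 h0

/-- Every candidate is a node of the tree. -/
def coverOK (X : List ℕ) (cert : List (ℕ × ℕ)) (root : ℕ) (cands : List ℕ) : Bool :=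
  let L := orbitList imgTab X cert root
  cands.all fun m => L.contains m

theorem exists_of_cover {X : List ℕ} (hX : X.all tabOK = true) {cert : List (ℕ × ℕ)} {root : ℕ}
    (hroot : root < 2 ^ 24) {cands : List ℕ} (h : coverOK X cert root cands = true)
    {s : Finset GolayPt} (hs : mask s ∈ cands) : ∃ g ∈ tabGroup X, g • maskSet root = s := by
  simp only [coverOK, List.all_eq_true, List.contains_eq_mem, decide_eq_true_eq] at h
  have h' := h _ hs
  rw [show root = mask (maskSet root) from (mask_maskSet hroot).symm] at h'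
  obtain ⟨g, hg, e⟩ := orbitList_mem hX (enc := mask) (fun tab g hg x => imgTab_mask hg x) _ cert _ h'
  exact ⟨g, hg, mask_injective e⟩

/-- Several orbits: a list of roots with certificates. -/
def coversOK (X : List ℕ) (L : List (ℕ × List (ℕ × ℕ))) (key : ℕ → ℕ) (cands : List ℕ) : Bool :=
  L.all (fun rc => decide (rc.1 < 2 ^ 24)) &&
  let ls := L.map fun rc => (key rc.1, orbitList imgTab X rc.2 rc.1)
  cands.all fun m => ls.any fun l => l.1 == key m && l.2.contains m

theorem transitive_of_covers {X : List ℕ} (hX : X.all tabOK = true)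
    {L : List (ℕ × List (ℕ × ℕ))} {key : ℕ → ℕ} {cands : List ℕ}
    (hone : (L.map fun rc => key rc.1).Nodup) (h : coversOK X L key cands = true)
    {s t : Finset GolayPt} (hs : mask s ∈ cands) (ht : mask t ∈ cands)
    (hkey : key (mask s) = key (mask t)) : ∃ g ∈ tabGroup X, g • s = t := by
  simp only [coversOK, Bool.and_eq_true, List.all_eq_true, decide_eq_true_eq, List.any_eq_true,
    List.mem_map, beq_iff_eq, List.contains_eq_mem] at h
  obtain ⟨hroots, h⟩ := h
  obtain ⟨_, ⟨r₁, hr₁, rfl⟩, hk₁, hm₁⟩ := h _ hs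
  obtain ⟨_, ⟨r₂, hr₂, rfl⟩, hk₂, hm₂⟩ := h _ ht
  simp only at hk₁ hk₂ hm₁ hm₂
  obtain rfl : r₁ = r₂ := List.inj_on_of_nodup_map hone hr₁ hr₂ (by rw [hk₁, hk₂, hkey])
  rw [show r₁.1 = mask (maskSet r₁.1) from (mask_maskSet (hroots _ hr₁)).symm] at hm₁ hm₂
  obtain ⟨g, hg, e₁⟩ := orbitList_mem hX (enc := mask) (fun tab g hg x => imgTab_mask hg x) _ r₁.2 _ hm₁
  obtain ⟨g', hg', e₂⟩ := orbitList_mem hX (enc := mask) (fun tab g hg x => imgTab_mask hg x) _ r₁.2 _ hm₂
  refine ⟨g' * g⁻¹, Subgroup.mul_mem _ hg' (Subgroup.inv_mem _ hg), ?_⟩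
  rw [← mask_injective e₁, mul_smul, inv_smul_smul, mask_injective e₂]

/-- All tables fix the listed points. -/
def fixOK (X : List ℕ) (pts : List ℕ) : Bool := X.all fun x => pts.all fun i => tabAt x i == i

/-- All tables fix the listed masks. -/
def stabOK (X : List ℕ) (masks : List ℕ) : Bool := X.all fun x => masks.all fun m => imgTab x m == m

theorem tabGroup_fix {X : List ℕ} (hX : X.all tabOK = true) {pts : List ℕ}
    (h : fixOK X pts = true) {i : ℕ} (hi : i < 24) (hip : i ∈ pts) {g : Equiv.Perm GolayPt}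
    (hg : g ∈ tabGroup X) : g (pt i) = pt i := by
  have hle : tabGroup X ≤ MulAction.stabilizer (Equiv.Perm GolayPt) (pt i) :=
    tabGroup_le_of fun x hx => by
      show tabPerm x (pt i) = pt i
      apply ix_injective
      rw [isTab_tabPerm (List.all_eq_true.1 hX x hx), ix_pt hi]
      simp only [fixOK, List.all_eq_true, beq_iff_eq] at h
      exact h x hx i hip
  exact hle hg

theorem tabGroup_stab {X : List ℕ} (hX : X.all tabOK = true) {masks : List ℕ}
    (h : stabOK X masks = true) {m : ℕ} (hm : m < 2 ^ 24) (hmm : m ∈ masks)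
    {g : Equiv.Perm GolayPt} (hg : g ∈ tabGroup X) : g • maskSet m = maskSet m := by
  have hle : tabGroup X ≤ MulAction.stabilizer (Equiv.Perm GolayPt) (maskSet m) :=
    tabGroup_le_of fun x hx => by
      show tabPerm x • maskSet m = maskSet m
      apply mask_injective
      rw [← imgTab_mask (isTab_tabPerm (List.all_eq_true.1 hX x hx)), mask_maskSet hm]
      simp only [stabOK, List.all_eq_true, beq_iff_eq] at h
      exact h x hx m hmm
  exact hle hg

/-! ### Moving configurations to standard position -/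

/-- The standard octad. -/
abbrev o0 : Finset GolayPt := maskSet baseOctad

theorem o0_mem : o0 ∈ octads := mem_octads_iff.2 (by decide +kernel)

theorem exists_five_ext {s : Finset GolayPt} (hs : 5 ≤ s.card) {l : List GolayPt} (hl : l.Nodup)
    (hlen : l.length ≤ 5) (hls : ∀ x ∈ l, x ∈ s) :
    ∃ a ∈ M24, (∀ i < l.length, a (l.getD i none) = base i) ∧ ∀ x ∈ basePre 5, a⁻¹ x ∈ s := by
  classical
  have hsub : l.toFinset ⊆ s := fun x hx => hls x (List.mem_toFinset.1 hx)
  obtain ⟨t, h1, h2, h3⟩ := Finset.exists_subsuperset_card_eq hsub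
    (by rw [List.toFinset_card_of_nodup hl]; exact hlen) hs
  let l' := l ++ (t \ l.toFinset).toList
  have hnd : l'.Nodup := by
    refine List.nodup_append.2 ⟨hl, Finset.nodup_toList _, fun a ha b hb hab => ?_⟩
    rw [Finset.mem_toList, Finset.mem_sdiff, List.mem_toFinset] at hb
    exact hb.2 (hab ▸ ha)
  have hlen' : l'.length = 5 := by
    simp only [l', List.length_append, Finset.length_toList, Finset.card_sdiff_of_subset h1, h3,
      List.toFinset_card_of_nodup hl]
    omega
  obtain ⟨a, ha, hai⟩ := exists_to_base 5 le_rfl (fun i => l'.getD i none) (by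
    intro i hi j hj h
    simp only [Set.mem_Iio, ← hlen'] at hi hj
    simp only [List.getD_eq_getElem _ _ hi, List.getD_eq_getElem _ _ hj] at h
    exact hnd.getElem_inj_iff.1 h)
  refine ⟨a, ha, fun i hi => ?_, fun x hx => ?_⟩
  · rw [← hai i (by omega)]
    simp only [l', List.getD_eq_getElem?_getD, List.getElem?_append_left hi]
  · obtain ⟨j, hj, rfl⟩ := mem_basePre hx
    rw [← hai j hj, show ∀ z, a⁻¹ (a z) = z from a.symm_apply_apply]
    have hj' : j < l'.length := by omega
    rw [List.getD_eq_getElem _ _ hj']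
    have := List.getElem_mem hj'
    simp only [l', List.mem_append, Finset.mem_toList, Finset.mem_sdiff] at this
    rcases this with h | h
    · exact hls _ h
    · exact h2 h.1

theorem smul_eq_o0 {a : Equiv.Perm GolayPt} (ha : a ∈ M24) {o : Finset GolayPt} (ho : o ∈ octads)
    (h : ∀ x ∈ basePre 5, a⁻¹ x ∈ o) : a • o = o0 := by
  refine octads_eq_of_subset (s := (basePre 5).toFinset) (by decide +kernel)
    (smul_mem_octads ha ho) o0_mem ?_ (by decide +kernel)
  intro x hx
  have := (mem_smul_iff a o (a⁻¹ x)).2 (h x (List.mem_toFinset.1 hx))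
  simpa using this

theorem normal_octad_mem {o : Finset GolayPt} (ho : o ∈ octads) {x : GolayPt} (hx : x ∈ o) :
    ∃ a ∈ M24, a • o = o0 ∧ a x = pt 0 := by
  obtain ⟨a, ha, h1, h2⟩ := exists_five_ext (s := o) (by rw [octad_card ho]; norm_num)
    (l := [x]) (by simp) (by simp) (by simpa using hx)
  exact ⟨a, ha, smul_eq_o0 ha ho h2, h1 0 (by simp)⟩

theorem normal_octad_mem_two {o : Finset GolayPt} (ho : o ∈ octads) {p q : GolayPt} (hp : p ∈ o)
    (hq : q ∈ o) (hpq : p ≠ q) : ∃ a ∈ M24, a • o = o0 ∧ a p = pt 0 ∧ a q = pt 1 := by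
  obtain ⟨a, ha, h1, h2⟩ := exists_five_ext (s := o) (by rw [octad_card ho]; norm_num)
    (l := [p, q]) (by simp [hpq]) (by simp) (by simp [hp, hq])
  exact ⟨a, ha, smul_eq_o0 ha ho h2, h1 0 (by simp), h1 1 (by simp)⟩

theorem exists_fix_o0_map {t : GolayPt} (ht : t ∉ o0) :
    ∃ g ∈ M24, (∀ x ∈ o0, g x = x) ∧ g • o0 = o0 ∧ g t = pt 5 := by
  obtain ⟨g, hg, hgt⟩ := trans_exists (k := 6) (by norm_num) (t := t)
    (Finset.mem_compl.2 ht)
  have hg' : g⁻¹ ∈ fixers M24 (basePre 6) := (fixers M24 _).inv_mem (fixers_mono genGroup_le _ hg)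
  have hfix := (fix_octad_of_fixers6 hg').1
  refine ⟨g⁻¹, hg'.1, hfix, ?_, ?_⟩
  · refine Finset.eq_of_subset_of_card_le (fun y hy => ?_) (by rw [Finset.card_smul_finset])
    rw [smul_finset_def, Finset.mem_image] at hy
    obtain ⟨z, hz, rfl⟩ := hy
    rwa [hfix z hz]
  · rw [Equiv.Perm.inv_eq_iff_eq]; exact hgt.symm

theorem normal_octad_notMem {o : Finset GolayPt} (ho : o ∈ octads) {x : GolayPt} (hx : x ∉ o) :
    ∃ a ∈ M24, a • o = o0 ∧ a x = pt 5 := by
  obtain ⟨a, ha, (hao : a • o = o0)⟩ := exists_smul_octad ho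
  obtain ⟨g, hg, -, hgo, hgx⟩ := exists_fix_o0_map (t := a x) (by
    rw [← hao, mem_smul_iff]; exact hx)
  exact ⟨g * a, M24.mul_mem hg ha, by rw [mul_smul, hao, hgo], hgx⟩

theorem normal_octad_mem_notMem {o : Finset GolayPt} (ho : o ∈ octads) {p q : GolayPt} (hp : p ∈ o)
    (hq : q ∉ o) : ∃ a ∈ M24, a • o = o0 ∧ a p = pt 0 ∧ a q = pt 5 := by
  obtain ⟨a, ha, hao, hap⟩ := normal_octad_mem ho hp
  obtain ⟨g, hg, hfix, hgo, hgq⟩ := exists_fix_o0_map (t := a q) (by
    rw [← hao, mem_smul_iff]; exact hq)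
  refine ⟨g * a, M24.mul_mem hg ha, by rw [mul_smul, hao, hgo], ?_, hgq⟩
  rw [Equiv.Perm.mul_apply, hap]
  exact hfix _ (by decide +kernel)

theorem inter_smul_card (a : Equiv.Perm GolayPt) (s t : Finset GolayPt) :
    ((a • s) ∩ (a • t)).card = (s ∩ t).card := by
  rw [smul_finset_def, smul_finset_def, ← Finset.image_inter _ _ a.injective,
    Finset.card_image_of_injective _ a.injective]

theorem mem_octads_smul {a : Equiv.Perm GolayPt} (ha : a ∈ M24) {s : Finset GolayPt} :
    a • s ∈ octads ↔ s ∈ octads :=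
  ⟨fun h => by simpa using smul_mem_octads (M24.inv_mem ha) h, smul_mem_octads ha⟩

theorem mem_dodecads_smul {a : Equiv.Perm GolayPt} (ha : a ∈ M24) {s : Finset GolayPt} :
    a • s ∈ dodecads ↔ s ∈ dodecads :=
  ⟨fun h => by simpa using smul_mem_dodecads (M24.inv_mem ha) h, smul_mem_dodecads ha⟩

theorem ncard_transport (a : Equiv.Perm GolayPt) {P Q : Finset GolayPt → Prop}
    (h : ∀ s, P s ↔ Q (a • s)) : {s | P s}.ncard = {s | Q s}.ncard := by
  have himg : (fun s => a • s) '' {s | P s} = {s | Q s} := by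
    ext t
    simp only [Set.mem_image, Set.mem_setOf_eq]
    exact ⟨fun ⟨s, hs, e⟩ => e ▸ (h s).1 hs,
      fun ht => ⟨a⁻¹ • t, (h _).2 (by rwa [smul_inv_smul]), smul_inv_smul a t⟩⟩
  rw [← himg, Set.ncard_image_of_injective _ (MulAction.injective a)]

theorem card_inter_eq_pc (s t : Finset GolayPt) : (s ∩ t).card = pc (mask s &&& mask t) := by
  rw [card_eq_pc, mask_inter]

/-- Count the octads (code words of weight `w`) passing a test. -/
theorem count_weight (w : ℕ) (P : Finset GolayPt → Prop) (Q : ℕ → Bool)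
    (h : ∀ s, P s ↔ Q (mask s) = true) {n : ℕ}
    (hn : (codeList.filter fun m => pc m == w && Q m).length = n) :
    {s : Finset GolayPt | s ∈ wordsOfWeight (golayCode : Set (GolayPt → ZMod 2)) w ∧ P s}.ncard = n :=
  ncard_code_filter' _ _ (fun s => by
    simp only [Set.mem_setOf_eq, mem_wordsOfWeight_iff, h, card_eq_pc, Bool.and_eq_true, beq_iff_eq,
      and_assoc]) n hn

/-- The set of low halves (indices modulo 4096) of a list of masks, as a bit set. -/
def lowSet (L : List ℕ) : ℕ := L.foldr (fun m acc => acc ||| 1 <<< (m % 4096)) 0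

theorem exists_of_testBit_lowSet : ∀ {L : List ℕ} {j : ℕ}, (lowSet L).testBit j = true →
    ∃ m ∈ L, m % 4096 = j
  | [], j, h => by simp [lowSet] at h
  | m :: L, j, h => by
    simp only [lowSet, List.foldr_cons, Nat.testBit_or, Bool.or_eq_true, Nat.one_shiftLeft,
      Nat.testBit_two_pow, decide_eq_true_eq] at h
    rcases h with h | h
    · obtain ⟨m', hm', e⟩ := exists_of_testBit_lowSet (L := L) (by simpa [lowSet, Nat.one_shiftLeft] using h)
      exact ⟨m', List.mem_cons_of_mem _ hm', e⟩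
    · exact ⟨m, List.mem_cons_self, h⟩

theorem isCode_eq_of_low {a b : ℕ} (ha : isCode a = true) (hb : isCode b = true)
    (h : a % 4096 = b % 4096) : a = b := by
  simp only [isCode, beq_iff_eq] at ha hb
  rw [← ha, ← hb, ← enc_mod basisMasks a, ← enc_mod basisMasks b]
  exact congrArg _ h

/-- Several orbits on code words; `key` tells them apart. -/
def codeCoversOK (X : List ℕ) (L : List (ℕ × List (ℕ × ℕ))) (key : ℕ → ℕ) (w : ℕ) (Q : ℕ → Bool) :
    Bool :=
  L.all (fun rc => isCode rc.1 && decide (rc.1 < 2 ^ 24)) &&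
  let ls := L.map fun rc => (key rc.1, lowSet (orbitList imgTab X rc.2 rc.1))
  codeList.all fun m => !(pc m == w && Q m) || ls.any fun l => l.1 == key m && l.2.testBit (m % 4096)

/-- Transitivity on each class of code words of weight `w`. -/
theorem transitive_of_codeCovers {X : List ℕ} (hX : X.all tabOK = true)
    {L : List (ℕ × List (ℕ × ℕ))} {key : ℕ → ℕ} {w : ℕ} {Q : ℕ → Bool}
    (hone : (L.map fun rc => key rc.1).Nodup) (h : codeCoversOK X L key w Q = true)
    {s t : Finset GolayPt} (hs : s ∈ wordsOfWeight (golayCode : Set (GolayPt → ZMod 2)) w)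
    (ht : t ∈ wordsOfWeight (golayCode : Set (GolayPt → ZMod 2)) w)
    (hsQ : Q (mask s) = true) (htQ : Q (mask t) = true)
    (hkey : key (mask s) = key (mask t)) : ∃ g ∈ tabGroup X, g • s = t := by
  simp only [codeCoversOK, Bool.and_eq_true, List.all_eq_true, decide_eq_true_eq, Bool.or_eq_true,
    Bool.not_eq_true', List.any_eq_true, List.mem_map, beq_iff_eq] at h
  obtain ⟨hroots, h⟩ := h
  rw [mem_wordsOfWeight_iff] at hs ht
  have hex : ∀ u : Finset GolayPt, isCode (mask u) = true → u.card = w → Q (mask u) = true →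
      ∃ rc ∈ L, key rc.1 = key (mask u) ∧ ∃ g ∈ tabGroup X, g • maskSet rc.1 = u := by
    intro u hu1 hu2 hu3
    rw [card_eq_pc] at hu2
    rcases h _ (mem_codeList hu1) with hn | ⟨_, ⟨rc, hrc, rfl⟩, hk, hb⟩
    · simp [hu2, hu3] at hn
    obtain ⟨m, hm, hmlow⟩ := exists_of_testBit_lowSet hb
    rw [show rc.1 = mask (maskSet rc.1) from (mask_maskSet (hroots _ hrc).2).symm] at hm
    obtain ⟨g, hg, e⟩ := orbitList_mem hX (enc := mask) (fun tab g hg x => imgTab_mask hg x) _ rc.2 _ hm
    refine ⟨rc, hrc, hk, g, hg, mask_injective ?_⟩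
    refine isCode_eq_of_low ?_ hu1 (by rw [e, hmlow])
    rw [← mem_supports_iff]
    exact smul_mem_supports (tabGroup_le_M24 hX hg)
      (mem_supports_iff.2 (by rw [mask_maskSet (hroots _ hrc).2]; exact (hroots _ hrc).1))
  obtain ⟨r₁, hr₁, hk₁, g, hg, e₁⟩ := hex s hs.1 hs.2 hsQ
  obtain ⟨r₂, hr₂, hk₂, g', hg', e₂⟩ := hex t ht.1 ht.2 htQ
  obtain rfl : r₁ = r₂ := List.inj_on_of_nodup_map hone hr₁ hr₂ (by rw [hk₁, hk₂, hkey])
  exact ⟨g' * g⁻¹, Subgroup.mul_mem _ hg' (Subgroup.inv_mem _ hg),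
    by rw [← e₁, mul_smul, inv_smul_smul, e₂]⟩

end Cfsg.Agent.Golay.Orbit
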