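import Cfsg.Agent.Lib.Golay.Trans
import Cfsg.Agent.Lib.Golay.Cert

/-!
The linear fractional subgroup of order 6072 of `M24` and its point stabiliser of order 253 are
maximal, by counting Sylow subgroups for 23 and 11.
-/

set_option autoImplicit false
set_option maxRecDepth 10000

namespace Cfsg.Agent.Golay.PSL23

open Cfsg Cfsg.Agent.Golay.Basic Cfsg.Agent.Golay.Design Cfsg.Agent.Golay.Perm Cfsg.Agent.Golay.M24
  Cfsg.Agent.Golay.Trans
open scoped Pointwise

/-- Multiplication by a unit. -/
def mulP (u : (ZMod 23)ˣ) : Equiv.Perm GolayPt := Equiv.optionCongr (Units.mulLeft u)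

theorem mulP_some (u : (ZMod 23)ˣ) (x : ZMod 23) : mulP u (some x) = some ((u : ZMod 23) * x) := rfl

theorem mulP_none (u : (ZMod 23)ˣ) : mulP u none = none := rfl

theorem unit_ne (w : (ZMod 23)ˣ) : (w : ZMod 23) ≠ 0 := fun e => by
  have h := w.mul_inv
  rw [e, zero_mul] at h
  exact absurd h (by decide)

/-- Multiplication on the finite points. -/
def mulFun (k : ZMod 23) : GolayPt → GolayPt := Option.map (k * ·)

/-- The affine group. -/
def N : Subgroup (Equiv.Perm GolayPt) :=
  Subgroup.closure ({transl} ∪ {g | ∃ u : (ZMod 23)ˣ, IsSquare u ∧ g = mulP u})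

/-- The linear fractional group. -/
def L : Subgroup (Equiv.Perm GolayPt) :=
  Subgroup.closure ({transl, projInv} ∪ {g | ∃ u : (ZMod 23)ˣ, IsSquare u ∧ g = mulP u})

set_option maxHeartbeats 1000000 in
theorem square_code : ∀ w : ZMod 23, w ≠ 0 →
    ∀ b ∈ basisMasks, isCode (mask ((maskSet b).image (mulFun (w * w)))) = true := by decide +kernel

theorem mulP_mem {u : (ZMod 23)ˣ} (hu : IsSquare u) : mulP u ∈ M24 := by
  obtain ⟨w, rfl⟩ := hu
  refine mem_M24_of_basis fun b hb => mem_supports_iff.2 ?_
  have e : (mulP (w * w) : GolayPt → GolayPt) = mulFun ((w : ZMod 23) * (w : ZMod 23)) := by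
    funext p
    cases p <;> rfl
  rw [smul_finset_def, e]
  exact square_code _ (unit_ne w) b hb

theorem N_le : N ≤ fixers M24 [none] := by
  rw [N, Subgroup.closure_le]
  rintro g (rfl | ⟨u, hu, rfl⟩)
  · exact ⟨transl_mem, by simp [transl]⟩
  · exact ⟨mulP_mem hu, by simp [mulP_none]⟩

theorem L_le : L ≤ M24 := by
  rw [L, Subgroup.closure_le]
  rintro g ((rfl | rfl) | ⟨u, hu, rfl⟩)
  · exact transl_mem
  · exact projInv_mem
  · exact mulP_mem hu

theorem N_le_L : N ≤ L := Subgroup.closure_mono (by
  rintro g (rfl | h)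
  · exact Or.inl (Or.inl rfl)
  · exact Or.inr h)

theorem transl_pow (j : ℕ) :
    (∀ y : ZMod 23, (transl ^ j) (some y) = some (y + j)) ∧ (transl ^ j) none = none := by
  induction j with
  | zero => simp
  | succ j ih =>
    refine ⟨fun y => ?_, ?_⟩
    · rw [pow_succ', Equiv.Perm.mul_apply, ih.1, Nat.cast_succ, ← add_assoc]; rfl
    · rw [pow_succ', Equiv.Perm.mul_apply, ih.2]; rfl

theorem transl_moves : transl (some 0 : GolayPt) ≠ some 0 := by decide +kernel

theorem orderOf_transl : orderOf transl = 23 := by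
  haveI : Fact (Nat.Prime 23) := ⟨by norm_num⟩
  refine orderOf_eq_prime ?_ fun e => transl_moves (by rw [e]; rfl)
  refine Equiv.ext fun p => ?_
  obtain ⟨h1, h2⟩ := transl_pow 23
  cases p with
  | none => exact h2
  | some y =>
    rw [h1]
    show (some (y + ((23 : ℕ) : ZMod 23)) : GolayPt) = some y
    rw [ZMod.natCast_self, add_zero]

theorem transl_mem_N : transl ∈ N := Subgroup.subset_closure (Or.inl rfl)

set_option maxHeartbeats 1000000 in
theorem mul_square : ∀ k : ZMod 23,
    (∀ b ∈ basisMasks, isCode (mask ((maskSet b).image (mulFun k))) = true) → k ^ 11 = 1 := by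
  decide +kernel

/-- An element normalising the translations is affine with a square multiplier. -/
theorem norm_affine {σ : Equiv.Perm GolayPt} (hσ : σ ∈ M24) (hn : σ none = none)
    (hc : σ * transl * σ⁻¹ ∈ Subgroup.zpowers transl) :
    ∃ k b : ZMod 23, k ^ 11 = 1 ∧ ∀ x, σ (some x) = some (k * x + b) := by
  obtain ⟨k, hk⟩ := mem_powers_iff_mem_zpowers.2 hc
  change transl ^ k = σ * transl * σ⁻¹ at hk
  have hmove : ∀ q, σ (transl q) = (transl ^ k) (σ q) := fun q => by
    rw [hk]; simp
  obtain ⟨b, hb⟩ := Option.ne_none_iff_exists'.1 (show σ (some 0) ≠ none from fun e =>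
    Option.some_ne_none (0 : ZMod 23) (σ.injective (e.trans hn.symm)))
  have hval : ∀ x, σ (some x) = some ((k : ZMod 23) * x + b) := by
    intro x
    rw [← ZMod.natCast_zmod_val x]
    induction x.val with
    | zero => rw [Nat.cast_zero, mul_zero, zero_add]; exact hb
    | succ n ih =>
      have := hmove (some (n : ZMod 23))
      rw [show transl (some (n : ZMod 23)) = some ((n : ZMod 23) + 1) from rfl, ih, (transl_pow k).1] at this
      rw [Nat.cast_succ, this]
      exact congrArg some (by ring)
  refine ⟨k, b, ?_, hval⟩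
  have hν : ∀ q, ((transl ^ b.val)⁻¹ * σ) q = mulFun (k : ZMod 23) q := by
    intro q
    rw [Equiv.Perm.mul_apply, Equiv.Perm.inv_eq_iff_eq]
    cases q with
    | none => rw [hn]; exact ((transl_pow b.val).2).symm
    | some x =>
      show σ (some x) = (transl ^ b.val) (some ((k : ZMod 23) * x))
      rw [hval, (transl_pow b.val).1, ZMod.natCast_zmod_val]
  refine mul_square _ fun m hm => ?_
  have hmem := smul_mem_supports (M24.mul_mem (M24.inv_mem (M24.pow_mem transl_mem b.val)) hσ)
    (show maskSet m ∈ codeSets by rw [mem_supports_iff]; revert m; decide +kernel)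
  rw [smul_finset_def, mem_supports_iff, Finset.image_congr fun q _ => hν q] at hmem
  exact hmem

theorem mem_norm_of_conj {H : Type*} [Group H] [Finite H] {g c : H}
    (h : c * g * c⁻¹ ∈ Subgroup.zpowers g) :
    ∀ x, x ∈ Subgroup.zpowers g ↔ c * x * c⁻¹ ∈ Subgroup.zpowers g := by
  have e : Subgroup.zpowers (c * g * c⁻¹) = Subgroup.zpowers g :=
    Subgroup.eq_of_le_of_card_ge (Subgroup.zpowers_le.2 h) (by
      rw [Nat.card_zpowers, Nat.card_zpowers]
      exact (MulEquiv.orderOf_eq (MulAut.conj c) g).ge)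
  intro x
  constructor
  · intro hx
    obtain ⟨i, rfl⟩ := Subgroup.mem_zpowers_iff.1 hx
    rw [← e]
    exact Subgroup.mem_zpowers_iff.2 ⟨i, conj_zpow⟩
  · intro hx
    rw [← e] at hx
    obtain ⟨i, hi⟩ := Subgroup.mem_zpowers_iff.1 hx
    rw [conj_zpow] at hi
    exact Subgroup.mem_zpowers_iff.2 ⟨i, mul_left_cancel (mul_right_cancel hi)⟩

/-- The stabiliser of the extra point normalising the translations. -/
def S : Subgroup (Equiv.Perm GolayPt) :=
  fixers M24 [none] ⊓ Subgroup.normalizer ((Subgroup.zpowers transl : Subgroup (Equiv.Perm GolayPt)) : Set (Equiv.Perm GolayPt))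

theorem mem_S {σ : Equiv.Perm GolayPt} :
    σ ∈ S ↔ σ ∈ fixers M24 [none] ∧ σ * transl * σ⁻¹ ∈ Subgroup.zpowers transl := by
  rw [S, Subgroup.mem_inf, Subgroup.mem_normalizer_iff]
  exact ⟨fun h => ⟨h.1, (h.2 _).1 (Subgroup.mem_zpowers _)⟩, fun h => ⟨h.1, mem_norm_of_conj h.2⟩⟩

theorem mulP_conj (u : (ZMod 23)ˣ) : mulP u * transl * (mulP u)⁻¹ = transl ^ ((u : ZMod 23).val) := by
  rw [mul_inv_eq_iff_eq_mul]
  refine Equiv.ext fun p => ?_
  rw [Equiv.Perm.mul_apply, Equiv.Perm.mul_apply]
  cases p with
  | none =>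
    rw [show transl (none : GolayPt) = none from rfl, mulP_none]
    exact ((transl_pow _).2).symm
  | some x =>
    rw [show transl (some x : GolayPt) = some (x + 1) from rfl, mulP_some, mulP_some, (transl_pow _).1,
      ZMod.natCast_zmod_val, mul_add, mul_one]

theorem unit_ok : ∃ w : (ZMod 23)ˣ, (w : ZMod 23) = 5 := ⟨ZMod.unitOfCoprime 5 (by norm_num), rfl⟩

/-- The multiplier of order eleven. -/
noncomputable def mEl : Equiv.Perm GolayPt := mulP (unit_ok.choose * unit_ok.choose)

theorem mEl_some (x : ZMod 23) : mEl (some x) = some (2 * x) := by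
  rw [mEl, mulP_some, Units.val_mul, unit_ok.choose_spec]
  congr 1

theorem mEl_none : mEl none = none := rfl

theorem mEl_pow (j : ℕ) : (∀ x : ZMod 23, (mEl ^ j) (some x) = some (2 ^ j * x)) ∧ (mEl ^ j) none = none := by
  induction j with
  | zero => simp
  | succ j ih =>
    refine ⟨fun y => ?_, ?_⟩
    · rw [pow_succ', Equiv.Perm.mul_apply, ih.1, mEl_some, pow_succ', mul_assoc]
    · rw [pow_succ', Equiv.Perm.mul_apply, ih.2, mEl_none]

theorem two_pow : ((2 : ZMod 23) ^ 11 = 1) ∧ (2 : ZMod 23) ≠ 1 := by decide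

theorem orderOf_mEl : orderOf mEl = 11 := by
  haveI : Fact (Nat.Prime 11) := ⟨by norm_num⟩
  refine orderOf_eq_prime (Equiv.ext fun p => ?_) fun e => ?_
  · cases p with
    | none => exact (mEl_pow 11).2
    | some x => rw [(mEl_pow 11).1, two_pow.1, one_mul]; rfl
  · have := mEl_some 1
    rw [e, mul_one] at this
    exact two_pow.2 (Option.some.inj this).symm

theorem mEl_mem_N : mEl ∈ N := Subgroup.subset_closure (Or.inr ⟨_, ⟨_, rfl⟩, rfl⟩)

theorem N_eq : N = S := by
  have hle : N ≤ S := by
    rw [N, Subgroup.closure_le]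
    rintro g hg
    refine mem_S.2 ⟨N_le (Subgroup.subset_closure hg), ?_⟩
    rcases hg with rfl | ⟨u, -, rfl⟩
    · rw [mul_inv_cancel_right]; exact Subgroup.mem_zpowers _
    · rw [mulP_conj]; exact Subgroup.npow_mem_zpowers _ _
  refine Subgroup.eq_of_le_of_card_ge hle ?_
  have h1 : 253 ∣ Nat.card N := by
    have a := orderOf_transl ▸ Subgroup.orderOf_dvd_natCard N transl_mem_N
    have b := orderOf_mEl ▸ Subgroup.orderOf_dvd_natCard N mEl_mem_N
    exact Nat.Coprime.mul_dvd_of_dvd_of_dvd (by norm_num : Nat.Coprime 23 11) a b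
  have key : ∀ σ : S, ∃ kb : {k : ZMod 23 // k ^ 11 = 1} × ZMod 23,
      ∀ x, (σ : Equiv.Perm GolayPt) (some x) = some (kb.1.1 * x + kb.2) := by
    rintro ⟨σ, hσ⟩
    obtain ⟨h, hc⟩ := mem_S.1 hσ
    obtain ⟨k, b, hk, hv⟩ := norm_affine h.1 (h.2 none List.mem_cons_self) hc
    exact ⟨(⟨k, hk⟩, b), hv⟩
  choose f hf using key
  have hfi : Function.Injective f := by
    intro σ τ e
    refine Subtype.ext (Equiv.ext fun p => ?_)
    cases p with
    | none => rw [(mem_S.1 σ.2).1.2 none List.mem_cons_self, (mem_S.1 τ.2).1.2 none List.mem_cons_self]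
    | some x => rw [hf, hf, e]
  have h2 := Nat.card_le_card_of_injective f hfi
  rw [Nat.card_eq_fintype_card (α := {k : ZMod 23 // k ^ 11 = 1} × ZMod 23)] at h2
  have h253 : Fintype.card ({k : ZMod 23 // k ^ 11 = 1} × ZMod 23) = 253 := by decide +kernel
  have := Nat.le_of_dvd Nat.card_pos h1
  omega

theorem card_N : Nat.card N = 253 := by
  have h1 : 253 ∣ Nat.card N := by
    have a := orderOf_transl ▸ Subgroup.orderOf_dvd_natCard N transl_mem_N
    have b := orderOf_mEl ▸ Subgroup.orderOf_dvd_natCard N mEl_mem_N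
    exact Nat.Coprime.mul_dvd_of_dvd_of_dvd (by norm_num : Nat.Coprime 23 11) a b
  have key : ∀ σ : N, ∃ kb : {k : ZMod 23 // k ^ 11 = 1} × ZMod 23,
      ∀ x, (σ : Equiv.Perm GolayPt) (some x) = some (kb.1.1 * x + kb.2) := by
    rintro ⟨σ, hσ⟩
    rw [N_eq] at hσ
    obtain ⟨h, hc⟩ := mem_S.1 hσ
    obtain ⟨k, b, hk, hv⟩ := norm_affine h.1 (h.2 none List.mem_cons_self) hc
    exact ⟨(⟨k, hk⟩, b), hv⟩
  choose f hf using key
  have hfi : Function.Injective f := by
    intro σ τ e
    refine Subtype.ext (Equiv.ext fun p => ?_)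
    cases p with
    | none => rw [(N_le σ.2).2 none List.mem_cons_self, (N_le τ.2).2 none List.mem_cons_self]
    | some x => rw [hf, hf, e]
  have h2 := Nat.card_le_card_of_injective f hfi
  rw [Nat.card_eq_fintype_card (α := {k : ZMod 23 // k ^ 11 = 1} × ZMod 23)] at h2
  have h253 : Fintype.card ({k : ZMod 23 // k ^ 11 = 1} × ZMod 23) = 253 := by decide +kernel
  have := Nat.le_of_dvd Nat.card_pos h1
  omega

/-! ### The elements inverting the multiplier -/

/-- Discrete logarithm to base two. -/
def dlog (x : ZMod 23) : ℕ := ((List.range 11).find? fun i => (2 : ZMod 23) ^ i == x).getD 0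

/-- The map determined by two values and an exponent. -/
def conjVal (k : ℕ) (A B x : ZMod 23) : ZMod 23 :=
  if x = 0 then 0 else if x ^ 11 = 1 then 2 ^ (k * dlog x) * A else 2 ^ (k * dlog (14 * x)) * B

theorem dlog_spec : ∀ x : ZMod 23, x ≠ 0 →
    if x ^ 11 = 1 then (2 : ZMod 23) ^ dlog x * 1 = x else (2 : ZMod 23) ^ dlog (14 * x) * 5 = x := by
  decide +kernel

set_option maxHeartbeats 1000000 in
theorem conj_code : ∀ k ∈ [1, 10], ∀ A B : ZMod 23,
    (∀ b ∈ basisMasks, isCode (mask ((maskSet b).image (Option.map (conjVal k A B)))) = true) →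
      k = 1 ∧ B = 5 * A ∧ A ^ 11 = 1 := by decide +kernel

theorem conjVal_one : ∀ A x : ZMod 23, conjVal 1 A (5 * A) x = A * x := by decide +kernel

theorem dlog_pow : ∀ A : ZMod 23, A ^ 11 = 1 → (2 : ZMod 23) ^ dlog A = A := by decide +kernel

theorem no_involution {c : Equiv.Perm GolayPt} (hc : c ∈ fixers M24 [none, pt 0]) (h2 : c ^ 2 = 1)
    (hn : c * mEl * c⁻¹ ∈ Subgroup.zpowers mEl) : c = 1 := by
  have cn : c none = none := hc.2 none (by simp)
  have c0 : c (some 0) = some 0 := hc.2 (pt 0) (by simp)
  obtain ⟨k0, hk0⟩ := mem_powers_iff_mem_zpowers.2 hn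
  change mEl ^ k0 = c * mEl * c⁻¹ at hk0
  set k := k0 % 11 with hkdef
  have hk : mEl ^ k = c * mEl * c⁻¹ := by rw [hkdef, ← orderOf_mEl, pow_mod_orderOf, hk0]
  have hk1 : k = 1 ∨ k = 10 := by
    have h1 : mEl = (c * mEl * c⁻¹) ^ k := by
      rw [conj_pow, hk, show c * (c * mEl * c⁻¹) * c⁻¹ = c ^ 2 * mEl * (c ^ 2)⁻¹ by rw [pow_two]; group,
        h2, one_mul, inv_one, mul_one]
    rw [← hk, ← pow_mul] at h1
    have h3 : (k * k) % 11 = 1 := by
      have := (pow_eq_pow_iff_modEq (x := mEl) (n := k * k) (m := 1)).1 (by rw [← h1, pow_one])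
      rw [orderOf_mEl] at this
      exact this
    have hlt : k < 11 := Nat.mod_lt _ (by norm_num)
    interval_cases k <;> omega
  have nn : ∀ x : ZMod 23, c (some x) ≠ none := fun x e =>
    Option.some_ne_none x (c.injective (e.trans cn.symm))
  obtain ⟨A, hA⟩ := Option.ne_none_iff_exists'.1 (nn 1)
  obtain ⟨B, hB⟩ := Option.ne_none_iff_exists'.1 (nn 5)
  have step : ∀ i : ℕ, ∀ x y : ZMod 23, c (some x) = some y → c (some (2 ^ i * x)) = some (2 ^ (k * i) * y) := by
    intro i x y hxy
    have e : c * mEl ^ i = (mEl ^ (k * i)) * c := by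
      rw [pow_mul, hk, conj_pow]; group
    have := congrArg (fun σ : Equiv.Perm GolayPt => σ (some x)) e
    simp only [Equiv.Perm.mul_apply, (mEl_pow _).1, hxy] at this
    exact this
  have hval : ∀ q, c q = Option.map (conjVal k A B) q := by
    intro q
    cases q with
    | none => exact cn
    | some x =>
      show c (some x) = some (conjVal k A B x)
      by_cases hx : x = 0
      · subst hx; rw [conjVal, if_pos rfl]; exact c0
      · have hs := dlog_spec x hx
        rw [conjVal, if_neg hx]
        by_cases h11 : x ^ 11 = 1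
        · rw [if_pos h11] at hs ⊢
          conv_lhs => rw [← hs]
          exact step _ 1 A hA
        · rw [if_neg h11] at hs ⊢
          conv_lhs => rw [← hs]
          exact step _ 5 B hB
  obtain ⟨e1, hBA, hA11⟩ := conj_code k (by rcases hk1 with e | e <;> simp [e]) A B fun b hb => by
    have hmem := smul_mem_supports hc.1
      (show maskSet b ∈ codeSets by rw [mem_supports_iff]; revert b; decide +kernel)
    rw [smul_finset_def, mem_supports_iff, Finset.image_congr fun q _ => hval q] at hmem
    exact hmem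
  have hc' : c = mEl ^ dlog A := by
    refine Equiv.ext fun q => ?_
    rw [hval q]
    cases q with
    | none => exact ((mEl_pow _).2).symm
    | some x =>
      show some (conjVal k A B x) = _
      rw [e1, hBA, conjVal_one, (mEl_pow _).1, dlog_pow A hA11]
  have h11 : c ^ 11 = 1 := by
    rw [hc', ← pow_mul, mul_comm, pow_mul, ← orderOf_mEl, pow_orderOf_eq_one, one_pow]
  simpa using pow_gcd_eq_one.2 ⟨h2, h11⟩

/-! ### Maximality -/

theorem fixers_nil (G : Subgroup (Equiv.Perm GolayPt)) : fixers G [] = G :=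
  le_antisymm (fixers_le G []) fun g hg => ⟨hg, by simp⟩

theorem cands : ∀ q < 1754, 40320 % (23 * q + 1) = 0 → 23 * q + 1 ∈ [1, 24, 70, 576, 1680, 40320] := by
  decide +kernel

theorem eleven_test : ∀ n ∈ [24, 70, 576, 1680], ∀ j ≤ n, j % 2 = 1 → n % j = 0 → (n / j) % 11 ≠ 1 := by
  decide +kernel

theorem no_middle (K : Subgroup (Equiv.Perm GolayPt)) (hN : N ≤ K) (hK : K ≤ fixers M24 [none]) :
    K = N ∨ K = fixers M24 [none] := by
  classical
  haveI : Fact (Nat.Prime 23) := ⟨by norm_num⟩
  haveI : Fact (Nat.Prime 11) := ⟨by norm_num⟩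
  have hM23 : Nat.card (fixers M24 [none]) = 10200960 := by
    rw [card_fixers (List.nodup_singleton _) (by simp)]; rfl
  have hdvdK : Nat.card K ∣ 10200960 := hM23 ▸ Subgroup.card_dvd_of_le hK
  have h253 : 253 ∣ Nat.card K := card_N ▸ Subgroup.card_dvd_of_le hN
  obtain ⟨n, hn⟩ := h253
  have hn40320 : n ∣ 40320 := by
    rw [hn, show 10200960 = 253 * 40320 by norm_num] at hdvdK
    exact Nat.dvd_of_mul_dvd_mul_left (by norm_num) hdvdK
  have h23 : ¬ 23 ∣ n := fun h => by have := h.trans hn40320; norm_num at this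
  have ht : transl ∈ K := hN transl_mem_N
  have hfact : (Nat.card K).factorization 23 = 1 := by
    rw [hn, show 253 * n = 23 * (11 * n) by ring, Nat.factorization_mul (by norm_num) (by
      intro e; rcases Nat.mul_eq_zero.1 e with e | e
      · norm_num at e
      · subst e; exact h23 (dvd_zero _))]
    rw [Finsupp.add_apply, (by norm_num : Nat.Prime 23).factorization_self,
      Nat.factorization_eq_zero_of_not_dvd]
    intro h
    exact h23 ((Nat.Prime.dvd_mul (by norm_num)).1 h |>.resolve_left (by norm_num))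
  let P : Sylow 23 K := Sylow.ofCard ((Subgroup.zpowers transl).subgroupOf K) (by
    rw [Nat.card_congr (Subgroup.subgroupOfEquivOfLe ((Subgroup.zpowers_le).2 ht)).toEquiv, Nat.card_zpowers,
      orderOf_transl, hfact, pow_one])
  have hnorm : Subgroup.normalizer (((P : Subgroup K)) : Set K) = N.subgroupOf K := by
    ext c
    rw [Subgroup.mem_normalizer_iff, Subgroup.mem_subgroupOf, N_eq, mem_S]
    constructor
    · intro h
      exact ⟨hK c.2, Subgroup.mem_subgroupOf.1 ((h ⟨transl, ht⟩).1 (Subgroup.mem_subgroupOf.2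
        (Subgroup.mem_zpowers _)))⟩
    · rintro ⟨-, h⟩ x
      exact mem_norm_of_conj h (x : Equiv.Perm GolayPt)
  have hs : Nat.card (Sylow 23 K) = n := by
    rw [P.card_eq_index_normalizer.trans (congrArg Subgroup.index hnorm)]
    have h := (N.subgroupOf K).index_mul_card
    rw [Nat.card_congr (Subgroup.subgroupOfEquivOfLe hN).toEquiv, card_N, hn] at h
    exact Nat.eq_of_mul_eq_mul_right (by norm_num) (h.trans (mul_comm 253 n))
  have hmod : n % 23 = 1 := hs ▸ card_sylow_modEq_one 23 K
  have hle : n ≤ 40320 := Nat.le_of_dvd (by norm_num) hn40320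
  have hlist := cands (n / 23) (by omega) (by
    rw [show 23 * (n / 23) + 1 = n by omega]; exact Nat.mod_eq_zero_of_dvd hn40320)
  rw [show 23 * (n / 23) + 1 = n by omega] at hlist
  simp only [List.mem_cons, List.not_mem_nil, or_false] at hlist
  rcases hlist with rfl | h | h | h | h | rfl
  · exact Or.inl (Subgroup.eq_of_le_of_card_ge hN (by rw [hn, card_N])).symm
  rotate_right
  · exact Or.inr (Subgroup.eq_of_le_of_card_ge hK (by rw [hn, hM23]))
  all_goals
    exfalso
    set K0 := fixers K [pt 0] with hK0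
    have hK0c : Nat.card K0 = 11 * n := by
      have hstep := card_fixers_step K [] (pt 0) ((Finset.univ : Finset GolayPt).erase none)
        (fun g hg => Finset.mem_erase.2 ⟨fun e => by
          have hgn : g none = none := (hK hg.1).2 none List.mem_cons_self
          exact Option.some_ne_none (0 : ZMod 23) (g.injective (e.trans hgn.symm)), Finset.mem_univ _⟩)
        (fun t htm => by
          obtain ⟨x, rfl⟩ := Option.ne_none_iff_exists'.1 (Finset.mem_erase.1 htm).1
          refine ⟨transl ^ x.val, ⟨K.pow_mem ht _, by simp⟩, ?_⟩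
          show (transl ^ x.val) (some 0) = some x
          rw [(transl_pow _).1, ZMod.natCast_zmod_val, zero_add])
      rw [fixers_nil, hn, Finset.card_erase_of_mem (Finset.mem_univ _), Finset.card_univ,
        show Fintype.card GolayPt = 24 by decide] at hstep
      rw [hK0]; omega
    have hm : mEl ∈ K0 := ⟨hN mEl_mem_N, fun y hy => by
      obtain rfl := List.mem_singleton.1 hy
      show mEl (some 0) = some 0
      rw [mEl_some, mul_zero]⟩
    have hfact' : (Nat.card K0).factorization 11 = 1 := by
      rw [hK0c, Nat.factorization_mul (by norm_num) (by omega), Finsupp.add_apply,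
        (by norm_num : Nat.Prime 11).factorization_self, Nat.factorization_eq_zero_of_not_dvd (by omega)]
    let Q : Sylow 11 K0 := Sylow.ofCard ((Subgroup.zpowers mEl).subgroupOf K0) (by
      rw [Nat.card_congr (Subgroup.subgroupOfEquivOfLe ((Subgroup.zpowers_le).2 hm)).toEquiv,
        Nat.card_zpowers, orderOf_mEl, hfact', pow_one])
    set NQ := Subgroup.normalizer (((Q : Subgroup K0)) : Set K0) with hNQ
    have hodd : Nat.card NQ % 2 = 1 := by
      by_contra hev
      haveI : Fact (Nat.Prime 2) := ⟨Nat.prime_two⟩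
      obtain ⟨c, hc⟩ := exists_prime_orderOf_dvd_card' 2 (G := NQ) (by omega)
      have hcn := (Subgroup.mem_normalizer_iff.1 c.2 ⟨mEl, hm⟩).1
        (Subgroup.mem_subgroupOf.2 (Subgroup.mem_zpowers _))
      have hcmem : ((c : K0) : Equiv.Perm GolayPt) ∈ fixers M24 [none, pt 0] := by
        obtain ⟨hcK, hc0⟩ := (c : K0).2
        refine ⟨(hK hcK).1, fun y hy => ?_⟩
        rcases List.mem_cons.1 hy with rfl | hy
        · exact (hK hcK).2 _ List.mem_cons_self
        · exact hc0 y hy
      have h1 := no_involution hcmem (congrArg (fun z : NQ => ((z : K0) : Equiv.Perm GolayPt))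
          (hc ▸ pow_orderOf_eq_one c : c ^ 2 = 1)) (Subgroup.mem_subgroupOf.1 hcn)
      rw [show c = 1 from Subtype.ext (Subtype.ext h1), orderOf_one] at hc
      norm_num at hc
    have h11 : 11 ∣ Nat.card NQ := by
      have := Subgroup.card_dvd_of_le (Subgroup.le_normalizer : (Q : Subgroup K0) ≤ NQ)
      refine dvd_trans ?_ this
      rw [show Nat.card ↥(Q : Subgroup K0) = 11 ^ (Nat.card K0).factorization 11 from Q.card_eq_multiplicity, hfact']
      norm_num
    obtain ⟨j, hj⟩ := h11
    have hsyl : Nat.card (Sylow 11 K0) * j = n := by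
      have h := NQ.index_mul_card
      rw [show NQ.index = Nat.card (Sylow 11 K0) from Q.card_eq_index_normalizer.symm, hK0c, hj, show Nat.card (Sylow 11 K0) * (11 * j) =
        11 * (Nat.card (Sylow 11 K0) * j) by ring] at h
      exact Nat.eq_of_mul_eq_mul_left (by norm_num) h
    have hjn : n % j = 0 := by rw [← hsyl, Nat.mul_mod_left]
    have hj0 : 0 < j := Nat.pos_of_ne_zero fun e => by rw [e, mul_zero] at hsyl; omega
    have := eleven_test n (by simp [h]) j (Nat.le_of_dvd (by omega) ⟨_, hsyl.symm.trans (mul_comm _ _)⟩)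
      (by omega) hjn
    apply this
    rw [← hsyl, Nat.mul_div_cancel _ hj0]
    exact card_sylow_modEq_one 11 K0

/-- The family of dodecads. -/
def fam : List ℕ := [129431, 165759, 258862, 331518, 366503, 470393, 491269, 517724, 599543, 643955, 653901, 663036, 733006, 849075, 940786, 954839, 964841, 977557, 982538, 1035448, 1107375, 1169181, 1199086, 1204081, 1244041, 1262845, 1287910, 1307802, 1326072, 1383893, 1402519, 1466012, 1467197, 1490055, 1508339, 1518285, 1550091, 1563721, 1613111, 1625931, 1667135, 1698150, 1714153, 1727659, 1808541, 1846461, 1881572, 1909678, 1914673, 1929682, 1955114, 1965076, 2004579, 2070896, 2073809, 2214750, 2219969, 2260627, 2338362, 2341541, 2389447, 2398172, 2408162, 2412863, 2443125, 2463951, 2476723, 2488082, 2525690, 2549287, 2558767, 2575820, 2615604, 2652144, 2682537, 2707933, 2767786, 2774135, 2805038, 2831545, 2932024, 2934394, 2937573, 2980110, 3016678, 3029575, 3036570, 3088843, 3100182, 3127442, 3226222, 3251862, 3334270, 3339489, 3348969, 3361685, 3396300, 3428306,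 3455318, 3531833, 3617082, 3678105, 3692922, 3707487, 3729693, 3757673, 3763144, 3770835, 3819356, 3829346, 3843399, 3859364, 3910228, 3930152, 3966765, 4009158, 4012121, 4121161, 4141792, 4147618, 4162183, 4259019, 4277183, 4377555, 4429500, 4439938, 4494075, 4516281, 4521254, 4618841, 4671723, 4676724, 4683082, 4747991, 4778894, 4796344, 4816324, 4825726, 4886250, 4895563, 4927902, 4939331, 4948473, 4953446, 4969349, 4976164, 5000859, 5007269, 5027871, 5051380, 5058133, 5098574, 5117534, 5151640, 5196593, 5231208, 5304288, 5324617, 5365074, 5389027, 5400735, 5415866, 5426279, 5432665, 5468947, 5473687, 5535572, 5548270, 5581371, 5610076, 5663090, 5709091, 5738725, 5864048, 5868788, 5875146, 5960220, 6033356, 6048047, 6059150, 6073140, 6079721, 6116003, 6177686, 6200364, 6254884, 6275395, 6323813, 6332895, 6383081, 6441341, 6452444, 6503724, 6530165, 6568299, 6642085, 6663969, 6668540, 6678978, 6694733, 6697938, 6708239, 6723370, 6792600, 6856612, 6888817, 6894671, 6907443, 6910636, 6928777, 6931147, 6984989, 7048849,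 7063666, 7218327, 7234164, 7252305, 7332001, 7356210, 7360751, 7385844, 7414974, 7459386, 7478453, 7515346, 7526288, 7541670, 7548423, 7638712, 7641639, 7648025, 7658692, 7659877, 7686798, 7718728, 7803467, 7820456, 7860304, 7874679, 7933530, 7968515, 8015123, 8018316, 8024242, 8096037, 8131643, 8178561, 8201865, 8242322, 8260125, 8283584, 8295236, 8324366, 8452849, 8481979, 8493631, 8517090, 8534893, 8575350, 8598654, 8645572, 8681178, 8752973, 8758899, 8762092, 8808700, 8843685, 8902536, 8916911, 8956759, 8973748, 9058487, 9090417, 9117338, 9118523, 9129190, 9135576, 9138503, 9228792, 9235545, 9250927, 9261869, 9298762, 9317829, 9362241, 9391371, 9416464, 9421005, 9445214, 9524910, 9543051, 9558888, 9713549, 9728366, 9792226, 9846068, 9848438, 9866579, 9869772, 9882544, 9888398, 9920603, 9984615, 10053845, 10068976, 10079277, 10082482, 10098237, 10108675, 10113246, 10135130, 10208916, 10247050, 10273491, 10324771, 10335874, 10394134, 10444320, 10453402, 10501820, 10522331, 10576851, 10599529, 10661212, 10697494,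 10704075, 10718065, 10729168, 10743859, 10816995, 10902069, 10908427, 10913167, 11038490, 11068124, 11114125, 11167139, 11195844, 11228945, 11241643, 11303528, 11308268, 11344550, 11350936, 11361349, 11376480, 11388188, 11412141, 11452598, 11472927, 11546007, 11580622, 11625575, 11659681, 11678641, 11719082, 11725835, 11749344, 11769946, 11776356, 11801051, 11807866, 11823769, 11828742, 11837884, 11849313, 11881652, 11890965, 11951489, 11960891, 11980871, 11998321, 12029224, 12094133, 12100491, 12105492, 12158374, 12255961, 12260934, 12283140, 12337277, 12347715, 12399660, 12500032, 12518196, 12615032, 12629597, 12635423, 12656054, 12765094, 12768057, 12810450, 12847063, 12866987, 12917851, 12933816, 12947869, 12957859, 13006380, 13014071, 13019542, 13047522, 13069728, 13084293, 13099110, 13160133, 13245382, 13321897, 13348909, 13380915, 13415530, 13428246, 13437726, 13442945, 13525353, 13550993, 13649773, 13677033, 13688372, 13740645, 13747640, 13760537, 13797105, 13839642, 13842821, 13845191, 13945670, 13972177,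 14003080, 14009429, 14069282, 14094678, 14125071, 14161611, 14201395, 14218448, 14227928, 14251525, 14289133, 14300492, 14313264, 14334090, 14364352, 14369053, 14379043, 14387768, 14435674, 14438853, 14516588, 14557246, 14562465, 14703406, 14706319, 14772636, 14812139, 14822101, 14847533, 14862542, 14867537, 14895643, 14930754, 14968674, 15049556, 15063062, 15079065, 15110080, 15151284, 15164104, 15213494, 15227124, 15258930, 15268876, 15287160, 15310018, 15311203, 15374696, 15393322, 15451143, 15469413, 15489305, 15514370, 15533174, 15573134, 15578129, 15608034, 15669840, 15741767, 15794677, 15799658, 15812374, 15822376, 15836429, 15928140, 16044209, 16114179, 16123314, 16133260, 16177672, 16259491, 16285946, 16306822, 16410712, 16445697, 16518353, 16611456, 16647784]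

theorem fam_ok :
    ((fam.all fun m => decide (m < 2 ^ 24)) = true ∧
      (fam.all fun m => fam.contains (Cert.imgTab (M24Data.letterTab 0) m)) = true ∧
      (fam.all fun m => fam.contains (Cert.imgTab (M24Data.letterTab 2) m)) = true ∧
      (fam.all fun m => fam.contains (Cert.imgTab 983435072843990828779021698901151808 m)) = true) ∧
    (fam.any fun m => !fam.contains (Cert.imgTab (M24Data.letterTab 3) m)) = true := by decide +kernel

theorem mEl_tab : Cert.IsTab 983435072843990828779021698901151808 mEl := by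
  have h : ∀ p, ix (mulFun 2 p) = tabAt 983435072843990828779021698901151808 (ix p) := by decide +kernel
  intro p
  rw [← h p]
  cases p with
  | none => rfl
  | some x => rw [mEl_some]; rfl

theorem L_ne : L ≠ M24 := by
  intro e
  obtain ⟨⟨hlt, h0, h2, hm⟩, hout⟩ := fam_ok
  simp only [List.all_eq_true, decide_eq_true_eq, List.contains_eq_mem] at hlt h0 h2 hm
  let H : Subgroup (Equiv.Perm GolayPt) := MulAction.stabilizer _ (maskSet '' {m | m ∈ fam})
  have key : ∀ (g : Equiv.Perm GolayPt) (tab : ℕ), Cert.IsTab tab g →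
      (∀ m ∈ fam, Cert.imgTab tab m ∈ fam) → g ∈ H := by
    intro g tab hg hf
    show g • (maskSet '' {m | m ∈ fam}) = maskSet '' {m | m ∈ fam}
    refine Set.eq_of_subset_of_ncard_le ?_ (by rw [Set.ncard_smul_set]) (Set.toFinite _)
    rintro _ ⟨_, ⟨m, hm', rfl⟩, rfl⟩
    refine ⟨_, hf m hm', ?_⟩
    have e1 := Cert.imgTab_mask hg (maskSet m)
    rw [mask_maskSet (hlt m hm')] at e1
    rw [e1, maskSet_mask]
  have hmH := key mEl _ mEl_tab hm
  have hL : L ≤ H := by
    rw [L, Subgroup.closure_le]
    rintro g ((rfl | rfl) | ⟨u, ⟨w, rfl⟩, rfl⟩)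
    · exact key _ _ (fun p => ix_letterPerm 0 p) h0
    · exact key _ _ (fun p => ix_letterPerm 2 p) h2
    · have h11 : ((w : ZMod 23) * w) ^ 11 = 1 := by
        have : ∀ x : ZMod 23, x ≠ 0 → (x * x) ^ 11 = 1 := by decide +kernel
        exact this _ (unit_ne w)
      have : mulP (w * w) = mEl ^ dlog ((w : ZMod 23) * w) := by
        refine Equiv.ext fun p => ?_
        cases p with
        | none => exact ((mEl_pow _).2).symm
        | some x => rw [(mEl_pow _).1, dlog_pow _ h11, mulP_some, Units.val_mul]
      rw [this]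
      exact H.pow_mem hmH _
  have hc : cubeTwist ∈ H := hL (e ▸ cubeTwist_mem)
  rw [List.any_eq_true] at hout
  obtain ⟨m, hm', hno⟩ := hout
  obtain ⟨m', hm'', e'⟩ : cubeTwist • maskSet m ∈ maskSet '' {m | m ∈ fam} :=
    (show cubeTwist • (maskSet '' {m | m ∈ fam}) = _ from hc) ▸ Set.smul_mem_smul_set ⟨m, hm', rfl⟩
  have e1 := Cert.imgTab_mask (tab := M24Data.letterTab 3) (fun p => ix_letterPerm 3 p) (maskSet m)
  rw [mask_maskSet (hlt m hm'), show letterPerm 3 = cubeTwist from rfl, ← e', mask_maskSet (hlt m' hm'')] at e1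
  simp [List.contains_eq_mem, e1, show m' ∈ fam from hm''] at hno

theorem L_trans (t : GolayPt) : ∃ g ∈ L, g none = t := by
  have h1 : projInv ∈ L := Subgroup.subset_closure (Or.inl (Or.inr rfl))
  cases t with
  | none => exact ⟨1, L.one_mem, rfl⟩
  | some x =>
    refine ⟨transl ^ x.val * projInv, L.mul_mem (L.pow_mem (N_le_L transl_mem_N) _) h1, ?_⟩
    rw [Equiv.Perm.mul_apply, show projInv (none : GolayPt) = some 0 by decide +kernel, (transl_pow _).1,
      ZMod.natCast_zmod_val, zero_add]

theorem card_over (H : Subgroup (Equiv.Perm GolayPt)) (hH : L ≤ H) (hH' : H ≤ M24) :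
    (Nat.card H = 6072 ∧ fixers H [none] = N) ∨ H = M24 := by
  have hstep := card_fixers_step H [] none Finset.univ (fun g _ => Finset.mem_univ _) (fun t _ => by
    obtain ⟨g, hg, e⟩ := L_trans t
    exact ⟨g, ⟨hH hg, by simp⟩, e⟩)
  rw [fixers_nil, Finset.card_univ, show Fintype.card GolayPt = 24 by decide] at hstep
  rcases no_middle (fixers H [none]) (fun g hg => ⟨hH (N_le_L hg), (N_le hg).2⟩) (fixers_mono hH' _) with h | h
  · exact Or.inl ⟨by rw [hstep, h, card_N], h⟩
  · refine Or.inr (Subgroup.eq_of_le_of_card_ge hH' ?_)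
    rw [hstep, h, card_fixers (List.nodup_singleton _) (by simp), card_M24]; rfl

theorem card_L : Nat.card L = 6072 := ((card_over L le_rfl L_le).resolve_right L_ne).1

theorem L_max (H : Subgroup (Equiv.Perm GolayPt)) (hH : L ≤ H) (hH' : H ≤ M24) : H = L ∨ H = M24 :=
  (card_over H hH hH').imp (fun h => (Subgroup.eq_of_le_of_card_ge hH (by rw [h.1, card_L])).symm) id

/-- Maximality along an injective map. -/
theorem isCoatom_comap {G : Type*} [Group G] (f : G →* Equiv.Perm GolayPt) (hf : Function.Injective f)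
    (A : Subgroup (Equiv.Perm GolayPt)) (hA : A ≤ f.range) (hne : A ≠ f.range)
    (hmax : ∀ K, A ≤ K → K ≤ f.range → K = A ∨ K = f.range) : IsCoatom (A.comap f) := by
  refine ⟨fun e => hne ?_, fun B hB => ?_⟩
  · rw [← Subgroup.map_comap_eq_self hA, e, ← MonoidHom.range_eq_map]
  · have h1 : A ≤ B.map f := by
      rw [← Subgroup.map_comap_eq_self hA]; exact Subgroup.map_mono hB.le
    rcases hmax _ h1 (Subgroup.map_le_range f B) with h | h
    · exfalso
      exact hB.ne (by rw [← h, Subgroup.comap_map_eq_self_of_injective hf])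
    · rw [← Subgroup.comap_map_eq_self_of_injective hf B, h, MonoidHom.range_eq_map,
        Subgroup.comap_map_eq_self_of_injective hf]

theorem main : (L ≤ M24 ∧ Nat.card L = 6072 ∧ IsCoatom (L.subgroupOf M24)) ∧
    (N ≤ M24 ⊓ MulAction.stabilizer (Equiv.Perm GolayPt) (none : GolayPt) ∧ Nat.card N = 253 ∧
      IsCoatom ((N.subgroupOf M24).subgroupOf (MulAction.stabilizer M24 (none : GolayPt)))) := by
  refine ⟨⟨L_le, card_L, ?_⟩, ?_, card_N, ?_⟩
  · exact isCoatom_comap M24.subtype M24.subtype_injective L (by rw [Subgroup.range_subtype]; exact L_le)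
      (by rw [Subgroup.range_subtype]; exact L_ne) (by rw [Subgroup.range_subtype]; exact L_max)
  · exact fun g hg => ⟨(N_le hg).1, (N_le hg).2 none List.mem_cons_self⟩
  · set f := M24.subtype.comp (MulAction.stabilizer M24 (none : GolayPt)).subtype with hf
    have hr : f.range = fixers M24 [none] := by
      ext g
      constructor
      · rintro ⟨⟨⟨x, hx⟩, hx'⟩, rfl⟩
        exact ⟨hx, fun y hy => by obtain rfl := List.mem_singleton.1 hy; exact hx'⟩
      · intro hg
        exact ⟨⟨⟨g, hg.1⟩, hg.2 none List.mem_cons_self⟩, rfl⟩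
    have hne : N ≠ fixers M24 [none] := fun e => by
      have := card_N
      rw [e, card_fixers (List.nodup_singleton _) (by simp)] at this
      norm_num at this
    exact isCoatom_comap f (M24.subtype_injective.comp (Subgroup.subtype_injective _)) N
      (hr ▸ N_le) (hr ▸ hne) (hr ▸ no_middle)

end Cfsg.Agent.Golay.PSL23
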