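import Cfsg.Agent.Lib.Golay.Steiner

/-! Parity of the intersections of a small point set with the blocks of a Steiner system. -/

set_option autoImplicit false

namespace Cfsg.Agent.Golay.Parity

open Cfsg Finset

variable {α : Type*} [Fintype α] [DecidableEq α] {t k : ℕ} {B : Set (Finset α)}

/-- Binomial moments of the intersection numbers with a point set `Y`. -/
theorem moment (hB : IsSteinerSystem t k B) (htk : t ≤ k) {v : ℕ} (hv : Fintype.card α = v)
    (Y : Finset α) (i : ℕ) (hi : i ≤ t) :
    ∑ j ∈ range (Y.card + 1), ((Steiner.blocks B).filter fun b => (b ∩ Y).card = j).card * j.choose i =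
      Y.card.choose i * Steiner.lam t k v i := by
  classical
  have h1 : ∑ b ∈ Steiner.blocks B, (b ∩ Y).card.choose i = Y.card.choose i * Steiner.lam t k v i := by
    calc ∑ b ∈ Steiner.blocks B, (b ∩ Y).card.choose i
        = ∑ b ∈ Steiner.blocks B, ((Y.powersetCard i).filter fun S => S ⊆ b).card := by
          refine sum_congr rfl fun b _ => ?_
          rw [← card_powersetCard]
          congr 1
          ext S
          simp only [mem_powersetCard, mem_filter, subset_inter_iff]
          tauto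
      _ = ∑ S ∈ Y.powersetCard i, ((Steiner.blocks B).filter fun b => S ⊆ b).card := by
          simp only [card_filter]
          exact sum_comm
      _ = ∑ _S ∈ Y.powersetCard i, Steiner.lam t k v i := by
          refine sum_congr rfl fun S hS => ?_
          rw [mem_powersetCard] at hS
          rw [← Steiner.ncard_eq_filter, Steiner.ncard_through hB htk hv (by omega), hS.2]
      _ = _ := by simp
  rw [← h1, ← sum_fiberwise_of_maps_to (g := fun b => (b ∩ Y).card)
    (t := range (Y.card + 1)) (fun b _ => mem_range.2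
      (Nat.lt_succ_of_le (card_le_card inter_subset_right)))]
  refine sum_congr rfl fun j _ => ?_
  rw [sum_congr rfl (g := fun _ => j.choose i) (fun b hb => by rw [(mem_filter.1 hb).2])]
  simp

theorem zero_of_parity (Y : Finset α) (ε : ℕ) (h : ∀ b ∈ B, Even ((b ∩ Y).card + ε)) (j : ℕ) :
    (j + ε) % 2 = 0 ∨ ((Steiner.blocks B).filter fun b => (b ∩ Y).card = j).card = 0 := by
  by_contra hc
  push Not at hc
  obtain ⟨b, hb⟩ := card_pos.1 (Nat.pos_of_ne_zero hc.2)
  rw [mem_filter, Steiner.mem_blocks] at hb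
  exact hc.1 (Nat.even_iff.1 (hb.2 ▸ h b hb.1))

theorem lam_4723 : Steiner.lam 4 7 23 0 = 253 ∧ Steiner.lam 4 7 23 1 = 77 ∧
    Steiner.lam 4 7 23 2 = 21 ∧ Steiner.lam 4 7 23 3 = 5 ∧ Steiner.lam 4 7 23 4 = 1 := by
  decide +kernel

theorem lam_3622 : Steiner.lam 3 6 22 0 = 77 ∧ Steiner.lam 3 6 22 1 = 21 ∧
    Steiner.lam 3 6 22 2 = 5 ∧ Steiner.lam 3 6 22 3 = 1 := by decide +kernel

theorem weight_4723 (hB : IsSteinerSystem 4 7 B) (hα : Fintype.card α = 23) (Y : Finset α) (ε : ℕ)
    (hε : ε ≤ 1) (hY : 1 ≤ Y.card + ε) (h : ∀ b ∈ B, Even ((b ∩ Y).card + ε)) :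
    8 ≤ Y.card + ε := by
  by_contra hlt
  obtain ⟨l0, l1, l2, l3, l4⟩ := lam_4723
  have m := fun i hi => moment hB (by norm_num) hα Y i hi
  have m0 := m 0 (by omega); have m1 := m 1 (by omega); have m2 := m 2 (by omega)
  have m3 := m 3 (by omega); have m4 := m 4 (by omega)
  rw [l0] at m0; rw [l1] at m1; rw [l2] at m2; rw [l3] at m3; rw [l4] at m4
  have z := zero_of_parity Y ε h
  have z0 := z 0; have z1 := z 1; have z2 := z 2; have z3 := z 3
  have z4 := z 4; have z5 := z 5; have z6 := z 6; have z7 := z 7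
  have hy : Y.card ≤ 7 := by omega
  generalize hN : (fun j => ((Steiner.blocks B).filter fun b => (b ∩ Y).card = j).card) = N
  have hN' : ∀ j, ((Steiner.blocks B).filter fun b => (b ∩ Y).card = j).card = N j :=
    fun j => congrFun hN j
  simp only [hN'] at m0 m1 m2 m3 m4 z0 z1 z2 z3 z4 z5 z6 z7
  generalize Y.card = y at *
  interval_cases ε <;> interval_cases y <;>
    simp [sum_range_succ, Nat.choose] at m0 m1 m2 m3 m4 <;> omega

theorem weight_3622 (hB : IsSteinerSystem 3 6 B) (hα : Fintype.card α = 22) (Y : Finset α) (ε : ℕ)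
    (hε : ε ≤ 1) (hY : 1 ≤ Y.card + ε) (h : ∀ b ∈ B, Even ((b ∩ Y).card + ε)) :
    6 + ε ≤ Y.card := by
  by_contra hlt
  obtain ⟨l0, l1, l2, l3⟩ := lam_3622
  have m := fun i hi => moment hB (by norm_num) hα Y i hi
  have m0 := m 0 (by omega); have m1 := m 1 (by omega); have m2 := m 2 (by omega)
  have m3 := m 3 (by omega)
  rw [l0] at m0; rw [l1] at m1; rw [l2] at m2; rw [l3] at m3
  have z := zero_of_parity Y ε h
  have z0 := z 0; have z1 := z 1; have z2 := z 2; have z3 := z 3
  have z4 := z 4; have z5 := z 5; have z6 := z 6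
  have hy : Y.card ≤ 6 := by omega
  generalize hN : (fun j => ((Steiner.blocks B).filter fun b => (b ∩ Y).card = j).card) = N
  have hN' : ∀ j, ((Steiner.blocks B).filter fun b => (b ∩ Y).card = j).card = N j :=
    fun j => congrFun hN j
  simp only [hN'] at m0 m1 m2 m3 z0 z1 z2 z3 z4 z5 z6
  generalize Y.card = y at *
  interval_cases ε <;> interval_cases y <;>
    simp [sum_range_succ, Nat.choose] at m0 m1 m2 m3 <;> omega

end Cfsg.Agent.Golay.Parity
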