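import Cfsg.Agent.Lib.Golay.PlaneData
import Cfsg.Agent.Lib.Golay.Small
import Cfsg.Agent.Lib.Golay.Hexacode
import Cfsg.Agent.Lib.Classical.Linear

/-!
The fixer of three points and the linear group of the plane over four elements.
-/

set_option autoImplicit false
set_option maxRecDepth 20000

namespace Cfsg.Agent.Golay.Plane

open Cfsg Cfsg.Agent.Golay.Basic Cfsg.Agent.Golay.M24 Cfsg.Agent.Golay.Cert Cfsg.Agent.Golay.Perm
  Cfsg.Agent.Golay.Trans Cfsg.Agent.Golay.PlaneData Cfsg.Agent.Golay.Hexacode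

/-- The fixer of three points. -/
def M21K : Subgroup (Equiv.Perm GolayPt) := fixers Cfsg.M24 [pt 0, pt 1, pt 2]

theorem card_M21K : Nat.card M21K = 20160 :=
  (card_fixers (by decide +kernel) (by simp)).trans rfl

/-- The symbols of a representative. -/
def vecS (k : Fin 21) : Fin 3 → Fin 4 := fun i => Fin.ofNat 4 ((planeVecs.getD k.1 []).getD i.1 0)

/-- The label of a point of the plane. -/
def lab (k : Fin 21) : GolayPt := pt (planeLabels.getD k.1 0)

theorem lab_spec : Function.Injective lab ∧ ∀ p, p = pt 0 ∨ p = pt 1 ∨ p = pt 2 ∨ ∃ k, lab k = p := by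
  decide +kernel

/-- The symbol form of a transvection. -/
def transS (i j : Fin 3) (c : Fin 4) (v : Fin 3 → Fin 4) : Fin 3 → Fin 4 :=
  fun m => if m = i then addT (v m) (mulT c (v j)) else v m

/-- A table realising a transvection on the labels. -/
def transOK (i j : Fin 3) (c : Fin 4) (tab : ℕ) : Bool :=
  tabOK tab && tabAt tab 0 == 0 && tabAt tab 1 == 1 && tabAt tab 2 == 2 &&
    decide (∀ k : Fin 21, ∃ k' : Fin 21, tabAt tab (ix (lab k)) = ix (lab k') ∧
      ∃ s : Fin 4, s ≠ 0 ∧ ∀ m, mulT s (transS i j c (vecS k) m) = vecS k' m)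

theorem trans_all : ∀ i j : Fin 3, i ≠ j → ∀ c : Fin 4, c ≠ 0 →
    (transTabs.any fun e => e.1 == i.1 && e.2.1 == j.1 && e.2.2.1 == c.1 && transOK i j c e.2.2.2) =
      true := by
  decide +kernel

theorem vecS_indep : ∀ k k' : Fin 21, (∃ s : Fin 4, ∀ m, mulT s (vecS k m) = vecS k' m) → k = k' := by
  decide +kernel

theorem vecS_ne : ∀ k : Fin 21, ∃ m, vecS k m ≠ 0 := by decide +kernel

theorem frame_index : ∀ t : Fin 3 → Fin 4, t ≠ 0 → ∃ k : Fin 21, ∃ s : Fin 4, s ≠ 0 ∧
    ∀ m, mulT s (vecS k m) = t m := by decide +kernel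

variable {F : Type} [Field F] [Fintype F] {ω : F} (hF : Fintype.card F = 4)
  (hω : ω ^ 2 + ω + 1 = 0)

/-- A vector of the representative. -/
noncomputable def vecF (ω : F) (k : Fin 21) : Fin 3 → F := fun m => val hF ω (vecS k m)

/-- The point of the plane. -/
noncomputable def lineF (ω : F) (k : Fin 21) : Submodule F (Fin 3 → F) :=
  Submodule.span F {vecF hF ω k}

/-- A matrix moves the labelled points like a permutation. -/
def Follows (ω : F) (g : Matrix.SpecialLinearGroup (Fin 3) F) (h : Equiv.Perm GolayPt) : Prop :=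
  ∀ k, ∃ k', h (lab k) = lab k' ∧
    Matrix.mulVec (g : Matrix (Fin 3) (Fin 3) F) (vecF hF ω k) ∈ lineF hF ω k'

include hω in
theorem line_injective {k k' : Fin 21} {v : Fin 3 → F} (hv : v ≠ 0) (h1 : v ∈ lineF hF ω k)
    (h2 : v ∈ lineF hF ω k') : k = k' := by
  obtain ⟨a, rfl⟩ := Submodule.mem_span_singleton.1 h1
  obtain ⟨b, hb⟩ := Submodule.mem_span_singleton.1 h2
  have ha : a ≠ 0 := fun e => hv (by rw [e, zero_smul])
  have hb0 : b ≠ 0 := fun e => hv (by rw [← hb, e, zero_smul])
  obtain ⟨s, hs⟩ := (val_bijective hF hω).2 (b⁻¹ * a)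
  refine vecS_indep k k' ⟨s, fun m => val_injective hF hω ?_⟩
  rw [val_mul hF hω, hs, mul_assoc]
  have h := congrFun hb m
  simp only [Pi.smul_apply, smul_eq_mul, vecF] at h
  rw [← h, ← mul_assoc, inv_mul_cancel₀ hb0, one_mul]

include hω in
theorem follows_trans (i j : Fin 3) (hij : i ≠ j) (c : F) :
    ∃ h ∈ M21K, Follows hF ω (Matrix.SpecialLinearGroup.transvection hij c) h := by
  obtain ⟨c', rfl⟩ := (val_bijective hF hω).2 c
  have hval : ∀ k m, (Matrix.transvection i j (val hF ω c')).mulVec (vecF hF ω k) m =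
      val hF ω (transS i j c' (vecS k) m) := fun k m => by
    rw [Classical.Linear.transvection_mulVec_apply, transS]
    split_ifs with hm
    · rw [val_add hF hω, val_mul hF hω]; rfl
    · rw [add_zero]; rfl
  by_cases hc : c' = 0
  · subst hc
    refine ⟨1, M21K.one_mem, fun k => ⟨k, rfl, ?_⟩⟩
    rw [Matrix.SpecialLinearGroup.transvection_coe,
      show val hF ω 0 = (0 : F) from rfl]
    simp [lineF, Submodule.mem_span_singleton_self]
  · obtain ⟨e, he, hok⟩ := List.any_eq_true.1 (trans_all i j hij c' hc)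
    simp only [Bool.and_eq_true] at hok
    obtain ⟨-, hok⟩ := hok
    simp only [transOK, Bool.and_eq_true, beq_iff_eq, decide_eq_true_eq] at hok
    obtain ⟨⟨⟨⟨htab, h0⟩, h1⟩, h2⟩, hall⟩ := hok
    have hT := isTab_tabPerm htab
    refine ⟨tabPerm e.2.2.2, ⟨tabPerm_mem htab, fun x hx => ?_⟩, fun k => ?_⟩
    · simp only [List.mem_cons, List.not_mem_nil, or_false] at hx
      rcases hx with rfl | rfl | rfl <;> apply ix_injective <;> rw [hT, ix_pt (by norm_num)]
      exacts [h0, h1, h2]
    · obtain ⟨k', hk', s, hs, hsm⟩ := hall k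
      refine ⟨k', ix_injective (by rw [hT, hk']), Submodule.mem_span_singleton.2
        ⟨(val hF ω s)⁻¹, funext fun m => ?_⟩⟩
      have hs0 : val hF ω s ≠ 0 := fun e => hs (val_injective hF hω (e.trans rfl))
      rw [Matrix.SpecialLinearGroup.transvection_coe, Pi.smul_apply, smul_eq_mul]
      show _ = (Matrix.transvection i j (val hF ω c')).mulVec (vecF hF ω k) m
      rw [hval, vecF, ← hsm, val_mul hF hω, ← mul_assoc, inv_mul_cancel₀ hs0, one_mul]

include hω in
theorem follows_all (g : Matrix.SpecialLinearGroup (Fin 3) F) : ∃ h ∈ M21K, Follows hF ω g h := by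
  classical
  have hg : g ∈ Subgroup.closure (Classical.Linear.transvectionSet (Fin 3) F) :=
    Classical.Linear.closure_transvectionSet (n := Fin 3) (F := F) ▸ Subgroup.mem_top g
  rw [← Subgroup.mem_toSubmonoid, Subgroup.closure_toSubmonoid_of_finite] at hg
  induction hg using Submonoid.closure_induction with
  | mem x hx => obtain ⟨i, j, hij, c, rfl⟩ := hx; exact follows_trans hF hω i j hij c
  | one =>
    refine ⟨1, M21K.one_mem, fun k => ⟨k, rfl, ?_⟩⟩
    simp [lineF, Submodule.mem_span_singleton_self]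
  | mul x y _ _ hx hy =>
    obtain ⟨h₁, hh₁, f₁⟩ := hx
    obtain ⟨h₂, hh₂, f₂⟩ := hy
    refine ⟨h₁ * h₂, M21K.mul_mem hh₁ hh₂, fun k => ?_⟩
    obtain ⟨k₂, e₂, m₂⟩ := f₂ k
    obtain ⟨k₁, e₁, m₁⟩ := f₁ k₂
    refine ⟨k₁, by rw [Equiv.Perm.mul_apply, e₂, e₁], ?_⟩
    obtain ⟨a, ha⟩ := Submodule.mem_span_singleton.1 m₂
    rw [Matrix.SpecialLinearGroup.coe_mul, ← Matrix.mulVec_mulVec, ← ha, Matrix.mulVec_smul]
    exact Submodule.smul_mem _ _ m₁

include hω in
theorem vecF_ne (k : Fin 21) : vecF hF ω k ≠ 0 := fun e => by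
  obtain ⟨m, hm⟩ := vecS_ne k
  exact hm (val_injective hF hω ((congrFun e m).trans rfl))

include hω in
theorem follows_unique {g : Matrix.SpecialLinearGroup (Fin 3) F} {h h' : Equiv.Perm GolayPt}
    (hh : h ∈ M21K) (hh' : h' ∈ M21K) (f : Follows hF ω g h) (f' : Follows hF ω g h') : h = h' := by
  refine Equiv.ext fun p => ?_
  rcases lab_spec.2 p with rfl | rfl | rfl | ⟨k, rfl⟩
  · rw [hh.2 _ (by simp), hh'.2 _ (by simp)]
  · rw [hh.2 _ (by simp), hh'.2 _ (by simp)]
  · rw [hh.2 _ (by simp), hh'.2 _ (by simp)]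
  obtain ⟨k₁, e₁, m₁⟩ := f k
  obtain ⟨k₂, e₂, m₂⟩ := f' k
  have hne : Matrix.mulVec (g : Matrix (Fin 3) (Fin 3) F) (vecF hF ω k) ≠ 0 := fun e => by
    have h1 := congrArg (fun v => Matrix.mulVec ((g⁻¹ : Matrix.SpecialLinearGroup (Fin 3) F) :
      Matrix (Fin 3) (Fin 3) F) v) e
    simp only [Matrix.mulVec_mulVec, Matrix.mulVec_zero] at h1
    rw [← Matrix.SpecialLinearGroup.coe_mul, inv_mul_cancel, Matrix.SpecialLinearGroup.coe_one,
      Matrix.one_mulVec] at h1
    exact vecF_ne hF hω k h1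
  rw [e₁, e₂, line_injective hF hω hne m₁ m₂]

include hω in
theorem scalar_of_fix {g : Matrix.SpecialLinearGroup (Fin 3) F}
    (h : ∀ k, Matrix.mulVec (g : Matrix (Fin 3) (Fin 3) F) (vecF hF ω k) ∈ lineF hF ω k) :
    g ∈ Subgroup.center (Matrix.SpecialLinearGroup (Fin 3) F) := by
  have hfix : ∀ v : Fin 3 → F, v ≠ 0 →
      ∃ a : F, Matrix.mulVec (g : Matrix (Fin 3) (Fin 3) F) v = a • v := by
    intro v hv
    choose t ht using fun m => (val_bijective hF hω).2 (v m)
    obtain ⟨k, s, hs, hsm⟩ := frame_index t fun e => hv (funext fun m => by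
      rw [← ht m, e]; rfl)
    have hveq : v = val hF ω s • vecF hF ω k := funext fun m => by
      rw [← ht m, ← hsm m, val_mul hF hω]; rfl
    obtain ⟨a, ha⟩ := Submodule.mem_span_singleton.1 (h k)
    exact ⟨a, by rw [hveq, Matrix.mulVec_smul, ← ha, smul_comm]⟩
  let M : Matrix (Fin 3) (Fin 3) F := g
  have hcol : ∀ i, ∃ a, ∀ r, M r i = if r = i then a else 0 := fun i => by
    obtain ⟨a, ha⟩ := hfix (Pi.single i 1) (by simp)
    refine ⟨a, fun r => ?_⟩
    have h := congrFun ha r
    rw [Matrix.mulVec_single_one, Matrix.col_apply, Pi.smul_apply, Pi.single_apply] at h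
    simpa using h
  choose d hd using hcol
  have heq : ∀ i j, i ≠ j → d i = d j := fun i j hij => by
    obtain ⟨a, ha⟩ := hfix (Pi.single i 1 + Pi.single j 1) (fun e => by
      have := congrFun e i; simp [hij] at this)
    rw [Matrix.mulVec_add, Matrix.mulVec_single_one, Matrix.mulVec_single_one] at ha
    have hi := congrFun ha i
    have hj := congrFun ha j
    simp [Matrix.col_apply, show (g : Matrix (Fin 3) (Fin 3) F) = M from rfl, hd, hij, hij.symm] at hi hj
    rw [hi, hj]
  have hscal : ∀ r i, M r i = if r = i then d 0 else 0 := fun r i => by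
    rw [hd i r]
    by_cases hi : i = 0
    · rw [hi]
    · rw [heq i 0 hi]
  rw [Matrix.SpecialLinearGroup.mem_center_iff]
  refine ⟨d 0, ?_, ?_⟩
  · have hdet : M.det = 1 := g.2
    have hM : M = Matrix.scalar (Fin 3) (d 0) := by
      ext r i; rw [hscal, Matrix.scalar_apply, Matrix.diagonal_apply]
    rw [hM, Matrix.scalar_apply, Matrix.det_diagonal, Finset.prod_const, Finset.card_univ,
      Fintype.card_fin] at hdet
    simpa using hdet
  · ext r i
    rw [Matrix.scalar_apply, Matrix.diagonal_apply]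
    exact (hscal r i).symm

include hF hω in
theorem M21K_equiv : Nonempty (Matrix.ProjectiveSpecialLinearGroup (Fin 3) F ≃* M21K) := by
  classical
  choose h hh hf using fun g => follows_all hF hω g
  let φ : Matrix.SpecialLinearGroup (Fin 3) F →* M21K :=
    MonoidHom.mk' (fun g => ⟨h g, hh g⟩) fun a b => Subtype.ext
      (follows_unique hF hω (hh _) (M21K.mul_mem (hh a) (hh b)) (hf _) fun k => by
        obtain ⟨k₂, e₂, m₂⟩ := hf b k
        obtain ⟨k₁, e₁, m₁⟩ := hf a k₂
        refine ⟨k₁, by show (h a * h b) (lab k) = _; rw [Equiv.Perm.mul_apply, e₂, e₁], ?_⟩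
        obtain ⟨c, hc⟩ := Submodule.mem_span_singleton.1 m₂
        rw [Matrix.SpecialLinearGroup.coe_mul, ← Matrix.mulVec_mulVec, ← hc, Matrix.mulVec_smul]
        exact Submodule.smul_mem _ _ m₁)
  have hker : φ.ker = Subgroup.center (Matrix.SpecialLinearGroup (Fin 3) F) := by
    refine le_antisymm (fun g hg => scalar_of_fix hF hω fun k => ?_) (fun g hg => ?_)
    · have he : h g = 1 := congrArg Subtype.val (MonoidHom.mem_ker.1 hg)
      obtain ⟨k', e, m⟩ := hf g k
      rw [he] at e
      obtain rfl := lab_spec.1 e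
      exact m
    · obtain ⟨r, -, hr⟩ := Matrix.SpecialLinearGroup.mem_center_iff.1 hg
      refine MonoidHom.mem_ker.2 (Subtype.ext (follows_unique hF hω (hh g) M21K.one_mem (hf g)
        fun k => ⟨k, rfl, ?_⟩))
      rw [← hr]
      refine Submodule.mem_span_singleton.2 ⟨r, funext fun m => ?_⟩
      simp [Matrix.scalar_apply, Matrix.mulVec_diagonal]
  have hPSL : Nat.card (Matrix.ProjectiveSpecialLinearGroup (Fin 3) F) = 20160 := by
    have h1 := Classical.Linear.gcd_mul_natCard_PSL_fin (F := F) (k := 3) (by norm_num)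
    have h2 := Classical.Linear.mul_natCard_SL_fin (F := F) (k := 3) (by norm_num)
    rw [hF, Fin.prod_univ_three] at h2
    rw [hF] at h1
    generalize Nat.card (Matrix.ProjectiveSpecialLinearGroup (Fin 3) F) = a at h1 ⊢
    generalize Nat.card (Matrix.SpecialLinearGroup (Fin 3) F) = b at h1 h2
    norm_num at h1 h2
    omega
  let e₁ := QuotientGroup.quotientKerEquivRange φ
  have hr : Nat.card φ.range = 20160 := by
    rw [← Nat.card_congr e₁.toEquiv, ← hPSL, ← Subgroup.index_eq_card, hker, Subgroup.index_eq_card]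
  have htop : φ.range = ⊤ := Subgroup.eq_top_of_card_eq _ (by rw [hr, card_M21K])
  exact ⟨((QuotientGroup.quotientMulEquivOfEq hker).symm.trans e₁).trans
    ((MulEquiv.subgroupCongr htop).trans Subgroup.topEquiv)⟩

theorem exists_omega (F : Type) [Field F] [Fintype F] (hF : Fintype.card F = 4) :
    ∃ ω : F, ω ^ 2 + ω + 1 = 0 := by
  classical
  obtain ⟨x, hx⟩ := Finset.exists_mem_notMem_of_card_lt_card
    (s := ({0, 1} : Finset F)) (t := Finset.univ) (lt_of_le_of_lt Finset.card_le_two (by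
      rw [Finset.card_univ, hF]; norm_num))
  simp only [Finset.mem_insert, Finset.mem_singleton, not_or] at hx
  refine ⟨x, ?_⟩
  have h3 : x ^ 3 = 1 := by
    have := FiniteField.pow_card_sub_one_eq_one x hx.2.1
    rwa [hF] at this
  have : (x - 1) * (x ^ 2 + x + 1) = 0 := by linear_combination h3
  rcases mul_eq_zero.1 this with h | h
  · exact absurd (sub_eq_zero.1 h) hx.2.2
  · exact h

end Cfsg.Agent.Golay.Plane
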