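import Mathlib

/-!
Labels of the twenty-one points outside three points by the projective plane over four elements.
-/

set_option autoImplicit false

namespace Cfsg.Agent.Golay.PlaneData

/-- Representatives of the points of the plane. -/
def planeVecs : List (List ℕ) := [[0, 0, 1], [0, 1, 0], [0, 1, 1], [0, 1, 2], [0, 1, 3], [1, 0, 0], [1, 0, 1], [1, 0, 2], [1, 0, 3], [1, 1, 0], [1, 1, 1], [1, 1, 2], [1, 1, 3], [1, 2, 0], [1, 2, 1], [1, 2, 2], [1, 2, 3], [1, 3, 0], [1, 3, 1], [1, 3, 2], [1, 3, 3]]

/-- Their labels. -/
def planeLabels : List ℕ := [5, 4, 9, 18, 19, 3, 14, 23, 17, 12, 6, 13, 15, 10, 8, 22, 21, 7, 20, 16, 11]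

/-- The images of the elementary transvections: row, column, entry, table. -/
def transTabs : List (ℕ × ℕ × ℕ × ℕ) := [(0, 1, 1, 970499966350631336865513127433832480), (0, 1, 2, 963721886883755259286232606933354528), (0, 1, 3, 967812279691448225500382947153381408), (0, 2, 1, 720981692062171673584743151055243296), (0, 2, 2, 590072960059042287979885064796342304), (0, 2, 3, 220213109803259289183002082616117280), (1, 0, 1, 561225190495839078725639875070396448), (1, 0, 2, 944397937647834838634175266627586080), (1, 0, 3, 682115957483838439786319496335296544), (1, 2, 1, 944319304547998642267612847938832416), (1, 2, 2, 681942991418186671700734416290678816), (1, 2, 3, 561475773312554808336860583768983584), (2, 0, 1, 734314006698834082329304983377741856), (2, 0, 2, 137935104962206912083219455161370656), (2, 0, 3, 592348547565827762175298702812940320), (2, 1, 1, 968708902336673183175954409307867168), (2, 1, 2, 966182099583441531322624363496310816), (2, 1, 3, 983548720921252936276249910206105632)]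

end Cfsg.Agent.Golay.PlaneData
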