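import Cfsg.Agent.Lib.Golay.QuartetData
import Cfsg.Agent.Lib.Golay.SetOrbit
import Cfsg.Agent.Lib.Golay.GLQuot
import Cfsg.Prelude.Def_SporadicCombinatorics

/-!
Hexads and quartets of a dodecad.
-/

set_option autoImplicit false
set_option maxRecDepth 20000

namespace Cfsg.Agent.Golay.Quartet

open Cfsg Cfsg.Agent.Golay.Basic Cfsg.Agent.Golay.M24 Cfsg.Agent.Golay.Cert Cfsg.Agent.Golay.Orbit
  Cfsg.Agent.Golay.Small Cfsg.Agent.Golay.Trans Cfsg.Agent.Golay.Suborbit Cfsg.Agent.Golay.Perm
  Cfsg.Agent.Golay.QuartetData Cfsg.Agent.Golay.KSubsets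
open scoped Pointwise

theorem smul_mem_hexadsOn {a : Equiv.Perm GolayPt} (ha : a ∈ Cfsg.M24) {d h : Finset GolayPt}
    (hh : h ∈ hexadsOn d) : a • h ∈ hexadsOn (a • d) := by
  obtain ⟨hc, o, ho, rfl⟩ := hh
  exact ⟨(Finset.card_smul_finset a _).trans hc, a • o, smul_mem_octads ha ho,
    (Finset.smul_finset_inter ..).symm⟩

theorem smul_mem_quartets {a : Equiv.Perm GolayPt} (ha : a ∈ Cfsg.M24) {d : Finset GolayPt}
    {Q : Finset (Finset GolayPt)} (hQ : Q ∈ quartets d) : a • Q ∈ quartets (a • d) := by
  obtain ⟨h1, h2, h3⟩ := hQ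
  refine ⟨by rw [Finset.card_smul_finset, h1], fun t ht => ?_, fun t ht u hu hne => ?_⟩
  · obtain ⟨t', ht', rfl⟩ := Finset.mem_smul_finset.1 ht
    exact ⟨by rw [Finset.card_smul_finset, (h2 t' ht').1],
      Finset.smul_finset_subset_smul_finset (h2 t' ht').2⟩
  · obtain ⟨t', ht', rfl⟩ := Finset.mem_smul_finset.1 ht
    obtain ⟨u', hu', rfl⟩ := Finset.mem_smul_finset.1 hu
    rw [← Finset.smul_finset_union]
    exact smul_mem_hexadsOn ha (h3 t' ht' u' hu' fun e => hne (by rw [e]))

theorem mem_quartets_smul {a : Equiv.Perm GolayPt} (ha : a ∈ Cfsg.M24) {d : Finset GolayPt}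
    {Q : Finset (Finset GolayPt)} : a • Q ∈ quartets (a • d) ↔ Q ∈ quartets d :=
  ⟨fun h => by simpa using smul_mem_quartets (M24.inv_mem ha) h, smul_mem_quartets ha⟩

theorem hexList_ok : (octList.all fun o => !(pc (o &&& baseDodecad) == 6) ||
    hexList.contains (o &&& baseDodecad)) = true ∧
    (hexList.all fun h => pc h == 6 && decide (h < 2 ^ 24) &&
      octList.any fun o => o &&& baseDodecad == h) = true := by
  decide +kernel

theorem mem_hexadsOn_d0 {h : Finset GolayPt} : h ∈ hexadsOn d0 ↔ mask h ∈ hexList := by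
  have h1 := List.all_eq_true.1 hexList_ok.1
  have h2 := List.all_eq_true.1 hexList_ok.2
  constructor
  · rintro ⟨hc, o, ho, rfl⟩
    rw [mask_inter, mask_maskSet (by decide +kernel)]
    have := h1 _ (mask_mem_octList ho)
    rw [card_eq_pc, mask_inter, mask_maskSet (by decide +kernel)] at hc
    simpa [hc] using this
  · intro hm
    have := h2 _ hm
    simp only [Bool.and_eq_true, beq_iff_eq, decide_eq_true_eq, List.any_eq_true] at this
    obtain ⟨⟨hpc, -⟩, o, ho, he⟩ := this
    have hlt : o < 2 ^ 24 := by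
      simp only [octList, List.mem_filter] at ho
      exact of_decide_eq_true (forall_code (P := fun x => decide (x < 2 ^ 24)) (by decide +kernel)
        (isCode_of_mem_codeList ho.1))
    refine ⟨by rw [card_eq_pc, hpc], maskSet o, maskSet_mem_octads ho, mask_injective ?_⟩
    rw [mask_inter, mask_maskSet hlt, mask_maskSet (by decide +kernel), he]

theorem tripleList_ok : ((ksub 24 3).all fun m => !(m &&& baseDodecad == m) || tripleList.contains m) =
    true ∧ (tripleList.all fun m => m &&& baseDodecad == m && pc m == 3 && decide (m < 2 ^ 24)) = true := by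
  decide +kernel

theorem mem_tripleList {t : Finset GolayPt} : mask t ∈ tripleList ↔ t.card = 3 ∧ t ⊆ d0 := by
  rw [subset_iff_mask, mask_maskSet (by decide +kernel)]
  constructor
  · intro h
    have := List.all_eq_true.1 tripleList_ok.2 _ h
    simp only [Bool.and_eq_true, beq_iff_eq] at this
    exact ⟨by rw [card_eq_pc, this.1.2], this.1.1⟩
  · rintro ⟨hc, hs⟩
    simpa [hs] using List.all_eq_true.1 tripleList_ok.1 _ (mask_mem_ksub hc)

/-- The triples making a hexad with a triple. -/
def partners (t : ℕ) : List ℕ := (hexList.filter fun h => h &&& t == t).map fun h => h ^^^ t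

theorem mem_partners {t u : ℕ} (hd : t &&& u = 0) (h : t ||| u ∈ hexList) : u ∈ partners t := by
  simp only [partners, List.mem_map, List.mem_filter, beq_iff_eq]
  have hb : ∀ i, (t.testBit i && u.testBit i) = false := fun i => by
    rw [← Nat.testBit_and, hd, Nat.zero_testBit]
  refine ⟨t ||| u, ⟨h, ?_⟩, ?_⟩ <;>
    refine Nat.eq_of_testBit_eq fun i => ?_ <;>
    have := hb i <;>
    simp only [Nat.testBit_or, Nat.testBit_and, Nat.testBit_xor] <;>
    revert this <;> cases t.testBit i <;> cases u.testBit i <;> simp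

/-- Every list of four compatible triples is listed. -/
def cliquesOK : Bool :=
  tripleList.all fun t =>
    let ns := (partners t).filter fun u => decide (t < u)
    ns.all fun u => ns.all fun v => !(decide (u < v) && hexList.contains (u ||| v)) ||
      ns.all fun w => !(decide (v < w) && hexList.contains (u ||| w) && hexList.contains (v ||| w)) ||
        quartetList.contains [t, u, v, w]

theorem cliquesOK_true : cliquesOK = true := by decide +kernel

theorem quartetList_ok : (quartetList.all fun q => decide (q.length = 4) &&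
    decide (q.Pairwise (· < ·)) && (q.all fun t => tripleList.contains t) &&
    q.all fun t => q.all fun u => t == u || (t &&& u == 0 && hexList.contains (t ||| u))) = true ∧
    quartetList.Nodup := by
  decide +kernel

theorem encFam_spec (S : Finset (Finset GolayPt)) :
    (encFam S).Pairwise (· < ·) ∧ (∀ m, m ∈ encFam S ↔ ∃ t ∈ S, mask t = m) ∧
      (encFam S).length = S.card := by
  have hp := List.perm_insertionSort (r := (· ≤ ·)) (S.toList.map mask)
  refine ⟨?_, fun m => ?_, ?_⟩
  · have hnd : (encFam S).Nodup := hp.nodup_iff.2 (S.nodup_toList.map mask_injective)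
    exact (List.pairwise_insertionSort (r := (· ≤ ·)) _).imp₂ (fun _ _ h1 h2 => lt_of_le_of_ne h1 h2) hnd
  · rw [encFam, hp.mem_iff]; simp
  · rw [encFam, hp.length_eq]; simp

theorem enc_mem_quartetList {Q : Finset (Finset GolayPt)} (hQ : Q ∈ quartets d0) :
    encFam Q ∈ quartetList := by
  obtain ⟨h1, h2, h3⟩ := hQ
  obtain ⟨hsort, hmem, hlen⟩ := encFam_spec Q
  rw [h1] at hlen
  have hpair : ∀ t u, t ∈ Q → u ∈ Q → mask t < mask u →
      mask t &&& mask u = 0 ∧ mask t ||| mask u ∈ hexList := by
    intro t u ht hu hlt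
    have hne : t ≠ u := fun e => by rw [e] at hlt; omega
    have hh := h3 t ht u hu hne
    refine ⟨?_, by rw [← mask_union]; exact mem_hexadsOn_d0.1 hh⟩
    rw [← mask_inter, ← mask_empty]
    congr 1
    have hc := Finset.card_union_add_card_inter t u
    rw [hh.1, (h2 t ht).1, (h2 u hu).1] at hc
    exact Finset.card_eq_zero.1 (by omega)
  obtain ⟨t, u, v, w, e⟩ : ∃ t u v w, encFam Q = [t, u, v, w] := by
    match h : encFam Q, hlen with
    | [t, u, v, w], _ => exact ⟨t, u, v, w, rfl⟩
  have hget : ∀ m ∈ encFam Q, ∃ s ∈ Q, mask s = m := fun m hm => (hmem m).1 hm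
  obtain ⟨T, hT, rfl⟩ := hget t (by simp [e])
  obtain ⟨U, hU, rfl⟩ := hget u (by simp [e])
  obtain ⟨V, hV, rfl⟩ := hget v (by simp [e])
  obtain ⟨W, hW, rfl⟩ := hget w (by simp [e])
  rw [e] at hsort ⊢
  simp only [List.pairwise_cons, List.mem_cons, List.not_mem_nil, or_false, forall_eq_or_imp,
    forall_eq] at hsort
  have hT' := mem_tripleList.2 (h2 T hT)
  have hc := cliquesOK_true
  simp only [cliquesOK, List.all_eq_true, List.mem_filter, Bool.and_eq_true, decide_eq_true_eq,
    beq_iff_eq, List.contains_eq_mem, Bool.or_eq_true, Bool.not_eq_true'] at hc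
  have hN : ∀ X ∈ Q, mask T < mask X → mask X ∈ partners (mask T) ∧ mask T < mask X := fun X hX hlt =>
    ⟨mem_partners (hpair T X hT hX hlt).1 (hpair T X hT hX hlt).2, hlt⟩
  have h4 := hc _ hT' _ (hN U hU hsort.1.1) _ (hN V hV hsort.1.2.1)
  rcases h4 with h4 | h4
  · simp [hsort.2.1.1, (hpair U V hU hV hsort.2.1.1).2] at h4
  rcases h4 _ (hN W hW hsort.1.2.2) with h5 | h5
  · simp [hsort.2.2.1, (hpair U W hU hW hsort.2.1.2).2, (hpair V W hV hW hsort.2.2.1).2] at h5
  · exact h5

theorem famSet_mem_quartets {q : List ℕ} (hq : q ∈ quartetList) :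
    famSet q ∈ quartets d0 ∧ encFam (famSet q) = q := by
  have h := List.all_eq_true.1 quartetList_ok.1 q hq
  simp only [Bool.and_eq_true, decide_eq_true_eq, List.all_eq_true, List.contains_eq_mem,
    Bool.or_eq_true, beq_iff_eq] at h
  obtain ⟨⟨⟨hlen, hsort⟩, htri⟩, hpair⟩ := h
  have hlt : ∀ m ∈ q, m < 2 ^ 24 := fun m hm => by
    have := List.all_eq_true.1 tripleList_ok.2 _ (htri m hm)
    simp only [Bool.and_eq_true, decide_eq_true_eq] at this
    exact this.2
  have he := encFam_famSet hsort hlt
  refine ⟨⟨?_, fun t ht => ?_, fun t ht u hu hne => ?_⟩, he⟩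
  · rw [← (encFam_spec _).2.2, he, hlen]
  · obtain ⟨m, hm, rfl⟩ := List.mem_map.1 (List.mem_toFinset.1 ht)
    exact mem_tripleList.1 (by rw [mask_maskSet (hlt m hm)]; exact htri m hm)
  · obtain ⟨m, hm, rfl⟩ := List.mem_map.1 (List.mem_toFinset.1 ht)
    obtain ⟨n, hn, rfl⟩ := List.mem_map.1 (List.mem_toFinset.1 hu)
    rw [mem_hexadsOn_d0, mask_union, mask_maskSet (hlt m hm), mask_maskSet (hlt n hn)]
    rcases hpair m hm n hn with e | e
    · exact absurd (by rw [e]) hne
    · exact e.2

theorem quartets_d0_eq : quartets d0 = encFam ⁻¹' {q | q ∈ quartetList} := by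
  ext Q
  refine ⟨enc_mem_quartetList, fun h => ?_⟩
  obtain ⟨h1, h2⟩ := famSet_mem_quartets h
  rwa [← encFam_injective h2]

theorem quartets_d0_ncard : (quartets d0).ncard = 220 := by
  have himg : encFam '' quartets d0 = ↑quartetList.toFinset := by
    ext q
    rw [Finset.mem_coe, List.mem_toFinset, Set.mem_image]
    exact ⟨fun ⟨Q, hQ, e⟩ => e ▸ enc_mem_quartetList hQ,
      fun h => ⟨_, (famSet_mem_quartets h).1, (famSet_mem_quartets h).2⟩⟩
  rw [← Set.ncard_image_of_injective _ encFam_injective, himg, Set.ncard_coe_finset,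
    List.toFinset_card_of_nodup quartetList_ok.2]
  rfl

theorem unique_pair_ok : (tripleList.all fun t =>
    let qs := quartetList.filter fun q => q.contains t
    (partners t).all fun u => (qs.filter fun q => q.contains u).length == 1) = true := by
  decide +kernel

theorem unique_quartet {t u : Finset GolayPt} (ht : t.card = 3) (hu : u.card = 3)
    (hd : Disjoint t u) (hh : t ∪ u ∈ hexadsOn d0) :
    ∃! Q, Q ∈ quartets d0 ∧ t ∈ Q ∧ u ∈ Q := by
  have hsub : t ∪ u ⊆ d0 := by
    obtain ⟨-, o, -, e⟩ := hh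
    rw [← e]; exact Finset.inter_subset_right
  have hone : (quartetList.filter fun q => q.contains (mask t) && q.contains (mask u)).length = 1 := by
    have h := unique_pair_ok
    simp only [List.all_eq_true, beq_iff_eq] at h
    have := h _ (mem_tripleList.2 ⟨ht, Finset.union_subset_left hsub⟩) (mask u)
      (mem_partners (SetOrbit.disjoint_iff_and.1 hd) (by rw [← mask_union]; exact mem_hexadsOn_d0.1 hh))
    rw [List.filter_filter] at this
    simpa [Bool.and_comm] using this
  obtain ⟨q, hq⟩ := List.length_eq_one_iff.1 hone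
  have hq' : q ∈ quartetList.filter fun q => q.contains (mask t) && q.contains (mask u) := by
    rw [hq]; simp
  simp only [List.mem_filter, Bool.and_eq_true, List.contains_eq_mem, decide_eq_true_eq] at hq'
  obtain ⟨h1, h2⟩ := famSet_mem_quartets hq'.1
  have hmem : ∀ s, mask s ∈ q → s ∈ famSet q := fun s hs => by
    rw [← h2, (encFam_spec _).2.1] at hs
    obtain ⟨s', hs', e⟩ := hs
    rwa [← mask_injective e]
  refine ⟨famSet q, ⟨h1, hmem t hq'.2.1, hmem u hq'.2.2⟩, fun Q ⟨hQ, htQ, huQ⟩ => ?_⟩
  have : encFam Q ∈ quartetList.filter fun q => q.contains (mask t) && q.contains (mask u) := by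
    simp only [List.mem_filter, Bool.and_eq_true, List.contains_eq_mem, decide_eq_true_eq]
    exact ⟨enc_mem_quartetList hQ, (encFam_spec Q).2.1 _ |>.2 ⟨t, htQ, rfl⟩,
      (encFam_spec Q).2.1 _ |>.2 ⟨u, huQ, rfl⟩⟩
  rw [hq, List.mem_singleton] at this
  exact encFam_injective (this.trans h2.symm)

/-! ### The stabiliser of the first quartet and its orbits -/

/-- The first quartet. -/
def q0 : Finset (Finset GolayPt) := famSet (quartetRoot 0)

/-- Its stabiliser in the dodecad group. -/
def QK : Subgroup (Equiv.Perm GolayPt) := M12K ⊓ MulAction.stabilizer (Equiv.Perm GolayPt) q0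

theorem quartetRoot_mem : ∀ i, quartetRoot i ∈ quartetList := by decide +kernel

theorem q0_mem : q0 ∈ quartets d0 := (famSet_mem_quartets (quartetRoot_mem 0)).1

theorem enc_q0 : encFam q0 = quartetRoot 0 := (famSet_mem_quartets (quartetRoot_mem 0)).2

/-- A table fixing the base dodecad and the first quartet. -/
def fixQ (tab : ℕ) : Bool :=
  tabOK tab && imgTab tab baseDodecad == baseDodecad &&
    decide (actFam tab (quartetRoot 0) = quartetRoot 0)

/-- A table fixing the base dodecad. -/
def fixD (tab : ℕ) : Bool := tabOK tab && imgTab tab baseDodecad == baseDodecad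

theorem tabPerm_mem_M12K {tab : ℕ} (h : fixD tab = true) : tabPerm tab ∈ M12K := by
  simp only [fixD, Bool.and_eq_true, beq_iff_eq] at h
  refine mem_M12K.2 ⟨tabPerm_mem h.1, mask_injective ?_⟩
  rw [← imgTab_mask (isTab_tabPerm h.1), mask_maskSet (by decide +kernel), h.2]

theorem tabPerm_mem_QK {tab : ℕ} (h : fixQ tab = true) : tabPerm tab ∈ QK := by
  simp only [fixQ, Bool.and_eq_true, decide_eq_true_eq, beq_iff_eq] at h
  refine ⟨tabPerm_mem_M12K (by simp [fixD, h.1.1, h.1.2]), ?_⟩
  show tabPerm tab • q0 = q0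
  apply encFam_injective
  rw [← actFam_enc _ _ (isTab_tabPerm h.1.1), enc_q0, h.2]

theorem gens_ok : quartetGens.all fixQ = true := by decide +kernel

theorem gens_tabOK : quartetGens.all tabOK = true := by decide +kernel

theorem tabGroup_le_QK : tabGroup quartetGens ≤ QK :=
  tabGroup_le_of fun x hx => tabPerm_mem_QK (List.all_eq_true.1 gens_ok x hx)

/-- Transporting an orbit along a conjugation. -/
theorem orbit_conj {β : Type*} [MulAction (Equiv.Perm GolayPt) β] {a : Equiv.Perm GolayPt}
    (ha : a ∈ Cfsg.M24) {H : Subgroup Cfsg.M24} {K : Subgroup (Equiv.Perm GolayPt)}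
    (hK : K ≤ Cfsg.M24) (h : ∀ g : Cfsg.M24, g ∈ H ↔ a * (g : Equiv.Perm GolayPt) * a⁻¹ ∈ K)
    (y : β) : MulAction.orbit H (a⁻¹ • y) = (fun z => a⁻¹ • z) '' MulAction.orbit K y := by
  ext z
  constructor
  · rintro ⟨g, rfl⟩
    refine ⟨a • ((g.1 : Equiv.Perm GolayPt) • a⁻¹ • y), ⟨⟨_, (h g.1).1 g.2⟩, ?_⟩, inv_smul_smul a _⟩
    show (a * (g.1 : Equiv.Perm GolayPt) * a⁻¹) • y = _
    rw [mul_smul, mul_smul]
  · rintro ⟨_, ⟨k, rfl⟩, rfl⟩
    have hk : a⁻¹ * (k : Equiv.Perm GolayPt) * a ∈ Cfsg.M24 :=
      M24.mul_mem (M24.mul_mem (M24.inv_mem ha) (hK k.2)) ha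
    refine ⟨⟨⟨_, hk⟩, (h _).2 (by simp [mul_assoc])⟩, ?_⟩
    show (a⁻¹ * (k : Equiv.Perm GolayPt) * a) • a⁻¹ • y = a⁻¹ • k • y
    rw [mul_smul, mul_smul, smul_inv_smul]; rfl

/-- The invariant separating the suborbits. -/
def qInv (Q : Finset (Finset GolayPt)) : ℕ := 100 * (Q ∩ q0).card + overlap q0 Q

theorem qInv_smul {g : Equiv.Perm GolayPt} (h : g • q0 = q0) (Q : Finset (Finset GolayPt)) :
    qInv (g • Q) = qInv Q := by
  have h1 : ((g • Q) ∩ q0).card = (Q ∩ q0).card := by
    conv_lhs => rw [← h, ← Finset.smul_finset_inter, Finset.card_smul_finset]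
  have h2 : overlap q0 (g • Q) = overlap q0 Q := by
    conv_lhs => rw [← h]
    exact overlap_smul g q0 Q
  rw [qInv, qInv, h1, h2]

/-- Label of a quartet node. -/
def qProj (L : List ℕ) : ℕ := quartetList.idxOf L

theorem quartet_cert_ok : (List.finRange 5).all (fun i => distinctFrom
    ((orbitList actFam quartetGens (quartetCert i) (quartetRoot i)).map qProj) 0 &&
    (orbitList actFam quartetGens (quartetCert i) (quartetRoot i)).length == quartetSize i) = true := by
  decide +kernel

theorem quartet_mv_ok : (List.finRange 5).all (fun i => fixD (quartetMv i) &&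
    decide (actFam (quartetMv i) (quartetRoot 0) = quartetRoot i)) = true := by
  decide +kernel

theorem suborbits_q0 :
    (∀ i, (MulAction.orbit QK (famSet (quartetRoot i))).ncard = quartetSize i) ∧
      quartets d0 = ⋃ i, MulAction.orbit QK (famSet (quartetRoot i)) := by
  have hc := quartet_cert_ok
  simp only [List.all_eq_true, List.mem_finRange, true_implies, Bool.and_eq_true, beq_iff_eq] at hc
  obtain ⟨h1, h2⟩ := orbits_of_lists QK (X := quartets d0) (Set.toFinite _)
    (fun g hg x hx => by
      rw [← (mem_M12K.1 hg.1).2]; exact smul_mem_quartets (mem_M12K.1 hg.1).1 hx)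
    (φ := qInv) (fun g hg x _ => qInv_smul hg.2 x) (fun i => famSet (quartetRoot i))
    (fun i => (famSet_mem_quartets (quartetRoot_mem i)).1) (by decide +kernel) encFam
    (fun i => orbitList actFam quartetGens (quartetCert i) (quartetRoot i))
    (fun i s hs => by
      rw [← (famSet_mem_quartets (quartetRoot_mem i)).2] at hs
      obtain ⟨g, hg, e⟩ := orbitList_mem gens_tabOK actFam_enc _ _ s hs
      exact ⟨g, tabGroup_le_QK hg, e⟩)
    (fun i => List.Nodup.of_map qProj (distinctFrom_spec (hc i).1).1)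
    (by rw [quartets_d0_ncard]
        exact (Finset.sum_congr rfl fun i _ => (hc i).2).trans (by decide +kernel))
  exact ⟨fun i => (h1 i).trans (hc i).2, h2⟩

theorem quartets_d0_transitive {Q : Finset (Finset GolayPt)} (hQ : Q ∈ quartets d0) :
    ∃ g ∈ M12K, g • q0 = Q := by
  rw [suborbits_q0.2, Set.mem_iUnion] at hQ
  obtain ⟨i, h, rfl⟩ := hQ
  have hm := List.all_eq_true.1 quartet_mv_ok i (List.mem_finRange i)
  simp only [Bool.and_eq_true, decide_eq_true_eq] at hm
  refine ⟨(h : Equiv.Perm GolayPt) * tabPerm (quartetMv i),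
    M12K.mul_mem h.2.1 (tabPerm_mem_M12K hm.1), ?_⟩
  rw [mul_smul]
  have e : tabPerm (quartetMv i) • q0 = famSet (quartetRoot i) := by
    apply encFam_injective
    have hok : tabOK (quartetMv i) = true := by
      have := hm.1
      simp only [fixD, Bool.and_eq_true] at this
      exact this.1
    rw [← actFam_enc _ _ (isTab_tabPerm hok), enc_q0, hm.2,
      (famSet_mem_quartets (quartetRoot_mem i)).2]
  rw [e]; rfl

theorem card_QK : Nat.card QK = 432 := by
  have horb : MulAction.orbit M12K q0 = quartets d0 := by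
    ext Q
    constructor
    · rintro ⟨g, rfl⟩
      show (g : Equiv.Perm GolayPt) • q0 ∈ _
      rw [← (mem_M12K.1 g.2).2]
      exact smul_mem_quartets (mem_M12K.1 g.2).1 q0_mem
    · intro hQ
      obtain ⟨g, hg, e⟩ := quartets_d0_transitive hQ
      exact ⟨⟨g, hg⟩, e⟩
  have h := Subgroup.index_mul_card (MulAction.stabilizer M12K q0)
  rw [MulAction.index_stabilizer, horb, quartets_d0_ncard, card_M12K] at h
  have e : Nat.card (MulAction.stabilizer M12K q0) = Nat.card QK := by
    refine Nat.card_congr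
      { toFun := fun g => ⟨g.1.1, g.1.2, g.2⟩
        invFun := fun g => ⟨⟨g.1, g.2.1⟩, g.2.2⟩
        left_inv := fun _ => rfl
        right_inv := fun _ => rfl }
  omega

theorem tabGroup_eq_QK : tabGroup quartetGens = QK :=
  tabGroup_eq gens_tabOK (L := quartetChain) (by decide +kernel)
    (fun x hx => tabPerm_mem_QK (List.all_eq_true.1 gens_ok x hx))
    (by rw [card_QK]; decide +kernel)

theorem QK_transitive {p q : GolayPt} (hp : p ∈ d0) (hq : q ∈ d0) : ∃ g ∈ QK, g p = q := by
  have h : ∀ r ∈ d0, ∃ g ∈ QK, g (pt (quartetChain.getD 0 (0, 0, [])).1) = r := by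
    intro r hr
    obtain ⟨b, T, ws, rest, e, hT⟩ : ∃ b T ws rest, quartetChain = (b, T, ws) :: rest ∧
        T = baseDodecad := ⟨_, _, _, _, rfl, rfl⟩
    have hok : chainOK quartetGens [] quartetChain = true := by decide +kernel
    rw [e] at hok ⊢
    obtain ⟨g, hg, -, hgb⟩ := chain_trans gens_tabOK (by simp) hok (t := r) (by rw [hT]; exact hr)
    exact ⟨g, tabGroup_le_QK hg, hgb⟩
  obtain ⟨g, hg, e⟩ := h p hp
  obtain ⟨g', hg', e'⟩ := h q hq
  refine ⟨g' * g⁻¹, QK.mul_mem hg' (QK.inv_mem hg), ?_⟩
  rw [Equiv.Perm.mul_apply, ← e, show g⁻¹ (g _) = _ from g.symm_apply_apply _, e']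

theorem ab_ok : fixQ normA = true ∧ fixQ normB = true := by decide +kernel

/-- The two generators of the normal nine. -/
noncomputable def elA : QK := ⟨tabPerm normA, tabPerm_mem_QK ab_ok.1⟩

/-- The two generators of the normal nine. -/
noncomputable def elB : QK := ⟨tabPerm normB, tabPerm_mem_QK ab_ok.2⟩

/-- Table-level check that a word acts as `a ^ i * b ^ j` after the relation is multiplied out. -/
def wordEq (w w' : List ℕ) : Bool :=
  (List.range 24).all fun p => runT [normA, normB] w p == runT [normA, normB] w' p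

theorem nine_ok : [normA, normB].all tabOK = true ∧
    wordEq [0, 0, 0] [] = true ∧ wordEq [1, 1, 1] [] = true ∧ wordEq [0, 1] [1, 0] = true ∧
    ((List.range 9).all fun i => i == 0 ||
      !wordEq (List.replicate (i % 3) 0 ++ List.replicate (i / 3) 1) []) = true := by
  decide +kernel

theorem ix_eq_of_wordEq {w w' : List ℕ} (h : wordEq w w' = true) :
    evalT [normA, normB] w = evalT [normA, normB] w' := Equiv.ext fun p => ix_injective (by
  rw [ix_evalT nine_ok.1, ix_evalT nine_ok.1]
  simpa using List.all_eq_true.1 h (ix p) (List.mem_range.2 (ix_lt p)))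

theorem evalT_append (X : List ℕ) : ∀ v w, evalT X (v ++ w) = evalT X v * evalT X w
  | [], w => (one_mul _).symm
  | k :: v, w => by
    show tabPerm (genTab X k) * evalT X (v ++ w) = (tabPerm (genTab X k) * evalT X v) * evalT X w
    rw [evalT_append X v w, mul_assoc]

theorem evalT_pow_A (i : ℕ) : evalT [normA, normB] (List.replicate i 0) = (tabPerm normA) ^ i :=
  evalT_replicate [normA, normB] 0 i

theorem evalT_pow_B (i : ℕ) : evalT [normA, normB] (List.replicate i 1) = (tabPerm normB) ^ i :=
  evalT_replicate [normA, normB] 1 i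

/-- The generators as elements of the stabiliser. -/
noncomputable def qGen (k : Fin quartetGens.length) : QK :=
  ⟨tabPerm quartetGens[k.1], tabPerm_mem_QK (List.all_eq_true.1 gens_ok _ (List.getElem_mem k.2))⟩

/-- The matrices of the generators. -/
def qMat (k : Fin quartetGens.length) : Matrix (Fin 2) (Fin 2) (ZMod 3) :=
  let m := genMats.getD k.1 []
  !![((m.getD 0 0 : ℕ) : ZMod 3), ((m.getD 1 0 : ℕ) : ZMod 3);
     ((m.getD 2 0 : ℕ) : ZMod 3), ((m.getD 3 0 : ℕ) : ZMod 3)]

/-- Check of the conjugation relations of generator `k`. -/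
def relOK (k : Fin quartetGens.length) (e : ℕ) (v : Fin 2 → ZMod 3) : Bool :=
  let u := Matrix.mulVec (qMat k) v
  let w := List.replicate (u 0).val 0 ++ List.replicate (u 1).val 1
  let g := quartetGens[k.1]
  (List.range 24).all fun p => tabAt g (runT [normA, normB] [e] p) == runT [normA, normB] w (tabAt g p)

theorem rels_ok : ∀ k, relOK k 0 ![1, 0] = true ∧ relOK k 1 ![0, 1] = true := by decide +kernel

theorem GL_words : ∀ A : Matrix (Fin 2) (Fin 2) (ZMod 3), A.det ≠ 0 →
    ∃ w ∈ matWords, ((w.filterMap fun k => if h : k < quartetGens.length then some (⟨k, h⟩ : Fin _)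
      else none).map qMat).prod = A := by
  decide +kernel

theorem QK_quotient : ∃ (N : Subgroup QK) (_ : N.Normal), Nat.card N = 9 ∧
    Nonempty (QK ⧸ N ≃* GL (Fin 2) (ZMod 3)) := by
  obtain ⟨hok, ha3, hb3, hab, hinj⟩ := nine_ok
  have hA : ((elA : QK) : Equiv.Perm GolayPt) = tabPerm normA := rfl
  have hB : ((elB : QK) : Equiv.Perm GolayPt) = tabPerm normB := rfl
  have hval : ∀ v, ((GLQuot.coord elA elB v : QK) : Equiv.Perm GolayPt) =
      evalT [normA, normB] (List.replicate (v 0).val 0 ++ List.replicate (v 1).val 1) := fun v => by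
    rw [evalT_append, evalT_pow_A, evalT_pow_B]; rfl
  have hA3 : elA ^ 3 = 1 := by
    refine Subtype.ext ?_
    rw [SubgroupClass.coe_pow, hA, ← evalT_pow_A]; exact ix_eq_of_wordEq ha3
  have hB3 : elB ^ 3 = 1 := by
    refine Subtype.ext ?_
    rw [SubgroupClass.coe_pow, hB, ← evalT_pow_B]; exact ix_eq_of_wordEq hb3
  have hcomm : Commute elA elB := by
    refine Subtype.ext ?_
    show tabPerm normA * tabPerm normB = tabPerm normB * tabPerm normA
    have := ix_eq_of_wordEq hab
    simpa [evalT, genTab] using this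
  have hi : Function.Injective (GLQuot.coord elA elB) := by
    intro u v huv
    rw [← sub_eq_zero]
    have h0 : GLQuot.coord elA elB (u - v) = 1 := by
      have := GLQuot.coord_add hA3 hB3 hcomm (u - v) v
      rw [sub_add_cancel, huv] at this
      exact mul_eq_right.1 this.symm
    have hw : wordEq (List.replicate ((u - v) 0).val 0 ++ List.replicate ((u - v) 1).val 1) [] = true := by
      simp only [wordEq, List.all_eq_true, List.mem_range, beq_iff_eq]
      intro p hp
      have := congrArg (fun g : QK => ix ((g : Equiv.Perm GolayPt) (pt p))) h0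
      simp only [hval, ix_evalT hok, ix_pt hp] at this
      simpa [runT] using this.trans (by show ix (pt p) = _; rw [ix_pt hp])
    generalize u - v = x at hw
    by_contra hne
    have hi9 := List.all_eq_true.1 hinj ((x 0).val + 3 * (x 1).val) (List.mem_range.2 (by
      have := (x 0).val_lt; have := (x 1).val_lt; omega))
    have h0' := (x 0).val_lt
    have h1' := (x 1).val_lt
    simp only [Nat.add_mul_mod_self_left, Nat.mod_eq_of_lt h0',
      show ((x 0).val + 3 * (x 1).val) / 3 = (x 1).val by omega, hw, Bool.not_true, Bool.or_false,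
      beq_iff_eq] at hi9
    refine hne (funext fun i => ?_)
    fin_cases i
    · exact (ZMod.val_eq_zero _).1 (by show (x 0).val = 0; omega)
    · exact (ZMod.val_eq_zero _).1 (by show (x 1).val = 0; omega)
  have hrel : ∀ k e v, relOK k e v = true → (e = 0 ∨ e = 1) →
      qGen k * (if e = 0 then elA else elB) * (qGen k)⁻¹ =
        GLQuot.coord elA elB (Matrix.mulVec (qMat k) v) := by
    intro k e v h he
    rw [mul_inv_eq_iff_eq_mul]
    refine Subtype.ext ?_
    rw [Subgroup.coe_mul, Subgroup.coe_mul, hval]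
    refine Equiv.ext fun p => ix_injective ?_
    simp only [relOK, List.all_eq_true, List.mem_range, beq_iff_eq] at h
    have hg := isTab_tabPerm (List.all_eq_true.1 gens_tabOK _ (List.getElem_mem k.2))
    have he' : ((if e = 0 then elA else elB : QK) : Equiv.Perm GolayPt) = evalT [normA, normB] [e] := by
      rcases he with rfl | rfl <;> simp [evalT, genTab, hA, hB]
    rw [Equiv.Perm.mul_apply, Equiv.Perm.mul_apply, he', ix_evalT hok,
      show ∀ z, ix ((qGen k : Equiv.Perm GolayPt) z) = tabAt quartetGens[k.1] (ix z) from hg,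
      show ∀ z, ix ((qGen k : Equiv.Perm GolayPt) z) = tabAt quartetGens[k.1] (ix z) from hg,
      ix_evalT hok]
    exact h (ix p) (ix_lt p)
  refine GLQuot.quotient_GL hA3 hB3 hcomm hi qGen ?_ qMat ?_ ?_ ?_ card_QK
  · rw [eq_top_iff]
    rintro ⟨g, hg⟩ -
    have hg' : g ∈ tabGroup quartetGens := tabGroup_eq_QK.symm ▸ hg
    have hle : tabGroup quartetGens ≤ (Subgroup.closure (Set.range qGen)).map QK.subtype := by
      refine tabGroup_le_of fun x hx => ?_
      obtain ⟨i, hi, rfl⟩ := List.mem_iff_getElem.1 hx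
      exact ⟨qGen ⟨i, hi⟩, Subgroup.subset_closure ⟨_, rfl⟩, rfl⟩
    obtain ⟨y, hy, e⟩ := hle hg'
    rwa [← show y = ⟨g, hg⟩ from Subtype.ext e]
  · intro k; simpa using hrel k 0 _ (rels_ok k).1 (Or.inl rfl)
  · intro k; simpa using hrel k 1 _ (rels_ok k).2 (Or.inr rfl)
  · intro A hA
    obtain ⟨w, -, hw⟩ := GL_words A hA
    exact ⟨_, hw⟩

/-- The fixer of three points of the base dodecad. -/
def ThreeK : Subgroup (Equiv.Perm GolayPt) := fixers M12K [pt 0, pt 1, pt 2]

theorem card_ThreeK : Nat.card ThreeK = 72 := by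
  have step : ∀ (l : List GolayPt) (b : GolayPt) (T : Finset GolayPt),
      (∀ x ∈ l, x ∈ d0) → b ∈ d0 → T = d0 \ l.toFinset → b ∈ T →
      (∀ t ∈ T, ∃ g ∈ fixers M12K l, g b = t) →
      Nat.card (fixers M12K l) = T.card * Nat.card (fixers M12K (b :: l)) := by
    intro l b T hl hb hT hbT h2
    refine card_fixers_step M12K l b T (fun g hg => ?_) h2
    rw [hT, Finset.mem_sdiff, List.mem_toFinset]
    refine ⟨M12K_maps hg.1 hb, fun hmem => ?_⟩
    have := g.injective (hg.2 _ hmem)
    rw [hT, Finset.mem_sdiff, List.mem_toFinset] at hbT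
    exact hbT.2 (this ▸ hmem)
  have ex : ∀ (pre : List ℕ), (∀ x ∈ pre, x < 3) → pre = List.range pre.length →
      ∀ t ∈ d0 \ (pre.map pt).toFinset, ∃ g ∈ fixers M12K (pre.map pt), g (pt pre.length) = t := by
    intro pre hlt hr t ht
    rw [Finset.mem_sdiff, List.mem_toFinset] at ht
    have hlen : pre.length ≤ 3 := by
      by_contra h
      have := hlt 3 (by rw [hr, List.mem_range]; omega)
      omega
    have hnd : (pre.map pt ++ [t]).Nodup := by
      rw [List.nodup_append]
      refine ⟨?_, List.nodup_singleton _, fun a ha b hb => ?_⟩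
      · refine List.Nodup.map_on (fun a ha b hb h => ?_) (by rw [hr]; exact List.nodup_range)
        have := congrArg ix h
        rw [ix_pt (by have := hlt a ha; omega), ix_pt (by have := hlt b hb; omega)] at this
        exact this
      · rw [List.mem_singleton] at hb; subst hb; exact fun e => ht.2 (e ▸ ha)
    obtain ⟨g, hg, e⟩ := M12K_exists_tuple (pre.map pt ++ [t]) (by simp; omega) hnd (by
      intro x hx
      rcases List.mem_append.1 hx with hx | hx
      · obtain ⟨i, hi, rfl⟩ := List.mem_map.1 hx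
        have hall : ∀ i < 3, pt i ∈ d0 := by decide +kernel
        exact hall i (hlt i hi)
      · rw [List.mem_singleton.1 hx]; exact ht.1)
    have htake : ([0, 1, 2, 3, 4] : List ℕ).take (pre.map pt ++ [t]).length =
        pre ++ [pre.length] := by
      rw [hr]; simp only [List.length_map, List.length_append, List.length_range, List.length_singleton]
      interval_cases pre.length <;> rfl
    rw [htake, List.map_append, List.map_cons, List.map_nil] at e
    obtain ⟨e1, e2⟩ := List.append_inj e (by simp)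
    refine ⟨g, ⟨hg, fun x hx => ?_⟩, by simpa using e2⟩
    obtain ⟨i, hi, rfl⟩ := List.mem_map.1 hx
    exact (List.map_inj_left.1 (e1.trans rfl)) i hi
  have e0 := step [] (pt 0) d0 (by simp) (by decide +kernel) (by simp) (by decide +kernel)
    (fun t ht => ex [] (by simp) rfl t (by simpa using ht))
  have e1 := step [pt 0] (pt 1) (d0 \ [pt 0].toFinset) (by decide +kernel) (by decide +kernel) rfl
    (by decide +kernel) (fun t ht => ex [0] (by simp) rfl t ht)
  have e2 := step [pt 1, pt 0] (pt 2) (d0 \ [pt 1, pt 0].toFinset) (by decide +kernel)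
    (by decide +kernel) rfl (by decide +kernel) (fun t ht => by
      obtain ⟨g, hg, e⟩ := ex [0, 1] (by simp) rfl t (by
        simpa [and_comm] using ht)
      exact ⟨g, ⟨hg.1, fun x hx => hg.2 x (by simpa [or_comm] using hx)⟩, e⟩)
  rw [fixers_nil, card_M12K, show d0.card = 12 from baseDodecad_mem.2, e1,
    show (d0 \ [pt 0].toFinset).card = 11 by decide +kernel, e2,
    show (d0 \ [pt 1, pt 0].toFinset).card = 10 by decide +kernel] at e0
  have : Nat.card (fixers M12K [pt 2, pt 1, pt 0]) = Nat.card ThreeK := by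
    congr 2
    ext g
    simp only [ThreeK, mem_fixers, List.mem_cons, List.not_mem_nil, or_false, forall_eq_or_imp,
      forall_eq]
    tauto
  omega

theorem threeGens_ok : threeGens.all tabOK = true ∧
    threeGens.all (fun t => fixD t && tabAt t 0 == 0 && tabAt t 1 == 1 && tabAt t 2 == 2) = true ∧
    chainOK threeGens [] threeChain = true := by
  decide +kernel

theorem ThreeK_transitive {x y : GolayPt} (hx : x ∉ d0) (hy : y ∉ d0) :
    ∃ g ∈ ThreeK, g x = y := by
  obtain ⟨hok, hfix, hchain⟩ := threeGens_ok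
  have hle : tabGroup threeGens ≤ ThreeK := tabGroup_le_of fun t ht => by
    have h := List.all_eq_true.1 hfix t ht
    simp only [Bool.and_eq_true, beq_iff_eq] at h
    refine ⟨tabPerm_mem_M12K h.1.1.1, fun z hz => ?_⟩
    have hT := isTab_tabPerm (List.all_eq_true.1 hok t ht)
    simp only [List.mem_cons, List.not_mem_nil, or_false] at hz
    rcases hz with rfl | rfl | rfl <;> refine ix_injective ?_ <;> rw [hT, ix_pt (by norm_num)]
    · exact h.1.1.2
    · exact h.1.2
    · exact h.2
  obtain ⟨b, T, ws, e, hT⟩ : ∃ b T ws, threeChain = [(b, T, ws)] ∧ maskSet T = d0ᶜ :=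
    ⟨_, _, _, rfl, by decide +kernel⟩
  rw [e] at hchain
  obtain ⟨g, hg, -, hgx⟩ := chain_trans hok (by simp) hchain (t := x) (by simpa [hT] using hx)
  obtain ⟨g', hg', -, hgy⟩ := chain_trans hok (by simp) hchain (t := y) (by simpa [hT] using hy)
  refine ⟨g' * g⁻¹, ThreeK.mul_mem (hle hg') (ThreeK.inv_mem (hle hg)), ?_⟩
  rw [Equiv.Perm.mul_apply, ← hgx, show g⁻¹ (g _) = _ from g.symm_apply_apply _, hgy]

end Cfsg.Agent.Golay.Quartet
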