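import Cfsg.Agent.Lib.Golay.Quartet

/-!
Moving a dodecad, a quartet, three points to standard position.
-/

set_option autoImplicit false

namespace Cfsg.Agent.Golay.Quartet

open Cfsg Cfsg.Agent.Golay.Basic Cfsg.Agent.Golay.M24 Cfsg.Agent.Golay.Small Cfsg.Agent.Golay.Trans
  Cfsg.Agent.Golay.Perm
open scoped Pointwise

theorem exists_to_d0 {d : Finset GolayPt} (hd : d ∈ dodecads) : ∃ a ∈ Cfsg.M24, a • d = d0 := by
  obtain ⟨b, hb, hbd⟩ := exists_smul_dodecad hd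
  exact ⟨b⁻¹, M24.inv_mem hb, by rw [← hbd, inv_smul_smul]⟩

theorem exists_to_q0 {d : Finset GolayPt} (hd : d ∈ dodecads) {Q : Finset (Finset GolayPt)}
    (hQ : Q ∈ quartets d) : ∃ a ∈ Cfsg.M24, a • d = d0 ∧ a • Q = q0 := by
  obtain ⟨b, hb, hbd⟩ := exists_to_d0 hd
  obtain ⟨k, hk, e⟩ := quartets_d0_transitive (hbd ▸ smul_mem_quartets hb hQ)
  exact ⟨k⁻¹ * b, M24.mul_mem (M24.inv_mem (mem_M12K.1 hk).1) hb,
    by rw [mul_smul, hbd, inv_smul_eq_iff, (mem_M12K.1 hk).2],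
    by rw [mul_smul, ← e, inv_smul_smul]⟩

theorem mem_QK_conj {a : Equiv.Perm GolayPt} (ha : a ∈ Cfsg.M24) {d : Finset GolayPt}
    {Q : Finset (Finset GolayPt)} (had : a • d = d0) (haQ : a • Q = q0) (g : Cfsg.M24) :
    g ∈ MulAction.stabilizer Cfsg.M24 d ⊓ MulAction.stabilizer Cfsg.M24 Q ↔
      a * (g : Equiv.Perm GolayPt) * a⁻¹ ∈ QK := by
  show (g • d = d ∧ g • Q = Q) ↔ _ ∈ M12K ∧ (a * (g : Equiv.Perm GolayPt) * a⁻¹) • q0 = q0
  rw [conj_mem_M12K ha had, ← haQ]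
  refine and_congr_right fun _ => ?_
  rw [mul_smul, mul_smul, inv_smul_smul, smul_left_cancel_iff]
  rfl

theorem mem_ThreeK_conj {a : Equiv.Perm GolayPt} (ha : a ∈ Cfsg.M24) {d : Finset GolayPt}
    {p q r : GolayPt} (had : a • d = d0) (hp : a p = pt 0) (hq : a q = pt 1) (hr : a r = pt 2)
    (g : Cfsg.M24) :
    g ∈ MulAction.stabilizer Cfsg.M24 d ⊓ MulAction.stabilizer Cfsg.M24 p ⊓
        MulAction.stabilizer Cfsg.M24 q ⊓ MulAction.stabilizer Cfsg.M24 r ↔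
      a * (g : Equiv.Perm GolayPt) * a⁻¹ ∈ ThreeK := by
  have key : ∀ x, ((g : Equiv.Perm GolayPt) x = x ↔ (a * (g : Equiv.Perm GolayPt) * a⁻¹) (a x) = a x) :=
    fun x => by simp
  show (((g • d = d ∧ (g : Equiv.Perm GolayPt) p = p) ∧ (g : Equiv.Perm GolayPt) q = q) ∧
      (g : Equiv.Perm GolayPt) r = r) ↔ _ ∈ M12K ∧ ∀ x ∈ [pt 0, pt 1, pt 2], _ = x
  rw [conj_mem_M12K ha had, key p, key q, key r, hp, hq, hr]
  simp only [List.mem_cons, List.not_mem_nil, or_false, forall_eq_or_imp, forall_eq]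
  tauto

theorem QK_le : QK ≤ Cfsg.M24 := fun _ h => h.1.1

theorem ThreeK_le : ThreeK ≤ Cfsg.M24 := fun _ h => h.1.1

theorem exists_to_three {d : Finset GolayPt} (hd : d ∈ dodecads) {p q r : GolayPt} (hp : p ∈ d)
    (hq : q ∈ d) (hr : r ∈ d) (hpq : p ≠ q) (hpr : p ≠ r) (hqr : q ≠ r) :
    ∃ a ∈ Cfsg.M24, a • d = d0 ∧ a p = pt 0 ∧ a q = pt 1 ∧ a r = pt 2 := by
  obtain ⟨b, hb, hbd⟩ := exists_to_d0 hd
  have hmem : ∀ x ∈ d, b x ∈ d0 := fun x hx => by rw [← hbd, mem_smul_iff]; exact hx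
  obtain ⟨k, hk, e⟩ := M12K_exists_tuple [b p, b q, b r] (by simp) (by
      simp [hpq, hpr, hqr, b.injective.eq_iff]) (by
      intro t ht
      simp only [List.mem_cons, List.not_mem_nil, or_false] at ht
      rcases ht with rfl | rfl | rfl
      exacts [hmem p hp, hmem q hq, hmem r hr])
  simp only [List.length_cons, List.length_nil, List.take_succ_cons, List.take_zero, List.map_cons,
    List.map_nil, List.cons.injEq, and_true] at e
  refine ⟨k⁻¹ * b, M24.mul_mem (M24.inv_mem (mem_M12K.1 hk).1) hb,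
    by rw [mul_smul, hbd, inv_smul_eq_iff, (mem_M12K.1 hk).2], ?_, ?_, ?_⟩ <;>
  rw [Equiv.Perm.mul_apply, Equiv.Perm.inv_eq_iff_eq]
  · exact e.1.symm
  · exact e.2.1.symm
  · exact e.2.2.symm

end Cfsg.Agent.Golay.Quartet
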