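import Cfsg.Agent.Lib.Golay.StabStruct

/-!
The structure of sextet and trio stabilisers.
-/

set_option autoImplicit false
set_option maxRecDepth 20000

namespace Cfsg.Agent.Golay.SextetTrioStab

open Cfsg Cfsg.Agent.Golay.Basic Cfsg.Agent.Golay.M24 Cfsg.Agent.Golay.Cert Cfsg.Agent.Golay.Trans
  Cfsg.Agent.Golay.Suborbit Cfsg.Agent.Golay.Suborbits Cfsg.Agent.Golay.SubData
  Cfsg.Agent.Golay.StabData Cfsg.Agent.Golay.StabStruct
open scoped Pointwise

theorem exists_to_base_sextet {S : Finset (Finset GolayPt)} (hS : S ∈ sextets) :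
    (∃ a ∈ Cfsg.M24, a • S = sextetRep 0) ∧ Nat.card (MulAction.stabilizer Cfsg.M24 S) = 138240 := by
  obtain ⟨r, -, -, -, h3⟩ := sextet_suborbits sextetRep_mem
  obtain ⟨g, hg⟩ := (h3.symm ▸ hS : S ∈ MulAction.orbit Cfsg.M24 (sextetRep 0))
  obtain ⟨r', -, -, -, h3'⟩ := sextet_suborbits hS
  have h := card_stabilizer_fam h3' Cfsg.Agent.Golay.Sextet.sextets_ncard
  refine ⟨⟨(g : Equiv.Perm GolayPt)⁻¹, Cfsg.M24.inv_mem g.2, ?_⟩, by omega⟩
  rw [inv_smul_eq_iff]; exact hg.symm

theorem exists_to_base_trio {T : Finset (Finset GolayPt)} (hT : T ∈ trios) :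
    (∃ a ∈ Cfsg.M24, a • T = trioRep 0) ∧ Nat.card (MulAction.stabilizer Cfsg.M24 T) = 64512 := by
  obtain ⟨r, -, -, -, h3⟩ := trio_suborbits trioRep_mem
  obtain ⟨g, hg⟩ := (h3.symm ▸ hT : T ∈ MulAction.orbit Cfsg.M24 (trioRep 0))
  obtain ⟨r', -, -, -, h3'⟩ := trio_suborbits hT
  have h := card_stabilizer_fam h3' Cfsg.Agent.Golay.Sextet.trios_ncard
  refine ⟨⟨(g : Equiv.Perm GolayPt)⁻¹, Cfsg.M24.inv_mem g.2, ?_⟩, by omega⟩
  rw [inv_smul_eq_iff]; exact hg.symm

theorem sextet_swaps : swapsOK (sextetRoot 0) sextSwaps = true := by decide +kernel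

theorem trio_swaps : swapsOK (trioRoot 0) trioSwaps = true := by decide +kernel

theorem sextK_ok : sextK.all (fixFam (sextetRoot 0)) = true ∧ sextK.all tabOK = true ∧
    chainOK sextK [] sextChain = true ∧ chainProd sextChain = 138240 := by decide +kernel

theorem trioK_ok : trioK.all (fixFam (trioRoot 0)) = true ∧ trioK.all tabOK = true ∧
    chainOK trioK [] trioChain = true ∧ chainProd trioChain = 64512 := by decide +kernel

theorem sextNine_ok : normalOK sextK sextNine = true ∧ allDistinct sextNine = true ∧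
    sextNine.all (fixFam (sextetRoot 0)) = true ∧ sextNine.length = 64 := by decide +kernel

theorem trioNine_ok : normalOK trioK trioNine = true ∧ allDistinct trioNine = true ∧
    trioNine.all (fixFam (trioRoot 0)) = true ∧ trioNine.length = 64 := by decide +kernel

theorem card_FamK_sextet : Nat.card (FamK (sextetRep 0)) = 138240 := by
  rw [← (exists_to_base_sextet sextetRep_mem).2]
  exact (card_of_mem_iff (fun g => by
    show (g : Equiv.Perm GolayPt) • sextetRep 0 = sextetRep 0 ↔ _
    exact ⟨fun h => ⟨g.2, h⟩, fun h => h.2⟩) inf_le_left).symm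

theorem card_FamK_trio : Nat.card (FamK (trioRep 0)) = 64512 := by
  rw [← (exists_to_base_trio trioRep_mem).2]
  exact (card_of_mem_iff (fun g => by
    show (g : Equiv.Perm GolayPt) • trioRep 0 = trioRep 0 ↔ _
    exact ⟨fun h => ⟨g.2, h⟩, fun h => h.2⟩) inf_le_left).symm

theorem sextK_eq : tabGroup sextK = FamK (sextetRep 0) :=
  tabGroup_eq sextK_ok.2.1 sextK_ok.2.2.1
    (fun x hx => tabPerm_mem_FamK (sextet_enc 0) (List.all_eq_true.1 sextK_ok.1 x hx))
    (by rw [card_FamK_sextet, sextK_ok.2.2.2])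

theorem trioK_eq : tabGroup trioK = FamK (trioRep 0) :=
  tabGroup_eq trioK_ok.2.1 trioK_ok.2.2.1
    (fun x hx => tabPerm_mem_FamK (trio_enc 0) (List.all_eq_true.1 trioK_ok.1 x hx))
    (by rw [card_FamK_trio, trioK_ok.2.2.2])

/-! ### Sextets -/

theorem sextet_structure {S : Finset (Finset GolayPt)} (hS : S ∈ sextets) :
    Function.Surjective (act S) ∧
      Nat.card {g : ↥(MulAction.stabilizer Cfsg.M24 S) // ∀ t ∈ S,
        ((g : Cfsg.M24) : Equiv.Perm GolayPt) • t = t} = 192 ∧
      ∃ N : Subgroup ↥(MulAction.stabilizer Cfsg.M24 S), N.Normal ∧ Nat.card N = 64 ∧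
        ∀ x ∈ N, x * x = 1 := by
  obtain ⟨⟨a, ha, haS⟩, hcard⟩ := exists_to_base_sextet hS
  have hsurj := act_surjective ha haS (sextet_enc 0) sextet_swaps
  refine ⟨hsurj, ?_, ?_⟩
  · have h := Subgroup.card_eq_card_quotient_mul_card_subgroup (act S).ker
    rw [hcard, Nat.card_congr (QuotientGroup.quotientKerEquivOfSurjective (act S) hsurj).toEquiv,
      Nat.card_perm, Nat.card_eq_fintype_card, Fintype.card_coe, hS.1,
      show Nat.factorial 6 = 720 from rfl] at h
    have e : Nat.card (act S).ker = Nat.card {g : ↥(MulAction.stabilizer Cfsg.M24 S) // ∀ t ∈ S,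
        ((g : Cfsg.M24) : Equiv.Perm GolayPt) • t = t} := by
      refine Nat.card_congr (Equiv.subtypeEquivRight fun g => ?_)
      rw [MonoidHom.mem_ker]
      constructor
      · intro hg t ht
        exact congrArg (fun e : Equiv.Perm ↥S => ((e ⟨t, ht⟩ : ↥S) : Finset GolayPt)) hg
      · intro hg
        exact Equiv.ext fun t => Subtype.ext (hg t.1 t.2)
    omega
  · obtain ⟨N, hN, hc, hsq, -⟩ := exists_normal sextK_ok.2.1 sextK_eq sextNine_ok.1 sextNine_ok.2.1
      (fun x hx => tabPerm_mem_FamK (sextet_enc 0) (List.all_eq_true.1 sextNine_ok.2.2.1 x hx))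
    let e := Small.equivOfConj ha inf_le_left (H := MulAction.stabilizer Cfsg.M24 S)
      (mem_FamK_conj ha haS)
    obtain ⟨h1, h2, h3⟩ := exists_normal_of_equiv e hN (hc.trans sextNine_ok.2.2.2) hsq
    exact ⟨_, h1, h2, h3⟩

/-! ### Trios: the action on the seven sextets refining it -/

/-- Number of a vector. -/
def vnum (v : Fin 3 → ZMod 2) : ℕ := (v 0).val + 2 * (v 1).val + 4 * (v 2).val

/-- The refining sextet of a vector (empty for zero). -/
def seven (v : Fin 3 → ZMod 2) : Finset (Finset GolayPt) := famSet (sevenTab.getD (vnum v) [])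

theorem seven_tab_ok : ∀ v, (sevenTab.getD (vnum v) []).Pairwise (· < ·) ∧
    (∀ m ∈ sevenTab.getD (vnum v) [], m < 2 ^ 24) := by decide +kernel

theorem enc_seven (v : Fin 3 → ZMod 2) : encFam (seven v) = sevenTab.getD (vnum v) [] :=
  encFam_famSet (seven_tab_ok v).1 (seven_tab_ok v).2

theorem seven_injective : Function.Injective seven := by
  have h : Function.Injective fun v => sevenTab.getD (vnum v) [] := by decide +kernel
  intro u v e
  refine h ?_
  show sevenTab.getD (vnum u) [] = sevenTab.getD (vnum v) []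
  rw [← enc_seven, ← enc_seven, e]

/-- The matrix of generator `k`. -/
def genMat (k : ℕ) : Matrix (Fin 3) (Fin 3) (ZMod 2) :=
  Matrix.of fun i j => (((trioMats.getD k []).getD (3 * i.1 + j.1) 0 : ℕ) : ZMod 2)

theorem genMat_ok : ∀ k < trioK.length, ∀ v,
    actFam (genTab trioK k) (sevenTab.getD (vnum v) []) =
      sevenTab.getD (vnum (Matrix.mulVec (genMat k) v)) [] := by decide +kernel

/-- The linear action on the seven. -/
def IsMat (g : Equiv.Perm GolayPt) (A : Matrix (Fin 3) (Fin 3) (ZMod 2)) : Prop :=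
  ∀ v, g • seven v = seven (Matrix.mulVec A v)

theorem IsMat.unique {g : Equiv.Perm GolayPt} {A B : Matrix (Fin 3) (Fin 3) (ZMod 2)}
    (hA : IsMat g A) (hB : IsMat g B) : A = B :=
  Matrix.ext_of_mulVec_single fun i => seven_injective (by rw [← hA, hB])

theorem isMat_gen {k : ℕ} (hk : k < trioK.length) :
    IsMat (tabPerm (genTab trioK k)) (genMat k) := fun v => by
  apply encFam_injective
  rw [← actFam_enc _ _ (isTab_genTab trioK_ok.2.1 k), enc_seven, enc_seven, genMat_ok k hk v]

theorem exists_isMat {g : Equiv.Perm GolayPt} (hg : g ∈ FamK (trioRep 0)) : ∃ A, IsMat g A := by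
  rw [← trioK_eq, ← Subgroup.mem_toSubmonoid, tabGroup, Subgroup.closure_toSubmonoid_of_finite] at hg
  induction hg using Submonoid.closure_induction with
  | mem x hx =>
    obtain ⟨t, ht, rfl⟩ := hx
    obtain ⟨k, hk, rfl⟩ := List.mem_iff_getElem.1 ht
    refine ⟨genMat k, ?_⟩
    have h := isMat_gen hk
    rwa [genTab, List.getD_eq_getElem _ _ hk] at h
  | one => exact ⟨1, fun v => by rw [one_smul, Matrix.one_mulVec]⟩
  | mul x y _ _ hx hy =>
    obtain ⟨A, hA⟩ := hx
    obtain ⟨B, hB⟩ := hy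
    exact ⟨A * B, fun v => by rw [mul_smul, hB, hA, Matrix.mulVec_mulVec]⟩

theorem trioNine_fix : trioNine.all (fun x => (List.range 8).all fun n =>
    decide (actFam x (sevenTab.getD n []) = sevenTab.getD n [])) = true ∧
    trioNine.all (fun x => (trioRoot 0).all fun m => imgTab x m == m) = true := by decide +kernel

/-- The word for a matrix. -/
def matWord (A : Matrix (Fin 3) (Fin 3) (ZMod 2)) : List ℕ :=
  trioWords.getD ((List.range 9).map fun i =>
    (A (Fin.ofNat 3 (i / 3)) (Fin.ofNat 3 (i % 3))).val * 2 ^ i).sum []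

/-- The matrix of a word. -/
def wordMat : List ℕ → Matrix (Fin 3) (Fin 3) (ZMod 2)
  | [] => 1
  | k :: w => genMat k * wordMat w

theorem words_ok : ∀ A : Matrix (Fin 3) (Fin 3) (ZMod 2), A.det ≠ 0 →
    ((matWord A).all (fun k => decide (k < trioK.length)) = true ∧ wordMat (matWord A) = A ∧
      (trioRoot 0).all (fun m => (matWord A).foldr (fun k s => imgTab (genTab trioK k) s) m == m) =
        true) := by
  decide +kernel

theorem isMat_word : ∀ w : List ℕ, w.all (fun k => decide (k < trioK.length)) = true →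
    IsMat (evalT trioK w) (wordMat w)
  | [], _ => fun v => by rw [evalT, one_smul, wordMat, Matrix.one_mulVec]
  | k :: w, h => fun v => by
    simp only [List.all_cons, Bool.and_eq_true, decide_eq_true_eq] at h
    rw [evalT, mul_smul, isMat_word w h.2, isMat_gen h.1, wordMat, Matrix.mulVec_mulVec]

theorem mask_word : ∀ (w : List ℕ) (s : Finset GolayPt),
    mask (evalT trioK w • s) = w.foldr (fun k m => imgTab (genTab trioK k) m) (mask s)
  | [], s => by rw [evalT, one_smul]; rfl
  | k :: w, s => by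
    rw [evalT, mul_smul, List.foldr_cons, ← mask_word w s, imgTab_mask (isTab_genTab trioK_ok.2.1 k)]

theorem trio_structure {T : Finset (Finset GolayPt)} (hT : T ∈ trios) :
    Function.Surjective (act T) ∧
      ∃ (N : Subgroup ↥(MulAction.stabilizer Cfsg.M24 T)) (_ : N.Normal), Nat.card N = 64 ∧
        (∀ x ∈ N, x * x = 1) ∧ Nonempty (↥(MulAction.stabilizer Cfsg.M24 T) ⧸ N ≃*
          GL (Fin 3) (ZMod 2) × Equiv.Perm (Fin 3)) := by
  classical
  obtain ⟨⟨a, ha, haS⟩, hcard⟩ := exists_to_base_trio hT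
  have hsurj := act_surjective ha haS (trio_enc 0) trio_swaps
  refine ⟨hsurj, ?_⟩
  let G := MulAction.stabilizer Cfsg.M24 T
  let e := Small.equivOfConj ha inf_le_left (H := G) (mem_FamK_conj ha haS)
  choose A hA using fun g : G => exists_isMat (e g).2
  have hA1 : A 1 = 1 := IsMat.unique (hA 1) (by rw [map_one]; exact fun v => by simp)
  have hAmul : ∀ g h, A (g * h) = A g * A h := fun g h =>
    IsMat.unique (hA (g * h)) (fun v => by
      rw [map_mul, Subgroup.coe_mul, mul_smul, hA h, hA g, Matrix.mulVec_mulVec])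
  let φ : G →* GL (Fin 3) (ZMod 2) :=
    MonoidHom.toHomUnits { toFun := A, map_one' := hA1, map_mul' := hAmul }
  let f3 : ↥T ≃ Fin 3 := Fintype.equivOfCardEq (by rw [Fintype.card_coe, hT.1, Fintype.card_fin])
  let ψ : G →* Equiv.Perm (Fin 3) := f3.permCongrHom.toMonoidHom.comp (act T)
  have hψ : Function.Surjective ψ := f3.permCongrHom.surjective.comp hsurj
  have hsurj2 : Function.Surjective (φ.prod ψ) := by
    rintro ⟨u, σ⟩
    obtain ⟨g, hg⟩ := hψ σ
    have hdet : (u * (φ g)⁻¹ : GL (Fin 3) (ZMod 2)).1.det ≠ 0 :=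
      ((Matrix.isUnit_iff_isUnit_det _).1 (u * (φ g)⁻¹).isUnit).ne_zero
    obtain ⟨hw, hwm, hwfix⟩ := words_ok _ hdet
    generalize matWord (u * (φ g)⁻¹ : GL (Fin 3) (ZMod 2)).1 = w at hw hwm hwfix
    have hk : evalT trioK w ∈ FamK (trioRep 0) := trioK_eq ▸ evalT_mem w
    refine ⟨e.symm ⟨_, hk⟩ * g, ?_⟩
    have h1 : φ (e.symm ⟨_, hk⟩) = u * (φ g)⁻¹ := by
      refine Units.ext (IsMat.unique (hA _) ?_)
      rw [MulEquiv.apply_symm_apply, ← hwm]
      exact isMat_word w hw
    have h2 : act T (e.symm ⟨_, hk⟩) = 1 := by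
      refine Equiv.ext fun t => Subtype.ext ?_
      show (a⁻¹ * evalT trioK w * a) • (t : Finset GolayPt) = t
      rw [mul_smul, mul_smul, inv_smul_eq_iff]
      apply mask_injective
      rw [mask_word]
      simp only [List.all_eq_true, beq_iff_eq] at hwfix
      refine hwfix _ ?_
      rw [← trio_enc 0, encFam, (List.perm_insertionSort _ _).mem_iff, List.mem_map]
      exact ⟨_, Finset.mem_toList.2 (haS ▸ Finset.smul_mem_smul_finset t.2), rfl⟩
    refine Prod.ext ?_ ?_
    · show φ (_ * g) = u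
      rw [map_mul, h1, inv_mul_cancel_right]
    · show ψ (_ * g) = σ
      rw [map_mul, hg, show ψ (e.symm ⟨_, hk⟩) = 1 by
        show f3.permCongrHom (act T (e.symm ⟨_, hk⟩)) = 1
        rw [h2, map_one], one_mul]
  obtain ⟨N, hN, hc, hsq, hmemN⟩ := exists_normal trioK_ok.2.1 trioK_eq trioNine_ok.1 trioNine_ok.2.1
      (fun x hx => tabPerm_mem_FamK (trio_enc 0) (List.all_eq_true.1 trioNine_ok.2.2.1 x hx))
  obtain ⟨h1, h2, h3⟩ := exists_normal_of_equiv e hN (hc.trans trioNine_ok.2.2.2) hsq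
  have hle : N.comap e.toMonoidHom ≤ (φ.prod ψ).ker := by
    intro g hg
    obtain ⟨x, hx, hxe⟩ := (hmemN _).1 hg
    have hxe' : (e g : Equiv.Perm GolayPt) = tabPerm x := hxe
    have hfix := List.all_eq_true.1 trioNine_fix.1 x hx
    have hfix2 := List.all_eq_true.1 trioNine_fix.2 x hx
    simp only [List.all_eq_true, List.mem_range, decide_eq_true_eq, beq_iff_eq] at hfix hfix2
    have hxT : IsTab x (tabPerm x) := isTab_tabPerm (by
      have := List.all_eq_true.1 trioNine_ok.2.2.1 x hx
      simp only [fixFam, Bool.and_eq_true] at this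
      exact this.1)
    rw [MonoidHom.mem_ker]
    refine Prod.ext (Units.ext (IsMat.unique (hA g) fun v => ?_)) ?_
    · show (e g : Equiv.Perm GolayPt) • seven v = seven (Matrix.mulVec 1 v)
      rw [hxe', Matrix.one_mulVec]
      apply encFam_injective
      rw [← actFam_enc _ _ hxT, enc_seven]
      have hlt : ∀ v, vnum v < 8 := by decide +kernel
      exact hfix _ (hlt v)
    · show f3.permCongrHom (act T g) = 1
      rw [← f3.permCongrHom.map_one]
      congr 1
      refine Equiv.ext fun t => Subtype.ext ?_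
      show ((g : Cfsg.M24) : Equiv.Perm GolayPt) • (t : Finset GolayPt) = t
      have hge : ((g : Cfsg.M24) : Equiv.Perm GolayPt) = a⁻¹ * tabPerm x * a := by
        rw [← hxe']
        show _ = a⁻¹ * (a * _ * a⁻¹) * a
        simp [mul_assoc]
      rw [hge, mul_smul, mul_smul, inv_smul_eq_iff]
      apply mask_injective
      rw [← imgTab_mask hxT]
      refine hfix2 _ ?_
      rw [← trio_enc 0, encFam, (List.perm_insertionSort _ _).mem_iff, List.mem_map]
      exact ⟨_, Finset.mem_toList.2 (haS ▸ Finset.smul_mem_smul_finset t.2), rfl⟩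
  have hker : Nat.card (φ.prod ψ).ker = 64 := by
    have h := Subgroup.card_eq_card_quotient_mul_card_subgroup (φ.prod ψ).ker
    rw [hcard, Nat.card_congr (QuotientGroup.quotientKerEquivOfSurjective (φ.prod ψ) hsurj2).toEquiv,
      Nat.card_prod, Matrix.card_GL_field, Fin.prod_univ_three, ZMod.card, Nat.card_perm,
      Nat.card_fin, show Nat.factorial 3 = 6 from rfl] at h
    generalize Nat.card (φ.prod ψ).ker = c at h ⊢
    norm_num at h
    omega
  have heq : N.comap e.toMonoidHom = (φ.prod ψ).ker :=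
    Subgroup.eq_of_le_of_card_ge hle (by rw [hker, h2])
  haveI := h1
  exact ⟨_, h1, h2, h3, ⟨(QuotientGroup.quotientMulEquivOfEq heq).trans
    (QuotientGroup.quotientKerEquivOfSurjective (φ.prod ψ) hsurj2)⟩⟩

end Cfsg.Agent.Golay.SextetTrioStab
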