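import Mathlib

/-!
Certificate for the uniqueness of S(4, 5, 11): five normalised blocks, the branching four-sets of
the completion search in preorder (`0` marks a leaf), the standard system and the relabellings.
-/

namespace Cfsg.Agent.Golay.Small11

/-- The five normalised blocks. -/
def initBlocks : List ℕ := [31, 295, 1095, 647, 1067]

/-- The standard S(4, 5, 11). -/
def std11 : List ℕ := [31, 109, 118, 174, 179, 203, 213, 248, 295, 313, 339, 348, 362, 397, 410, 436, 454, 481, 565, 570, 590, 601, 611, 647, 668, 681, 722, 740, 779, 790, 812, 837, 880, 913, 930, 968, 1067, 1084, 1095, 1114, 1137, 1174, 1177, 1189, 1228, 1250, 1294, 1301, 1330, 1353, 1380, 1411, 1448, 1488, 1549, 1555, 1574, 1620, 1640, 1674, 1712, 1729, 1816, 1825, 1858, 1924]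

/-- Relabellings of the completions. -/
def relabels11 : List (List ℕ) := [[0, 1, 2, 3, 4, 5, 6, 7, 8, 9, 10], [0, 1, 2, 3, 4, 8, 7, 6, 5, 10, 9], [0, 1, 2, 3, 4, 10, 8, 9, 6, 7, 5], [0, 1, 2, 3, 4, 9, 5, 10, 7, 6, 8], [0, 1, 2, 3, 4, 6, 9, 8, 10, 5, 7], [0, 1, 2, 3, 4, 7, 10, 5, 9, 8, 6], [0, 1, 2, 3, 4, 8, 7, 10, 5, 6, 9], [0, 1, 2, 3, 4, 5, 6, 9, 8, 7, 10], [0, 1, 2, 3, 4, 6, 9, 5, 10, 8, 7], [0, 1, 2, 3, 4, 7, 10, 8, 9, 5, 6], [0, 1, 2, 3, 4, 10, 8, 7, 6, 9, 5], [0, 1, 2, 3, 4, 9, 5, 6, 7, 10, 8]]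

/-- The four-sets on which the search branches. -/
def choices : List ℕ := [139, 267, 163, 99, 83, 531, 387, 45, 525, 141, 165, 53, 85, 277, 325, 57, 169, 153, 89, 329, 113, 401, 225, 801, 705, 46, 526, 270, 86, 534, 150, 550, 198, 58, 90, 154, 106, 650, 306, 210, 226, 418, 834, 60, 92, 156, 300, 204, 180, 596, 228, 356, 900, 120, 792, 616, 424, 456, 368, 688, 464, 0, 78, 142, 150, 534, 54, 102, 774, 58, 154, 282, 170, 586, 306, 210, 354, 674, 450, 60, 92, 284, 300, 204, 116, 660, 612, 420, 452, 568, 216, 232, 360, 904, 240, 432, 848, 0, 101, 533, 149, 549, 525, 269, 197, 89, 105, 57, 153, 649, 305, 209, 225, 417, 833, 46, 270, 526, 150, 278, 54, 166, 326, 58, 90, 154, 170, 330, 114, 402, 226, 802, 706, 60, 92, 156, 300, 204, 180, 596, 228, 356, 900, 120, 792, 616, 424, 456, 368, 688, 464, 0, 78, 142, 54, 278, 86, 102, 774, 90, 154, 282, 170, 586, 306, 210, 354, 674, 450, 60, 92, 540, 108, 396, 180, 340, 356, 420, 708, 184, 344, 232,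 808, 456, 240, 624, 912, 0, 77, 141, 165, 53, 85, 149, 773, 153, 105, 281, 169, 585, 305, 209, 353, 673, 449, 46, 142, 526, 54, 86, 278, 166, 326, 58, 154, 90, 170, 330, 114, 402, 226, 802, 706, 60, 92, 284, 300, 204, 116, 660, 612, 420, 452, 568, 216, 232, 360, 904, 240, 432, 848, 0, 78, 270, 278, 54, 150, 550, 198, 90, 154, 58, 106, 650, 306, 210, 226, 418, 834, 60, 92, 540, 108, 396, 180, 340, 356, 420, 708, 184, 344, 232, 808, 456, 240, 624, 912, 0, 75, 547, 99, 83, 147, 771, 45, 141, 269, 165, 85, 277, 549, 197, 57, 169, 153, 537, 329, 113, 401, 353, 417, 705, 46, 78, 526, 534, 150, 54, 102, 390, 58, 154, 282, 298, 202, 178, 594, 354, 674, 450, 60, 92, 156, 300, 204, 116, 660, 228, 420, 836, 184, 344, 232, 616, 904, 240, 816, 464, 0, 142, 270, 86, 150, 534, 166, 326, 58, 90, 282, 106, 650, 306, 210, 610, 418, 450, 60, 92, 156, 172, 588, 308, 212, 228, 356, 900, 120, 408, 232, 808, 456, 240, 688, 848, 0, 77, 525, 549, 53, 85, 277,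 389, 153, 105, 281, 297, 201, 177, 593, 353, 673, 449, 46, 142, 270, 54, 86, 278, 550, 198, 58, 154, 538, 170, 330, 114, 402, 354, 418, 706, 60, 92, 156, 300, 204, 116, 660, 228, 420, 836, 184, 344, 232, 616, 904, 240, 816, 464, 0, 78, 270, 278, 54, 534, 166, 326, 90, 154, 282, 106, 650, 306, 210, 610, 418, 450, 60, 92, 156, 108, 396, 180, 340, 228, 804, 708, 568, 216, 232, 424, 840, 240, 368, 912, 0, 101, 149, 533, 165, 141, 269, 325, 89, 105, 57, 281, 649, 305, 209, 609, 417, 449, 46, 142, 270, 278, 54, 86, 550, 198, 58, 90, 538, 170, 330, 114, 402, 354, 418, 706, 60, 92, 156, 172, 588, 308, 212, 228, 356, 900, 120, 408, 232, 808, 456, 240, 688, 848, 0, 78, 526, 54, 150, 278, 102, 390, 90, 154, 282, 298, 202, 178, 594, 354, 674, 450, 60, 92, 156, 108, 396, 180, 340, 228, 804, 708, 568, 216, 232, 424, 840, 240, 368, 912, 0]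

end Cfsg.Agent.Golay.Small11
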