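import Cfsg.Prelude.Def_Sporadic_a
import Cfsg.Agent.Lib.Golay.Biplane
import Cfsg.Agent.Lib.Golay.Small11Data
import Cfsg.Agent.Lib.Golay.Steiner

/-! Every S(4, 5, 11) is a relabelling of the standard one. -/

set_option autoImplicit false
set_option maxRecDepth 20000

namespace Cfsg.Agent.Golay.Small11

open Cfsg Cfsg.Agent.Golay.Biplane

/-- Number of bits among the low twelve. -/
def wn (m : ℕ) : ℕ :=
  0x4332322132212110 >>> (4 * (m % 16)) % 16 + 0x4332322132212110 >>> (4 * (m / 16 % 16)) % 16 +
    0x4332322132212110 >>> (4 * (m / 256 % 16)) % 16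

theorem wn_eq : ∀ m < 2048, wn m = wt11 m := by decide +kernel

theorem card_eq_wn (s : Finset (Fin 11)) : s.card = wn (msk11 s) := by
  rw [wn_eq _ (msk11_lt s), card_eq_wt11]

/-- Possible blocks through the four-set `s`, given the blocks `L`. -/
def cands (s : ℕ) (L : List ℕ) : List ℕ :=
  (((List.range 11).filter fun x => !s.testBit x).map fun x => s ||| 2 ^ x).filter fun m =>
    L.all fun p => decide (wn (m &&& p) < 4)

/-- The image of a mask under a list of images. -/
def relab (p : List ℕ) (m : ℕ) : ℕ :=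
  ((List.range 11).map fun i => if m.testBit i then 2 ^ p.getD i 0 else 0).sum

/-- A completed configuration is a relabelling of the standard system. -/
def leafOK (L : List ℕ) : Bool :=
  (L.length == 66) && relabels11.any fun p =>
    (decide p.Nodup && decide (p.length = 11) && p.all fun x => decide (x < 11)) &&
      L.all fun m => std11.contains (relab p m)

/-- The completion search along the list of branching four-sets; the unused part is returned. -/
def run : ℕ → List ℕ → List ℕ → Option (List ℕ)
  | 0, _, _ => none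
  | fuel + 1, L, cs =>
    match cs with
    | [] => none
    | s :: rest =>
      if s = 0 then (if leafOK L then some rest else none)
      else if decide (s < 2048) && (wn s == 4) && L.all (fun b => s &&& b != s) then
        (cands s L).foldl (fun acc m => acc.bind fun r => run fuel (m :: L) r) (some rest)
      else none

theorem run_ok : (run 80 initBlocks choices).isSome = true := by decide +kernel

/-- The blocks, on masks. -/
structure Sys (M : Finset ℕ) : Prop where
  lt : ∀ m ∈ M, m < 2048
  wt : ∀ m ∈ M, wn m = 5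
  inter : ∀ m ∈ M, ∀ m' ∈ M, m ≠ m' → wn (m &&& m') < 4
  cover : ∀ s < 2048, wn s = 4 → ∃ m ∈ M, s &&& m = s
  card : M.card = 66

theorem foldl_none (f : Option (List ℕ) → ℕ → Option (List ℕ)) (hf : ∀ m, f none m = none) :
    ∀ l : List ℕ, l.foldl f none = none
  | [] => rfl
  | a :: l => by rw [List.foldl_cons, hf]; exact foldl_none f hf l

theorem foldl_some {g : ℕ → List ℕ → Option (List ℕ)} : ∀ (l : List ℕ) (r₀ r' : List ℕ),
    l.foldl (fun acc m => acc.bind fun r => g m r) (some r₀) = some r' →
      ∀ m ∈ l, ∃ r r'', g m r = some r''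
  | [], _, _, _, m, hm => absurd hm (List.not_mem_nil)
  | a :: l, r₀, r', h, m, hm => by
    rw [List.foldl_cons, Option.bind_some] at h
    rcases e : g a r₀ with _ | r₁
    · rw [e, foldl_none _ (fun _ => rfl)] at h
      exact absurd h (by simp)
    · rw [e] at h
      rcases List.mem_cons.1 hm with rfl | hm
      · exact ⟨r₀, r₁, e⟩
      · exact foldl_some l r₁ r' h m hm

theorem or_single {s m : ℕ} (hs : s < 2048) (hm : m < 2048) (h4 : wn s = 4) (h5 : wn m = 5)
    (hsub : s &&& m = s) : ∃ x < 11, s.testBit x = false ∧ m = s ||| 2 ^ x := by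
  let S : Finset (Fin 11) := Finset.univ.filter fun i => s.testBit i.1
  let T : Finset (Fin 11) := Finset.univ.filter fun i => m.testBit i.1
  have hmask : ∀ n < 2048, msk11 (Finset.univ.filter fun i : Fin 11 => n.testBit i.1) = n := by
    intro n hn
    apply Nat.eq_of_testBit_eq
    intro i
    rcases Nat.lt_or_ge i 11 with hi | hi
    · rw [testBit_msk11 _ ⟨i, hi⟩]; simp
    · rw [msk11, Nat.testBit_ofBits_ge _ _ hi,
        Nat.testBit_lt_two_pow (lt_of_lt_of_le hn (Nat.pow_le_pow_right (n := 2) (by norm_num) hi))]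
  have hS : S.card = 4 := by rw [card_eq_wn, hmask s hs, h4]
  have hT : T.card = 5 := by rw [card_eq_wn, hmask m hm, h5]
  have hST : S ⊆ T := fun i hi => by
    simp only [S, T, Finset.mem_filter, Finset.mem_univ, true_and] at hi ⊢
    have := congrArg (fun n => n.testBit i.1) hsub
    simpa [Nat.testBit_and, hi] using this
  obtain ⟨x, hx⟩ := Finset.card_eq_one.1 (show (T \ S).card = 1 by
    rw [Finset.card_sdiff_of_subset hST, hS, hT])
  have hx' : x ∈ T \ S := hx ▸ Finset.mem_singleton_self x
  simp only [S, T, Finset.mem_sdiff, Finset.mem_filter, Finset.mem_univ, true_and,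
    Bool.not_eq_true] at hx'
  refine ⟨x.1, x.2, hx'.2, Nat.eq_of_testBit_eq fun i => ?_⟩
  rw [Nat.testBit_or, Nat.testBit_two_pow]
  rcases Nat.lt_or_ge i 11 with hi | hi
  · by_cases e : x.1 = i
    · subst e; simp [hx'.1]
    · simp only [e, decide_false, Bool.or_false]
      by_cases h : s.testBit i
      · rw [h]; simpa [T] using hST (show (⟨i, hi⟩ : Fin 11) ∈ S by simp [S, h])
      · by_contra hne
        have : (⟨i, hi⟩ : Fin 11) ∈ T \ S := by
          simp only [S, T, Finset.mem_sdiff, Finset.mem_filter, Finset.mem_univ, true_and]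
          revert hne; cases m.testBit i <;> simp_all
        rw [hx, Finset.mem_singleton] at this
        exact e (congrArg Fin.val this).symm
  · rw [Nat.testBit_lt_two_pow (lt_of_lt_of_le hm (Nat.pow_le_pow_right (n := 2) (by norm_num) hi)),
      Nat.testBit_lt_two_pow (lt_of_lt_of_le hs (Nat.pow_le_pow_right (n := 2) (by norm_num) hi)),
      decide_eq_false (by omega)]
    rfl

theorem run_sound {M : Finset ℕ} (hM : Sys M) : ∀ (fuel : ℕ) (L cs r : List ℕ),
    run fuel L cs = some r → L.Nodup → (∀ m ∈ L, m ∈ M) →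
      ∃ L' : List ℕ, leafOK L' = true ∧ L'.toFinset = M
  | 0, L, cs, r, h, _, _ => by simp [run] at h
  | fuel + 1, L, [], r, h, _, _ => by simp [run] at h
  | fuel + 1, L, s :: rest, r, h, hnd, hL => by
    rw [run] at h
    split_ifs at h with h0 hleaf hcond
    · refine ⟨L, hleaf, Finset.eq_of_subset_of_card_le (fun m hm => hL m (List.mem_toFinset.1 hm)) ?_⟩
      have : L.length = 66 := by
        simp only [leafOK, Bool.and_eq_true, beq_iff_eq] at hleaf; exact hleaf.1
      rw [List.toFinset_card_of_nodup hnd, this, hM.card]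
    · simp only [Bool.and_eq_true, decide_eq_true_eq, beq_iff_eq, List.all_eq_true,
        bne_iff_ne] at hcond
      obtain ⟨⟨hs, h4⟩, hnew⟩ := hcond
      obtain ⟨m, hm, hsub⟩ := hM.cover s hs h4
      obtain ⟨x, hx, hxs, rfl⟩ := or_single hs (hM.lt m hm) h4 (hM.wt m hm) hsub
      have hnotL : s ||| 2 ^ x ∉ L := fun hin => hnew _ hin hsub
      have hmem : s ||| 2 ^ x ∈ cands s L := by
        refine List.mem_filter.2 ⟨List.mem_map.2 ⟨x, List.mem_filter.2
          ⟨List.mem_range.2 hx, by simp [hxs]⟩, rfl⟩, List.all_eq_true.2 fun p hp => ?_⟩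
        exact decide_eq_true (hM.inter _ hm _ (hL p hp) fun e => hnotL (e ▸ hp))
      obtain ⟨r₁, r₂, h'⟩ := foldl_some (g := fun m r => run fuel (m :: L) r) _ _ _ h _ hmem
      exact run_sound hM fuel _ _ _ h' (List.nodup_cons.2 ⟨hnotL, hnd⟩) fun y hy => by
        rcases List.mem_cons.1 hy with rfl | hy
        exacts [hm, hL y hy]

variable {α : Type*} [Fintype α] [DecidableEq α]

/-- A labelled system whose blocks include the normalised ones is standard after relabelling. -/
theorem exists_relabel {B : Set (Finset (Fin 11))} (hB : IsSteinerSystem 4 5 B)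
    (hinit : ∀ m ∈ initBlocks, ∃ b ∈ B, msk11 b = m) :
    ∃ π : Equiv.Perm (Fin 11), ∀ b ∈ B, msk11 (b.image π) ∈ std11 := by
  classical
  have hcard : B.ncard = 66 := by
    have h := Steiner.block_count hB
    rw [Fintype.card_fin, show Nat.choose 5 4 = 5 by decide, show Nat.choose 11 4 = 330 by decide] at h
    omega
  have hinj : Function.Injective msk11 := fun s t e => by
    ext i; simpa [testBit_msk11] using congrArg (fun n => n.testBit i.1) e
  let M : Finset ℕ := (Set.toFinite B).toFinset.image msk11
  have hmem : ∀ m, m ∈ M ↔ ∃ b ∈ B, msk11 b = m := fun m => by simp [M]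
  have hM : Sys M := by
    refine ⟨?_, ?_, ?_, ?_, ?_⟩
    · intro m hm; obtain ⟨b, -, rfl⟩ := (hmem m).1 hm; exact msk11_lt b
    · intro m hm; obtain ⟨b, hb, rfl⟩ := (hmem m).1 hm; rw [← card_eq_wn, hB.1 b hb]
    · intro m hm m' hm' hne
      obtain ⟨b, hb, rfl⟩ := (hmem m).1 hm
      obtain ⟨c, hc, rfl⟩ := (hmem m').1 hm'
      rw [← msk11_inter, ← card_eq_wn]
      exact Steiner.inter_card_lt hB hb hc fun e => hne (e ▸ rfl)
    · intro s hs h4
      let S : Finset (Fin 11) := Finset.univ.filter fun i => s.testBit i.1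
      have hS : msk11 S = s := by
        apply Nat.eq_of_testBit_eq
        intro i
        rcases Nat.lt_or_ge i 11 with hi | hi
        · rw [testBit_msk11 _ ⟨i, hi⟩]; simp [S]
        · rw [msk11, Nat.testBit_ofBits_ge _ _ hi,
            Nat.testBit_lt_two_pow (lt_of_lt_of_le hs (Nat.pow_le_pow_right (n := 2) (by norm_num) hi))]
      obtain ⟨b, hb, hsub⟩ := Steiner.exists_block hB (s := S) (by rw [card_eq_wn, hS, h4])
      exact ⟨_, (hmem _).2 ⟨b, hb, rfl⟩,
        by rw [← hS, ← msk11_inter, Finset.inter_eq_left.2 hsub]⟩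
    · rw [Finset.card_image_of_injective _ hinj, ← Set.ncard_eq_toFinset_card, hcard]
  obtain ⟨r, hr⟩ := Option.isSome_iff_exists.1 run_ok
  obtain ⟨L, hleaf, hLM⟩ := run_sound hM _ _ _ _ hr (by decide +kernel)
    (fun m hm => (hmem m).2 (hinit m hm))
  simp only [leafOK, Bool.and_eq_true, List.any_eq_true, beq_iff_eq, decide_eq_true_eq,
    List.all_eq_true, List.contains_eq_mem] at hleaf
  obtain ⟨-, p, -, ⟨⟨hnd, hlen⟩, hlt⟩, himg⟩ := hleaf
  let f : Fin 11 → Fin 11 := fun i =>
    ⟨p.getD i.1 0, by rw [List.getD_eq_getElem _ _ (by omega)]; exact hlt _ (List.getElem_mem _)⟩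
  have hf : Function.Injective f := fun i j h => by
    have h' := congrArg Fin.val h
    simp only [f, List.getD_eq_getElem _ _ (show i.1 < p.length by omega),
      List.getD_eq_getElem _ _ (show j.1 < p.length by omega)] at h'
    exact Fin.ext (hnd.getElem_inj_iff.1 h')
  let π : Equiv.Perm (Fin 11) := Equiv.ofBijective f (Finite.injective_iff_bijective.1 hf)
  refine ⟨π, fun b hb => ?_⟩
  have hsum : ∀ u : Finset (Fin 11), msk11 u = ∑ i ∈ u, 2 ^ i.1 := by decide +kernel
  have e : relab p (msk11 b) = msk11 (b.image π) := by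
    rw [hsum (b.image π), Finset.sum_image fun a _ c _ h => π.injective h, relab,
      ← List.map_coe_finRange_eq_range, List.map_map]
    rw [show ((List.finRange 11).map ((fun i => if (msk11 b).testBit i then 2 ^ p.getD i 0 else 0) ∘
        fun i : Fin 11 => i.1)).sum =
      ∑ i : Fin 11, if (msk11 b).testBit i.1 then 2 ^ p.getD i.1 0 else 0 by
        rw [Fin.sum_univ_def]; rfl]
    simp only [testBit_msk11, decide_eq_true_eq, Finset.sum_ite_mem, Finset.univ_inter]
    exact Finset.sum_congr rfl fun i _ => rfl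
  rw [← e]
  exact himg _ (List.mem_toFinset.1 (hLM ▸ (hmem _).2 ⟨b, hb, rfl⟩))

end Cfsg.Agent.Golay.Small11
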