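import Cfsg.Agent.Lib.Golay.Cert

/-!
Certificates for M23, M22, M12, M11 as subgroups of `M24`.  Produced by a search outside Lean;
re-checked in `Small.lean`.
-/

set_option autoImplicit false
set_option maxRecDepth 10000

namespace Cfsg.Agent.Golay.SmallData

/-- Two elements of prime order and their inverses. -/
def m23Tabs : List ℕ :=
  [645613903864094260125857086279137952,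
   562352800246967028126284756640571904,
   682839827232425028283718566923317728,
   130180755321161935217159810147668320]

/-- Their transversal chain. -/
def m23Chain : List (ℕ × ℕ × List (List ℕ)) :=
   [(1, 16777214, [[], [0, 0, 1, 2], [0, 3], [0, 0, 3], [2, 1], [1, 2], [1, 0], [2, 3, 3], [3, 0], [3, 3], [3], [0, 1, 2], [0, 1, 0], [3, 3, 0], [2], [1], [2, 2, 3, 3], [0, 1, 1], [1, 1], [0, 3, 0], [0], [0, 3, 3, 0], [0, 1]]),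
    (2, 16777212, [[], [1, 2, 3, 0, 1], [2, 3, 2, 3, 2, 2, 1], [1, 2, 2, 1, 1, 1], [0, 3, 2, 3, 2, 1], [3, 2, 1, 0, 3], [3, 2, 2, 2], [2, 1, 1, 0, 0, 0, 1, 2], [3, 3, 0, 1, 1, 2], [2, 3, 2, 3, 3, 3], [2, 1, 2, 2, 1, 1], [2, 2, 3], [0, 0, 1, 0, 0, 0], [2, 3, 3, 0, 3], [0, 0, 0, 1], [1, 0, 0], [2, 3, 2, 2, 3, 0], [2, 1, 1, 2, 1, 0, 0, 3], [3, 0, 0, 3, 3], [2, 1, 1, 2, 1, 1, 1, 1], [1, 2, 2, 2, 1, 0], [2, 3, 0, 0, 0, 3]]),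
    (3, 16777208, [[], [3, 2, 2, 2, 2, 1, 0, 1, 0, 1], [2, 1, 0, 0, 1, 0, 1, 2, 2, 2, 3, 0, 3], [1, 0, 0, 0, 0, 1, 0, 3], [2, 3, 0, 0, 0, 3, 1, 2, 1, 1, 2, 3], [1, 2, 3, 0, 1, 2, 1, 2, 1, 1, 2], [1, 2, 2, 3, 0, 3, 3, 0, 1, 1, 0, 3, 0, 1, 1], [2, 2, 2, 3, 2, 2, 2, 1, 1, 2, 1, 0, 0, 0, 0], [1, 0, 0, 2, 3, 2, 1, 0, 1], [3, 0, 3, 2], [1, 0, 0, 1, 2, 2, 2, 1, 2, 3], [1, 2, 2, 3, 0, 3, 3, 0, 3, 2, 1, 1, 1, 0], [0, 0, 0, 1, 0, 3, 0, 0, 1, 1], [1, 2, 1, 1, 0, 3, 2, 1, 0, 0, 0], [1, 2, 2, 2, 1, 0, 3, 0, 0, 3, 0, 0], [0, 1, 2, 1], [1, 0, 0, 1, 2, 3, 2, 2], [3, 2, 2, 2, 1, 2, 1, 1, 0], [3, 2, 1, 0, 3, 2, 1, 0, 0, 1, 0], [2, 2, 3, 1, 1, 1, 2, 3, 0], [3, 3, 0, 0, 3, 0, 1, 1, 2, 2, 1]]),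
    (4, 16777200, [[], [0, 1, 2, 1, 2, 1, 0, 0, 1, 0, 2, 3, 2, 3, 3, 0, 0], [0, 3, 3, 0, 3, 0, 3, 2, 1, 0, 3, 3, 3, 3, 3, 0, 3, 3, 0, 0, 3, 3, 2, 1, 1], [2, 3, 3, 0, 3, 0, 0, 0, 1, 2, 3, 2, 1, 2, 2], [1, 2, 3, 0, 1, 3, 3, 3, 2, 1, 0], [1, 1, 2, 2, 1, 3, 3, 2, 2, 1, 2], [1, 2, 3, 2, 2, 2, 2, 3, 3, 0, 1, 0, 1, 2, 2, 3, 3, 3, 2, 2], [3, 3, 2, 1, 2, 3, 3, 2, 1, 1, 2, 1, 0, 0, 3, 1, 2, 3, 0, 1, 1, 1, 0, 3, 2, 1, 2], [3, 3, 3, 0, 0, 3, 2, 1, 0, 3, 3, 3], [3, 2, 3, 0, 1, 0, 2, 2, 3, 1, 2, 3, 0, 1, 0, 3, 2, 2, 3, 2, 3, 3], [3, 0, 0, 3, 3, 2, 1, 2, 2, 1, 1, 1, 2, 3, 0, 1, 2, 3, 0, 0, 0, 0, 0], [3, 0, 0, 3, 3, 2, 1, 2, 2, 1, 1, 3, 2, 1, 0, 3, 2, 1, 0, 1, 2, 2], [2, 2, 1, 2, 2, 1, 2, 3, 0, 0, 0, 3,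 2, 2, 3, 2, 1, 1, 1, 0, 1, 1], [2, 3, 0, 0, 0, 3, 3, 3, 0, 0, 3, 0], [2, 2, 2, 3, 0, 1, 2, 3, 3, 0, 3, 2, 1, 0, 0, 1, 0, 1, 1, 1, 1, 2, 2], [3, 3, 0, 0, 3, 0, 1, 1, 2, 3, 2], [0, 1, 2, 1, 3, 2, 1, 0, 3, 2, 3, 0, 1, 1, 1], [0, 0, 1, 0, 3, 2, 2, 3, 0, 0, 0, 1, 3, 0, 1, 0, 1, 2], [3, 0, 3, 2, 1, 2, 2, 3, 0, 3, 3, 0, 1, 1, 1, 1, 0, 1], [3, 3, 2, 2, 1, 2, 3, 2, 2, 2, 3, 0, 1, 0, 1, 2, 3, 3, 2, 1, 2, 3, 3]]),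
    (7, 5248, [[], [0, 3, 0, 0, 1, 1, 3, 0, 0, 3, 3, 3, 0, 3, 2, 2, 1, 0, 0, 1, 0, 1, 1, 1, 0, 1, 0], [3, 3, 3, 0, 0, 3, 2, 1, 1, 1, 2, 1, 2]]),
    (5, 16771936, [[], [2, 2, 1, 1, 0, 1, 0, 2, 3, 2, 2, 3, 0, 3, 0, 3, 2, 2, 3, 3, 3, 0, 1, 2, 1, 1, 2, 1, 0, 0, 3, 1, 1, 1, 0, 1, 0, 2, 3, 3, 3, 0, 1], [1, 1, 1, 2, 3, 0, 1, 2, 2, 1, 1, 1, 1, 0, 3, 3, 0, 3, 1, 2, 2, 2, 1, 0, 3, 0, 1, 0, 1, 2, 0, 3, 2, 2, 2, 3, 3, 0], [0, 3, 0, 3, 3, 3, 0, 1, 2, 2, 1, 1, 1, 1, 1, 1, 2, 3, 0, 1, 2, 2, 1, 1, 1, 3, 0, 0, 3, 3, 2, 1, 2, 2, 1, 1, 2, 3, 0, 0, 0, 3, 2, 3, 2, 2, 3, 2, 3], [2, 3, 2, 3, 3, 3, 2, 3, 2, 2, 3, 0, 0, 1, 2, 1, 1, 1, 2, 2, 1, 3, 3, 2, 2, 1, 2, 3, 3, 3, 2, 1, 0, 1, 2, 3, 0, 1, 3, 0, 3, 2, 0, 3,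 3, 0, 3, 0, 3, 2, 1, 0, 3, 1, 1, 2, 2, 1, 3, 3, 3, 0, 0, 3], [0, 3, 0, 3, 3, 3, 0, 1, 2, 2, 1, 1, 1, 2, 3, 0, 1, 1, 1, 3, 2, 1, 0, 3, 2, 3, 3, 0, 3, 0, 0, 0, 1, 2, 3, 0, 0, 0, 3, 1, 1, 0, 0, 1, 1, 0, 0, 3], [2, 3, 2, 3, 3, 3, 2, 3, 2, 2, 3, 0, 0, 1, 2, 1, 1, 1, 2, 2, 1, 3, 3, 2, 2, 1, 2, 0, 0, 3, 2, 3, 0, 1, 2, 3, 0, 1, 3, 3, 0, 0, 3, 0, 1, 1, 2, 2, 1, 2, 3, 2, 2, 3, 0, 1, 2, 3, 0, 1, 2, 1, 1, 2, 1, 2, 1, 0], [0, 3, 2, 3, 2, 1, 3, 2, 2, 2, 1, 0, 0, 1, 2, 3, 2, 2, 2, 2, 1, 2, 2, 1, 2, 3, 0, 0, 0, 3, 3, 2, 2, 2, 2, 1, 1, 0, 1, 2, 1, 1], [0, 1, 0, 3, 3, 2, 1, 2, 2, 1, 1, 0, 0, 1, 0, 3, 2, 2, 3, 1, 2, 2, 3, 0, 3, 3, 0, 2, 3, 2, 1, 1, 0, 3], [0, 0, 3, 0, 1, 0, 3, 2, 2, 2, 1, 2, 1, 1, 0, 2, 2,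 1, 2, 2, 1, 2, 3, 0, 0, 0, 3, 3, 2, 2, 2, 1, 1, 0, 0, 3, 0, 1, 2], [0, 0, 3, 2, 3, 0, 1, 2, 3, 0, 1, 3, 3, 0, 0, 3, 0, 1, 1, 2, 2, 1, 1, 1, 2, 2, 1, 3, 0, 3, 0, 0, 1], [0, 1, 0, 3, 3, 2, 1, 2, 2, 1, 1, 3, 2, 2, 2, 0, 1, 0, 3, 3], [0, 3, 0, 3, 3, 3, 0, 1, 2, 2, 1, 1, 1, 0, 1, 0, 3, 3, 2, 1, 2, 2, 1, 1, 0, 3, 3, 0, 3, 0, 3, 2, 1, 0, 3, 2, 2, 2, 3, 2, 2, 2, 1, 1, 0, 1, 0, 3, 0], [2, 3, 2, 3, 3, 3, 2, 3, 2, 2, 3, 0, 0, 1, 2, 1, 1, 1, 2, 2, 1, 3, 3, 2, 2, 1, 2, 3, 2, 3, 3, 3, 3, 2, 1, 1, 2, 1, 0, 0, 3, 0, 1, 2, 1, 2, 3, 3, 3, 0, 1, 2, 1, 1, 2, 1, 0, 0, 3, 1, 2, 3, 0, 1, 0, 3, 2, 3, 0, 3, 3], [2, 3, 2, 3, 3, 3, 2, 3, 2, 2, 3, 0, 0, 1, 2, 1, 1, 1, 2, 2, 1, 3, 3, 2, 2, 1, 2, 0, 3, 0, 0, 1, 1, 3,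 0, 0, 3, 3, 1, 2, 3, 2, 2, 2, 2, 3, 1, 2, 1, 1, 0, 0, 3, 2, 2, 1, 0, 3, 0], [2, 3, 2, 3, 3, 3, 2, 3, 2, 2, 3, 0, 0, 1, 2, 1, 1, 1, 2, 2, 1, 3, 3, 2, 2, 1, 2, 0, 0, 3, 3, 3, 3, 2, 3, 2, 2, 3, 0, 1, 2, 1, 1, 0, 3, 2, 1, 0, 0, 0, 3, 3, 2, 2, 1, 2, 3, 2, 2, 2, 3, 2, 2, 2, 0, 3, 3, 0, 3, 0]])]

/-- Two elements of prime order and their inverses. -/
def m22Tabs : List ℕ :=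
  [87198140031259976781523676080877600,
   466925728245313264265827539729322016,
   136757495982713814725406654135491616,
   650673189165295501707210014503250976]

/-- Their transversal chain. -/
def m22Chain : List (ℕ × ℕ × List (List ℕ)) :=
   [(2, 16777212, [[], [2, 2], [1], [0, 0, 3], [3, 0], [0, 1], [1, 0, 0], [3, 2, 2], [0, 1, 1], [3], [0], [1, 1], [0, 0], [3, 2], [2, 1], [1, 0], [0, 1, 0], [2, 3, 0], [0, 0, 1, 1], [0, 3], [1, 0, 3], [2]]),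
    (3, 16777208, [[], [0, 1, 0, 3, 0], [1, 1, 2], [3, 0, 1, 1, 0], [1, 2, 3, 3, 0, 1], [0, 3, 3], [0, 1, 2, 1, 0], [3, 3, 0, 0, 1], [3, 3, 2, 2, 3, 2, 3, 0], [2, 1, 1, 1, 1], [0, 1, 1, 0, 1, 0], [3, 0, 0, 0, 1, 0], [2, 3, 2, 1, 1, 1, 0], [2, 3, 0, 3, 3, 3], [1, 0, 0, 0], [2, 2, 2, 1, 2], [2, 2, 3, 0, 0, 0, 3], [1, 2, 2, 1, 0, 1], [2, 2, 2, 3], [0, 0, 1, 1, 1, 0, 1], [2, 3, 2, 2, 2, 1]]),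
    (4, 16777200, [[], [3, 2, 2, 1, 1, 2, 3, 2, 1, 2, 1], [2, 3, 3, 2, 1, 0, 0, 1, 1, 0, 0, 3], [1, 1, 2, 3, 3, 2, 2, 3, 3, 0, 0], [1, 0, 0, 0, 3, 0, 0, 3, 3, 2], [2, 2, 2, 3, 1, 2, 3, 0, 3, 2, 2], [3, 2, 3, 0, 0, 3, 0, 0, 0, 1, 0, 3], [3, 0, 0, 0, 1, 0, 2, 3, 3, 2, 1], [2, 1, 2, 3, 2, 2, 3, 2, 3, 3, 2], [2, 2, 2, 3, 3, 3, 3, 3, 0], [3, 0, 0, 0, 1, 0, 2, 1, 2, 3, 2], [1, 1, 2, 3, 3, 2, 1, 2, 2], [2, 1, 2, 3, 2, 2, 3, 0, 3, 2], [2, 1, 2, 3, 2, 3, 2, 2, 1, 1], [2, 3, 3, 2, 1, 0, 0, 0, 3, 0, 1], [3, 2, 2, 1, 1, 1, 2, 3, 2, 2, 3, 3], [1, 0, 0, 0, 2, 2, 3, 3, 0, 3], [0, 3, 3, 1, 2, 1, 1, 0, 0], [2, 2, 2, 3, 1, 2, 3, 2, 2, 2], [0, 0, 1, 0, 1, 2, 3]]),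
    (7, 5248, [[], [0, 1, 0, 3, 0, 2, 3, 2, 2, 2, 1, 2, 3, 0, 3, 2, 2, 1, 0, 3, 0, 0], [0, 0, 0, 1, 0, 3, 1, 0, 0, 0, 3, 0, 0, 0, 1, 0, 2, 1, 0, 3, 2, 3]]),
    (5, 16771936, [[], [1, 0, 1, 2, 3, 0, 2, 3, 2, 2, 2, 1, 2, 2, 2, 3, 1, 2, 3, 2, 2, 2, 1, 2, 3, 2, 2, 2, 1, 2, 2, 1, 0, 1, 0, 3, 3, 2, 1, 1, 0, 0, 1], [2, 2, 1, 2, 3, 0, 0, 1, 2, 1, 0, 3, 0, 0, 0, 1, 0, 2, 1, 2, 3, 2, 1, 2, 1, 1, 0, 0, 2, 2, 2, 3, 3, 0, 0, 0, 1, 0, 3, 2, 1, 2, 2, 2], [1, 2, 1, 1, 0, 0, 2, 2, 2, 3, 3, 3, 3, 3, 0, 0, 0, 1, 0, 0, 1, 0, 1], [1, 2, 3, 2, 2, 2, 1, 2, 2, 1, 0, 1, 3, 0, 0, 0, 1, 0, 2, 2, 1, 2, 3, 0], [1, 0, 1, 2, 3, 0, 2, 3, 2, 2, 2, 1, 2, 2, 2, 3, 1, 2, 3, 2, 2, 2, 3, 0, 3, 0, 1, 0, 3, 3, 0, 0, 1, 2, 3,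 0, 3, 2, 0, 0, 1, 0, 1, 0, 0], [2, 2, 1, 2, 3, 0, 0, 1, 2, 1, 0, 3, 0, 0, 0, 1, 0, 2, 1, 2, 3, 2, 3, 0, 1, 1, 0, 2, 3, 2, 2, 2, 1, 1, 2, 1, 1, 2, 3], [0, 0, 0, 1, 0, 3, 1, 0, 0, 0, 2, 1, 2, 3, 2, 2, 2, 3, 0, 1, 0, 1], [2, 2, 1, 2, 3, 0, 0, 1, 2, 1, 0, 3, 0, 0, 0, 1, 0, 2, 1, 2, 3, 2, 1, 2, 2, 3, 3, 2, 2, 3, 0, 1, 1, 0, 0, 3, 0, 0, 0, 0, 1, 1, 1, 2, 1], [3, 0, 3, 0, 1, 0, 3, 3, 0, 0, 1, 2, 3, 2, 3, 3, 2, 0, 0, 1, 0, 0, 0, 0, 3], [0, 0, 0, 1, 0, 3, 1, 0, 0, 0, 1, 0, 0, 0, 3, 0, 1, 0, 3, 2], [1, 0, 3, 2, 3, 2, 2, 1, 1, 2, 3, 2, 1, 1, 0, 3], [1, 0, 1, 2, 3, 0, 2, 3, 2, 2, 2, 1, 2, 2, 2, 3, 1, 2, 3, 2, 2, 2, 0, 0, 0, 1, 0, 3, 1, 0, 0, 0, 2, 2, 2, 3, 1, 2, 2, 2, 1, 2, 3], [2, 2, 1, 2, 3, 0, 0,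 1, 2, 1, 0, 3, 0, 0, 0, 1, 0, 2, 1, 2, 3, 2, 0, 0, 3, 0, 1, 1, 0, 3, 3, 1, 1, 2, 2, 3, 0, 1, 0, 1, 0], [1, 2, 3, 2, 2, 2, 1, 2, 2, 1, 0, 1, 3, 3, 3, 3, 0, 3, 0, 0, 1, 2, 1], [0, 1, 1, 0, 1, 0, 0, 1, 0, 3, 0, 2, 3, 2, 2, 2, 1, 0, 1, 0, 1, 1, 1]])]

/-- Two elements of prime order and their inverses. -/
def m12Tabs : List ℕ :=
  [683344033171552352373032281403007142,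
   478613632385682893517333943960440906,
   845551138584353949534180743831562545,
   858766674472277470834074747039548623]

/-- Their transversal chain. -/
def m12Chain : List (ℕ × ℕ × List (List ℕ)) :=
   [(0, 165759, [[], [1, 0], [0, 1], [0, 0], [3, 2], [2, 1], [0], [2, 2], [0, 3], [1], [3], [2]]),
    (1, 165758, [[], [1, 2, 1, 2], [3, 0, 1, 1, 2], [2, 1, 1], [3, 2, 1, 1, 0], [0, 0, 0, 0, 1], [2, 2, 2, 3], [1, 2, 3, 2, 1], [1, 2, 2, 1, 0], [2, 3, 2, 2, 1], [3, 3, 0]]),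
    (2, 165756, [[], [0, 3, 0, 3, 0, 1, 0, 3, 2], [2, 1, 1, 2, 3, 0, 1, 2], [2, 1, 1, 3, 0, 0, 1, 0], [3, 3, 0, 1, 0, 0, 0], [2, 1, 1, 2, 2, 1, 2, 1], [3, 2, 2, 2, 2, 2, 3, 0, 0, 3], [2, 3, 0, 0, 3, 3, 2, 2, 2, 2], [1, 0, 0, 0, 3, 0, 0, 0, 1, 2], [2, 2, 3, 3]]),
    (3, 165752, [[], [2, 2, 2, 3, 2, 1, 1, 0, 3, 0, 3, 0, 0, 0, 0, 3, 0], [0, 3, 2, 1, 0, 3, 3, 0, 3, 3, 0, 1, 0, 3, 3], [1, 1, 0, 0, 2, 3, 0, 0, 3, 3, 0, 3, 0, 0], [0, 0, 0, 0, 1, 1, 2, 2, 1, 0, 3, 0, 0, 1, 0, 3, 0, 0, 3, 0, 1], [0, 1, 2, 3, 2, 1, 2, 1, 2, 2, 3, 3, 0, 1, 0, 1, 0, 0, 3, 2], [0, 1, 2, 3, 2, 1, 2, 1, 2, 3, 3, 0, 0, 0, 3, 0, 0, 1], [3, 0, 3, 0, 0, 3, 3, 0, 3, 0, 1, 0, 3, 0, 0, 3, 2, 2], [3, 0, 3, 0, 0, 3, 3, 0, 3,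 2, 2, 2, 2, 1, 1, 2, 3]]),
    (4, 165744, [[], [1, 0, 3, 3, 0, 0, 0, 0, 1, 2, 1, 1, 2, 2, 1, 2, 1, 2, 3, 2, 2, 1, 3, 3, 0, 3, 2, 2, 2, 2, 2, 2, 1, 1, 1, 2], [2, 2, 2, 3, 2, 1, 1, 2, 3, 0, 0, 3, 3, 0, 3, 3, 3], [1, 1, 2, 3, 2, 1, 1, 2, 1, 1, 2, 3, 0, 1, 2, 2, 2, 2, 3, 2, 1, 1, 2, 3, 0, 0, 3, 0, 3, 0, 3], [0, 1, 2, 2, 3, 2, 3, 2, 1, 1, 0, 0, 3, 0, 3, 0, 1, 0, 3, 2, 3, 0, 3, 0, 0, 3, 3, 0, 0, 3, 0, 3, 0, 1, 1, 1, 1, 0], [2, 2, 1, 2, 1, 1, 2, 2, 1, 0, 2, 2, 3, 3, 1, 2, 2, 1, 0, 0, 0, 0, 0, 1, 0, 3, 0, 3, 2, 3, 3, 0, 1], [1, 1, 2, 3, 2, 1, 1, 2, 1, 1, 2, 3, 0, 1, 2, 3, 0, 3, 0, 0, 3, 3, 0, 2, 3, 3, 0, 1, 0, 0, 0, 1, 1, 0], [2, 2, 1, 2, 1, 1, 2, 2, 1, 0, 2, 2, 3, 3, 0, 1, 2, 3, 2, 1, 2, 1, 2,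 3, 0, 0, 1, 0, 3, 2, 1, 0, 1, 2]])]

/-- Two elements of prime order and their inverses. -/
def m11Tabs : List ℕ :=
  [480601218389704097071374549134906432,
   478607355848725252632382450979374560,
   848138576708446018287582407870907584,
   692466009963844877521759264469978176]

/-- Their transversal chain. -/
def m11Chain : List (ℕ × ℕ × List (List ℕ)) :=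
   [(1, 165758, [[], [0], [3, 0], [3, 2], [0, 0], [2], [1, 2], [0, 3, 0], [0, 1], [1], [2, 1]]),
    (2, 165756, [[], [2, 2, 3, 2, 1], [0, 3, 0, 0, 0], [3, 2, 1, 1], [0, 0, 1, 1], [2, 3], [2, 2, 2, 1, 2], [2, 2, 1, 0, 1], [3, 2, 2, 2], [1, 0]]),
    (3, 165752, [[], [2, 3, 2, 2, 1, 1, 1], [0, 3, 0, 0, 0, 3, 3, 0, 1], [2, 2, 2, 1, 2, 0, 1, 1, 2, 1], [2, 3, 3, 0, 1, 0, 0], [2, 2, 1, 2, 2], [2, 1, 0, 1, 2], [0, 0, 0, 1, 0, 3, 0, 0, 3], [1, 0, 3, 0, 1, 0, 3]]),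
    (4, 165744, [[], [3, 2, 1, 1, 2, 2, 2, 1, 2, 3, 2, 3, 0, 0, 3, 2, 3, 0, 3], [0, 0, 3, 0, 0, 1, 0, 3, 0, 3, 3, 2], [3, 0, 3, 3, 2, 0, 3, 0, 0, 0, 0, 3, 2, 3, 0], [1, 0, 0, 0, 0, 1], [0, 0, 0, 1, 2, 1, 2, 1, 1, 2], [1, 0, 0, 1, 2, 2, 1], [3, 2, 1, 1, 2, 2, 2, 1, 2, 1, 0, 2, 1, 0, 0, 0, 0]])]

/-- Three levels outside the dodecad. -/
def m11Outer : List (ℕ × ℕ × List (List ℕ)) :=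
   [(7, 16611456, [[], [0, 0, 0], [0, 3], [1], [1, 1], [2, 1], [3], [3, 0], [0], [2], [0, 1], [0, 0]]),
    (11, 16611328, [[], [0, 1, 1, 1], [1, 2, 2, 2], [1, 0, 0, 1], [3, 2, 1, 2], [1, 1, 0], [2, 3, 3], [1, 0, 1, 2], [3, 3, 3, 2], [3, 3, 0, 1, 1], [3, 0, 1, 0, 1]]),
    (12, 16609280, [[], [0, 3, 2, 3, 3, 3, 2, 1, 1], [2, 3, 3, 3, 3, 0, 3, 2], [2, 3, 3, 3, 2, 2, 3], [3, 2, 3, 2, 1, 2, 2, 1, 2, 1], [0, 3, 0, 1, 0, 3, 2, 3], [3, 2, 2, 3, 3, 2, 2, 1, 0], [0, 3, 0, 1, 0, 0, 0, 3], [1, 1, 0, 1, 2, 1, 0, 3], [3, 3, 2, 1, 1, 3, 0, 1, 1, 2]])]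

end Cfsg.Agent.Golay.SmallData
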