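import Cfsg.Agent.Lib.Golay.StabData
import Cfsg.Agent.Lib.Golay.Small

/-!
Stabilisers of families of sets in `M24`: action on the members, a normal subgroup given by tables.
-/

set_option autoImplicit false
set_option maxRecDepth 20000

namespace Cfsg.Agent.Golay.StabStruct

open Cfsg Cfsg.Agent.Golay.Basic Cfsg.Agent.Golay.M24 Cfsg.Agent.Golay.Cert Cfsg.Agent.Golay.Trans
  Cfsg.Agent.Golay.Suborbit Cfsg.Agent.Golay.Perm
open scoped Pointwise

/-- The stabiliser of a family of sets, as permutations. -/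
abbrev FamK (S : Finset (Finset GolayPt)) : Subgroup (Equiv.Perm GolayPt) :=
  Cfsg.M24 ⊓ MulAction.stabilizer (Equiv.Perm GolayPt) S

theorem mem_FamK_conj {a : Equiv.Perm GolayPt} (ha : a ∈ Cfsg.M24) {S R : Finset (Finset GolayPt)}
    (haS : a • S = R) (g : Cfsg.M24) :
    g ∈ MulAction.stabilizer Cfsg.M24 S ↔ a * (g : Equiv.Perm GolayPt) * a⁻¹ ∈ FamK R := by
  rw [← haS]
  show (g : Equiv.Perm GolayPt) • S = S ↔ _ ∧ (a * (g : Equiv.Perm GolayPt) * a⁻¹) • a • S = a • S
  rw [mul_smul, mul_smul, inv_smul_smul, smul_left_cancel_iff]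
  exact (and_iff_right (Cfsg.M24.mul_mem (Cfsg.M24.mul_mem ha g.2) (Cfsg.M24.inv_mem ha))).symm

theorem card_stabilizer_fam {X : Set (Finset (Finset GolayPt))} {S : Finset (Finset GolayPt)}
    {m : ℕ} (horb : MulAction.orbit Cfsg.M24 S = X) (hX : X.ncard = m) :
    m * Nat.card (MulAction.stabilizer Cfsg.M24 S) = 244823040 := by
  have h := Subgroup.index_mul_card (MulAction.stabilizer Cfsg.M24 S)
  rwa [MulAction.index_stabilizer, horb, hX, card_M24] at h

/-- A table fixing an encoded family. -/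
def fixFam (enc : List ℕ) (tab : ℕ) : Bool := tabOK tab && decide (actFam tab enc = enc)

theorem tabPerm_mem_FamK {R : Finset (Finset GolayPt)} {enc : List ℕ} (he : encFam R = enc) {tab : ℕ}
    (h : fixFam enc tab = true) : tabPerm tab ∈ FamK R := by
  simp only [fixFam, Bool.and_eq_true, decide_eq_true_eq] at h
  refine ⟨tabPerm_mem h.1, ?_⟩
  show tabPerm tab • R = R
  apply encFam_injective
  rw [← actFam_enc _ _ (isTab_tabPerm h.1), he, h.2]

/-- The action on the members of the family. -/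
def act (S : Finset (Finset GolayPt)) : MulAction.stabilizer Cfsg.M24 S →* Equiv.Perm ↥S where
  toFun g := (MulAction.toPerm ((g : Cfsg.M24) : Equiv.Perm GolayPt) :
      Equiv.Perm (Finset GolayPt)).subtypePerm fun t => by
    have h : ((g : Cfsg.M24) : Equiv.Perm GolayPt) • S = S := g.2
    have hh : ((g : Cfsg.M24) : Equiv.Perm GolayPt) • t ∈ ((g : Cfsg.M24) : Equiv.Perm GolayPt) • S ↔
        t ∈ S := Finset.smul_mem_smul_finset_iff _
    simp only [h] at hh
    exact hh
  map_one' := by
    refine Equiv.ext fun t => Subtype.ext ?_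
    show (1 : Equiv.Perm GolayPt) • (t : Finset GolayPt) = t
    rw [one_smul]
  map_mul' g h := by
    refine Equiv.ext fun t => Subtype.ext ?_
    show ((g : Cfsg.M24) * (h : Cfsg.M24) : Equiv.Perm GolayPt) • (t : Finset GolayPt) = _
    rw [mul_smul]; rfl

/-- A table exchanging two members and fixing the others. -/
def swapOK (enc : List ℕ) (e : ℕ × ℕ × ℕ) : Bool :=
  fixFam enc e.2.2 &&
    enc.all fun m => imgTab e.2.2 m == if m = e.1 then e.2.1 else if m = e.2.1 then e.1 else m

/-- Every pair of members has its exchange. -/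
def swapsOK (enc : List ℕ) (L : List (ℕ × ℕ × ℕ)) : Bool :=
  L.all (swapOK enc) && enc.all fun u => enc.all fun v => u == v ||
    L.any fun e => (e.1 == u && e.2.1 == v) || (e.1 == v && e.2.1 == u)

theorem act_surjective {S R : Finset (Finset GolayPt)} {a : Equiv.Perm GolayPt} (ha : a ∈ Cfsg.M24)
    (haS : a • S = R) {enc : List ℕ} (he : encFam R = enc) {L : List (ℕ × ℕ × ℕ)}
    (hL : swapsOK enc L = true) : Function.Surjective (act S) := by
  classical
  rw [← MonoidHom.range_eq_top, eq_top_iff, ← Equiv.Perm.closure_isSwap, Subgroup.closure_le]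
  rintro σ ⟨x, y, hxy, rfl⟩
  simp only [swapsOK, Bool.and_eq_true, List.all_eq_true, Bool.or_eq_true, beq_iff_eq,
    List.any_eq_true] at hL
  obtain ⟨hall, hpairs⟩ := hL
  have hin : ∀ z : ↥S, mask (a • (z : Finset GolayPt)) ∈ enc := fun z => by
    rw [← he, encFam, (List.perm_insertionSort _ _).mem_iff, List.mem_map]
    exact ⟨_, Finset.mem_toList.2 (haS ▸ Finset.smul_mem_smul_finset z.2), rfl⟩
  have hinj : ∀ z w : ↥S, mask (a • (z : Finset GolayPt)) = mask (a • (w : Finset GolayPt)) → z = w :=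
    fun z w h => Subtype.ext (MulAction.injective a (mask_injective h))
  obtain ⟨u, v, tb, hmem, huv⟩ : ∃ u v tb, (u, v, tb) ∈ L ∧
      ((u = mask (a • (x : Finset GolayPt)) ∧ v = mask (a • (y : Finset GolayPt))) ∨
       (u = mask (a • (y : Finset GolayPt)) ∧ v = mask (a • (x : Finset GolayPt)))) := by
    rcases hpairs _ (hin x) _ (hin y) with h | ⟨⟨u, v, tb⟩, h1, h2⟩
    · exact absurd (hinj x y h) hxy
    · exact ⟨u, v, tb, h1, h2⟩
  have hok := hall _ hmem
  simp only [swapOK, Bool.and_eq_true, List.all_eq_true, beq_iff_eq] at hok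
  obtain ⟨hfix, himg⟩ := hok
  have hK := tabPerm_mem_FamK he hfix
  have htab := isTab_tabPerm (show tabOK tb = true by
    simp only [fixFam, Bool.and_eq_true] at hfix; exact hfix.1)
  refine ⟨⟨⟨a⁻¹ * tabPerm tb * a,
    Cfsg.M24.mul_mem (Cfsg.M24.mul_mem (Cfsg.M24.inv_mem ha) hK.1) ha⟩, ?_⟩, ?_⟩
  · rw [mem_FamK_conj ha haS]
    simpa [mul_assoc] using hK
  · refine Equiv.ext fun z => Subtype.ext ?_
    show (a⁻¹ * tabPerm tb * a) • (z : Finset GolayPt) = _
    rw [mul_smul, mul_smul, inv_smul_eq_iff]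
    apply mask_injective
    rw [← imgTab_mask htab, himg _ (hin z), Equiv.swap_apply_def]
    rcases huv with ⟨rfl, rfl⟩ | ⟨rfl, rfl⟩ <;>
      by_cases hzx : z = x <;> by_cases hzy : z = y <;>
      first
        | (subst hzx; exact absurd hzy hxy)
        | simp [hzx, hzy, show ∀ w : ↥S, (mask (a • (z : Finset GolayPt)) =
            mask (a • (w : Finset GolayPt))) ↔ z = w from fun w => ⟨hinj z w, fun h => by rw [h]⟩,
            show ∀ w w' : ↥S, (mask (a • (w : Finset GolayPt)) =
            mask (a • (w' : Finset GolayPt))) ↔ w = w' from fun w w' => ⟨hinj w w', fun h => by rw [h]⟩,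
            hxy, Ne.symm hxy]

/-- Composition of two tables. -/
def compTab (x y : ℕ) : ℕ :=
  ((List.range 24).map fun i => tabAt x (tabAt y i) <<< (5 * i)).sum

/-- A list of tables closed under products, of involutions, normalised by the generators. -/
def normalOK (X : List ℕ) (NL : List ℕ) : Bool :=
  NL.all tabOK && NL.contains idTab &&
  NL.all (fun x => (List.range 24).all fun i => tabAt x (tabAt x i) == i) &&
  NL.all (fun x => NL.all fun y =>
    match NL.find? (fun z => z == compTab x y) with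
    | none => false
    | some z => (List.range 24).all fun i => tabAt x (tabAt y i) == tabAt z i) &&
  X.all (fun g => NL.all fun x => NL.any fun z =>
    (List.range 24).all fun i => tabAt g (tabAt x i) == tabAt z (tabAt g i))

/-- Tables differ. -/
def allDistinct (NL : List ℕ) : Bool :=
  decide NL.Nodup && NL.all fun x => decide (x < 2 ^ 120) &&
    (List.range 24).all fun i => decide (tabAt x i < 24)

theorem tab_ext {x y : ℕ} (hx : x < 2 ^ 120) (hy : y < 2 ^ 120)
    (h : ∀ i < 24, tabAt x i = tabAt y i) : x = y := by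
  apply Nat.eq_of_testBit_eq
  intro j
  rcases Nat.lt_or_ge j 120 with hj | hj
  · have hm : ∀ z : ℕ, z.testBit j = (tabAt z (j / 5)).testBit (j % 5) := fun z => by
      rw [tabAt, show (32 : ℕ) = 2 ^ 5 from rfl, Nat.testBit_mod_two_pow, Nat.testBit_shiftRight,
        Nat.div_add_mod j 5]
      simp [Nat.mod_lt j (show 5 > 0 by norm_num)]
    rw [hm, hm, h _ (by omega)]
  · rw [Nat.testBit_lt_two_pow (hx.trans_le (Nat.pow_le_pow_right (by norm_num) hj)),
      Nat.testBit_lt_two_pow (hy.trans_le (Nat.pow_le_pow_right (by norm_num) hj))]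

theorem exists_normal {K : Subgroup (Equiv.Perm GolayPt)} {X NL : List ℕ}
    (hX : X.all tabOK = true) (hgen : tabGroup X = K) (hN : normalOK X NL = true)
    (hd : allDistinct NL = true) (hmem : ∀ x ∈ NL, tabPerm x ∈ K) :
    ∃ N : Subgroup K, N.Normal ∧ Nat.card N = NL.length ∧ (∀ x ∈ N, x * x = 1) ∧
      ∀ x : K, x ∈ N ↔ ∃ t ∈ NL, (x : Equiv.Perm GolayPt) = tabPerm t := by
  classical
  simp only [normalOK, Bool.and_eq_true, List.all_eq_true, List.contains_eq_mem, decide_eq_true_eq,
    List.mem_range, beq_iff_eq, List.any_eq_true] at hN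
  obtain ⟨⟨⟨⟨hok, hid⟩, hinv⟩, hclos⟩, hnorm⟩ := hN
  simp only [allDistinct, Bool.and_eq_true, decide_eq_true_eq, List.all_eq_true, List.mem_range] at hd
  have hT : ∀ x ∈ NL, IsTab x (tabPerm x) := fun x hx => isTab_tabPerm (hok x hx)
  have hsq : ∀ x ∈ NL, tabPerm x * tabPerm x = 1 := fun x hx => Equiv.ext fun p => ix_injective (by
    rw [Equiv.Perm.mul_apply, hT x hx, hT x hx, hinv x hx _ (ix_lt p)]; rfl)
  have hone : tabPerm idTab = 1 := (isTab_tabPerm (hok _ hid)).unique isTab_one
  let N : Subgroup K :=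
    { carrier := {x | ∃ t ∈ NL, (x : Equiv.Perm GolayPt) = tabPerm t}
      one_mem' := ⟨idTab, hid, by rw [hone]; rfl⟩
      mul_mem' := by
        rintro x y ⟨s, hs, ex⟩ ⟨t, ht, ey⟩
        have h := hclos s hs t ht
        split at h
        · cases h
        · next z hz =>
          simp only [List.all_eq_true, List.mem_range, beq_iff_eq] at h
          have hzmem := List.mem_of_find?_eq_some hz
          refine ⟨z, hzmem, ?_⟩
          rw [Subgroup.coe_mul, ex, ey]
          exact Equiv.ext fun p => ix_injective (by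
            rw [Equiv.Perm.mul_apply, hT s hs, hT t ht, hT z hzmem]; exact h _ (ix_lt p))
      inv_mem' := by
        rintro x ⟨t, ht, e⟩
        refine ⟨t, ht, ?_⟩
        rw [Subgroup.coe_inv, e, inv_eq_iff_mul_eq_one]
        exact hsq t ht }
  have hnormal : N.Normal := by
    refine ⟨fun x hx g => ?_⟩
    have hg : (g : Equiv.Perm GolayPt) ∈ tabGroup X := hgen.symm ▸ g.2
    obtain ⟨t, ht, e⟩ := hx
    suffices h : ∀ k ∈ tabGroup X, ∀ t ∈ NL, ∃ z ∈ NL, k * tabPerm t * k⁻¹ = tabPerm z by
      obtain ⟨z, hz, ez⟩ := h _ hg t ht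
      exact ⟨z, hz, by rw [Subgroup.coe_mul, Subgroup.coe_mul, Subgroup.coe_inv, e, ez]⟩
    intro k hk
    rw [← Subgroup.mem_toSubmonoid, tabGroup, Subgroup.closure_toSubmonoid_of_finite] at hk
    induction hk using Submonoid.closure_induction with
    | mem k hk =>
      obtain ⟨x, hx, rfl⟩ := hk
      intro t ht
      obtain ⟨z, hz, h⟩ := hnorm x hx t ht
      refine ⟨z, hz, mul_inv_eq_iff_eq_mul.2 (Equiv.ext fun p => ix_injective ?_)⟩
      have hxT := isTab_tabPerm (List.all_eq_true.1 hX x hx)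
      rw [Equiv.Perm.mul_apply, Equiv.Perm.mul_apply, hxT, hT t ht, hT z hz, hxT]
      exact h _ (ix_lt p)
    | one => exact fun t ht => ⟨t, ht, by simp⟩
    | mul a b _ _ iha ihb =>
      intro t ht
      obtain ⟨z, hz, e1⟩ := ihb t ht
      obtain ⟨w, hw, e2⟩ := iha z hz
      exact ⟨w, hw, by rw [← e2, ← e1]; group⟩
  refine ⟨N, hnormal, ?_, ?_, fun x => Iff.rfl⟩
  · let f : {t // t ∈ NL} → N := fun t => ⟨⟨tabPerm t.1, hmem t.1 t.2⟩, t.1, t.2, rfl⟩
    have hf : Function.Bijective f := by
      refine ⟨fun s t h => Subtype.ext ?_, ?_⟩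
      · have e : tabPerm s.1 = tabPerm t.1 := congrArg (fun x : N => ((x : K) : Equiv.Perm GolayPt)) h
        refine tab_ext (hd.2 _ s.2).1 (hd.2 _ t.2).1 fun i hi => ?_
        rw [← ix_pt hi, ← hT _ s.2, ← hT _ t.2, e]
      · rintro ⟨x, t, ht, e⟩
        exact ⟨⟨t, ht⟩, Subtype.ext (Subtype.ext e.symm)⟩
    rw [← Nat.card_eq_of_bijective f hf, Nat.card_congr (Equiv.subtypeEquivRight fun t => List.mem_toFinset.symm),
      Nat.card_eq_fintype_card, Fintype.card_coe, List.toFinset_card_of_nodup hd.1]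
  · rintro x ⟨t, ht, e⟩
    refine Subtype.ext ?_
    rw [Subgroup.coe_mul, e, hsq t ht]; rfl

/-- Pull a normal subgroup back along an isomorphism. -/
theorem exists_normal_of_equiv {G H : Type*} [Group G] [Group H] (e : G ≃* H) {N : Subgroup H}
    (hN : N.Normal) {n : ℕ} (hc : Nat.card N = n) (hsq : ∀ x ∈ N, x * x = 1) :
    (N.comap e.toMonoidHom).Normal ∧ Nat.card (N.comap e.toMonoidHom) = n ∧
      ∀ x ∈ N.comap e.toMonoidHom, x * x = 1 := by
  refine ⟨hN.comap _, ?_, fun x hx => e.injective ?_⟩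
  · rw [← hc]
    refine Nat.card_congr
      { toFun := fun x => ⟨e x.1, x.2⟩
        invFun := fun y => ⟨e.symm y.1, by simp⟩
        left_inv := fun x => Subtype.ext (e.symm_apply_apply _)
        right_inv := fun y => Subtype.ext (e.apply_symm_apply _) }
  · rw [map_mul, map_one]; exact hsq _ hx

end Cfsg.Agent.Golay.StabStruct
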