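import Cfsg.Agent.Lib.Golay.Suborbit
import Cfsg.Agent.Lib.Golay.Sextet
import Cfsg.Agent.Lib.Golay.SetOrbit
import Cfsg.Agent.Lib.Golay.Coset

/-!
Suborbits of `M24` on sextets.
-/

set_option autoImplicit false
set_option maxRecDepth 20000

namespace Cfsg.Agent.Golay.SubData

open Cfsg Cfsg.Agent.Golay.Basic Cfsg.Agent.Golay.Cert Cfsg.Agent.Golay.Orbit
  Cfsg.Agent.Golay.Suborbit Cfsg.Agent.Golay.M24 Cfsg.Agent.Golay.Trans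
open scoped Pointwise

/-- Generators fixing the base sextet. -/
def sextetGens : List ℕ := [500013952514166660534837697530413327, 275363515462781969540896097877277425, 878798147771972600863886147238304908]

/-- Suborbit roots. -/
def sextetRoot : Fin 4 → List ℕ := ![[15, 5264, 622848, 3416064, 4196928, 8536096], [23, 5256, 786976, 1065280, 2263040, 12656640], [51, 786948, 1188864, 2162760, 4216832, 8421760], [147, 5132, 272448, 737280, 7340544, 8421664]]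

/-- Movers of the base sextet. -/
def sextetMv : Fin 4 → ℕ := ![984818244535754528103549039458486304, 974422238081544939122441376219924512, 27603199737495845963235442968344982, 236299466269280764895451619915802732]

/-- Search trees. -/
def sextetCert : Fin 4 → List (ℕ × ℕ) := ![
  [],
  [(0, 0), (0, 0), (0, 0), (0, 0), (0, 0), (0, 1), (2, 1), (0, 0), (1, 1), (0, 2), (3, 2), (2, 1), (0, 0), (0, 0), (1, 2), (0, 0), (3, 1), (0, 1), (3, 2), (0, 0), (0, 2), (2, 2), (0, 1), (4, 1), (0, 0), (0, 0), (0, 0), (1, 1), (2, 1), (1, 2), (2, 1), (0, 1), (1, 2), (2, 2), (0, 0), (0, 0), (1, 1), (2, 1), (3, 2), (0, 0), (0, 2), (2, 1), (0, 0), (1, 1), (0, 1), (1, 2), (3, 2), (0, 0), (0, 2), (0, 0), (3, 2), (0, 1), (1, 2), (5, 1), (0, 0), (0, 0), (0, 2), (0, 1), (3, 1), (0, 2), (2, 2), (0, 0), (1, 1), (0, 2), (2, 2), (0, 1), (1, 2), (4, 1),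 (0, 0), (1, 1), (0, 0), (1, 1), (0, 0), (2, 2), (2, 2), (0, 0), (1, 1), (0, 1), (1, 2), (4, 2), (0, 0), (0, 0), (1, 2), (0, 2), (3, 1), (0, 2), (2, 2), (0, 1), (0, 0), (1, 1), (2, 2), (4, 2), (0, 0), (0, 0), (0, 0), (3, 1), (0, 0), (0, 0), (1, 1), (0, 1), (2, 2), (2, 1), (0, 0), (0, 2), (0, 0), (3, 1), (0, 0), (2, 2), (0, 1), (4, 2), (0, 0), (0, 0), (0, 0), (2, 1), (0, 1), (3, 1), (0, 0), (1, 1), (2, 2), (0, 1), (1, 2), (0, 0), (6, 1), (0, 0), (0, 0), (0, 2), (0, 0), (0, 2), (2, 1), (0, 1), (4, 1), (0, 0), (1, 2), (0, 0), (0, 0), (2, 1), (1, 2), (3, 2), (0, 0), (0, 1), (1, 2), (0, 2), (3, 1), (0, 1), (1, 2), (4, 1), (0, 0), (0, 0), (0, 1), (1, 2), (0, 2), (3, 1), (0, 2), (2, 2), (0, 1), (0, 1), (4, 1), (0, 0), (0, 1), (1, 2), (2, 1), (0, 2), (3, 2), (0, 2), (0, 2), (4, 2), (0, 0), (0, 0), (0, 0), (1, 1), (1, 2), (0, 2), (3,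 1), (0, 0), (1, 1), (1, 2), (3, 1), (0, 0), (0, 0), (1, 2), (2, 1), (0, 2), (0, 2), (3, 2), (0, 0), (1, 2), (3, 2), (0, 2), (0, 0), (5, 2), (0, 0), (0, 0), (0, 0), (0, 0), (1, 2), (2, 1), (2, 1), (0, 0), (0, 1), (0, 2), (3, 1), (0, 0), (2, 2), (3, 1), (0, 0), (0, 0), (0, 1), (2, 1), (1, 2), (2, 1), (0, 0), (0, 0), (1, 1), (2, 1), (0, 1), (2, 2), (0, 0), (3, 2), (0, 0), (1, 1), (3, 2), (0, 0), (0, 0), (0, 1), (2, 2), (0, 0), (3, 1), (0, 1), (0, 2), (3, 2), (0, 0), (0, 1), (0, 0), (1, 1), (2, 2), (2, 2), (0, 0), (0, 1), (2, 2)],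
  [(0, 0), (0, 0), (0, 0), (0, 0), (0, 0), (0, 1), (0, 0), (0, 1), (2, 1), (0, 0), (1, 2), (3, 2), (0, 0), (1, 2), (3, 1), (0, 0), (0, 0), (0, 1), (2, 1), (0, 2), (2, 2), (0, 1), (3, 2), (0, 0), (0, 2), (2, 2), (0, 0), (1, 1), (4, 2), (0, 1), (1, 2), (0, 0), (1, 2), (4, 1), (0, 0), (0, 0), (0, 1), (0, 2), (2, 2), (0, 2), (3, 1), (0, 0), (1, 2), (0, 0), (3, 2), (0, 1), (0, 0), (2, 2), (3, 1), (0, 0), (0, 2), (2, 1), (0, 1), (1, 2), (0, 0), (1, 1), (3, 2), (0, 2), (0, 1), (4, 2), (0, 0), (0, 0), (1, 1), (4, 2), (0, 0), (0, 0), (0, 0), (0, 0), (1, 2), (3, 1), (0, 1), (0, 0), (3, 2), (0, 0), (1, 2), (3, 1), (0, 0), (0, 0), (0, 1), (1, 2), (3, 1), (0, 0), (1, 1), (2, 2), (0, 1), (1, 2), (0, 0), (4, 2), (0, 0), (0, 0), (0, 1), (1, 2), (3, 1), (0, 0), (0, 2), (3, 2), (0, 0), (5, 1), (0, 0), (0, 0), (0, 0), (0, 0), (1, 1), (1, 2),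 (0, 0), (3, 1), (0, 2), (0, 0), (1, 1), (3, 2), (0, 0), (1, 1), (1, 2), (0, 1), (4, 1), (0, 1), (0, 0), (0, 0), (1, 2), (2, 1), (0, 2), (2, 2), (2, 2), (0, 0), (3, 2), (0, 0), (0, 0), (1, 2), (2, 1), (1, 2), (3, 1), (0, 0), (0, 0), (0, 0), (0, 2), (2, 1), (1, 2), (3, 1), (0, 0), (0, 0), (0, 0), (2, 1), (0, 0), (2, 2), (2, 1), (0, 1), (0, 2), (4, 2), (0, 0), (0, 0), (2, 2), (0, 0), (5, 2), (0, 0), (0, 0), (0, 0), (0, 0), (0, 0), (2, 1), (0, 0), (1, 2), (2, 2), (0, 2), (3, 1), (1, 2), (0, 1), (1, 2), (0, 1), (1, 2), (4, 1), (0, 0), (0, 0), (0, 2), (2, 2), (2, 1), (0, 1), (0, 2), (3, 2), (0, 1), (3, 2), (0, 1), (0, 0), (1, 2), (0, 0), (3, 2), (0, 1), (4, 1), (0, 0), (0, 0), (0, 2), (0, 1), (3, 1), (0, 0), (1, 2), (3, 1), (0, 0), (0, 1), (2, 1), (0, 0), (0, 1), (2, 1), (2, 2), (0, 0), (1, 2), (3, 2), (0, 0), (0, 1), (1, 2), (0,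 0), (3, 1), (0, 0), (0, 1), (1, 2), (2, 1), (0, 0), (1, 1), (2, 2), (0, 2), (3, 2), (0, 0), (4, 2), (0, 0), (0, 0), (0, 1), (2, 1), (0, 2), (0, 1), (3, 2), (0, 1), (3, 1), (0, 0), (0, 1), (1, 2), (2, 1), (0, 0), (0, 1), (2, 1), (1, 2), (2, 2), (0, 1), (1, 2), (3, 2), (0, 0), (0, 2), (2, 1), (1, 2), (5, 1), (0, 0), (0, 0), (0, 0), (0, 0), (0, 1), (2, 1), (0, 0), (2, 2), (0, 1), (1, 2), (3, 2), (0, 1), (3, 1), (0, 0), (0, 0), (0, 1), (2, 1), (0, 1), (0, 1), (3, 2), (0, 0), (0, 0), (1, 2), (4, 2), (0, 0), (0, 1), (0, 2), (2, 2), (2, 2), (0, 0), (0, 0), (1, 2), (2, 1), (0, 2), (2, 2), (0, 0), (1, 2), (5, 2), (0, 0), (0, 0), (1, 1), (0, 0), (1, 2), (3, 1), (0, 0), (0, 0), (2, 1), (0, 0), (0, 0), (1, 1), (2, 2), (2, 2), (0, 1), (1, 2), (0, 1), (6, 1), (0, 0), (0, 1), (0, 0), (0, 0), (1, 1), (0, 1), (2, 2), (2, 2), (2, 2), (0, 0),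 (0, 2), (2, 1), (0, 0), (1, 2), (0, 0), (1, 1), (5, 1), (0, 0), (0, 0), (0, 2), (2, 1), (2, 1), (0, 0), (0, 0), (0, 0), (2, 1), (1, 2), (2, 1), (0, 1), (1, 2), (2, 2), (0, 0), (1, 1), (3, 2), (0, 0), (0, 0), (0, 0), (1, 1), (3, 1), (0, 2), (0, 0), (3, 2), (0, 0), (4, 2), (0, 0), (0, 0), (0, 0), (1, 2), (0, 0), (3, 2), (0, 2), (3, 1), (0, 0), (0, 1), (1, 2), (2, 1), (0, 0), (2, 2), (0, 0), (0, 0), (2, 2), (0, 1), (4, 2), (0, 0), (0, 0), (1, 1), (1, 2), (2, 1), (0, 1), (2, 2), (0, 0), (1, 2), (5, 2), (0, 0), (0, 0), (0, 1), (1, 2), (0, 2), (0, 1), (4, 1), (0, 0), (0, 0), (1, 1), (1, 2), (0, 1), (3, 1), (0, 1), (1, 2), (2, 2), (0, 0), (3, 2), (0, 0), (0, 1), (0, 0), (3, 1), (0, 0), (1, 2), (2, 2), (0, 1), (4, 1), (0, 0), (0, 0), (0, 0), (0, 2), (3, 1), (0, 0), (1, 1), (0, 0), (1, 1), (4, 1), (0, 0), (0, 0), (2, 1), (0, 1), (1,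 2), (2, 2), (0, 1), (1, 2), (3, 2), (0, 0), (0, 1), (0, 2), (5, 2), (0, 0), (0, 0), (1, 1), (0, 0), (3, 2), (0, 2), (0, 0), (1, 2), (0, 1), (1, 2), (7, 2), (0, 0), (0, 0), (0, 0), (0, 0), (0, 1), (2, 2), (0, 2), (0, 0), (4, 1), (0, 0), (0, 1), (1, 2), (2, 1), (0, 2), (2, 2), (2, 2), (0, 0), (0, 1), (2, 2), (0, 2), (0, 2), (5, 1), (0, 0), (0, 0), (0, 0), (0, 1), (2, 1), (1, 2), (2, 2), (0, 2), (3, 1), (0, 1), (0, 1), (1, 2), (0, 2), (3, 2), (2, 2), (0, 0), (0, 1), (0, 1), (2, 2), (2, 1), (1, 2), (0, 0), (1, 1), (4, 2), (0, 0), (0, 0), (1, 1), (1, 2), (0, 0), (1, 1), (1, 2), (3, 2), (0, 2), (0, 2), (5, 1), (0, 0), (0, 0), (0, 0), (0, 0), (1, 1), (1, 2), (3, 1), (0, 0), (0, 1), (2, 1), (0, 0), (3, 2), (0, 0), (0, 0), (1, 1), (0, 0), (2, 2), (2, 1), (0, 1), (4, 1), (0, 0), (0, 1), (0, 0), (0, 0), (2, 1), (1, 2), (3, 1), (0, 0),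 (0, 0), (1, 2), (2, 1), (0, 0), (2, 2), (0, 0), (1, 1), (3, 2), (0, 0), (0, 2), (2, 1), (1, 2), (0, 0), (4, 2), (0, 0), (0, 0), (0, 0), (1, 2), (2, 1), (0, 0), (1, 2), (2, 2), (0, 0), (3, 1), (0, 0), (0, 0), (1, 1), (0, 1), (2, 2), (2, 1), (1, 2), (0, 2), (3, 2), (0, 0), (0, 1), (1, 2), (0, 1), (3, 2), (4, 2), (0, 0), (0, 0), (1, 1), (0, 0), (0, 2), (2, 1), (0, 2), (2, 2), (2, 2), (0, 0), (0, 0), (1, 1), (0, 2), (3, 1), (3, 2), (0, 1), (0, 0), (0, 0), (2, 1), (0, 0), (1, 1), (0, 0), (3, 2), (0, 0), (1, 1), (1, 2), (3, 2), (0, 0), (0, 1), (0, 0), (3, 1), (1, 2), (0, 2), (7, 1), (0, 0), (0, 0), (0, 0), (0, 0), (0, 0), (1, 1), (0, 0), (1, 1), (0, 1), (4, 1), (0, 0), (0, 0), (1, 1), (0, 2), (2, 2), (0, 2), (3, 1), (0, 0), (0, 0), (1, 2), (2, 2), (0, 1), (3, 2), (0, 0), (1, 1), (1, 2), (3, 2), (0, 0), (0, 0), (1, 1), (2, 1), (0,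 0), (0, 2), (3, 2), (0, 0), (1, 1), (4, 1), (0, 0), (0, 0), (0, 2), (2, 1), (0, 0), (1, 2), (2, 2), (0, 1), (1, 2), (3, 1), (0, 0), (0, 2), (2, 1), (0, 2), (2, 2), (0, 0), (0, 2), (2, 2), (3, 2), (0, 0), (0, 0), (1, 1), (2, 1), (1, 2), (0, 0), (0, 0), (5, 2), (0, 0), (0, 0), (0, 1), (1, 2), (2, 1), (0, 2), (2, 2), (2, 1), (0, 0), (0, 0), (1, 1), (0, 0), (3, 1), (0, 0), (0, 2), (2, 2), (2, 2), (0, 0), (1, 1), (5, 1), (0, 0), (0, 0), (0, 0), (0, 0), (2, 1), (0, 1), (2, 2), (0, 0), (0, 0), (2, 2), (3, 1), (0, 0), (0, 0), (1, 2), (0, 0), (3, 1), (1, 2), (0, 0), (1, 1), (0, 2), (2, 2), (3, 2), (2, 1), (0, 0), (0, 0), (0, 0), (1, 1), (0, 1), (2, 2), (2, 1), (0, 0), (2, 2), (0, 2), (0, 1), (4, 1), (0, 0), (0, 1), (1, 2), (2, 1), (0, 0), (1, 1), (2, 2), (0, 1), (1, 2), (3, 2), (0, 0), (0, 1), (1, 2), (2, 1), (0, 1), (2, 2), (0, 2),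 (0, 2), (5, 2), (0, 0), (0, 0), (0, 2), (2, 1), (0, 0), (1, 2), (2, 2), (0, 0), (1, 1), (1, 2), (3, 1), (0, 0), (0, 2), (2, 2), (0, 2), (5, 2), (0, 0), (0, 0), (0, 0), (1, 1), (0, 0), (0, 1), (2, 1), (1, 2), (2, 2), (2, 1), (0, 0), (0, 0), (1, 1), (1, 2), (3, 2), (0, 0), (0, 0), (0, 2), (2, 1), (1, 2), (2, 1), (1, 2), (0, 1), (0, 1), (5, 1), (0, 0), (0, 1), (0, 0), (0, 2), (2, 1), (1, 2), (2, 2), (0, 0), (0, 0), (2, 1), (3, 1), (0, 0), (0, 0), (2, 2), (0, 1), (1, 2), (3, 2), (0, 0), (0, 0), (4, 2), (0, 0), (0, 0), (1, 1), (0, 1), (0, 0), (2, 2), (3, 2), (0, 0), (1, 1), (0, 1), (1, 2), (2, 2), (5, 1), (0, 0), (0, 0), (0, 0), (0, 0), (1, 1), (0, 0), (1, 1), (2, 2), (0, 2), (3, 2), (0, 0), (0, 2), (2, 2), (0, 0), (1, 2), (4, 1), (0, 0), (0, 0), (1, 1), (0, 0), (1, 1), (1, 2), (2, 2), (0, 1), (3, 1), (0, 1), (0, 1), (2, 2), (0,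 1), (3, 2), (0, 0), (0, 0), (1, 1), (1, 2), (2, 1), (0, 2), (2, 2), (0, 2), (0, 1), (5, 2), (0, 0), (0, 0), (0, 1), (2, 1), (0, 0), (1, 2), (2, 2), (0, 0), (1, 1), (3, 1), (0, 0), (1, 1), (1, 2), (0, 2), (5, 1), (0, 0), (0, 2), (0, 0), (0, 2), (2, 1), (0, 2), (2, 2), (0, 1), (0, 0), (5, 1), (0, 0), (0, 0), (0, 2), (2, 2), (0, 0), (1, 1), (1, 2), (3, 1), (0, 1), (2, 2), (0, 0), (0, 2), (2, 1), (3, 2), (0, 0), (0, 0), (0, 2), (2, 2), (0, 0), (3, 1), (0, 0), (0, 1), (0, 0), (3, 1), (1, 2), (2, 2), (0, 1), (0, 1), (2, 2), (0, 1), (0, 1), (1, 2), (2, 2), (5, 2), (0, 0), (0, 0), (0, 1), (0, 0), (2, 2), (2, 1), (0, 0), (0, 0), (0, 0), (2, 1), (3, 2), (0, 1), (1, 2), (3, 1), (0, 0), (0, 0), (0, 0), (2, 1), (1, 2), (2, 1), (0, 1), (0, 0), (1, 1), (1, 2), (0, 0), (3, 2), (0, 1), (4, 2), (0, 0), (0, 0), (1, 1), (0, 1), (1, 2), (2, 2),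 (2, 1), (0, 0), (0, 2), (2, 2), (0, 1), (3, 2), (0, 0), (0, 2), (2, 1), (0, 1), (0, 1), (2, 2), (2, 2), (0, 2), (6, 2), (0, 0), (0, 0), (0, 0), (0, 0), (0, 1), (2, 1), (1, 2), (2, 1), (0, 0), (0, 1), (2, 2), (2, 2), (0, 0), (1, 1), (0, 0), (0, 1), (2, 1), (2, 2), (3, 1), (0, 0), (0, 0), (0, 2), (2, 1), (0, 2), (2, 2), (2, 1), (0, 0), (0, 0), (0, 0), (3, 1), (0, 2), (2, 2), (0, 1), (3, 2), (0, 0), (1, 1), (1, 2), (0, 0), (1, 2), (4, 2), (0, 0), (0, 0), (0, 0), (1, 2), (2, 1), (0, 2), (2, 2), (0, 0), (3, 1), (0, 0), (0, 1), (2, 2), (2, 2), (0, 1), (0, 0), (1, 1), (1, 2), (2, 2), (4, 1), (0, 0), (0, 0), (0, 1), (1, 2), (0, 0), (1, 2), (3, 1), (0, 1), (0, 0), (3, 2), (0, 0), (0, 0), (2, 1), (0, 2), (4, 1), (0, 1), (0, 0), (0, 0), (1, 2), (2, 2), (0, 0), (3, 2), (0, 0), (1, 1), (0, 1), (1, 2), (4, 2), (0, 0), (0, 0), (0, 1), (1,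 2), (2, 2), (2, 2), (0, 0), (0, 1), (2, 2), (0, 0), (1, 1), (5, 2), (0, 0), (0, 0), (0, 0), (0, 0), (1, 2), (0, 0), (3, 2), (0, 1), (1, 2), (3, 1), (0, 0), (0, 0), (1, 1), (1, 2), (2, 1), (1, 2), (2, 2), (0, 0), (0, 1), (1, 2), (2, 1), (0, 0), (4, 1), (0, 1), (1, 2), (0, 0), (0, 0), (1, 1), (2, 1), (0, 1), (7, 2), (0, 0), (0, 0), (0, 0), (0, 0), (0, 0), (1, 2), (0, 1), (1, 2), (0, 1), (4, 2), (0, 0), (1, 1), (1, 2), (0, 2), (0, 2), (5, 1), (0, 0), (0, 0), (1, 2), (0, 0), (1, 2), (3, 1), (0, 0), (1, 1), (0, 1), (3, 2), (0, 1), (0, 1), (2, 2), (3, 2), (0, 0), (0, 0), (0, 0), (1, 2), (2, 1), (0, 2), (3, 1), (0, 0), (0, 0), (0, 2), (3, 1), (0, 2), (3, 2), (0, 0), (0, 2), (2, 2), (0, 1), (5, 1), (0, 0), (0, 0), (0, 0), (0, 2), (2, 1), (0, 1), (2, 2), (2, 1), (0, 0), (1, 2), (0, 0), (3, 2), (0, 0), (1, 1), (0, 0), (2, 2), (0, 0),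 (4, 1), (0, 0), (0, 0), (0, 1), (1, 2), (2, 1), (0, 0), (1, 1), (1, 2), (0, 0), (4, 1), (0, 0), (0, 0), (1, 2), (2, 1), (2, 2), (0, 0), (0, 2), (2, 1), (0, 0), (2, 2), (0, 0), (4, 2), (0, 1), (0, 0), (0, 0), (0, 1), (2, 1), (2, 1), (1, 2), (2, 2), (0, 0), (1, 1), (1, 2), (4, 2), (0, 0), (0, 0), (0, 0), (0, 1), (1, 2), (2, 2), (2, 1), (0, 0), (0, 0), (2, 2), (0, 0), (3, 2), (0, 1), (1, 2), (0, 2), (4, 1), (0, 0), (0, 1), (0, 1), (0, 1), (3, 2), (2, 2), (2, 2), (0, 1), (0, 1), (0, 0), (2, 2), (0, 0), (1, 1), (1, 2), (3, 2), (0, 0), (5, 1), (0, 0), (0, 0), (0, 1), (0, 0), (0, 1), (2, 1), (1, 2), (0, 0), (3, 2), (0, 1), (0, 0), (2, 2), (3, 1), (0, 0), (0, 0), (0, 2), (0, 1), (4, 1), (0, 1), (0, 1), (1, 2), (2, 2), (2, 2), (0, 0), (1, 1), (0, 1), (2, 2), (0, 2), (4, 2), (0, 0), (0, 1), (0, 2), (2, 2), (2, 1), (0, 0), (0, 2), (2,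 1), (1, 2), (4, 1), (0, 0), (0, 0), (0, 2), (0, 1), (1, 2), (0, 0), (4, 1), (0, 0), (0, 2), (3, 2), (0, 0), (1, 1), (0, 0), (2, 2), (0, 0), (4, 1), (0, 0), (0, 0), (0, 0), (1, 1), (1, 2), (2, 1), (0, 0), (2, 2), (2, 1), (0, 0), (0, 2), (2, 1), (1, 2), (0, 0), (4, 2), (0, 0), (1, 1), (0, 1), (0, 0), (1, 2), (2, 2), (0, 2), (3, 2), (0, 1), (0, 0), (5, 2), (0, 0), (0, 1), (0, 0), (0, 2), (2, 1), (0, 1), (1, 2), (3, 2), (0, 0), (1, 1), (3, 1), (0, 0), (0, 2), (2, 1), (0, 0), (0, 1), (1, 2), (2, 2), (2, 2), (0, 0), (0, 2), (0, 2), (5, 2), (0, 0), (0, 0), (1, 1), (0, 1), (2, 2), (0, 0), (3, 1), (0, 0), (0, 1), (1, 2), (2, 1), (5, 2), (0, 0), (0, 0), (0, 0), (0, 0), (0, 1), (1, 2), (2, 1), (0, 2), (2, 2), (2, 1), (0, 0), (0, 0), (1, 2), (2, 1), (0, 0), (2, 2), (0, 1), (1, 2), (3, 2), (0, 0), (1, 2), (0, 1), (0, 0), (5, 1), (0, 0),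 (0, 0), (0, 1), (3, 1), (0, 0), (0, 1), (3, 2), (0, 2), (3, 2), (0, 0), (0, 1), (0, 1), (3, 1), (0, 0), (1, 2), (4, 1), (0, 0), (0, 0), (0, 0), (1, 2), (2, 1), (0, 2), (3, 1), (0, 0), (0, 0), (0, 1), (1, 2), (2, 1), (0, 0), (1, 2), (2, 2), (0, 2), (3, 2), (0, 1), (0, 1), (4, 2), (0, 0), (0, 0), (1, 1), (1, 2), (0, 1), (3, 1), (0, 0), (0, 2), (3, 2), (0, 0), (1, 1), (0, 1), (5, 2), (0, 0), (0, 0), (0, 0), (1, 1), (0, 2), (3, 1), (0, 0), (2, 2), (0, 0), (1, 1), (3, 1), (0, 0), (0, 0), (2, 1), (0, 2), (2, 2), (0, 0), (0, 2), (2, 1), (0, 0), (1, 1), (4, 2), (0, 0), (0, 0), (1, 2), (2, 1), (0, 0), (0, 1), (2, 2), (0, 0), (1, 2), (3, 2), (0, 0)],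
  [(0, 0), (0, 0), (0, 0), (0, 0), (0, 2), (2, 1), (0, 1), (1, 2), (2, 2), (0, 0), (3, 1), (0, 0), (0, 0), (1, 1), (1, 2), (2, 2), (0, 0), (1, 2), (3, 2), (0, 2), (0, 0), (4, 1), (0, 0), (0, 0), (0, 0), (1, 1), (0, 2), (2, 2), (2, 1), (1, 2), (0, 0), (3, 1), (1, 2), (0, 0), (0, 0), (4, 2), (0, 0), (0, 0), (0, 2), (0, 0), (6, 1), (0, 0), (0, 0), (0, 0), (1, 2), (0, 1), (3, 2), (0, 0), (1, 1), (1, 2), (3, 1), (0, 0), (1, 1), (0, 2), (0, 1), (1, 2), (3, 2), (0, 0), (0, 1), (2, 1), (1, 2), (0, 0), (1, 1), (4, 2), (0, 1), (0, 0), (0, 2), (2, 2), (2, 2), (0, 0), (0, 0), (2, 1), (0, 0), (1, 1), (5, 2), (0, 0), (0, 0), (0, 0), (1, 1), (2, 1), (0, 0), (1, 2), (2, 2), (0, 2), (3, 1), (0, 2), (2, 2), (0, 1), (0, 0)]]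

/-- Suborbit lengths. -/
def sextetSize : Fin 4 → ℕ := ![1, 240, 1440, 90]

/-- Label of a node. -/
def sextetProj (L : List ℕ) : ℕ := Coset.residue (L.headD 0)

theorem sextet_gens_ok : (sextetGens.all fun t => moveOK actFam (sextetRoot 0) t (sextetRoot 0)) = true := by
  decide +kernel

theorem sextet_cert_ok : (List.finRange 4).all (fun i => distinctFrom
    ((orbitList actFam sextetGens (sextetCert i) (sextetRoot i)).map sextetProj) 0 &&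
    (orbitList actFam sextetGens (sextetCert i) (sextetRoot i)).length == sextetSize i) = true := by
  decide +kernel

theorem sextet_mv_ok :
    (List.finRange 4).all (fun i => moveOK actFam (sextetRoot 0) (sextetMv i) (sextetRoot i)) = true := by
  decide +kernel

theorem sextet_root_ok : ∀ i, (sextetRoot i).Pairwise (· < ·) ∧ ∀ m ∈ sextetRoot i, m < 2 ^ 24 := by
  decide +kernel

/-- The representatives. -/
def sextetRep (i : Fin 4) : Finset (Finset GolayPt) := famSet (sextetRoot i)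

theorem sextet_enc (i : Fin 4) : encFam (sextetRep i) = sextetRoot i :=
  encFam_famSet (sextet_root_ok i).1 (sextet_root_ok i).2

theorem sextet_phi : Function.Injective fun i => overlap (sextetRep 0) (sextetRep i) := by
  decide +kernel

end Cfsg.Agent.Golay.SubData
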