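import Cfsg.Agent.Lib.Golay.KSubsets

/-!
Suborbits certified by counting: search trees give lower bounds for the suborbits, an invariant
tells them apart, the total is the degree.  A maximality criterion from the subdegrees.
-/

set_option autoImplicit false
set_option maxRecDepth 10000

namespace Cfsg.Agent.Golay.Suborbit

open Cfsg Cfsg.Agent.Golay.Basic Cfsg.Agent.Golay.Cert Cfsg.Agent.Golay.Orbit

/-- No number occurs twice; `acc` is the set of those seen. -/
def distinctFrom : List ℕ → ℕ → Bool
  | [], _ => true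
  | x :: l, acc => !acc.testBit x && distinctFrom l (acc ||| 1 <<< x)

theorem distinctFrom_spec : ∀ {l : List ℕ} {acc : ℕ}, distinctFrom l acc = true →
    l.Nodup ∧ ∀ x ∈ l, acc.testBit x = false
  | [], _, _ => ⟨List.nodup_nil, fun _ h => absurd h List.not_mem_nil⟩
  | x :: l, acc, h => by
    simp only [distinctFrom, Bool.and_eq_true, Bool.not_eq_true'] at h
    obtain ⟨hnd, hb⟩ := distinctFrom_spec h.2
    refine ⟨List.nodup_cons.2 ⟨fun hx => ?_, hnd⟩, fun y hy => ?_⟩
    · have := hb x hx
      simp [Nat.testBit_or, Nat.one_shiftLeft] at this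
    · rcases List.mem_cons.1 hy with rfl | hy
      · exact h.1
      · have := hb y hy
        simp only [Nat.testBit_or, Bool.or_eq_false_iff] at this
        exact this.1

section Abstract

variable {G : Type*} [Group G] {β : Type*} [MulAction G β]

/-- Lists inside distinct orbits, of total length the size of the invariant set, are the orbits. -/
theorem orbits_of_lists (H : Subgroup G) {X : Set β} (hfin : X.Finite)
    (hinv : ∀ h ∈ H, ∀ x ∈ X, h • x ∈ X) {φ : β → ℕ}
    (hφ : ∀ h ∈ H, ∀ x ∈ X, φ (h • x) = φ x) {n : ℕ} (r : Fin n → β) (hr : ∀ i, r i ∈ X)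
    (hdiff : Function.Injective fun i => φ (r i)) {σ : Type*} (enc : β → σ) (L : Fin n → List σ)
    (hL : ∀ i, ∀ s ∈ L i, ∃ h ∈ H, enc (h • r i) = s) (hnd : ∀ i, (L i).Nodup)
    (hsum : ∑ i, (L i).length = X.ncard) :
    (∀ i, (MulAction.orbit H (r i)).ncard = (L i).length) ∧
      X = ⋃ i, MulAction.orbit H (r i) := by
  classical
  have hsub : ∀ i, MulAction.orbit H (r i) ⊆ X := by
    rintro i _ ⟨h, rfl⟩
    exact hinv _ h.2 _ (hr i)
  have hge : ∀ i, (L i).length ≤ (MulAction.orbit H (r i)).ncard := by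
    intro i
    rw [← List.toFinset_card_of_nodup (hnd i), ← Set.ncard_coe_finset]
    refine le_trans (Set.ncard_le_ncard ?_ ((hfin.subset (hsub i)).image enc))
      (Set.ncard_image_le (hfin.subset (hsub i)))
    intro s hs
    obtain ⟨h, hh, e⟩ := hL i s (List.mem_toFinset.1 (Finset.mem_coe.1 hs))
    exact ⟨h • r i, ⟨⟨h, hh⟩, rfl⟩, e⟩
  have hdisj : ∀ i j, i ≠ j → Disjoint (MulAction.orbit H (r i)) (MulAction.orbit H (r j)) := by
    intro i j hij
    rw [Set.disjoint_left]
    rintro _ ⟨h, rfl⟩ ⟨k, hk⟩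
    refine hij (hdiff ?_)
    show φ (r i) = φ (r j)
    rw [← hφ _ h.2 _ (hr i), ← hφ _ k.2 _ (hr j)]
    exact congrArg φ hk.symm
  let O : Fin n → Finset β := fun i => (hfin.subset (hsub i)).toFinset
  have hOcard : ∀ i, (O i).card = (MulAction.orbit H (r i)).ncard := fun i =>
    (Set.ncard_eq_toFinset_card _ _).symm
  have hUsub : Finset.univ.biUnion O ⊆ hfin.toFinset := by
    intro x hx
    obtain ⟨i, -, hi⟩ := Finset.mem_biUnion.1 hx
    exact hfin.mem_toFinset.2 (hsub i ((Set.Finite.mem_toFinset _).1 hi))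
  have hU : (Finset.univ.biUnion O).card = ∑ i, (MulAction.orbit H (r i)).ncard := by
    rw [Finset.card_biUnion (fun i _ j _ hij => by
      simpa [O, Function.onFun, Set.Finite.disjoint_toFinset] using hdisj i j hij)]
    exact Finset.sum_congr rfl fun i _ => hOcard i
  have hle : ∑ i, (MulAction.orbit H (r i)).ncard ≤ X.ncard := by
    rw [← hU, Set.ncard_eq_toFinset_card _ hfin]
    exact Finset.card_le_card hUsub
  have hge' : ∑ i, (L i).length ≤ ∑ i, (MulAction.orbit H (r i)).ncard :=
    Finset.sum_le_sum fun i _ => hge i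
  have heq : ∀ i ∈ Finset.univ, (L i).length = (MulAction.orbit H (r i)).ncard :=
    (Finset.sum_eq_sum_iff_of_le fun i _ => hge i).1 (by omega)
  refine ⟨fun i => (heq i (Finset.mem_univ i)).symm, ?_⟩
  have hset : Finset.univ.biUnion O = hfin.toFinset :=
    Finset.eq_of_subset_of_card_le hUsub (by rw [hU, ← Set.ncard_eq_toFinset_card _ hfin]; omega)
  ext x
  rw [← hfin.mem_toFinset, ← hset, Finset.mem_biUnion, Set.mem_iUnion]
  simp [O]

/-- No union of suborbits containing the base point has a size properly dividing the degree. -/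
def PrimSizes {n : ℕ} (i₀ : Fin n) (sz : Fin n → ℕ) : Prop :=
  ∀ S : Finset (Fin n), i₀ ∈ S → (∑ i ∈ S, sz i) ∣ (∑ i, sz i) →
    (∑ i ∈ S, sz i) = 1 ∨ (∑ i ∈ S, sz i) = ∑ i, sz i

instance {n : ℕ} (i₀ : Fin n) (sz : Fin n → ℕ) : Decidable (PrimSizes i₀ sz) := by
  unfold PrimSizes; infer_instance

/-- A point stabiliser whose subdegrees admit no block is maximal. -/
theorem isCoatom_stabilizer [Finite G] (x : β) {n : ℕ} (r : Fin n → β) (sz : Fin n → ℕ) (i₀ : Fin n)
    (hi₀ : r i₀ = x) (hsz : ∀ i, (MulAction.orbit (MulAction.stabilizer G x) (r i)).ncard = sz i)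
    (horb : MulAction.orbit G x = ⋃ i, MulAction.orbit (MulAction.stabilizer G x) (r i))
    (hsum : (MulAction.orbit G x).ncard = ∑ i, sz i) (hne : 1 < ∑ i, sz i)
    (hP : PrimSizes i₀ sz) : IsCoatom (MulAction.stabilizer G x) := by
  classical
  have hindex : (MulAction.stabilizer G x).index = ∑ i, sz i := by
    rw [MulAction.index_stabilizer, hsum]
  refine ⟨fun h => ?_, fun K hK => ?_⟩
  · rw [h, Subgroup.index_top] at hindex; omega
  set H := MulAction.stabilizer G x with hH
  let Δ := MulAction.orbit K x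
  have hstabK : MulAction.stabilizer K x = H.subgroupOf K := by
    ext k; simp [Subgroup.mem_subgroupOf, hH, MulAction.mem_stabilizer_iff, Subgroup.smul_def]
  have hΔ : Δ.ncard = H.relIndex K := by
    show (MulAction.orbit K x).ncard = _
    rw [← MulAction.index_stabilizer, hstabK]; rfl
  have hmul := Subgroup.relIndex_mul_index hK.le
  rw [hindex, ← hΔ] at hmul
  let O : Fin n → Set β := fun i => MulAction.orbit H (r i)
  have hOx : ∀ i, (O i).ncard = sz i := hsz
  let S := Finset.univ.filter fun i => (O i ∩ Δ).Nonempty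
  have hfinΔ : Δ.Finite := Set.finite_range _
  have hin : ∀ i ∈ S, O i ⊆ Δ := by
    intro i hi y hy
    obtain ⟨z, hzO, k, hk⟩ := (Finset.mem_filter.1 hi).2
    have hyz : y ∈ MulAction.orbit H z := by rw [MulAction.orbit_eq_iff.2 hzO]; exact hy
    obtain ⟨h, rfl⟩ := hyz
    refine ⟨⟨h.1, hK.le h.2⟩ * k, ?_⟩
    show ((⟨h.1, hK.le h.2⟩ : K) * k) • x = h • z
    have hk' : k • x = z := hk
    rw [mul_smul, hk']; rfl
  have hΔeq : Δ = ⋃ i ∈ S, O i := by
    refine Set.Subset.antisymm (fun y hy => ?_) (Set.iUnion₂_subset hin)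
    have hyX : y ∈ MulAction.orbit G x := by obtain ⟨k, rfl⟩ := hy; exact ⟨k.1, rfl⟩
    rw [horb, Set.mem_iUnion] at hyX
    obtain ⟨i, hi⟩ := hyX
    exact Set.mem_iUnion₂.2 ⟨i, Finset.mem_filter.2 ⟨Finset.mem_univ _, y, hi, hy⟩, hi⟩
  have hOfin : ∀ i, (O i).Finite := fun i => Set.finite_range _
  let OF : Fin n → Finset β := fun i => (hOfin i).toFinset
  have hOFc : ∀ i, (OF i).card = sz i := fun i => by
    rw [← hOx i]; exact (Set.ncard_eq_toFinset_card _ _).symm
  have hall : (Finset.univ.biUnion OF).card = ∑ i, (OF i).card := by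
    rw [Finset.sum_congr rfl fun i _ => hOFc i, ← hsum, horb, ← Set.ncard_coe_finset]
    congr 1
    ext y; simp [OF, O]
  have hdisj : (↑(Finset.univ : Finset (Fin n)) : Set (Fin n)).PairwiseDisjoint OF := by
    intro i _ j _ hij
    rw [Function.onFun, Finset.disjoint_left]
    intro y hyi hyj
    have hlt : (Finset.univ.biUnion OF).card < ∑ k, (OF k).card := by
      have h1 : Finset.univ.biUnion OF =
          (Finset.univ.erase i).biUnion OF ∪ (OF i).erase y := by
        ext z
        simp only [Finset.mem_biUnion, Finset.mem_union, Finset.mem_erase, Finset.mem_univ,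
          true_and, and_true]
        constructor
        · rintro ⟨k, hk⟩
          by_cases hki : k = i
          · subst hki
            by_cases hzy : z = y
            · subst hzy; exact Or.inl ⟨j, Ne.symm hij, hyj⟩
            · exact Or.inr ⟨hzy, hk⟩
          · exact Or.inl ⟨k, hki, hk⟩
        · rintro (⟨k, -, hk⟩ | ⟨-, hk⟩)
          · exact ⟨k, hk⟩
          · exact ⟨i, hk⟩
      rw [h1, ← Finset.add_sum_erase _ _ (Finset.mem_univ i)]
      refine (Finset.card_union_le _ _).trans_lt ?_
      have := Finset.card_biUnion_le (s := Finset.univ.erase i) (t := OF)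
      rw [Finset.card_erase_of_mem hyi]
      have : 0 < (OF i).card := Finset.card_pos.2 ⟨y, hyi⟩
      omega
    omega
  have hΔcard : Δ.ncard = ∑ i ∈ S, sz i := by
    rw [Finset.sum_congr rfl fun i _ => (hOFc i).symm,
      ← Finset.card_biUnion (hdisj.subset (Finset.coe_subset.2 (Finset.subset_univ _))),
      ← Set.ncard_coe_finset, hΔeq]
    congr 1
    ext y; simp [OF]
  have hi₀S : i₀ ∈ S := Finset.mem_filter.2 ⟨Finset.mem_univ _, x,
    by rw [← hi₀]; exact MulAction.mem_orbit_self _, MulAction.mem_orbit_self _⟩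
  rcases hP S hi₀S ⟨K.index, by rw [← hΔcard]; exact hmul.symm⟩ with h | h
  · rw [← hΔcard, hΔ, Subgroup.relIndex_eq_one] at h
    exact absurd (le_antisymm hK.le h) hK.ne
  · rw [← hΔcard] at h
    rw [h] at hmul
    refine Subgroup.index_eq_one.1 ?_
    exact Nat.eq_of_mul_eq_mul_left (Nat.zero_lt_of_lt hne) (hmul.trans (mul_one _).symm)

/-- Suborbits at a translated point. -/
theorem orbit_stabilizer_smul (g : G) (x y : β) :
    MulAction.orbit (MulAction.stabilizer G (g • x)) (g • y) =
      (fun z => g • z) '' MulAction.orbit (MulAction.stabilizer G x) y := by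
  ext z
  constructor
  · rintro ⟨h, rfl⟩
    refine ⟨g⁻¹ • (h.1 • g • y), ⟨⟨g⁻¹ * h.1 * g, ?_⟩, ?_⟩, smul_inv_smul g _⟩
    · rw [MulAction.mem_stabilizer_iff, mul_smul, mul_smul, MulAction.mem_stabilizer_iff.1 h.2,
        inv_smul_smul]
    · show (g⁻¹ * h.1 * g) • y = _
      rw [mul_smul, mul_smul]
  · rintro ⟨_, ⟨h, rfl⟩, rfl⟩
    refine ⟨⟨g * h.1 * g⁻¹, ?_⟩, ?_⟩
    · rw [MulAction.mem_stabilizer_iff, mul_smul, mul_smul, inv_smul_smul,
        MulAction.mem_stabilizer_iff.1 h.2]
    · show (g * h.1 * g⁻¹) • g • y = g • h.1 • y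
      rw [mul_smul, mul_smul, inv_smul_smul]

/-- Suborbit decomposition at every point of an orbit. -/
theorem suborbits_at {n : ℕ} {x₀ x : β} (hx : x ∈ MulAction.orbit G x₀) (r : Fin n → β)
    (sz : Fin n → ℕ) (i₀ : Fin n) (hi₀ : r i₀ = x₀)
    (hsz : ∀ i, (MulAction.orbit (MulAction.stabilizer G x₀) (r i)).ncard = sz i)
    (horb : MulAction.orbit G x₀ = ⋃ i, MulAction.orbit (MulAction.stabilizer G x₀) (r i)) :
    ∃ r' : Fin n → β, r' i₀ = x ∧
      (∀ i, (MulAction.orbit (MulAction.stabilizer G x) (r' i)).ncard = sz i) ∧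
      MulAction.orbit G x₀ = ⋃ i, MulAction.orbit (MulAction.stabilizer G x) (r' i) := by
  obtain ⟨g, rfl⟩ := hx
  refine ⟨fun i => g • r i, by rw [← hi₀], fun i => ?_, ?_⟩
  · rw [orbit_stabilizer_smul, Set.ncard_image_of_injective _ (MulAction.injective g), hsz]
  · simp only [orbit_stabilizer_smul, ← Set.image_iUnion, ← horb]
    exact (MulAction.smul_orbit g x₀).symm

end Abstract

section Certified

open Cfsg.Agent.Golay.M24
open scoped Pointwise

/-- Invertible move of a root to the others. -/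
def moveOK {σ : Type*} [DecidableEq σ] (act : ℕ → σ → σ) (root₀ : σ) (tab : ℕ) (root : σ) : Bool :=
  tabOK tab && decide (act tab root₀ = root)

/-- Certified suborbits of `M24` at a base point. -/
theorem suborbits_M24 {β : Type*} [MulAction (Equiv.Perm GolayPt) β] [Finite β]
    {σ : Type*} [DecidableEq σ] (act : ℕ → σ → σ) (enc : β → σ) (proj : σ → ℕ)
    (henc : Function.Injective enc)
    (hact : ∀ tab g, IsTab tab g → ∀ x : β, act tab (enc x) = enc (g • x))
    (X : Set β) (hinv : ∀ g ∈ Cfsg.M24, ∀ x ∈ X, g • x ∈ X)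
    {n : ℕ} (r : Fin n → β) (i₀ : Fin n) (hx₀ : r i₀ ∈ X) (root : Fin n → σ)
    (hroot : ∀ i, enc (r i) = root i)
    (φ : β → ℕ) (hφ : ∀ g ∈ Cfsg.M24, g • r i₀ = r i₀ → ∀ x ∈ X, φ (g • x) = φ x)
    (hdiff : Function.Injective fun i => φ (r i))
    (gens : List ℕ) (hgens : (gens.all fun t => moveOK act (root i₀) t (root i₀)) = true)
    (cert : Fin n → List (ℕ × ℕ)) (sz : Fin n → ℕ)
    (hcert : (List.finRange n).all (fun i => distinctFrom
      ((orbitList act gens (cert i) (root i)).map proj) 0 &&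
      (orbitList act gens (cert i) (root i)).length == sz i) = true)
    (mv : Fin n → ℕ) (hmv : (List.finRange n).all (fun i => moveOK act (root i₀) (mv i) (root i)) = true)
    (hsum : ∑ i, sz i = X.ncard) :
    (∀ i, (MulAction.orbit (MulAction.stabilizer Cfsg.M24 (r i₀)) (r i)).ncard = sz i) ∧
      X = ⋃ i, MulAction.orbit (MulAction.stabilizer Cfsg.M24 (r i₀)) (r i) ∧
      MulAction.orbit Cfsg.M24 (r i₀) = X := by
  simp only [List.all_eq_true, List.mem_finRange, true_implies, Bool.and_eq_true, beq_iff_eq,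
    moveOK, decide_eq_true_eq] at hcert hmv hgens
  have hok : gens.all tabOK = true := List.all_eq_true.2 fun t ht => (hgens t ht).1
  have hfix : tabGroup gens ≤ MulAction.stabilizer (Equiv.Perm GolayPt) (r i₀) :=
    tabGroup_le_of fun t ht => by
      show tabPerm t • r i₀ = r i₀
      apply henc
      rw [← hact _ _ (isTab_tabPerm (hgens t ht).1), hroot, (hgens t ht).2]
  have hr : ∀ i, ∃ g : Cfsg.M24, g • r i₀ = r i := fun i =>
    ⟨⟨_, tabPerm_mem (hmv i).1⟩, henc (by
      show enc (tabPerm (mv i) • r i₀) = _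
      rw [← hact _ _ (isTab_tabPerm (hmv i).1), hroot, (hmv i).2, hroot])⟩
  have hrX : ∀ i, r i ∈ X := fun i => by
    obtain ⟨g, hg⟩ := hr i
    rw [← hg]; exact hinv _ g.2 _ hx₀
  obtain ⟨h1, h2⟩ := orbits_of_lists (MulAction.stabilizer Cfsg.M24 (r i₀)) (Set.toFinite X)
    (fun h _ x hx => hinv _ h.2 x hx) (φ := φ) (fun h hh x hx => hφ _ h.2 hh x hx) r hrX hdiff enc
    (fun i => orbitList act gens (cert i) (root i))
    (fun i s hs => by
      rw [← hroot i] at hs
      obtain ⟨g, hg, e⟩ := orbitList_mem hok hact _ _ s hs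
      exact ⟨⟨g, tabGroup_le_M24 hok hg⟩, hfix hg, e⟩)
    (fun i => List.Nodup.of_map proj (distinctFrom_spec (hcert i).1).1)
    (by rw [← hsum]; exact Finset.sum_congr rfl fun i _ => (hcert i).2)
  refine ⟨fun i => (h1 i).trans (hcert i).2, h2, Set.Subset.antisymm ?_ ?_⟩
  · rintro _ ⟨g, rfl⟩
    exact hinv _ g.2 _ hx₀
  · intro x hx
    rw [h2, Set.mem_iUnion] at hx
    obtain ⟨i, h, rfl⟩ := hx
    obtain ⟨g, hg⟩ := hr i
    refine ⟨(h : Cfsg.M24) * g, ?_⟩
    show ((h : Cfsg.M24) * g) • r i₀ = _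
    rw [mul_smul, hg]; rfl

/-- Encoding of a family of sets. -/
noncomputable def encFam (S : Finset (Finset GolayPt)) : List ℕ :=
  (S.toList.map mask).insertionSort (· ≤ ·)

/-- Action on encoded families. -/
def actFam (tab : ℕ) (L : List ℕ) : List ℕ := (L.map (imgTab tab)).insertionSort (· ≤ ·)

theorem sort_eq_of_perm {l l' : List ℕ} (h : l.Perm l') :
    l.insertionSort (· ≤ ·) = l'.insertionSort (· ≤ ·) :=
  List.Perm.eq_of_pairwise (fun _ _ _ _ => le_antisymm) (List.pairwise_insertionSort _ _)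
    (List.pairwise_insertionSort _ _)
    ((List.perm_insertionSort _ _).trans (h.trans (List.perm_insertionSort _ _).symm))

theorem actFam_enc (tab : ℕ) (g : Equiv.Perm GolayPt) (h : IsTab tab g)
    (S : Finset (Finset GolayPt)) : actFam tab (encFam S) = encFam (g • S) := by
  refine sort_eq_of_perm (((List.perm_insertionSort _ _).map _).trans ?_)
  have e : ((S.toList.map mask).map (imgTab tab)) = (S.toList.map fun t => g • t).map mask := by
    simp only [List.map_map, Function.comp_def, imgTab_mask h]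
  rw [e]
  refine List.Perm.map _ ?_
  rw [List.perm_ext_iff_of_nodup ((S.nodup_toList).map (MulAction.injective g)) (Finset.nodup_toList _)]
  intro t
  simp [Finset.mem_smul_finset]

theorem encFam_injective : Function.Injective encFam := fun S T h => by
  have hp : (S.toList.map mask).Perm (T.toList.map mask) :=
    (List.perm_insertionSort (r := (· ≤ ·)) (S.toList.map mask)).symm.trans
      ((List.Perm.of_eq h).trans (List.perm_insertionSort _ _))
  ext t
  have := hp.mem_iff (a := mask t)
  simpa [mask_injective.eq_iff] using this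

/-- The family of a list of masks. -/
def famSet (L : List ℕ) : Finset (Finset GolayPt) := (L.map maskSet).toFinset

theorem encFam_famSet {L : List ℕ} (h1 : L.Pairwise (· < ·)) (h2 : ∀ m ∈ L, m < 2 ^ 24) :
    encFam (famSet L) = L := by
  have hnd : (L.map maskSet).Nodup := by
    refine List.Nodup.map_on ?_ (h1.imp fun h => ne_of_lt h)
    intro a ha b hb h
    rw [← mask_maskSet (h2 a ha), h, mask_maskSet (h2 b hb)]
  have hp : (famSet L).toList.Perm (L.map maskSet) := by
    rw [List.perm_ext_iff_of_nodup (Finset.nodup_toList _) hnd]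
    intro t; simp [famSet]
  have hmap : (L.map maskSet).map mask = L := by
    rw [List.map_map]
    exact (List.map_congr_left fun m hm => mask_maskSet (h2 m hm)).trans (List.map_id _)
  refine (sort_eq_of_perm (l' := L) ((hp.map mask).trans (List.Perm.of_eq hmap))).trans ?_
  exact (List.Pairwise.imp le_of_lt h1).insertionSort_eq

/-- Sum of the squared overlaps of two families. -/
def overlap (S T : Finset (Finset GolayPt)) : ℕ := ∑ t ∈ S, ∑ u ∈ T, (t ∩ u).card ^ 2

theorem overlap_smul (g : Equiv.Perm GolayPt) (S T : Finset (Finset GolayPt)) :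
    overlap (g • S) (g • T) = overlap S T := by
  have e : ∀ U : Finset (Finset GolayPt), g • U = U.image fun t => g • t := fun U => rfl
  rw [overlap, e S, e T, Finset.sum_image (fun a _ b _ h => MulAction.injective g h)]
  refine Finset.sum_congr rfl fun t _ => ?_
  rw [Finset.sum_image (fun a _ b _ h => MulAction.injective g h)]
  exact Finset.sum_congr rfl fun u _ => by rw [inter_smul_card]

end Certified

end Cfsg.Agent.Golay.Suborbit
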