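import Cfsg.Agent.Lib.Golay.SylowTwo

/-!
The checks of the Sylow 2-subgroup of the Mathieu group of degree 12.
-/

set_option autoImplicit false
set_option maxRecDepth 20000

namespace Cfsg.Agent.Golay.SylowTwo

open Cfsg.Agent.Golay.Basic Cfsg.Agent.Golay.M24 Cfsg.Agent.Golay.Cert Cfsg.Agent.Golay.TabList Cfsg.Agent.Golay.SylowTwoData

theorem s12_list : listOK s12Pc s12Elems s12Idx = true := by decide +kernel

theorem s12_inG : s12Pc.all (fun t => imgTab t 340831 == 340831) = true := by decide +kernel

theorem s12_center : centerOK s12Pc s12Elems s12Z = true := by decide +kernel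

theorem s12_gen : genOK (fun t => imgTab t 340831 == 340831) s12Elems [s12Z] s12Gen = true := by decide +kernel

theorem s12_words : wordsOK s12Pc (s12Z :: s12Gen.map fun e => e.1) s12Words = true := by decide +kernel

theorem s12_rows : rowsOK s12Elems s12Dist s12Reps = true := by decide +kernel

theorem s12_prop : propOK s12Pc s12Dist s12Reps = true := by decide +kernel

theorem s12_top : topOK s12Dist s12Top = true := by decide +kernel

theorem s12_levels : levelsOK s12Dist s12Levels = true := by decide +kernel

theorem s12_tree : treeOK s12Levels s12Top = true := by decide +kernel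

theorem s12_ne : s12Pc ≠ [] := by decide +kernel

end Cfsg.Agent.Golay.SylowTwo
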