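import Cfsg.Agent.Lib.Golay.Cert

/-!
Complete element lists of small subgroups of `Equiv.Perm GolayPt` given by tables, checked by
doubling along a chain of subgroups of index two.
-/

set_option autoImplicit false

namespace Cfsg.Agent.Golay.TabList

open Cfsg Cfsg.Agent.Golay.Basic Cfsg.Agent.Golay.M24 Cfsg.Agent.Golay.Cert

local notation "pG" => Equiv.Perm GolayPt

/-- The table whose entries are the first `n` values of `f`. -/
def pack : ℕ → (ℕ → ℕ) → ℕ
  | 0, _ => 0
  | n + 1, f => f 0 % 32 + 32 * pack n (fun i => f (i + 1))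

theorem tabAt_pack : ∀ (n : ℕ) (f : ℕ → ℕ) (i : ℕ), i < n → tabAt (pack n f) i = f i % 32
  | 0, _, _, h => absurd h (Nat.not_lt_zero _)
  | n + 1, f, 0, _ => by
    simp [tabAt, pack, Nat.add_mul_mod_self_left]
  | n + 1, f, i + 1, h => by
    have ih := tabAt_pack n (fun j => f (j + 1)) i (by omega)
    rw [tabAt, Nat.shiftRight_eq_div_pow] at ih ⊢
    rw [pack, show 5 * (i + 1) = 5 + 5 * i by ring, pow_add, ← Nat.div_div_eq_div_mul,
      show (2 : ℕ) ^ 5 = 32 by norm_num, Nat.add_mul_div_left _ _ (by norm_num),
      Nat.div_eq_of_lt (Nat.mod_lt _ (by norm_num)), zero_add]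
    exact ih

/-- The table of a composite. -/
def mulTab (a b : ℕ) : ℕ := pack 24 fun i => tabAt a (tabAt b i)

theorem isTab_mul {a b : ℕ} {g h : pG} (ha : IsTab a g) (hb : IsTab b h) :
    IsTab (mulTab a b) (g * h) := by
  intro p
  rw [mulTab, tabAt_pack _ _ _ (ix_lt p), ← hb p, ← ha, Equiv.Perm.mul_apply, Nat.mod_eq_of_lt]
  exact lt_of_lt_of_le (ix_lt _) (by norm_num)

/-- A table with no junk. -/
def canon (t : ℕ) : Bool := pack 24 (tabAt t) == t

theorem eq_of_isTab {a b : ℕ} (ha : canon a = true) (hb : canon b = true) {g : pG} (h : IsTab a g)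
    (h' : IsTab b g) : a = b := by
  simp only [canon, beq_iff_eq] at ha hb
  have key : ∀ (n : ℕ) (f f' : ℕ → ℕ), (∀ i < n, f i = f' i) → pack n f = pack n f' := by
    intro n
    induction n with
    | zero => intros; rfl
    | succ n ih =>
      intro f f' hf
      simp only [pack]
      rw [hf 0 (by omega), ih _ (fun j => f' (j + 1)) fun j hj => hf _ (by omega)]
  rw [← ha, ← hb]
  refine key _ _ _ fun i hi => ?_
  rw [← ix_pt hi, ← h, h']

theorem canon_mulTab (a b : ℕ) : canon (mulTab a b) = true := by
  have key : ∀ (n : ℕ) (f : ℕ → ℕ), pack n (fun i => f i % 32) = pack n f := by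
    intro n
    induction n with
    | zero => intro; rfl
    | succ n ih => intro f; simp only [pack, Nat.mod_mod]; rw [ih fun i => f (i + 1)]
  have key2 : ∀ (n : ℕ) (f f' : ℕ → ℕ), (∀ i < n, f i = f' i) → pack n f = pack n f' := by
    intro n
    induction n with
    | zero => intros; rfl
    | succ n ih =>
      intro f f' hf
      simp only [pack]
      rw [hf 0 (by omega), ih _ (fun j => f' (j + 1)) fun j hj => hf _ (by omega)]
  simp only [canon, beq_iff_eq, mulTab]
  rw [key2 24 _ _ fun i hi => tabAt_pack 24 _ i hi, key]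

/-- A table of some permutation is the table of `tabPerm`. -/
theorem tabPerm_of_isTab {t : ℕ} {g : pG} (h : IsTab t g) : tabPerm t = g := by
  have e : (fun p => pt (tabAt t (ix p))) = (g : GolayPt → GolayPt) :=
    funext fun p => by rw [← h p, pt_ix]
  have hb : Function.Bijective (fun p => pt (tabAt t (ix p))) := e ▸ g.bijective
  rw [tabPerm, dif_pos hb]
  exact Equiv.ext fun p => congrFun e p

/-- Doubling check: the block of `L` at level `k` is the translate by `g` of the elements before,
`g` lies outside them, squares into them and conjugates the earlier generators into them, the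
conjugate of generator `j` being the element number `(idx k) j`. -/
def stepOK (pc L : List ℕ) (idx : List (List ℕ)) (k : ℕ) : Bool :=
  let g := pc.getD k idTab
  let old := L.take (2 ^ k)
  ((L.drop (2 ^ k)).take (2 ^ k) == old.map (mulTab g)) && !old.contains g &&
    old.contains (mulTab g g) &&
    (List.range k).all fun j =>
      decide ((idx.getD k []).getD j 0 < 2 ^ k) &&
        mulTab g (pc.getD j idTab) == mulTab (L.getD ((idx.getD k []).getD j 0) idTab) g

/-- The whole check. -/
def listOK (pc L : List ℕ) (idx : List (List ℕ)) : Bool :=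
  pc.all tabOK && pc.all canon && (L.head? == some idTab) &&
    (L.length == 2 ^ pc.length) && (List.range pc.length).all (stepOK pc L idx)

attribute [local irreducible] mulTab pack tabPerm tabOK

theorem tabPerm_idTab : tabPerm idTab = 1 := tabPerm_of_isTab isTab_one

theorem canon_idTab : canon idTab = true := by decide +kernel

theorem tabGroup_cases {pc : List ℕ} {g : pG} (hsq : g * g ∈ tabGroup pc)
    (hconj : ∀ h ∈ pc, ∃ u ∈ tabGroup pc, g * tabPerm h = u * g) :
    ∀ x, x ∈ Subgroup.closure (insert g (tabGroup pc : Set pG)) →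
      x ∈ tabGroup pc ∨ g⁻¹ * x ∈ tabGroup pc := by
  set K := tabGroup pc with hK
  have hn : ∀ k ∈ K, g * k * g⁻¹ ∈ K := by
    have : K.map (MulAut.conj g).toMonoidHom ≤ K := by
      rw [hK, tabGroup, MonoidHom.map_closure, Subgroup.closure_le]
      rintro _ ⟨_, ⟨h, hh, rfl⟩, rfl⟩
      obtain ⟨u, hu, e⟩ := hconj h hh
      show g * tabPerm h * g⁻¹ ∈ tabGroup pc
      rw [e, mul_inv_cancel_right]; exact hu
    exact fun k hk => this ⟨k, hk, rfl⟩
  have hn' : ∀ k ∈ K, g⁻¹ * k * g ∈ K := fun k hk => by
    have := K.mul_mem (K.mul_mem (K.inv_mem hsq) (hn k hk)) hsq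
    convert this using 1
    group
  intro x hx
  induction hx using Subgroup.closure_induction_left with
  | one => exact Or.inl K.one_mem
  | mul_left s hs y _ ih =>
    rcases Set.mem_insert_iff.1 hs with rfl | hs
    · rcases ih with ih | ih
      · exact Or.inr (by simpa using ih)
      · refine Or.inl ?_
        have := K.mul_mem hsq ih
        convert this using 1
        group
    · rcases ih with ih | ih
      · exact Or.inl (K.mul_mem hs ih)
      · refine Or.inr ?_
        have := K.mul_mem (hn' s hs) ih
        convert this using 1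
        group
  | inv_mul_cancel s hs y _ ih =>
    rcases Set.mem_insert_iff.1 hs with rfl | hs
    · rcases ih with ih | ih
      · refine Or.inr ?_
        have := K.mul_mem (K.inv_mem hsq) ih
        convert this using 1
        group
      · exact Or.inl ih
    · rcases ih with ih | ih
      · exact Or.inl (K.mul_mem (K.inv_mem hs) ih)
      · refine Or.inr ?_
        have := K.mul_mem (hn' _ (K.inv_mem hs)) ih
        convert this using 1
        group

theorem prefix_spec {pc L : List ℕ} {idx : List (List ℕ)} (h : listOK pc L idx = true) :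
    ∀ k ≤ pc.length,
      (∀ t ∈ L.take (2 ^ k), IsTab t (tabPerm t) ∧ canon t = true) ∧
      (∀ x, x ∈ tabGroup (pc.take k) ↔ ∃ t ∈ L.take (2 ^ k), x = tabPerm t) ∧
      ((L.take (2 ^ k)).map tabPerm).Nodup := by
  simp only [listOK, Bool.and_eq_true, List.all_eq_true, List.mem_range, beq_iff_eq] at h
  obtain ⟨⟨⟨⟨hpc, hpcc⟩, hhead⟩, hlen⟩, hstep⟩ := h
  obtain ⟨L', rfl⟩ : ∃ L', L = idTab :: L' := by
    cases L with
    | nil => simp at hhead
    | cons a L' => simp only [List.head?_cons, Option.some.injEq] at hhead; exact ⟨L', by rw [hhead]⟩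
  intro k
  induction k with
  | zero =>
    intro _
    rw [pow_zero, show List.take 1 (idTab :: L') = [idTab] from rfl]
    refine ⟨fun t ht => ?_, fun x => ?_, by simp⟩
    · obtain rfl := List.mem_singleton.1 ht
      exact ⟨tabPerm_idTab ▸ isTab_one, canon_idTab⟩
    · simp [tabGroup, tabPerm_idTab]
  | succ k ih =>
    intro hk
    have hk' : k < pc.length := by omega
    obtain ⟨iht, ihm, ihn⟩ := ih hk'.le
    have hs := hstep k hk'
    simp only [stepOK, Bool.and_eq_true, beq_iff_eq, List.contains_iff_mem, List.all_eq_true,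
      List.mem_range, decide_eq_true_eq, Bool.not_eq_eq_eq_not, Bool.not_true] at hs
    obtain ⟨⟨⟨hblock, hnew⟩, hsq⟩, hconj⟩ := hs
    set gt := pc.getD k idTab with hgt
    have hgm : gt ∈ pc := by
      rw [hgt, List.getD_eq_getElem _ _ hk']; exact List.getElem_mem _
    have hgT : IsTab gt (tabPerm gt) := isTab_tabPerm (hpc _ hgm)
    have hsq' : tabPerm gt * tabPerm gt ∈ tabGroup (pc.take k) :=
      (ihm _).2 ⟨_, hsq, (tabPerm_of_isTab (isTab_mul hgT hgT)).symm⟩
    have hconj' : ∀ t ∈ pc.take k, ∃ u ∈ tabGroup (pc.take k),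
        tabPerm gt * tabPerm t = u * tabPerm gt := by
      intro t ht
      obtain ⟨j, hj, rfl⟩ := List.mem_take_iff_getElem.1 ht
      have hjk : j < k := by omega
      obtain ⟨hlt, e⟩ := hconj j hjk
      set u := (idTab :: L').getD ((idx.getD k []).getD j 0) idTab with hu
      have hum : u ∈ (idTab :: L').take (2 ^ k) := by
        have hlt' : (idx.getD k []).getD j 0 < (idTab :: L').length :=
          lt_of_lt_of_le hlt (hlen ▸ Nat.pow_le_pow_right (by norm_num) hk'.le)
        rw [hu, List.getD_eq_getElem _ _ hlt']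
        exact List.mem_take_iff_getElem.2 ⟨_, lt_min hlt hlt', rfl⟩
      refine ⟨tabPerm u, (ihm _).2 ⟨u, hum, rfl⟩, ?_⟩
      rw [List.getD_eq_getElem _ _ (by omega : j < pc.length)] at e
      have h1 := isTab_mul hgT (isTab_tabPerm (hpc _ (List.getElem_mem (by omega : j < pc.length))))
      rw [e] at h1
      exact h1.unique (isTab_mul (iht _ hum).1 hgT)
    have htake : pc.take (k + 1) = pc.take k ++ [gt] := by
      rw [List.take_succ_eq_append_getElem hk', hgt, List.getD_eq_getElem _ _ hk']
    have hT : (idTab :: L').take (2 ^ (k + 1)) =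
        (idTab :: L').take (2 ^ k) ++ ((idTab :: L').take (2 ^ k)).map (mulTab gt) := by
      rw [pow_succ, mul_two, List.take_add, hblock]
    have hmul : ∀ t ∈ (idTab :: L').take (2 ^ k), tabPerm (mulTab gt t) = tabPerm gt * tabPerm t :=
      fun t ht => tabPerm_of_isTab (isTab_mul hgT (iht t ht).1)
    refine ⟨fun t ht => ?_, fun x => ?_, ?_⟩
    · rw [hT, List.mem_append] at ht
      rcases ht with ht | ht
      · exact iht t ht
      · obtain ⟨u, hu, rfl⟩ := List.mem_map.1 ht
        exact ⟨hmul u hu ▸ isTab_mul hgT (iht u hu).1, canon_mulTab _ _⟩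
    · constructor
      · intro hx
        have hx' : x ∈ Subgroup.closure
            (insert (tabPerm gt) (tabGroup (pc.take k) : Set pG)) := by
          refine Subgroup.closure_le _ |>.2 ?_ hx
          rintro y ⟨t, ht, rfl⟩
          rw [htake, List.mem_append, List.mem_singleton] at ht
          rcases ht with ht | rfl
          · exact Subgroup.subset_closure (Or.inr (Subgroup.subset_closure ⟨t, ht, rfl⟩))
          · exact Subgroup.subset_closure (Or.inl rfl)
        rw [hT]
        rcases tabGroup_cases hsq' hconj' x hx' with hc | hc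
        · obtain ⟨t, ht, rfl⟩ := (ihm x).1 hc
          exact ⟨t, List.mem_append_left _ ht, rfl⟩
        · obtain ⟨t, ht, e⟩ := (ihm _).1 hc
          refine ⟨mulTab gt t, List.mem_append_right _ (List.mem_map_of_mem ht), ?_⟩
          rw [hmul t ht, ← e, mul_inv_cancel_left]
      · rintro ⟨t, ht, rfl⟩
        have hmono : tabGroup (pc.take k) ≤ tabGroup (pc.take (k + 1)) := tabGroup_le_of fun y hy =>
          Subgroup.subset_closure ⟨y, by rw [htake]; exact List.mem_append_left _ hy, rfl⟩
        rw [hT, List.mem_append] at ht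
        rcases ht with ht | ht
        · exact hmono ((ihm _).2 ⟨t, ht, rfl⟩)
        · obtain ⟨u, hu, rfl⟩ := List.mem_map.1 ht
          rw [hmul u hu]
          exact Subgroup.mul_mem _
            (Subgroup.subset_closure ⟨gt, by rw [htake]; simp, rfl⟩) (hmono ((ihm _).2 ⟨u, hu, rfl⟩))
    · have hg : tabPerm gt ∉ tabGroup (pc.take k) := fun hm => by
        obtain ⟨t, ht, e⟩ := (ihm _).1 hm
        have := eq_of_isTab (hpcc _ hgm) (iht t ht).2 hgT (e ▸ (iht t ht).1)
        rw [← this] at ht
        simp only [← Bool.not_eq_true, List.contains_iff_mem] at hnew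
        exact hnew ht
      rw [hT, List.map_append, List.map_map, List.nodup_append]
      have e : ((idTab :: L').take (2 ^ k)).map (tabPerm ∘ mulTab gt) =
          (((idTab :: L').take (2 ^ k)).map tabPerm).map (tabPerm gt * ·) := by
        rw [List.map_map]
        exact List.map_congr_left fun t ht => hmul t ht
      refine ⟨ihn, e ▸ ihn.map (mul_right_injective _), fun a ha b hb hab => hg ?_⟩
      rw [e] at hb
      obtain ⟨c, hc, rfl⟩ := List.mem_map.1 hb
      obtain ⟨t, ht, rfl⟩ := List.mem_map.1 ha
      obtain ⟨u, hu, rfl⟩ := List.mem_map.1 hc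
      have h1 : tabPerm gt = tabPerm t * (tabPerm u)⁻¹ := eq_mul_inv_of_mul_eq hab.symm
      rw [h1]
      exact Subgroup.mul_mem _ ((ihm _).2 ⟨t, ht, rfl⟩)
        (Subgroup.inv_mem _ ((ihm _).2 ⟨u, hu, rfl⟩))

theorem spec {pc L : List ℕ} {idx : List (List ℕ)} (h : listOK pc L idx = true) :
    (∀ t ∈ L, IsTab t (tabPerm t) ∧ canon t = true) ∧
      (∀ x, x ∈ tabGroup pc ↔ ∃ t ∈ L, x = tabPerm t) ∧ (L.map tabPerm).Nodup := by
  have hlen : L.length = 2 ^ pc.length := by
    simp only [listOK, Bool.and_eq_true, beq_iff_eq] at h; exact h.1.2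
  have := prefix_spec h pc.length le_rfl
  rwa [List.take_length, ← hlen, List.take_length] at this

open Classical in
/-- Counting elements of the group through the list. -/
theorem card_subtype {pc L : List ℕ} {idx : List (List ℕ)} (h : listOK pc L idx = true)
    (P : pG → Prop) :
    Nat.card {g : pG // g ∈ tabGroup pc ∧ P g} =
      (L.filter fun t => decide (P (tabPerm t))).length := by
  obtain ⟨-, hmem, hnd⟩ := spec h
  have e : (((L.filter fun t => decide (P (tabPerm t))).map tabPerm).toFinset : Set pG) =
      {g | g ∈ tabGroup pc ∧ P g} := by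
    ext g
    simp only [List.coe_toFinset, List.mem_map, List.mem_filter, decide_eq_true_eq, Set.mem_ofPred_eq,
      hmem]
    constructor
    · rintro ⟨t, ⟨ht, hP⟩, rfl⟩; exact ⟨⟨t, ht, rfl⟩, hP⟩
    · rintro ⟨⟨t, ht, rfl⟩, hP⟩; exact ⟨t, ⟨ht, hP⟩, rfl⟩
  show Nat.card ({g | g ∈ tabGroup pc ∧ P g} : Set pG) = _
  rw [← e, Nat.card_coe_set_eq, Set.ncard_coe_finset,
    List.toFinset_card_of_nodup (hnd.sublist ((List.filter_sublist).map _)), List.length_map]

theorem card_tabGroup {pc L : List ℕ} {idx : List (List ℕ)} (h : listOK pc L idx = true) :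
    Nat.card (tabGroup pc) = 2 ^ pc.length := by
  classical
  have h2 := card_subtype h (fun _ => True)
  have hlen : L.length = 2 ^ pc.length := by
    simp only [listOK, Bool.and_eq_true, beq_iff_eq] at h; exact h.1.2
  simp only [decide_true, List.filter_true] at h2
  rw [← hlen, ← h2]
  exact Nat.card_congr (Equiv.subtypeEquivRight fun g => by simp)

end Cfsg.Agent.Golay.TabList
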