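import Cfsg.Agent.Lib.Golay.SylowTwoData
import Cfsg.Agent.Lib.Golay.TabList
import Cfsg.Agent.Lib.Golay.Trans
import Cfsg.Agent.Lib.Fusion.SimpleCriterion
import Cfsg.Prelude.Def_Spor_Mathieu

/-!
Sylow 2-subgroups of the Mathieu groups of degree 24, 23, 22 and 12: they are self-normalising
(their orbits and common fixers carry a binary tree) and have no proper strongly closed subgroup,
so the 2-fusion systems are simple.
-/

set_option autoImplicit false
set_option maxRecDepth 20000

namespace Cfsg.Agent.Golay.SylowTwo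

open Cfsg Cfsg.Agent.Golay.Basic Cfsg.Agent.Golay.M24 Cfsg.Agent.Golay.Cert
  Cfsg.Agent.Golay.TabList Cfsg.Agent.Golay.SylowTwoData
open scoped Pointwise

local notation "pG" => Equiv.Perm GolayPt

/-! ### Odd permutations preserving a binary tree -/

/-- The bit of a relation given by rows. -/
def bit (M : List ℕ) (i j : ℕ) : Bool := (M.getD i 0).testBit j

/-- A refinement step: each class of `MA` contains at most two classes of `MB`. -/
def splitOK (MA MB : List ℕ) : Bool :=
  (List.range 24).all fun i => bit MB i i && (List.range 24).all fun j =>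
    (bit MA i j == bit MA j i) && (!bit MB i j || MB.getD j 0 == MB.getD i 0) &&
      (!bit MA i j || bit MB i j || MB.getD j 0 == MA.getD i 0 ^^^ MB.getD i 0)

theorem split_fixed {MA MB : List ℕ} (h : splitOK MA MB = true) {n : pG} {k : ℕ}
    (hn : n ^ (2 * k + 1) = 1)
    (hB : ∀ x y, bit MB (ix (n x)) (ix (n y)) = bit MB (ix x) (ix y))
    (hA : ∀ x, bit MA (ix (n x)) (ix x) = true) : ∀ x, bit MB (ix (n x)) (ix x) = true := by
  simp only [splitOK, List.all_eq_true, List.mem_range, Bool.and_eq_true, beq_iff_eq,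
    Bool.or_eq_true, Bool.not_eq_eq_eq_not, Bool.not_true] at h
  have hrefl : ∀ p, bit MB (ix p) (ix p) = true := fun p => (h _ (ix_lt p)).1
  have hAs : ∀ p q, bit MA (ix p) (ix q) = bit MA (ix q) (ix p) := fun p q =>
    ((h _ (ix_lt p)).2 _ (ix_lt q)).1.1
  have hrow : ∀ p q, bit MB (ix p) (ix q) = true → MB.getD (ix q) 0 = MB.getD (ix p) 0 := fun p q hb =>
    ((h _ (ix_lt p)).2 _ (ix_lt q)).1.2.resolve_left (by simp [hb])
  have hBs : ∀ p q, bit MB (ix p) (ix q) = true → bit MB (ix q) (ix p) = true := fun p q hb => by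
    show (MB.getD (ix q) 0).testBit (ix p) = true
    rw [hrow p q hb]; exact hrefl p
  have hBt : ∀ p q r, bit MB (ix p) (ix q) = true → bit MB (ix q) (ix r) = true →
      bit MB (ix p) (ix r) = true := fun p q r h1 h2 => by
    show (MB.getD (ix p) 0).testBit (ix r) = true
    rw [← hrow p q h1]; exact h2
  have hsplit : ∀ p q r, bit MA (ix p) (ix q) = true → bit MA (ix p) (ix r) = true →
      bit MB (ix p) (ix q) = true ∨ bit MB (ix p) (ix r) = true ∨ bit MB (ix q) (ix r) = true := by
    intro p q r h1 h2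
    rcases ((h _ (ix_lt p)).2 _ (ix_lt q)).2 with (hq | hq) | hq
    · simp [h1] at hq
    · exact Or.inl hq
    rcases ((h _ (ix_lt p)).2 _ (ix_lt r)).2 with (hr | hr) | hr
    · simp [h2] at hr
    · exact Or.inr (Or.inl hr)
    refine Or.inr (Or.inr ?_)
    show (MB.getD (ix q) 0).testBit (ix r) = true
    rw [hq, ← hr]; exact hrefl r
  intro x
  by_contra hx
  have hxi : ∀ i : ℕ, bit MB (ix (n ((n ^ i) x))) (ix ((n ^ i) x)) = bit MB (ix (n x)) (ix x) := by
    intro i
    induction i with
    | zero => rfl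
    | succ i ih => rw [pow_succ', Equiv.Perm.mul_apply, hB, ih]
  have h2 : ∀ y, ¬ bit MB (ix (n y)) (ix y) = true → bit MB (ix (n (n y))) (ix y) = true := by
    intro y hy
    rcases hsplit (n y) y (n (n y)) (hA y) (by rw [hAs]; exact hA (n y)) with h' | h' | h'
    · exact absurd h' hy
    · rw [hB] at h'; exact absurd (hBs _ _ h') hy
    · exact hBs _ _ h'
  have heven : ∀ i : ℕ, 0 < i → bit MB (ix ((n ^ (2 * i)) x)) (ix x) = true := by
    intro i hi
    induction i with
    | zero => omega
    | succ i ih =>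
      have hs : bit MB (ix (n (n ((n ^ (2 * i)) x)))) (ix ((n ^ (2 * i)) x)) = true :=
        h2 _ (by rw [hxi]; exact hx)
      rw [show 2 * (i + 1) = 2 * i + 1 + 1 by ring, pow_succ', Equiv.Perm.mul_apply, pow_succ',
        Equiv.Perm.mul_apply]
      rcases Nat.eq_zero_or_pos i with rfl | hi
      · simpa using hs
      · exact hBt _ _ _ hs (ih hi)
  rcases Nat.eq_zero_or_pos k with rfl | hk
  · rw [pow_one] at hn
    exact hx (by rw [hn]; exact hrefl x)
  · have h3 := heven k hk
    rw [← hB, ← Equiv.Perm.mul_apply, ← pow_succ', hn, Equiv.Perm.one_apply] at h3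
    exact hx (hBs _ _ h3)

/-! ### Common fixers -/

open Classical in
/-- One more than the number of common fixers of two points of one orbit, zero for points of
different orbits. -/
noncomputable def cval (P : Subgroup pG) (x y : GolayPt) : ℕ :=
  if ∃ s ∈ P, s x = y then Nat.card {s : pG // s ∈ P ∧ (s x = x ∧ s y = y)} + 1 else 0

theorem cval_conj {P : Subgroup pG} {n : pG} (hn : ∀ s, s ∈ P ↔ n * s * n⁻¹ ∈ P) (x y : GolayPt) :
    cval P (n x) (n y) = cval P x y := by
  have key : ∀ (s : pG) (u v : GolayPt), (n * s * n⁻¹) (n u) = n v ↔ s u = v := fun s u v => by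
    simp
  have hex : (∃ s ∈ P, s (n x) = n y) ↔ ∃ s ∈ P, s x = y := by
    constructor
    · rintro ⟨s, hs, e⟩
      refine ⟨n⁻¹ * s * n, (hn _).2 ?_, (key _ _ _).1 ?_⟩ <;>
        simpa [mul_assoc] using (by first | exact hs | exact e)
    · rintro ⟨s, hs, e⟩
      exact ⟨n * s * n⁻¹, (hn s).1 hs, (key _ _ _).2 e⟩
  have hcard : Nat.card {s : pG // s ∈ P ∧ (s (n x) = n x ∧ s (n y) = n y)} =
      Nat.card {s : pG // s ∈ P ∧ (s x = x ∧ s y = y)} :=
    (Nat.card_congr (Equiv.subtypeEquiv (MulAut.conj n).toEquiv fun s => by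
      show _ ↔ n * s * n⁻¹ ∈ P ∧ _
      rw [← hn]; exact and_congr Iff.rfl (and_congr (key s x x).symm (key s y y).symm))).symm
  simp only [cval]
  by_cases h : ∃ s ∈ P, s x = y
  · rw [if_pos h, if_pos (hex.2 h), hcard]
  · rw [if_neg h, if_neg (fun h' => h (hex.1 h'))]

/-- The entry of a table of values. -/
def dN (D : List ℕ) (i j : ℕ) : ℕ := (D.getD i 0 >>> (12 * j)) % 4096

/-- The check of a row against the images and the fixers of its point. -/
def rowAux (D : List ℕ) (r : ℕ) (img fx : List ℕ) : Bool :=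
  (List.range 24).all fun j => dN D r j ==
    if img.contains j then (fx.filter fun t => tabAt t j == j).length + 1 else 0

/-- The check of the rows of the representatives. -/
def rowsOK (L D reps : List ℕ) : Bool :=
  reps.all fun r => decide (r < 24) &&
    rowAux D r (L.map fun t => tabAt t r) (L.filter fun t => tabAt t r == r)

/-- The check that the values are invariant under the generators and every point lies in the orbit
of a representative. -/
def propOK (pc D reps : List ℕ) : Bool :=
  (pc.all fun g => (List.range 24).all fun i => (List.range 24).all fun j =>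
    dN D (tabAt g i) (tabAt g j) == dN D i j) &&
  (List.range 24).all fun i => reps.any fun r => !(dN D r i == 0)

theorem cval_eq {pc L D reps : List ℕ} {idx : List (List ℕ)} (h : listOK pc L idx = true)
    (hD : rowsOK L D reps = true) (hp : propOK pc D reps = true)
    (x y : GolayPt) : cval (tabGroup pc) x y = dN D (ix x) (ix y) := by
  classical
  simp only [rowsOK, rowAux, List.all_eq_true, List.mem_range, Bool.and_eq_true, beq_iff_eq,
    decide_eq_true_eq] at hD
  simp only [propOK, List.all_eq_true, List.mem_range, Bool.and_eq_true, beq_iff_eq,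
    List.any_eq_true, Bool.not_eq_eq_eq_not, Bool.not_true, beq_eq_false_iff_ne, ne_eq] at hp
  obtain ⟨hgen, hreps⟩ := hp
  obtain ⟨hTab, hmem, -⟩ := spec h
  have hval : ∀ t ∈ L, ∀ u v : GolayPt, tabPerm t u = v ↔ tabAt t (ix u) = ix v := fun t ht u v => by
    rw [← (hTab t ht).1 u]; exact ix_injective.eq_iff.symm
  have hrow : ∀ r ∈ reps, ∀ v : GolayPt, cval (tabGroup pc) (pt r) v = dN D r (ix v) := by
    intro r hr v
    obtain ⟨hr24, hrow⟩ := hD r hr
    have hex : (∃ s ∈ tabGroup pc, s (pt r) = v) ↔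
        (L.map fun t => tabAt t r).contains (ix v) = true := by
      simp only [List.contains_iff_mem, List.mem_map]
      constructor
      · rintro ⟨s, hs, e⟩
        obtain ⟨t, ht, rfl⟩ := (hmem s).1 hs
        exact ⟨t, ht, by simpa [ix_pt hr24] using (hval t ht _ _).1 e⟩
      · rintro ⟨t, ht, e⟩
        exact ⟨_, (hmem _).2 ⟨t, ht, rfl⟩, (hval t ht _ _).2 (by rw [ix_pt hr24]; exact e)⟩
    rw [hrow _ (ix_lt v), cval]
    by_cases hx : ∃ s ∈ tabGroup pc, s (pt r) = v
    · rw [if_pos hx, if_pos (hex.1 hx), card_subtype h (fun s => s (pt r) = pt r ∧ s v = v),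
        List.filter_filter]
      congr 2
      refine List.filter_congr fun t ht => ?_
      rw [Bool.eq_iff_iff]
      simp only [decide_eq_true_eq, Bool.and_eq_true, beq_iff_eq, hval t ht, ix_pt hr24]
      exact and_comm
    · rw [if_neg hx, if_neg (fun h' => hx (hex.2 h'))]
  have hgenok : ∀ g ∈ pc, tabOK g = true := by
    simp only [listOK, Bool.and_eq_true, List.all_eq_true] at h
    exact h.1.1.1.1
  have hinv : ∀ s ∈ tabGroup pc, ∀ u v : GolayPt,
      dN D (ix (s u)) (ix (s v)) = dN D (ix u) (ix v) := by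
    intro s hs
    induction hs using Subgroup.closure_induction with
    | mem g hg =>
      obtain ⟨t, ht, rfl⟩ := hg
      intro u v
      rw [isTab_tabPerm (hgenok t ht), isTab_tabPerm (hgenok t ht)]
      exact hgen t ht _ (ix_lt u) _ (ix_lt v)
    | one => intros; rfl
    | mul a b _ _ iha ihb => intro u v; rw [Equiv.Perm.mul_apply, Equiv.Perm.mul_apply, iha, ihb]
    | inv a _ iha =>
      intro u v
      rw [← iha, Equiv.Perm.coe_inv, Equiv.apply_symm_apply, Equiv.apply_symm_apply]
  obtain ⟨r, hr, hne⟩ := hreps (ix x) (ix_lt x)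
  have h0 : cval (tabGroup pc) (pt r) x ≠ 0 := by rw [hrow r hr]; exact hne
  obtain ⟨s, hs, hsx⟩ : ∃ s ∈ tabGroup pc, s (pt r) = x := by
    by_contra hcon
    exact h0 (by rw [cval, if_neg hcon])
  have hn : ∀ u, u ∈ tabGroup pc ↔ s * u * s⁻¹ ∈ tabGroup pc := fun u =>
    ⟨fun hu => Subgroup.mul_mem _ (Subgroup.mul_mem _ hs hu) (Subgroup.inv_mem _ hs), fun hu => by
      have := Subgroup.mul_mem _ (Subgroup.mul_mem _ (Subgroup.inv_mem _ hs) hu) hs
      simpa [mul_assoc] using this⟩
  obtain ⟨v, rfl⟩ : ∃ v, s v = y := ⟨s⁻¹ y, by simp⟩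
  rw [← hsx, cval_conj hn, hrow r hr, hinv s hs, ix_pt (hD r hr).1]

/-- The classes by diagonal value. -/
def topOK (D top : List ℕ) : Bool :=
  (List.range 24).all fun i => (List.range 24).all fun j => bit top i j == (dN D i i == dN D j j)

/-- The check of the classes of the thresholds. -/
def levelsOK (D : List ℕ) (lv : List (ℕ × List ℕ)) : Bool :=
  lv.all fun e => (List.range 24).all fun i => (List.range 24).all fun j =>
    bit e.2 i j == decide (dN D i j ≠ 0 ∧ min e.1 (dN D i i) ≤ dN D i j)

/-- The rows of equality. -/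
def idRows : List ℕ := (List.range 24).map fun i => 2 ^ i

theorem idRows_spec : ∀ i < 24, ∀ j < 24, bit idRows i j = decide (i = j) := by decide +kernel

/-- The successive classes below given ones down to equality. -/
def treeOK : List (ℕ × List ℕ) → List ℕ → Bool
  | [], MA => splitOK MA idRows
  | e :: es, MA => splitOK MA e.2 && treeOK es e.2

theorem tree_fixed {n : pG} {k : ℕ} (hn : n ^ (2 * k + 1) = 1) :
    ∀ (lv : List (ℕ × List ℕ)) (MA : List ℕ),
      (∀ e ∈ lv, ∀ x y, bit e.2 (ix (n x)) (ix (n y)) = bit e.2 (ix x) (ix y)) →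
      treeOK lv MA = true → (∀ x, bit MA (ix (n x)) (ix x) = true) → n = 1
  | [], MA, _, h, hA => by
    have := split_fixed h hn (fun x y => by
      rw [idRows_spec _ (ix_lt _) _ (ix_lt _), idRows_spec _ (ix_lt _) _ (ix_lt _)]
      simp [ix_injective.eq_iff]) hA
    refine Equiv.ext fun x => ix_injective ?_
    have h' := this x
    rw [idRows_spec _ (ix_lt _) _ (ix_lt _)] at h'
    exact of_decide_eq_true h'
  | e :: es, MA, hinv, h, hA => by
    simp only [treeOK, Bool.and_eq_true] at h
    exact tree_fixed hn es _ (fun e' he' => hinv e' (List.mem_cons_of_mem _ he')) h.2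
      (split_fixed h.1 hn (hinv e List.mem_cons_self) hA)

theorem eq_one_of_normalizes {pc L D reps top : List ℕ} {idx : List (List ℕ)}
    {lv : List (ℕ × List ℕ)} (h : listOK pc L idx = true) (hD : rowsOK L D reps = true)
    (hp : propOK pc D reps = true) (htop : topOK D top = true) (hlv : levelsOK D lv = true)
    (htree : treeOK lv top = true) {n : pG}
    (hn : ∀ s, s ∈ tabGroup pc ↔ n * s * n⁻¹ ∈ tabGroup pc) {k : ℕ} (hk : n ^ (2 * k + 1) = 1) :
    n = 1 := by
  have hinv : ∀ x y, dN D (ix (n x)) (ix (n y)) = dN D (ix x) (ix y) := fun x y => by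
    rw [← cval_eq h hD hp, ← cval_eq h hD hp, cval_conj hn]
  simp only [topOK, List.all_eq_true, List.mem_range, beq_iff_eq] at htop
  simp only [levelsOK, List.all_eq_true, List.mem_range, beq_iff_eq] at hlv
  refine tree_fixed hk lv top (fun e he x y => ?_) htree fun x => ?_
  · rw [hlv e he _ (ix_lt _) _ (ix_lt _), hlv e he _ (ix_lt _) _ (ix_lt _), hinv, hinv]
  · rw [htop _ (ix_lt _) _ (ix_lt _), hinv]
    simp

/-! ### Generation by fusion -/

/-- The check that `gen` lists successive conjugates of words in the central involution and the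
earlier elements, with conjugators passing `inG`. -/
def genOK (inG : ℕ → Bool) (L : List ℕ) : List ℕ → List (ℕ × ℕ × List ℕ) → Bool
  | _, [] => true
  | X, (y, h, w) :: rest => tabOK h && inG h && L.contains y && X.all tabOK &&
      ((List.range 24).all fun i => tabAt h (runT X w i) == tabAt y (tabAt h i)) &&
      genOK inG L (X ++ [y]) rest

/-- The check of the words for the generators of the chain. -/
def wordsOK (pc X : List ℕ) (words : List (List ℕ)) : Bool :=
  X.all tabOK && (pc.zip words).all (fun e => (List.range 24).all fun i => tabAt e.1 i == runT X e.2 i)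
    && (pc.length == words.length)

theorem gen_mem {G : Subgroup pG} {inG : ℕ → Bool}
    (hG : ∀ t, tabOK t = true → inG t = true → tabPerm t ∈ G) {pc L : List ℕ} {idx : List (List ℕ)}
    (hl : listOK pc L idx = true) (T : Subgroup pG)
    (hT : ∀ g ∈ G, ∀ x ∈ T, g * x * g⁻¹ ∈ tabGroup pc → g * x * g⁻¹ ∈ T) :
    ∀ (gen : List (ℕ × ℕ × List ℕ)) (X : List ℕ), genOK inG L X gen = true →
      (∀ x ∈ X, tabPerm x ∈ T) → ∀ x ∈ X ++ gen.map (fun e => e.1), tabPerm x ∈ T
  | [], X, _, hX => by simpa using hX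
  | (y, h, w) :: rest, X, hok, hX => by
    simp only [genOK, Bool.and_eq_true, List.contains_iff_mem] at hok
    obtain ⟨⟨⟨⟨⟨hh, hhG⟩, hy⟩, hXok⟩, heq⟩, hrest⟩ := hok
    obtain ⟨hTabL, hmemL, -⟩ := spec hl
    have hyok : IsTab y (tabPerm y) := (hTabL y hy).1
    have he : evalT X w ∈ T := tabGroup_le_of hX (evalT_mem w)
    have e : tabPerm h * evalT X w = tabPerm y * tabPerm h := by
      refine Equiv.ext fun p => ix_injective ?_
      simp only [Equiv.Perm.mul_apply, isTab_tabPerm hh _, hyok _, ix_evalT hXok]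
      simpa using List.all_eq_true.1 heq (ix p) (List.mem_range.2 (ix_lt p))
    have hyT : tabPerm y ∈ T := by
      have hc : tabPerm h * evalT X w * (tabPerm h)⁻¹ = tabPerm y := by rw [e, mul_inv_cancel_right]
      have := hT _ (hG h hh hhG) _ he (by rw [hc]; exact (hmemL _).2 ⟨y, hy, rfl⟩)
      rwa [hc] at this
    have ih := gen_mem hG hl T hT rest (X ++ [y]) hrest (fun x hx => by
      rcases List.mem_append.1 hx with hx | hx
      · exact hX x hx
      · rw [List.mem_singleton.1 hx]; exact hyT)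
    intro x hx
    exact ih x (by simpa using hx)

theorem tabGroup_le {pc L : List ℕ} {idx : List (List ℕ)} (hl : listOK pc L idx = true) {X : List ℕ} {words : List (List ℕ)}
    (hw : wordsOK pc X words = true) {T : Subgroup pG} (hX : ∀ x ∈ X, tabPerm x ∈ T) :
    tabGroup pc ≤ T := by
  simp only [wordsOK, Bool.and_eq_true, beq_iff_eq] at hw
  obtain ⟨⟨hXok, hall⟩, hlen⟩ := hw
  refine tabGroup_le_of fun g hg => ?_
  have hgok : tabOK g = true := by
    simp only [listOK, Bool.and_eq_true, List.all_eq_true] at hl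
    exact hl.1.1.1.1 g hg
  obtain ⟨i, hi, rfl⟩ := List.getElem_of_mem hg
  have hm : (pc[i], words[i]'(hlen ▸ hi)) ∈ pc.zip words := by
    rw [← List.getElem_zip (h := by simp; omega)]
    exact List.getElem_mem _
  have h2 := List.all_eq_true.1 hall _ hm
  have e : tabPerm pc[i] = evalT X (words[i]'(hlen ▸ hi)) := Equiv.ext fun p => ix_injective (by
    rw [isTab_tabPerm hgok, ix_evalT hXok]
    simpa using List.all_eq_true.1 h2 (ix p) (List.mem_range.2 (ix_lt p)))
  rw [e]
  exact tabGroup_le_of hX (evalT_mem _)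

/-- Central elements. -/
def centerOK (pc L : List ℕ) (z : ℕ) : Bool :=
  L.all fun t => t == idTab || t == z || pc.any fun g => !(mulTab g t == mulTab t g)

attribute [local irreducible] mulTab pack tabPerm tabOK

set_option maxHeartbeats 500000 in
/-- **Simplicity of the 2-fusion system from the checks.** -/
theorem fusion_isSimple {G : Subgroup pG} {inG : ℕ → Bool}
    (hG : ∀ t, tabOK t = true → inG t = true → tabPerm t ∈ G) {pc L D reps top : List ℕ}
    {idx : List (List ℕ)} {lv : List (ℕ × List ℕ)} {z : ℕ}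
    {gen : List (ℕ × ℕ × List ℕ)} {words : List (List ℕ)}
    (hl : listOK pc L idx = true) (hin : pc.all inG = true) (hcen : centerOK pc L z = true)
    (hgen : genOK inG L [z] gen = true)
    (hw : wordsOK pc (z :: gen.map fun e => e.1) words = true)
    (hrows : rowsOK L D reps = true) (hprop : propOK pc D reps = true) (htop : topOK D top = true)
    (hlv : levelsOK D lv = true) (htree : treeOK lv top = true) (hpc : pc ≠ []) {m : ℕ}
    (hcard : Nat.card G = 2 ^ pc.length * m) (hm : ¬ 2 ∣ m) (S : Sylow 2 G) :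
    (groupFusionSystem (S : Subgroup G)).IsSimple 2 := by
  haveI : Fact (Nat.Prime 2) := ⟨Nat.prime_two⟩
  obtain ⟨hTabL, hmemL, -⟩ := spec hl
  have hok : ∀ g ∈ pc, tabOK g = true := by
    have h := hl
    simp only [listOK, Bool.and_eq_true, List.all_eq_true] at h
    exact h.1.1.1.1
  have hPG : tabGroup pc ≤ G :=
    tabGroup_le_of fun g hg => hG g (hok g hg) (List.all_eq_true.1 hin g hg)
  set P0 : Subgroup G := (tabGroup pc).subgroupOf G with hP0
  have hP0card : Nat.card P0 = 2 ^ pc.length := by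
    rw [Nat.card_congr (Subgroup.subgroupOfEquivOfLe hPG).toEquiv, card_tabGroup hl]
  have hfac : (Nat.card G).factorization 2 = pc.length := by
    rw [Nat.factorization_def _ Nat.prime_two, hcard, padicValNat.mul (pow_ne_zero _ two_ne_zero)
      (by rintro rfl; exact hm (dvd_zero 2)), padicValNat.prime_pow, padicValNat.eq_zero_of_not_dvd hm,
      add_zero]
  obtain ⟨S0, hS0⟩ : ∃ S' : Sylow 2 G, (S' : Subgroup G) = P0 :=
    ⟨Sylow.ofCard P0 (by rw [hP0card, hfac]), rfl⟩
  have hS0m : ∀ x : G, x ∈ (S0 : Subgroup G) ↔ (x : pG) ∈ tabGroup pc := fun x => by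
    rw [hS0, hP0, Subgroup.mem_subgroupOf]
  have hN : Subgroup.normalizer ((S0 : Subgroup G) : Set G) = S0 := by
    refine S0.is_maximal' (fun x => ?_) Subgroup.le_normalizer
    obtain ⟨a, b, hb, hab⟩ := Nat.exists_eq_two_pow_mul_odd (n := orderOf x) (orderOf_pos x).ne'
    obtain ⟨k, rfl⟩ := hb
    refine ⟨a, ?_⟩
    have hyo : (x ^ 2 ^ a) ^ (2 * k + 1) = 1 := by rw [← pow_mul, ← hab, pow_orderOf_eq_one]
    generalize x ^ 2 ^ a = y at hyo ⊢
    have hy : (y : G) ∈ Subgroup.normalizer ((S0 : Subgroup G) : Set G) := y.2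
    have hn1 : ((y : G) : pG) = 1 := by
      refine eq_one_of_normalizes hl hrows hprop htop hlv htree (fun s => ?_) (k := k) ?_
      · constructor
        · intro hs
          exact (hS0m _).1 ((Subgroup.mem_normalizer_iff.1 hy ⟨s, hPG hs⟩).1 ((hS0m ⟨s, hPG hs⟩).2 hs))
        · intro hs
          have hsG : s ∈ G := by
            have := G.mul_mem (G.mul_mem (G.inv_mem (y : G).2) (hPG hs)) (y : G).2
            simpa [mul_assoc] using this
          exact (hS0m ⟨s, hsG⟩).1 ((Subgroup.mem_normalizer_iff.1 hy ⟨s, hsG⟩).2 ((hS0m _).2 hs))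
      · exact congrArg (fun w : Subgroup.normalizer ((S0 : Subgroup G) : Set G) => ((w : G) : pG)) hyo
    exact Subtype.ext (Subtype.ext hn1)
  obtain ⟨g, rfl⟩ : ∃ g : G, g • S0 = S := MulAction.exists_smul_eq G S0 S
  have hS : ∀ x : G, x ∈ ((g • S0 : Sylow 2 G) : Subgroup G) ↔ g⁻¹ * x * g ∈ (S0 : Subgroup G) := by
    intro x
    rw [Sylow.smul_def, Sylow.pointwise_smul_def, Subgroup.mem_pointwise_smul_iff_inv_smul_mem]
    simp [mul_assoc]
  generalize g • S0 = S at hS ⊢
  have hne : (S : Subgroup G) ≠ ⊥ := by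
    intro e
    have h1 := Subgroup.card_eq_one.2 e
    rw [Sylow.card_eq_multiplicity, hfac] at h1
    simp [hpc] at h1
  refine Fusion.SimpleCriterion.isSimple hne (fun T hT => or_iff_not_imp_left.2 fun hTne => ?_) ?_
  · refine le_antisymm hT.1 ?_
    obtain ⟨c, hcT, hc1, hcc⟩ := Fusion.SimpleCriterion.exists_central hT hTne
    let U : Subgroup pG := (T.comap (MulAut.conj g).toMonoidHom).map G.subtype
    have hmemU : ∀ (y : G), (y : pG) ∈ U ↔ g * y * g⁻¹ ∈ T := fun y => by
      simp [U, MulAut.conj_apply]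
    have hc0 : ((g⁻¹ * c * g : G) : pG) ∈ tabGroup pc := (hS0m _).1 ((hS c).1 (hT.1 hcT))
    obtain ⟨t, ht, et⟩ := (hmemL _).1 hc0
    have hz : tabPerm z ∈ U := by
      have h3 := List.all_eq_true.1 hcen t ht
      simp only [Bool.or_eq_true, beq_iff_eq, List.any_eq_true, Bool.not_eq_eq_eq_not,
        Bool.not_true, beq_eq_false_iff_ne, ne_eq] at h3
      rcases h3 with (h3 | h3) | ⟨a, ha, h3⟩
      · exfalso
        rw [h3, tabPerm_idTab] at et
        have e1 : g⁻¹ * c * g = 1 := Subtype.ext et
        exact hc1 (by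
          have e2 := congrArg (fun u => g * u * g⁻¹) e1
          simpa [mul_assoc] using e2)
      · rw [← h3, ← et, hmemU]
        simpa [mul_assoc] using hcT
      · exfalso
        apply h3
        have haP : tabPerm a ∈ tabGroup pc := Subgroup.subset_closure ⟨a, ha, rfl⟩
        have hcomm := hcc (g * ⟨tabPerm a, hPG haP⟩ * g⁻¹) ((hS _).2 (by simpa [hS0, hP0, mul_assoc, Subgroup.mem_subgroupOf] using haP))
        have e2 : tabPerm a * tabPerm t = tabPerm t * tabPerm a := by
          rw [← et]
          have e3 := congrArg (fun u => g⁻¹ * u * g) hcomm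
          have e4 : (⟨tabPerm a, hPG haP⟩ : G) * (g⁻¹ * c * g) =
              (g⁻¹ * c * g) * ⟨tabPerm a, hPG haP⟩ := by
            calc (⟨tabPerm a, hPG haP⟩ : G) * (g⁻¹ * c * g)
                = g⁻¹ * ((g * ⟨tabPerm a, hPG haP⟩ * g⁻¹) * c) * g := by group
              _ = g⁻¹ * (c * (g * ⟨tabPerm a, hPG haP⟩ * g⁻¹)) * g := by rw [hcomm]
              _ = (g⁻¹ * c * g) * ⟨tabPerm a, hPG haP⟩ := by group
          exact congrArg Subtype.val e4
        have h5 := isTab_mul (isTab_tabPerm (hok a ha)) (hTabL t ht).1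
        rw [e2] at h5
        exact eq_of_isTab (canon_mulTab _ _) (canon_mulTab _ _) h5
          (isTab_mul (hTabL t ht).1 (isTab_tabPerm (hok a ha)))
    have hclosed : ∀ k ∈ G, ∀ x ∈ U, k * x * k⁻¹ ∈ tabGroup pc → k * x * k⁻¹ ∈ U := by
      intro k hk x hx hP
      obtain ⟨y, hy, rfl⟩ := hx
      obtain ⟨kk, rfl⟩ : ∃ kk : G, (kk : pG) = k := ⟨⟨k, hk⟩, rfl⟩
      have hyT : g * y * g⁻¹ ∈ T := hy
      have hP' : kk * y * kk⁻¹ ∈ (S0 : Subgroup G) := by
        rw [hS0, hP0, Subgroup.mem_subgroupOf, Subgroup.coe_mul, Subgroup.coe_mul, InvMemClass.coe_inv]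
        exact hP
      have h1 : g⁻¹ * (g * kk * g⁻¹ * (g * y * g⁻¹) * (g * kk * g⁻¹)⁻¹) * g ∈ (S0 : Subgroup G) := by
        convert hP' using 1
        group
      have h6 : g * (kk * y * kk⁻¹) * g⁻¹ ∈ T := by
        convert Fusion.SimpleCriterion.closed hT hyT ((hS _).2 h1) using 1
        group
      have h7 := (hmemU (kk * y * kk⁻¹)).2 h6
      rw [Subgroup.coe_mul, Subgroup.coe_mul, InvMemClass.coe_inv] at h7
      exact h7
    have hX := gen_mem hG hl U hclosed gen [z] hgen (fun x hx => by
      rw [List.mem_singleton.1 hx]; exact hz)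
    have hle := tabGroup_le hl hw (T := U) (by simpa using hX)
    intro x hx
    have := (hmemU (g⁻¹ * x * g)).1 (hle ((hS0m _).1 ((hS x).1 hx)))
    simpa [mul_assoc] using this
  · intro x hx
    refine Subgroup.subset_closure (Or.inl (Or.inr ?_))
    have hx' : g⁻¹ * x * g ∈ Subgroup.normalizer ((S0 : Subgroup G) : Set G) := by
      refine Subgroup.mem_normalizer_iff.2 fun y => ?_
      have h8 := Subgroup.mem_normalizer_iff.1 hx (g * y * g⁻¹)
      simp only [hS, SetLike.mem_coe] at h8
      convert h8 using 2 <;> group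
    rw [hN] at hx'
    exact (hS x).2 hx'

end Cfsg.Agent.Golay.SylowTwo
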